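import Groth.Agent.H21.UnramLocal
import Mathlib.AlgebraicGeometry.Morphisms.Finite
import Mathlib.AlgebraicGeometry.Morphisms.FormallyUnramified
import Mathlib.AlgebraicGeometry.Morphisms.ClosedImmersion
import Mathlib.AlgebraicGeometry.ResidueField
import Mathlib.AlgebraicGeometry.Morphisms.Affine
import Mathlib.AlgebraicGeometry.Morphisms.Etale
import Mathlib.AlgebraicGeometry.Morphisms.FlatMono

open AlgebraicGeometry CategoryTheory TopologicalSpace Opposite

universe u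

namespace Groth.Agent.H21

variable {X S : Scheme.{u}}

lemma mem_primeIdealOf_iff {X : Scheme.{u}} {W : X.Opens} (hW : IsAffineOpen W) (x : X)
    (hx : x ∈ W) (g : Γ(X, W)) :
    g ∈ (hW.primeIdealOf ⟨x, hx⟩).asIdeal ↔ x ∉ X.basicOpen g := by
  have h1 := hW.fromSpec_primeIdealOf ⟨x, hx⟩
  have h2 := hW.fromSpec_preimage_basicOpen g
  have h3 : x ∈ X.basicOpen g ↔ hW.primeIdealOf ⟨x, hx⟩ ∈ hW.fromSpec ⁻¹ᵁ X.basicOpen g := by
    change _ ↔ hW.fromSpec (hW.primeIdealOf ⟨x, hx⟩) ∈ X.basicOpen g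
    rw [h1]
  rw [h3, h2]
  exact not_not.symm

lemma mem_primeIdealOf_iff_evaluation {X : Scheme.{u}} {W : X.Opens} (hW : IsAffineOpen W) (x : X)
    (hx : x ∈ W) (g : Γ(X, W)) :
    g ∈ (hW.primeIdealOf ⟨x, hx⟩).asIdeal ↔ X.evaluation W x hx g = 0 := by
  rw [mem_primeIdealOf_iff, Scheme.evaluation_eq_zero_iff_notMem_basicOpen]


lemma exists_evaluation_mul_eq {Y : Scheme.{u}} {V : Y.Opens} (hV : IsAffineOpen V) (y : Y)
    (hy : y ∈ V) (t : Y.residueField y) :
    ∃ a a' : Γ(Y, V), a' ∉ (hV.primeIdealOf ⟨y, hy⟩).asIdeal ∧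
      t * Y.evaluation V y hy a' = Y.evaluation V y hy a := by
  obtain ⟨τ, rfl⟩ := Y.residue_surjective y t
  let _ := Y.presheaf.algebra_section_stalk ⟨y, hy⟩
  have := hV.isLocalization_stalk ⟨y, hy⟩
  obtain ⟨⟨a, a'⟩, h⟩ := IsLocalization.surj (hV.primeIdealOf ⟨y, hy⟩).asIdeal.primeCompl τ
  refine ⟨a, a'.1, a'.2, ?_⟩
  have h2 := congrArg (Y.residue y) h
  rw [map_mul] at h2
  exact h2

theorem exists_nhd_app_surjective_of_finite_unramified (f : X ⟶ S) [IsFinite f]
    [FormallyUnramified f] (x : X) (hx : f.base ⁻¹' {f x} = {x})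
    (hκ : Function.Surjective (f.residueFieldMap x)) :
    ∃ U : S.Opens, f x ∈ U ∧ IsAffineOpen U ∧ Function.Surjective (f.app U) := by
  obtain ⟨_, ⟨V, hV, rfl⟩, hsV, -⟩ := S.isBasis_affineOpens.exists_subset_of_mem_open
    (Set.mem_univ (f x)) isOpen_univ
  have hW : IsAffineOpen (f ⁻¹ᵁ V) := hV.preimage f
  have hxW : x ∈ f ⁻¹ᵁ V := hsV
  have happ : f.appLE V (f ⁻¹ᵁ V) le_rfl = f.app V := (Scheme.Hom.app_eq_appLE f).symm
  have hfin : (f.appLE V (f ⁻¹ᵁ V) le_rfl).hom.Finite := by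
    rw [happ]
    exact IsFinite.finite_app f V hV
  have hunr : (f.appLE V (f ⁻¹ᵁ V) le_rfl).hom.FormallyUnramified :=
    HasRingHomProperty.appLE (P := @FormallyUnramified) f inferInstance ⟨V, hV⟩ ⟨_, hW⟩ le_rfl
  algebraize [(f.appLE V (f ⁻¹ᵁ V) le_rfl).hom]
  let p := (IsAffineOpen.primeIdealOf hV ⟨f x, hsV⟩).asIdeal
  let q := (hW.primeIdealOf ⟨x, hxW⟩).asIdeal
  have hlies : q.LiesOver p :=
    ⟨(congrArg PrimeSpectrum.asIdeal
      (IsAffineOpen.comap_primeIdealOf_appLE V hV (f ⁻¹ᵁ V) hW le_rfl hxW)).symm⟩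
  have hq : p.primesOver Γ(X, f ⁻¹ᵁ V) = {q} := by
    apply Set.eq_singleton_iff_unique_mem.2
    refine ⟨⟨inferInstance, hlies⟩, ?_⟩
    rintro q' ⟨hq'prime, hq'lies⟩
    let y' : Spec Γ(X, f ⁻¹ᵁ V) := ⟨q', hq'prime⟩
    have h1 : f (hW.fromSpec y') = f x := by
      have h2 : (Spec.map (f.appLE V (f ⁻¹ᵁ V) le_rfl) ≫ IsAffineOpen.fromSpec hV) y'
          = (hW.fromSpec ≫ f) y' := by
        rw [IsAffineOpen.SpecMap_appLE_fromSpec f hV hW le_rfl]
      rw [Scheme.Hom.comp_apply, Scheme.Hom.comp_apply] at h2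
      rw [← h2]
      have h3 : (Spec.map (f.appLE V (f ⁻¹ᵁ V) le_rfl)) y' = IsAffineOpen.primeIdealOf hV ⟨f x, hsV⟩ := by
        apply PrimeSpectrum.ext
        exact hq'lies.over.symm
      rw [h3]
      exact hV.fromSpec_primeIdealOf ⟨f x, hsV⟩
    have h4 : hW.fromSpec y' = x := by
      have : hW.fromSpec y' ∈ f.base ⁻¹' {f x} := h1
      rw [hx] at this
      exact this
    have h5 : y' = hW.primeIdealOf ⟨x, hxW⟩ := by
      apply hW.fromSpec.isOpenEmbedding.injective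
      rw [h4]
      exact (hW.fromSpec_primeIdealOf ⟨x, hxW⟩).symm
    exact congrArg PrimeSpectrum.asIdeal h5
  have halg : ∀ a : Γ(S, V), algebraMap Γ(S, V) Γ(X, f ⁻¹ᵁ V) a = f.app V a := by
    intro a
    rw [← happ]
    rfl
  have H : ∀ b : Γ(X, f ⁻¹ᵁ V), ∃ a a' : Γ(S, V), a' ∉ p ∧
      algebraMap Γ(S, V) Γ(X, f ⁻¹ᵁ V) a' * b - algebraMap Γ(S, V) Γ(X, f ⁻¹ᵁ V) a ∈ q := by
    intro b
    obtain ⟨t, ht⟩ := hκ (X.evaluation (f ⁻¹ᵁ V) x hxW b)
    obtain ⟨a, a', ha', hta⟩ := exists_evaluation_mul_eq hV (f x) hsV t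
    refine ⟨a, a', ha', ?_⟩
    rw [mem_primeIdealOf_iff_evaluation hW x hxW, map_sub, map_mul, halg, halg,
      ← Scheme.evaluation_naturality_apply f x hsV, ← Scheme.evaluation_naturality_apply f x hsV,
      ← hta, map_mul]
    have ht' : f.residueFieldMap x t = X.evaluation (f ⁻¹ᵁ V) x hxW b := ht
    rw [ht']
    ring
  have hunrat : Algebra.IsUnramifiedAt Γ(S, V) q := inferInstance
  have hsurj := localRingHom_surjective_of_primesOver_eq_singleton' hq H
  obtain ⟨r, hr, hrb⟩ := exists_notMem_forall_exists_mul_eq_algebraMap hq hsurj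
  refine ⟨S.basicOpen r, ?_, IsAffineOpen.basicOpen hV r, ?_⟩
  · by_contra hcon
    exact hr ((mem_primeIdealOf_iff hV (f x) hsV r).2 hcon)
  · have i1 := IsAffineOpen.isLocalization_basicOpen hV r
    have i2 := hW.isLocalization_basicOpen (f.app V r)
    rw [IsAffineOpen.app_basicOpen_eq_away_map f hV hW r]
    have h1 : Function.Surjective (IsLocalization.Away.map Γ(S, S.basicOpen r)
        Γ(X, X.basicOpen (f.app V r)) (f.app V).hom r) := by
      apply away_map_surjective_of_forall_exists_mul_eq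
      intro b
      obtain ⟨a, ha⟩ := hrb b
      exact ⟨a, by rw [← halg, ← halg]; exact ha⟩
    have h2 : Function.Bijective (X.presheaf.map (eqToHom
        (by simp : f ⁻¹ᵁ S.basicOpen r = X.basicOpen (f.app V r))).op) :=
      ConcreteCategory.bijective_of_isIso _
    intro z
    obtain ⟨z', hz'⟩ := h2.2 z
    obtain ⟨w, hw⟩ := h1 z'
    exact ⟨w, by rw [← hz', ← hw]; rfl⟩

theorem isClosedImmersion_morphismRestrict_of_app_surjective (f : X ⟶ S) [IsAffineHom f]
    (U : S.Opens) (hU : IsAffineOpen U) (h : Function.Surjective (f.app U)) :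
    IsClosedImmersion (f ∣_ U) := by
  have : IsAffine U.toScheme := hU
  have : IsAffine (f ⁻¹ᵁ U).toScheme := hU.preimage f
  apply IsClosedImmersion.of_surjective_of_isAffine
  rw [morphismRestrict_appTop]
  have h1 : ∀ U' : S.Opens, U' = U → Function.Surjective (f.app U') := by
    rintro _ rfl
    exact h
  have h2 := h1 (U.ι ''ᵁ ⊤) (by simp)
  have h3 : Function.Bijective (X.presheaf.map
      (eqToHom (image_morphismRestrict_preimage f U ⊤)).op) :=
    ConcreteCategory.bijective_of_isIso _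
  intro z
  obtain ⟨z', hz'⟩ := h3.2 z
  obtain ⟨w, hw⟩ := h2 z'
  exact ⟨w, by rw [← hz', ← hw]; rfl⟩


/-- A finite unramified morphism whose fibre over `f x` is the single point `x` with trivial residue
field extension is a closed immersion over a neighbourhood of `f x`. -/
theorem exists_nhd_isClosedImmersion_of_finite_unramified (f : X ⟶ S) [IsFinite f]
    [FormallyUnramified f] (s : S) (x : X) (hx : f.base ⁻¹' {s} = {x})
    (hκ : Function.Surjective (f.residueFieldMap x)) :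
    ∃ U : S.Opens, s ∈ U ∧ IsClosedImmersion (f ∣_ U) := by
  have hfx : f x = s := by
    have : x ∈ f.base ⁻¹' {s} := by rw [hx]; exact Set.mem_singleton x
    exact this
  subst hfx
  obtain ⟨U, hsU, hU, hsurj⟩ := exists_nhd_app_surjective_of_finite_unramified f x hx hκ
  exact ⟨U, hsU, isClosedImmersion_morphismRestrict_of_app_surjective f U hU hsurj⟩

/-- A finite étale morphism whose fibre over `s` is a single point with trivial residue field
extension is an isomorphism over a neighbourhood of `s`. -/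
theorem exists_nhd_isIso_of_finite_etale (f : X ⟶ S) [IsFinite f] [Etale f] (s : S) (x : X)
    (hx : f.base ⁻¹' {s} = {x}) (hκ : Function.Surjective (f.residueFieldMap x)) :
    ∃ U : S.Opens, s ∈ U ∧ IsIso (f ∣_ U) := by
  obtain ⟨U₀, hsU₀, hcl⟩ := exists_nhd_isClosedImmersion_of_finite_unramified f s x hx hκ
  have hfx : f x = s := by
    have : x ∈ f.base ⁻¹' {s} := by rw [hx]; exact Set.mem_singleton x
    exact this
  have hopen : IsOpenImmersion (f ∣_ U₀) := IsOpenImmersion.of_flat_of_mono _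
  let T : U₀.toScheme.Opens := (f ∣_ U₀).opensRange
  have hxU₀ : x ∈ f ⁻¹ᵁ U₀ := by
    change f x ∈ U₀
    rw [hfx]
    exact hsU₀
  refine ⟨U₀.ι ''ᵁ T, ?_, ?_⟩
  · let x₀ : (f ⁻¹ᵁ U₀).toScheme := ⟨x, hxU₀⟩
    refine ⟨⟨s, hsU₀⟩, ⟨x₀, ?_⟩, rfl⟩
    apply Subtype.ext
    exact (morphismRestrict_base_coe f U₀ x₀).trans hfx
  · rw [← MorphismProperty.isomorphisms.iff,
      ← (MorphismProperty.isomorphisms Scheme).arrow_mk_iso_iff (morphismRestrictRestrict f U₀ T),
      MorphismProperty.isomorphisms.iff]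
    have h1 : IsOpenImmersion (f ∣_ U₀ ∣_ T) := inferInstance
    have h2 : Surjective (f ∣_ U₀ ∣_ T) := by
      constructor
      rintro ⟨t, ⟨y, hy⟩⟩
      have hyT : y ∈ (f ∣_ U₀) ⁻¹ᵁ T := by
        change (f ∣_ U₀) y ∈ T
        rw [hy]
        exact ⟨y, hy⟩
      let y₀ : ((f ∣_ U₀) ⁻¹ᵁ T).toScheme := ⟨y, hyT⟩
      refine ⟨y₀, ?_⟩
      apply Subtype.ext
      exact (morphismRestrict_base_coe (f ∣_ U₀) T y₀).trans hy
    exact (isIso_iff_isOpenImmersion_and_surjective _).2 ⟨h1, h2⟩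

end Groth.Agent.H21
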