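import Mathlib.AlgebraicGeometry.AlgClosed.Basic
import Mathlib.AlgebraicGeometry.ZariskisMainTheorem
import Mathlib.AlgebraicGeometry.Noetherian
import Mathlib.RingTheory.Unramified.LocalRing
import Mathlib.RingTheory.Unramified.LocalStructure
import Mathlib.Topology.JacobsonSpace
import Groth.Agent.H25.LocalLiftUnram
import Groth.Agent.H21.UnramNhd

/-!
# A proper morphism injective on closed points and on tangent spaces is a closed immersion
-/

set_option autoImplicit false
universe u

open CategoryTheory CategoryTheory.Limits AlgebraicGeometry IsLocalRing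

namespace Groth.Agent.H21.ClImmTangent

/-- Over an algebraically closed field, residue field maps at closed points are bijective. -/
theorem residueFieldMap_bijective (k : Type u) [Field k] [IsAlgClosed k] {X Y : Scheme.{u}}
    (f : X ⟶ Y) (q : Y ⟶ Spec (CommRingCat.of k)) [LocallyOfFiniteType q]
    [LocallyOfFiniteType (f ≫ q)] (x : X) (hx : IsClosed ({x} : Set X))
    (hfx : IsClosed ({f x} : Set Y)) : Function.Bijective (f.residueFieldMap x) := by
  let a := residueFieldIsoBase (f ≫ q) x hx
  let b := residueFieldIsoBase q (f x) hfx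
  have h1 : Spec.map a.inv = Spec.map (b.inv ≫ f.residueFieldMap x) := by
    rw [Spec.map_comp, SpecMap_residueFieldIsoBase_inv, SpecMap_residueFieldIsoBase_inv,
      Scheme.Hom.SpecMap_residueFieldMap_fromSpecResidueField_assoc]
  have h2 : a.inv = b.inv ≫ f.residueFieldMap x := Spec.map_injective h1
  have h3 : f.residueFieldMap x = b.hom ≫ a.inv := by
    rw [h2, Iso.hom_inv_id_assoc]
  rw [h3]
  exact ConcreteCategory.bijective_of_isIso _

/-- Nakayama: an ideal which together with `m²` generates `m` equals `m`. -/
theorem eq_maximalIdeal_of_sup_sq {S : Type*} [CommRing S] [IsLocalRing S] [IsNoetherianRing S]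
    (I : Ideal S) (h : I ⊔ maximalIdeal S ^ 2 = maximalIdeal S) : I = maximalIdeal S := by
  apply le_antisymm
  · rw [← h]
    exact le_sup_left
  · apply Submodule.le_of_le_smul_of_le_jacobson_bot (I := maximalIdeal S)
      (IsNoetherian.noetherian _) (maximalIdeal_le_jacobson _)
    rw [smul_eq_mul, ← pow_two, h]

/-- The stalk map is formally unramified if the residue field map is surjective and the cotangent
map is surjective. -/
theorem formallyUnramified_stalkMap {X Y : Scheme.{u}} (f : X ⟶ Y) [IsLocallyNoetherian X]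
    [LocallyOfFiniteType f] (x : X) (hκ : Function.Surjective (f.residueFieldMap x))
    (hT : Ideal.map (f.stalkMap x).hom (maximalIdeal (Y.presheaf.stalk (f.base x))) ⊔
        maximalIdeal (X.presheaf.stalk x) ^ 2 = maximalIdeal (X.presheaf.stalk x)) :
    (f.stalkMap x).hom.FormallyUnramified := by
  have hm := eq_maximalIdeal_of_sup_sq _ hT
  algebraize [(f.stalkMap x).hom]
  have hloc : IsLocalHom (algebraMap (Y.presheaf.stalk (f.base x)) (X.presheaf.stalk x)) :=
    inferInstanceAs (IsLocalHom (f.stalkMap x).hom)
  have hsurj : Function.Surjective (algebraMap (ResidueField (Y.presheaf.stalk (f.base x)))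
      (ResidueField (X.presheaf.stalk x))) := by
    intro z
    obtain ⟨t, ht⟩ := hκ z
    obtain ⟨r, rfl⟩ := residue_surjective t
    refine ⟨residue _ r, ?_⟩
    rw [ResidueField.algebraMap_residue]
    exact ht
  have hsep : Algebra.IsSeparable (ResidueField (Y.presheaf.stalk (f.base x)))
      (ResidueField (X.presheaf.stalk x)) :=
    ⟨fun z => by obtain ⟨t, rfl⟩ := hsurj z; exact isSeparable_algebraMap t⟩
  have hess : Algebra.EssFiniteType (Y.presheaf.stalk (f.base x)) (X.presheaf.stalk x) := by
    rw [← RingHom.essFiniteType_algebraMap, RingHom.algebraMap_toAlgebra]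
    exact LocallyOfFiniteType.stalkMap f x
  exact Algebra.FormallyUnramified.of_map_maximalIdeal hm

/-- On a Jacobson scheme, a morphism locally of finite type whose stalk maps at closed points are
formally unramified is formally unramified. -/
theorem formallyUnramified_of_closedPoints {X Y : Scheme.{u}} (f : X ⟶ Y)
    [LocallyOfFiniteType f] [JacobsonSpace X]
    (H : ∀ x : X, IsClosed ({x} : Set X) → (f.stalkMap x).hom.FormallyUnramified) :
    FormallyUnramified f := by
  apply Groth.Agent.H25.formallyUnramified_of_stalkMap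
  intro x'
  let G : Set X := {z | (f.stalkMap z).hom.FormallyUnramified}
  have hG : IsOpen G := by
    rw [isOpen_iff_forall_mem_open]
    intro z hz
    obtain ⟨U, hzU, hU⟩ := (Groth.Agent.H25.exists_formallyUnramified_nhd_iff f z).mpr hz
    refine ⟨U, ?_, U.isOpen, hzU⟩
    intro w hw
    exact (Groth.Agent.H25.exists_formallyUnramified_nhd_iff f w).mp ⟨U, hw, hU⟩
  by_contra hx'
  obtain ⟨z, hz1, hz2⟩ := nonempty_inter_closedPoints (Z := Gᶜ) ⟨x', hx'⟩
    hG.isClosed_compl.isLocallyClosed
  exact hz1 (H z hz2)

theorem locallyQuasiFinite_of_unramified {X Y : Scheme.{u}} (f : X ⟶ Y) [LocallyOfFiniteType f]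
    [FormallyUnramified f] : LocallyQuasiFinite f := by
  refine ⟨fun {U} hU {V} hV e => ?_⟩
  have h1 : (f.appLE U V e).hom.FiniteType := f.finiteType_appLE hU hV e
  have h2 : (f.appLE U V e).hom.FormallyUnramified := f.formallyUnramified_appLE hU hV e
  algebraize [(f.appLE U V e).hom]
  have : Algebra.QuasiFinite Γ(Y, U) Γ(X, V) := inferInstance
  exact this

/-- A property that holds near every closed point of a Jacobson space holds everywhere. -/
theorem forall_of_closedPoints {Y : Type*} [TopologicalSpace Y] [JacobsonSpace Y]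
    (P : TopologicalSpace.Opens Y → Prop)
    (H : ∀ y : Y, IsClosed ({y} : Set Y) → ∃ U : TopologicalSpace.Opens Y, y ∈ U ∧ P U) (y : Y) :
    ∃ U : TopologicalSpace.Opens Y, y ∈ U ∧ P U := by
  let G : Set Y := {z | ∃ U : TopologicalSpace.Opens Y, z ∈ U ∧ P U}
  have hG : IsOpen G := by
    rw [isOpen_iff_forall_mem_open]
    rintro z ⟨U, hzU, hU⟩
    exact ⟨U, fun w hw => ⟨U, hw, hU⟩, U.isOpen, hzU⟩
  by_contra hy
  obtain ⟨z, hz1, hz2⟩ := nonempty_inter_closedPoints (Z := Gᶜ) ⟨y, hy⟩
    hG.isClosed_compl.isLocallyClosed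
  exact hz1 (H z hz2)

/-- A proper morphism of finite type schemes over an algebraically closed field which is injective
on closed points and whose cotangent maps at closed points are surjective is a closed immersion. -/
theorem isClosedImmersion_of_injOn_closedPoints (k : Type u) [Field k] [IsAlgClosed k]
    {X Y : Scheme.{u}} (f : X ⟶ Y) (q : Y ⟶ Spec (CommRingCat.of k)) [LocallyOfFiniteType q]
    [LocallyOfFiniteType (f ≫ q)] [IsProper f]
    (hinj : Set.InjOn f.base {x : X | IsClosed ({x} : Set X)})
    (hT : ∀ x : X, IsClosed ({x} : Set X) →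
      Ideal.map (f.stalkMap x).hom (maximalIdeal (Y.presheaf.stalk (f.base x))) ⊔
        maximalIdeal (X.presheaf.stalk x) ^ 2 = maximalIdeal (X.presheaf.stalk x)) :
    IsClosedImmersion f := by
  have hft : LocallyOfFiniteType f := locallyOfFiniteType_of_comp f q
  have jX : JacobsonSpace X := LocallyOfFiniteType.jacobsonSpace (f ≫ q)
  have jY : JacobsonSpace Y := LocallyOfFiniteType.jacobsonSpace q
  have nX : IsLocallyNoetherian X := LocallyOfFiniteType.isLocallyNoetherian (f ≫ q)
  have hcl : ∀ x : X, IsClosed ({x} : Set X) → IsClosed ({f x} : Set Y) := by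
    intro x hx
    have := f.isClosedMap _ hx
    rwa [Set.image_singleton] at this
  have hκ : ∀ x : X, IsClosed ({x} : Set X) → Function.Surjective (f.residueFieldMap x) :=
    fun x hx => (residueFieldMap_bijective k f q x hx (hcl x hx)).2
  have hunr : FormallyUnramified f := formallyUnramified_of_closedPoints f fun x hx =>
    formallyUnramified_stalkMap f x (hκ x hx) (hT x hx)
  have hqf : LocallyQuasiFinite f := locallyQuasiFinite_of_unramified f
  have hfin : IsFinite f := IsFinite.of_isProper_of_locallyQuasiFinite f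
  apply IsZariskiLocalAtTarget.of_forall_exists_morphismRestrict (P := @IsClosedImmersion)
  apply forall_of_closedPoints (fun U => IsClosedImmersion (f ∣_ U))
  intro y hy
  by_cases hne : y ∈ Set.range f
  · obtain ⟨x, rfl⟩ := hne
    have hdisc := f.isDiscrete_preimage_singleton (f x)
    have hFcl : IsClosed (f ⁻¹' {f x}) := hy.preimage f.continuous
    have hpt : ∀ z ∈ f ⁻¹' {f x}, IsClosed ({z} : Set X) := by
      intro z hz
      have : DiscreteTopology ↥(f ⁻¹' {f x}) := isDiscrete_iff_discreteTopology.mp hdisc
      have h1 : IsClosed ({⟨z, hz⟩} : Set ↥(f ⁻¹' {f x})) := isClosed_singleton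
      have h2 := hFcl.isClosedEmbedding_subtypeVal.isClosedMap _ h1
      rwa [Set.image_singleton] at h2
    have hx : IsClosed ({x} : Set X) := hpt x rfl
    have hfib : f.base ⁻¹' {f x} = {x} := by
      ext z
      constructor
      · intro hz
        exact hinj (hpt z hz) hx hz
      · rintro rfl
        rfl
    exact exists_nhd_isClosedImmersion_of_finite_unramified f (f x) x hfib (hκ x hx)
  · have hcl' : IsClosed (Set.range f) := f.isClosedMap.isClosed_range
    let U : Y.Opens := ⟨(Set.range f)ᶜ, hcl'.isOpen_compl⟩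
    refine ⟨U, hne, ?_⟩
    have h1 : IsEmpty ↥(f ⁻¹ᵁ U) := ⟨fun ⟨x, hx⟩ => hx ⟨x, rfl⟩⟩
    have h2 : IsEmpty ↥((f ⁻¹ᵁ U).toScheme) := h1
    exact IsClosedImmersion.of_isPreimmersion _
      (by rw [Set.range_eq_empty]; exact isClosed_empty)

end Groth.Agent.H21.ClImmTangent
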