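import Groth.Agent.H21.LocConstMap
import Mathlib.CategoryTheory.Sites.EpiMono
import Mathlib.Algebra.Homology.ShortComplex.ExactFunctor
import Mathlib.Algebra.Homology.ShortComplex.Ab
import Mathlib.Algebra.Group.Shrink
import Mathlib.Data.Countable.Small
import Mathlib.Algebra.Category.Grp.Colimits
import Mathlib.Algebra.Category.Grp.Limits

set_option autoImplicit false
universe u
open CategoryTheory CategoryTheory.Limits AlgebraicGeometry Opposite

namespace Groth.Agent.H21.AbExt

open Groth.Agent.H21.ConstSec Groth.Agent.H21.ConstUnit Groth.Agent.H21.LocConst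
  Groth.Agent.H21.LocConstMap

variable {X : Scheme.{u}}

section Lift

variable {F G : EtCoh.Ab X} {W : X.Etale} {M E : AddCommGrpCat.{u + 1}}

set_option backward.isDefEq.respectTransparency.types false in
lemma constOverIso_hom_toSheafify {S : X.Etale} (g : S ⟶ W) (m : ↑M) :
    ((constOverIso W M).hom.hom.app (op (Over.mk g))).hom
      (((toSheafify (X.smallEtaleTopology.over W) ((Functor.const _).obj M)).app
        (op (Over.mk g))).hom m) = eta M S m := by
  have h := (Over.forget W).toSheafify_pullbackSheafificationCompatibility AddCommGrpCat.{u + 1}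
    (X.smallEtaleTopology.over W) X.smallEtaleTopology ((Functor.const _).obj M)
  have h2 := congrArg (fun k => (k.app (op (Over.mk g))).hom m) h
  exact h2

set_option backward.isDefEq.respectTransparency.types false in
/-- the presheaf map attached to an additive map into sections over `W` -/
def liftPre (ε : ↑E →+ Sec F W) :
    (Functor.const (Over W)ᵒᵖ).obj E ⟶ (F.over W).obj where
  app Y := AddCommGrpCat.ofHom ((res F Y.unop.hom).comp ε)
  naturality := by
    intro Y Y' k
    ext e
    simp only [Functor.const_obj_obj, Functor.const_obj_map, Category.id_comp]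
    show res F Y'.unop.hom (ε e) = res F k.unop.left (res F Y.unop.hom (ε e))
    rw [res_res, Over.w]

set_option backward.isDefEq.respectTransparency.types false in
/-- the morphism from a constant sheaf attached to an additive map into sections over `W` -/
noncomputable def cstLift (ε : ↑E →+ Sec F W) : (cst X E).over W ⟶ F.over W :=
  (constOverIso W E).inv ≫
    ⟨sheafifyLift (X.smallEtaleTopology.over W) (liftPre ε) (F.over W).property⟩

set_option backward.isDefEq.respectTransparency.types false in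
lemma secHom_cstLift (ε : ↑E →+ Sec F W) {S : X.Etale} (g : S ⟶ W) (e : ↑E) :
    secHom (cstLift ε) g (eta E S e) = res F g (ε e) := by
  rw [← constOverIso_hom_toSheafify g e]
  have h1 : (constOverIso W E).hom ≫ cstLift ε =
      ⟨sheafifyLift (X.smallEtaleTopology.over W) (liftPre ε) (F.over W).property⟩ := by
    simp [cstLift]
  have h2 := toSheafify_sheafifyLift (X.smallEtaleTopology.over W) (liftPre ε) (F.over W).property
  have h3 := congrArg (fun k => (k.hom.app (op (Over.mk g))).hom
    (((toSheafify (X.smallEtaleTopology.over W) ((Functor.const _).obj E)).app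
      (op (Over.mk g))).hom e)) h1
  have h4 := congrArg (fun k => (k.app (op (Over.mk g))).hom e) h2
  exact h3.trans h4

/-- maps out of a restricted constant sheaf are determined on constant sections -/
theorem hom_ext_cst (b c : (cst X M).over W ⟶ G.over W)
    (h : ∀ {S : X.Etale} (g : S ⟶ W) (m : ↑M), secHom b g (eta M S m) = secHom c g (eta M S m)) :
    b = c := by
  apply hom_ext_secHom
  intro S g s
  obtain ⟨R, hR, hRs⟩ := eta_locally_surjective M s
  apply sec_ext G R hR
  intro Z j hj
  obtain ⟨m, hm⟩ := hRs j hj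
  rw [← secHom_res, ← secHom_res, ← hm, h]

end Lift

section Exact

variable (W : X.Etale)

instance presFinLim_cst :
    PreservesFiniteLimits (constantSheaf X.smallEtaleTopology AddCommGrpCat.{u + 1}) := by
  unfold constantSheaf; infer_instance

instance presFinColim_cst :
    PreservesFiniteColimits (constantSheaf X.smallEtaleTopology AddCommGrpCat.{u + 1}) := by
  have := (constantSheafAdj X.smallEtaleTopology AddCommGrpCat.{u + 1}
    (Groth.Agent.H21.ConstUnit.topIsTerminal X)).leftAdjoint_preservesColimits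
  infer_instance

instance presFinLim_cstOver : PreservesFiniteLimits
    (constantSheaf (X.smallEtaleTopology.over W) AddCommGrpCat.{u + 1}) := by
  unfold constantSheaf; infer_instance

instance presFinColim_cstOver : PreservesFiniteColimits
    (constantSheaf (X.smallEtaleTopology.over W) AddCommGrpCat.{u + 1}) := by
  have := (constantSheafAdj (X.smallEtaleTopology.over W) AddCommGrpCat.{u + 1}
    (Over.mkIdTerminal (X := W))).leftAdjoint_preservesColimits
  infer_instance

instance presFinLim_overPullback : PreservesFiniteLimits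
    (X.smallEtaleTopology.overPullback AddCommGrpCat.{u + 1} W) := by
  infer_instance

instance presFinColim_overPullback : PreservesFiniteColimits
    (X.smallEtaleTopology.overPullback AddCommGrpCat.{u + 1} W) := by
  have := ((Over.forget W).sheafAdjunctionCocontinuous AddCommGrpCat.{u + 1}
    (X.smallEtaleTopology.over W) X.smallEtaleTopology).leftAdjoint_preservesColimits
  infer_instance

end Exact

section SheafFacts

variable {S : ShortComplex (EtCoh.Ab X)}

lemma app_zero (V : X.Etale) (g : Sec S.X₁ V) : app S.g V (app S.f V g) = 0 := by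
  have h := S.zero
  have h2 := congrArg (fun k => (k.hom.app (op V)).hom g) h
  exact h2

lemma app_exact (hS : S.ShortExact) (V : X.Etale) (s : Sec S.X₂ V) (hs : app S.g V s = 0) :
    ∃ g, app S.f V g = s := by
  have := hS.mono_f
  let Γ := sheafToPresheaf X.smallEtaleTopology AddCommGrpCat.{u + 1} ⋙
    (evaluation _ _).obj (op V)
  have h1 : (S.map Γ).Exact :=
    hS.exact.map_of_mono_of_preservesKernel Γ inferInstance inferInstance
  rw [ShortComplex.ab_exact_iff] at h1
  exact h1 s hs

lemma app_locSurj (hS : S.ShortExact) (V : X.Etale) (s'' : Sec S.X₃ V) (z : V.left) :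
    ∃ (V' : X.Etale) (k : V' ⟶ V) (z' : V'.left), k.left z' = z ∧
      ∃ s, app S.g V' s = res S.X₃ k s'' := by
  have := hS.epi_g
  have hls : Sheaf.IsLocallySurjective S.g :=
    (Sheaf.isLocallySurjective_iff_epi' (A := AddCommGrpCat.{u + 1}) S.g).2 inferInstance
  have hcov := Presheaf.imageSieve_mem X.smallEtaleTopology S.g.hom s''
  obtain ⟨V', k, z', hk, hz'⟩ := (mem_iff _).1 hcov z
  obtain ⟨s, hs⟩ := hk
  exact ⟨V', k, z', hz', s, hs⟩

end SheafFacts

section Core

variable {F' F F'' : EtCoh.Ab X} (i : F' ⟶ F) (p : F ⟶ F'')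

theorem core
    (hzero : ∀ (S : X.Etale) (g : Sec F' S), app p S (app i S g) = 0)
    (hex : ∀ (S : X.Etale) (s : Sec F S), app p S s = 0 → ∃ g, app i S g = s)
    (hsurj : ∀ (S : X.Etale) (s'' : Sec F'' S) (z : S.left), ∃ (S' : X.Etale) (k : S' ⟶ S)
      (z' : S'.left), k.left z' = z ∧ ∃ s, app p S' s = res F'' k s'')
    {M' M'' : Type (u + 1)} [AddCommGroup M'] [AddCommGroup M''] [Finite M'] [Finite M'']
    {T : X.Etale} (t : T.left) (a' : M' →+ Sec F' T) (a'' : M'' →+ Sec F'' T)
    (hloc : ∀ {S : X.Etale} (g : S ⟶ T) (s : Sec F' S) (z : S.left), ∃ (S' : X.Etale)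
      (k : S' ⟶ S) (z' : S'.left), k.left z' = z ∧ ∃ m', res F' (k ≫ g) (a' m') = res F' k s) :
    ∃ (W : X.Etale) (q : W ⟶ T) (w : W.left), q.left w = t ∧
      ∃ (E : Type (u + 1)) (_ : AddCommGroup E) (_ : Finite E)
        (u : M' →+ E) (v : E →+ M'') (ε : E →+ Sec F W),
        Function.Exact u v ∧ Function.Surjective v ∧
        (∀ m', ε (u m') = app i W (res F' q (a' m'))) ∧
        (∀ e, app p W (ε e) = res F'' q (a'' (v e))) := by
  classical
  obtain ⟨r, π, hπ⟩ := Module.Finite.exists_fin' ℤ M''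
  -- lifts of the generators
  have h2 : ∀ j : Fin r, ∃ (S' : X.Etale) (k : S' ⟶ T) (z' : S'.left), k.left z' = t ∧
      ∃ s, app p S' s = res F'' k (a'' (π (Pi.single j 1))) := fun j => hsurj T _ t
  choose S₁ k₁ z₁ hz₁ f₁ hf₁ using h2
  obtain ⟨W₁, q₁, w₁, hw₁, hr₁⟩ := exists_common_refinement t S₁ k₁ z₁ hz₁
  choose r₁ hr₁ using hr₁
  let f : Fin r → Sec F W₁ := fun j => res F (r₁ j) (f₁ j)
  have hf : ∀ j, app p W₁ (f j) = res F'' q₁ (a'' (π (Pi.single j 1))) := by
    intro j
    show app p W₁ (res F (r₁ j) (f₁ j)) = _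
    rw [app_res, hf₁, res_res, hr₁]
  let L : (Fin r → ℤ) →ₗ[ℤ] Sec F W₁ := Fintype.linearCombination ℤ f
  have hL : ∀ c, app p W₁ (L c) = res F'' q₁ (a'' (π c)) := by
    have : (app p W₁).toIntLinearMap.comp L =
        (((res F'' q₁).comp a'').toIntLinearMap).comp π := by
      apply LinearMap.pi_ext'
      intro j
      ext
      simp only [LinearMap.coe_comp, Function.comp_apply, LinearMap.coe_single, L,
        Fintype.linearCombination_apply_single, one_smul, AddMonoidHom.coe_toIntLinearMap, hf,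
        AddMonoidHom.coe_comp]
    exact fun c => LinearMap.congr_fun this c
  -- the relations
  have hker : (LinearMap.ker π).FG := IsNoetherian.noetherian _
  obtain ⟨gens, hgens⟩ := hker
  have h3 : ∀ ρ : gens, ∃ g : Sec F' W₁, app i W₁ g = L ρ.1 := by
    intro ρ
    apply hex
    have hρ : ρ.1 ∈ LinearMap.ker π := by
      rw [← hgens]; exact Submodule.subset_span ρ.2
    rw [hL, LinearMap.mem_ker.1 hρ, map_zero, map_zero]
  choose g₂ hg₂ using h3
  have h4 : ∀ ρ : gens, ∃ (S' : X.Etale) (k : S' ⟶ W₁) (z' : S'.left), k.left z' = w₁ ∧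
      ∃ m', res F' (k ≫ q₁) (a' m') = res F' k (g₂ ρ) := fun ρ => hloc q₁ (g₂ ρ) w₁
  choose S₂ k₂ z₂ hz₂ m₂ hm₂ using h4
  obtain ⟨W, q₂, w, hw, hr₂⟩ := exists_common_refinement w₁ S₂ k₂ z₂ hz₂
  choose r₂ hr₂ using hr₂
  have hg₂' : ∀ ρ : gens, res F' q₂ (g₂ ρ) = res F' (q₂ ≫ q₁) (a' (m₂ ρ)) := by
    intro ρ
    rw [← hr₂ ρ, ← res_res, ← hm₂, res_res, Category.assoc]
  let q : W ⟶ T := q₂ ≫ q₁
  let LW : (Fin r → ℤ) →ₗ[ℤ] Sec F W := (res F q₂).toIntLinearMap.comp L
  let A' : M' →+ Sec F' W := (res F' q).comp a'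
  let A'' : M'' →+ Sec F'' W := (res F'' q).comp a''
  have hLW : ∀ c, app p W (LW c) = A'' (π c) := by
    intro c
    show app p W (res F q₂ (L c)) = res F'' (q₂ ≫ q₁) (a'' (π c))
    rw [app_res, hL, res_res]
  have hrel : LinearMap.ker π ≤
      Submodule.comap LW (LinearMap.range ((app i W).comp A').toIntLinearMap) := by
    rw [← hgens, Submodule.span_le]
    intro ρ hρ
    refine ⟨m₂ ⟨ρ, hρ⟩, ?_⟩
    show app i W (res F' (q₂ ≫ q₁) (a' (m₂ ⟨ρ, hρ⟩))) = res F q₂ (L ρ)
    rw [← hg₂' ⟨ρ, hρ⟩, app_res, hg₂]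
  let Ψ : (M' × (Fin r → ℤ)) →ₗ[ℤ] (Sec F W × M'') :=
    ((((app i W).comp A').toIntLinearMap).coprod LW).prod
      (π.comp (LinearMap.snd ℤ M' (Fin r → ℤ)))
  let u : M' →+ ↥(LinearMap.range Ψ) :=
    (Ψ.rangeRestrict.comp (LinearMap.inl ℤ M' (Fin r → ℤ))).toAddMonoidHom
  let v : ↥(LinearMap.range Ψ) →+ M'' :=
    ((LinearMap.snd ℤ (Sec F W) M'').comp (LinearMap.range Ψ).subtype).toAddMonoidHom
  let ε : ↥(LinearMap.range Ψ) →+ Sec F W :=
    ((LinearMap.fst ℤ (Sec F W) M'').comp (LinearMap.range Ψ).subtype).toAddMonoidHom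
  have huv : Function.Exact u v := by
    intro e
    constructor
    · intro he
      obtain ⟨_, ⟨⟨m', c⟩, rfl⟩⟩ := e
      have hc : π c = 0 := he
      obtain ⟨m₁, hm₁⟩ := hrel (LinearMap.mem_ker.2 hc)
      refine ⟨m' + m₁, ?_⟩
      apply Subtype.ext
      show Ψ (m' + m₁, 0) = Ψ (m', c)
      refine Prod.ext ?_ ?_
      · show app i W (A' (m' + m₁)) + LW 0 = app i W (A' m') + LW c
        rw [map_add, map_add, map_zero, add_zero]
        congr 1
      · show π 0 = π c
        rw [hc, map_zero]
    · rintro ⟨m', rfl⟩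
      show π 0 = 0
      exact map_zero _
  have hv : Function.Surjective v := by
    intro m''
    obtain ⟨c, rfl⟩ := hπ m''
    exact ⟨⟨Ψ (0, c), ⟨(0, c), rfl⟩⟩, rfl⟩
  have hfin : Finite ↥(LinearMap.range Ψ) := by
    let σ : M'' → ↥(LinearMap.range Ψ) := Function.surjInv hv
    have hσ : ∀ m'', v (σ m'') = m'' := Function.surjInv_eq hv
    refine Finite.of_surjective (fun x : M' × M'' => u x.1 + σ x.2) ?_
    intro e
    have h5 : v (e - σ (v e)) = 0 := by rw [map_sub, hσ, sub_self]
    obtain ⟨m', hm'⟩ := (huv _).1 h5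
    exact ⟨(m', v e), by simp only [hm', sub_add_cancel]⟩
  refine ⟨W, q, w, ?_, ↥(LinearMap.range Ψ), inferInstance, hfin, u, v, ε, huv, hv, ?_, ?_⟩
  · show q₁.left (q₂.left w) = t
    rw [hw, hw₁]
  · intro m'
    show (app i W) (A' m') + LW 0 = _
    rw [map_zero, add_zero]
    rfl
  · intro e
    obtain ⟨_, ⟨⟨m', c⟩, rfl⟩⟩ := e
    show app p W ((app i W) (A' m') + LW c) = A'' (π c)
    rw [map_add, hzero, zero_add, hLW]

end Core

section Assembly

lemma exists_small_model (E : Type (u + 1)) [AddCommGroup E] [Finite E] :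
    ∃ (E₀ : Type) (_ : AddCommGroup E₀) (_ : Finite E₀), Nonempty (E ≃+ ULift.{u + 1} E₀) := by
  have : Small.{0} E := Countable.toSmall E
  refine ⟨Shrink.{0} E, inferInstance, Finite.of_equiv E (equivShrink E), ⟨?_⟩⟩
  exact (Shrink.addEquiv (α := E)).symm.trans AddEquiv.ulift.symm

set_option backward.isDefEq.respectTransparency.types false in
/-- the additive map `M → F(T)` attached to a map from the constant sheaf over `T` -/
noncomputable def secOfTriv {F : EtCoh.Ab X} {T : X.Etale} {M : AddCommGrpCat.{u + 1}}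
    (b : (cst X M).over T ⟶ F.over T) : ↑M →+ Sec F T :=
  (secHom b (𝟙 T)).comp (eta M T)

lemma secHom_eta {F : EtCoh.Ab X} {T : X.Etale} {M : AddCommGrpCat.{u + 1}}
    (b : (cst X M).over T ⟶ F.over T) {S : X.Etale} (g : S ⟶ T) (m : ↑M) :
    secHom b g (eta M S m) = res F g (secOfTriv b m) := by
  have h := secHom_res b (𝟙 T) g (eta M T m)
  rw [res_eta] at h
  simp only [Category.comp_id] at h
  exact h

lemma secOfTriv_locSurj {F : EtCoh.Ab X} {T : X.Etale} {M : AddCommGrpCat.{u + 1}}
    (b : (cst X M).over T ≅ F.over T) {S : X.Etale} (g : S ⟶ T) (s : Sec F S) (z : S.left) :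
    ∃ (S' : X.Etale) (k : S' ⟶ S) (z' : S'.left), k.left z' = z ∧
      ∃ m', res F (k ≫ g) (secOfTriv b.hom m') = res F k s := by
  obtain ⟨m, S', k, z', hz', hm⟩ := exists_isVal (secHom b.inv g s) z
  refine ⟨S', k, z', hz', m, ?_⟩
  rw [← secHom_eta, ← hm, secHom_res, ← secHom_comp, Iso.inv_hom_id, secHom_id]

set_option backward.isDefEq.respectTransparency.types false in
/-- extensions of finite constant sheaves are finite locally constant, locally -/
theorem ext_local {S : ShortComplex (EtCoh.Ab X)} (hS : S.ShortExact)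
    {M' M'' : AddCommGrpCat.{u + 1}} [Finite ↑M'] [Finite ↑M''] {T T' : X.Etale}
    (t : T.left) (t' : T'.left) (htt : T.hom t = T'.hom t')
    (a₀ : S.X₁.over T ≅ (constantSheaf (X.smallEtaleTopology.over T) AddCommGrpCat.{u + 1}).obj M')
    (b₀ : S.X₃.over T' ≅
      (constantSheaf (X.smallEtaleTopology.over T') AddCommGrpCat.{u + 1}).obj M'') :
    ∃ (W : X.Etale) (w : W.left), W.hom w = T.hom t ∧
      ∃ (E : Type) (_ : AddCommGroup E) (_ : Finite E),
        Nonempty (S.X₂.over W ≅
          (constantSheaf (X.smallEtaleTopology.over W) AddCommGrpCat.{u + 1}).obj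
            (AddCommGrpCat.of (ULift.{u + 1} E))) := by
  let g : T ⟶ EtCoh.top X := MorphismProperty.Over.homMk T.hom (Category.comp_id _) trivial
  let g' : T' ⟶ EtCoh.top X := MorphismProperty.Over.homMk T'.hom (Category.comp_id _) trivial
  obtain ⟨W₀, p, p', w₀, -, hw₀, -⟩ := exists_pullback_point g g' t t' htt
  let b' : (cst X M').over W₀ ≅ S.X₁.over W₀ :=
    restrictIso p ((constOverIso T M').symm ≪≫ a₀.symm)
  let b'' : (cst X M'').over W₀ ≅ S.X₃.over W₀ :=
    restrictIso p' ((constOverIso T' M'').symm ≪≫ b₀.symm)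
  obtain ⟨W, q, w, hw, E, _, _, u, v, ε, huv, hv, h1, h2⟩ :=
    core S.f S.g (fun V g => app_zero V g) (app_exact hS) (app_locSurj hS) w₀
      (secOfTriv b'.hom) (secOfTriv b''.hom) (fun g s z => secOfTriv_locSurj b' g s z)
  obtain ⟨E₀, _, _, ⟨eE⟩⟩ := exists_small_model E
  refine ⟨W, w, ?_, E₀, inferInstance, inferInstance, ?_⟩
  · have e1 : (q ≫ p).left ≫ T.hom = W.hom := Over.w (q ≫ p).hom
    have e2 := congrArg (fun f => f w) e1
    simp only [Scheme.Hom.comp_apply] at e2
    rw [← e2]
    have : (q ≫ p).left w = t := by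
      show p.left (q.left w) = t
      rw [hw, hw₀]
    rw [this]
  let T₀ : ShortComplex AddCommGrpCat.{u + 1} :=
    ShortComplex.mk (AddCommGrpCat.ofHom u) (AddCommGrpCat.ofHom v)
      (by ext m; exact huv.apply_apply_eq_zero m)
  let θ : (cst X (AddCommGrpCat.of E)).over W ⟶ S.X₂.over W := cstLift ε
  let OP := X.smallEtaleTopology.overPullback AddCommGrpCat.{u + 1} W
  let Δ' := constantSheaf X.smallEtaleTopology AddCommGrpCat.{u + 1}
  have sq1 : OP.map (Δ'.map T₀.f) ≫ θ = (restrictIso q b').hom ≫ OP.map S.f := by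
    apply hom_ext_cst
    intro V k m
    rw [secHom_comp, secHom_comp, secHom_overPullback_map, secHom_overPullback_map,
      Groth.Agent.H21.GenStalk.app_map_eta, secHom_cstLift]
    show res S.X₂ k (ε (u m)) = app S.f V (secHom (restrictHom q b'.hom) k (eta M' V m))
    rw [secHom_restrictHom, secHom_eta, h1, ← app_res, res_res]
  have sq2 : θ ≫ OP.map S.g = OP.map (Δ'.map T₀.g) ≫ (restrictIso q b'').hom := by
    apply hom_ext_cst
    intro V k e
    rw [secHom_comp, secHom_comp, secHom_overPullback_map, secHom_overPullback_map,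
      Groth.Agent.H21.GenStalk.app_map_eta, secHom_cstLift]
    show app S.g V (res S.X₂ k (ε e)) =
      secHom (restrictHom q b''.hom) k (eta M'' V (v e))
    rw [secHom_restrictHom, secHom_eta, app_res, h2, res_res]
  let φ : (T₀.map Δ').map OP ⟶ S.map OP :=
    { τ₁ := (restrictIso q b').hom, τ₂ := θ, τ₃ := (restrictIso q b'').hom,
      comm₁₂ := sq1.symm, comm₂₃ := sq2 }
  have hT₀ : T₀.Exact := by
    rw [ShortComplex.ab_exact_iff]
    intro e he
    exact (huv e).1 he
  have hS₂ : (S.map OP).ShortExact := hS.map_of_exact OP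
  have hS₁ : ((T₀.map Δ').map OP).ShortExact := by
    have hmono : Mono (OP.map (Δ'.map T₀.f)) := by
      have h3 : Mono ((restrictIso q b').hom ≫ OP.map S.f) := by
        have : Mono (OP.map S.f) := hS₂.mono_f
        exact mono_comp _ _
      rw [← sq1] at h3
      exact mono_of_mono _ θ
    have hepi : Epi (OP.map (Δ'.map T₀.g)) := by
      have h5 : Epi T₀.g := (AddCommGrpCat.epi_iff_surjective _).2 hv
      have h6 : Epi ((constantSheaf X.smallEtaleTopology AddCommGrpCat.{u + 1}).map T₀.g) :=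
        inferInstance
      exact (inferInstance : Epi ((X.smallEtaleTopology.overPullback AddCommGrpCat.{u + 1} W).map
        ((constantSheaf X.smallEtaleTopology AddCommGrpCat.{u + 1}).map T₀.g)))
    exact { exact := (hT₀.map Δ').map OP, mono_f := hmono, epi_g := hepi }
  have hiso : IsIso θ := ShortComplex.isIso₂_of_shortExact_of_isIso₁₃ φ hS₁ hS₂
  exact ⟨(asIso θ).symm ≪≫ (constOverIso W _).symm ≪≫
    (constantSheaf (X.smallEtaleTopology.over W) AddCommGrpCat.{u + 1}).mapIso
      eE.toAddCommGrpIso⟩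

end Assembly

section KerCoker

set_option backward.isDefEq.respectTransparency.types false in
/-- kernels and cokernels of maps of finite constant sheaves -/
theorem ker_coker_local {F G : EtCoh.Ab X} (φ : F ⟶ G) {W : X.Etale}
    {M N : AddCommGrpCat.{u + 1}} [Finite ↑M] [Finite ↑N] (h : M ⟶ N)
    (α : F.over W ≅ (constantSheaf (X.smallEtaleTopology.over W) AddCommGrpCat.{u + 1}).obj M)
    (β : G.over W ≅ (constantSheaf (X.smallEtaleTopology.over W) AddCommGrpCat.{u + 1}).obj N)
    (e : (X.smallEtaleTopology.overPullback AddCommGrpCat.{u + 1} W).map φ ≫ β.hom =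
      α.hom ≫ (constantSheaf (X.smallEtaleTopology.over W) AddCommGrpCat.{u + 1}).map h) :
    (∃ (K : Type) (_ : AddCommGroup K) (_ : Finite K),
      Nonempty ((kernel φ).over W ≅
        (constantSheaf (X.smallEtaleTopology.over W) AddCommGrpCat.{u + 1}).obj
          (AddCommGrpCat.of (ULift.{u + 1} K)))) ∧
    (∃ (C : Type) (_ : AddCommGroup C) (_ : Finite C),
      Nonempty ((cokernel φ).over W ≅
        (constantSheaf (X.smallEtaleTopology.over W) AddCommGrpCat.{u + 1}).obj
          (AddCommGrpCat.of (ULift.{u + 1} C)))) := by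
  constructor
  · obtain ⟨K, _, _, ⟨eK⟩⟩ := exists_small_model ↥(h.hom.ker)
    refine ⟨K, inferInstance, inferInstance, ⟨?_⟩⟩
    exact PreservesKernel.iso (X.smallEtaleTopology.overPullback AddCommGrpCat.{u + 1} W) φ ≪≫
      kernel.mapIso _ _ α β e ≪≫
      (PreservesKernel.iso (constantSheaf (X.smallEtaleTopology.over W) AddCommGrpCat.{u + 1}) h).symm ≪≫
      (constantSheaf (X.smallEtaleTopology.over W) AddCommGrpCat.{u + 1}).mapIso
        (AddCommGrpCat.kernelIsoKer h ≪≫ eK.toAddCommGrpIso)
  · obtain ⟨C, _, _, ⟨eC⟩⟩ := exists_small_model (↑N ⧸ AddMonoidHom.range h.hom)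
    refine ⟨C, inferInstance, inferInstance, ⟨?_⟩⟩
    exact PreservesCokernel.iso (X.smallEtaleTopology.overPullback AddCommGrpCat.{u + 1} W) φ ≪≫
      cokernel.mapIso _ _ α β e ≪≫
      (PreservesCokernel.iso (constantSheaf (X.smallEtaleTopology.over W) AddCommGrpCat.{u + 1}) h).symm ≪≫
      (constantSheaf (X.smallEtaleTopology.over W) AddCommGrpCat.{u + 1}).mapIso
        (AddCommGrpCat.cokernelIsoQuotient h ≪≫ eC.toAddCommGrpIso)

end KerCoker

end Groth.Agent.H21.AbExt
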