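import Groth.Agent.H21.AdicStrata

set_option autoImplicit false
universe u
open CategoryTheory CategoryTheory.Limits AlgebraicGeometry Opposite TopologicalSpace

namespace Groth.Agent.H21.AdicConstr

open Groth.Agent.H21.OverBridge Groth.Agent.H21.Constr Groth.Agent.H21.ConstrMain
  Groth.Agent.H21.ConstrSub Groth.Agent.H21.ConstrSerre Groth.Agent.H21.AdicGr ARSys

variable {X : Scheme.{u}}

/-- extensions of constructible sheaves are constructible -/
theorem isConstructible_ext {S : ShortComplex (EtCoh.Ab X)} (hS : S.ShortExact)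
    (h1 : EtPBC.IsConstructible S.X₁) (h3 : EtPBC.IsConstructible S.X₃) :
    EtPBC.IsConstructible S.X₂ := by
  intro U hU
  obtain ⟨ι, hι, T, g, h1', h2', h3', h4', h5'⟩ :=
    ((strata_iff S.X₁ U).1 (h1 U hU)).inter ((strata_iff S.X₃ U).1 (h3 U hU))
  refine (strata_iff _ _).2 ⟨ι, hι, T, g, h1', h2', h3', h4', fun i _ => ?_⟩
  exact pull_ext_isFLC (g i) hS (h5' i (Sum.inl ())) (h5' i (Sum.inr ()))

/-- in an adic system on a locally Noetherian scheme, all terms are constructible as soon as
the first one is -/
theorem isConstructible_of_adic [IsLocallyNoetherian X] {R : Type*} [CommRing R]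
    [Linear R (EtCoh.Ab X)] (ℓ : R) (F : ARSys.PS (EtCoh.Ab X))
    (hF : ARSys.IsAdic (Ideal.span {ℓ}) F) (h0 : EtPBC.IsConstructible (F.obj (op 0))) (n : ℕ) :
    EtPBC.IsConstructible (F.obj (op n)) := by
  induction n with
  | zero => exact h0
  | succ n ih =>
    have := epi_π hF (n + 1)
    have hK : EtPBC.IsConstructible (K ℓ F (n + 1)) := isConstructible_of_epi (π hF (n + 1)) h0
    exact isConstructible_ext (shortExact hF n) hK ih

end Groth.Agent.H21.AdicConstr
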