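import Groth.Prelude.Def_ARSys
import Mathlib.CategoryTheory.Abelian.Exact
import Mathlib.Algebra.Homology.ShortComplex.ShortExact
import Mathlib.RingTheory.Ideal.Span
import Mathlib.CategoryTheory.Preadditive.Basic
import Mathlib.CategoryTheory.Abelian.Pseudoelements

set_option autoImplicit false
universe w v u
open CategoryTheory CategoryTheory.Limits Opposite

namespace Groth.Agent.H21.AdicGr

open ARSys

variable {C : Type u} [Category.{v} C] [Abelian C] {R : Type w} [CommRing R] [Linear R C]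
  (ℓ : R) (F : ARSys.PS C)

/-- the transition map `F_{n+1} ⟶ F_n` -/
abbrev t (n : ℕ) : F.obj (op (n + 1)) ⟶ F.obj (op n) := tr F (Nat.le_succ n)

/-- multiplication by `ℓ^k` on `F_n` -/
def mul (k n : ℕ) : F.obj (op n) ⟶ F.obj (op n) := (ℓ ^ k : R) • 𝟙 _

variable {ℓ F}

lemma homKilledBy_of {n : ℕ} {X Y : C} (φ : X ⟶ Y) (h : (ℓ ^ n : R) • φ = 0) :
    HomKilledBy (Ideal.span {ℓ} ^ n) φ := by
  intro a ha
  rw [Ideal.span_singleton_pow, Ideal.mem_span_singleton'] at ha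
  obtain ⟨b, rfl⟩ := ha
  rw [mul_smul, h, smul_zero]

variable (hF : IsAdic (Ideal.span {ℓ}) F)
include hF

lemma mul_succ_eq_zero (n : ℕ) : mul ℓ F (n + 1) n = 0 :=
  hF.1 n _ (Ideal.pow_mem_pow (Ideal.mem_span_singleton_self ℓ) (n + 1))

omit hF in
lemma mul_comp_t (k n : ℕ) : mul ℓ F k (n + 1) ≫ t F n = t F n ≫ mul ℓ F k n := by
  simp only [mul, Linear.smul_comp, Linear.comp_smul, Category.id_comp, Category.comp_id]

lemma mul_succ_comp_t (n : ℕ) : mul ℓ F (n + 1) (n + 1) ≫ t F n = 0 := by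
  rw [mul_comp_t, mul_succ_eq_zero hF, comp_zero]

/-- the transition map `F_{n+1} ⟶ F_n` is a cokernel of multiplication by `ℓ^{n+1}` -/
noncomputable def isColimitT (n : ℕ) :
    IsColimit (CokernelCofork.ofπ (t F n) (mul_succ_comp_t hF n)) := by
  have hq := (hF.2 n (n + 1) (Nat.le_succ n)).2
  have hk : ∀ {Z' : C} (g' : F.obj (op (n + 1)) ⟶ Z'), mul ℓ F (n + 1) (n + 1) ≫ g' = 0 →
      HomKilledBy (Ideal.span {ℓ} ^ (n + 1)) g' := by
    intro Z' g' h
    apply homKilledBy_of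
    rw [← h, mul, Linear.smul_comp, Category.id_comp]
  refine CokernelCofork.IsColimit.ofπ _ _ (fun g' h => (hq _ g' (hk g' h)).choose)
    (fun g' h => (hq _ g' (hk g' h)).choose_spec.1)
    (fun g' h m hm => (hq _ g' (hk g' h)).choose_spec.2 m hm)

/-- the short complex `F_{n+1} --ℓ^{n+1}--> F_{n+1} --> F_n` is exact -/
lemma exact_mul_t (n : ℕ) :
    (ShortComplex.mk (mul ℓ F (n + 1) (n + 1)) (t F n) (mul_succ_comp_t hF n)).Exact :=
  ShortComplex.exact_of_g_is_cokernel _ (isColimitT hF n)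

lemma epi_t (n : ℕ) : Epi (t F n) :=
  epi_of_isColimit_cofork (isColimitT hF n)

omit hF in
/-- the graded piece `K_n = ℓ^n F_n` -/
noncomputable abbrev K (ℓ : R) (F : ARSys.PS C) (n : ℕ) : C := Abelian.image (mul ℓ F n n)

omit hF in
noncomputable abbrev e (ℓ : R) (F : ARSys.PS C) (n : ℕ) : F.obj (op n) ⟶ K ℓ F n :=
  Abelian.factorThruImage (mul ℓ F n n)

omit hF in
noncomputable abbrev m (ℓ : R) (F : ARSys.PS C) (n : ℕ) : K ℓ F n ⟶ F.obj (op n) :=
  Abelian.image.ι (mul ℓ F n n)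

omit hF in
lemma e_m (n : ℕ) : e ℓ F n ≫ m ℓ F n = mul ℓ F n n := Abelian.image.fac _

omit hF in
lemma mul_succ (k n : ℕ) : mul ℓ F (k + 1) n = mul ℓ F k n ≫ mul ℓ F 1 n := by
  simp only [mul, Linear.smul_comp, Linear.comp_smul, Category.id_comp, pow_one, smul_smul]
  rw [pow_succ, mul_comm]

/-- the kernel of `F_{n+1} ⟶ F_n` is killed by `ℓ` -/
lemma kernel_t_mul (n : ℕ) : kernel.ι (t F n) ≫ mul ℓ F 1 (n + 1) = 0 := by
  have hex := exact_mul_t hF n
  have hepi : Epi (kernel.lift (t F n) (mul ℓ F (n + 1) (n + 1)) (mul_succ_comp_t hF n)) := by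
    have := hex.epi_kernelLift
    exact this
  rw [← cancel_epi (kernel.lift (t F n) (mul ℓ F (n + 1) (n + 1)) (mul_succ_comp_t hF n)),
    kernel.lift_ι_assoc, comp_zero, ← mul_succ, mul_succ_eq_zero hF]

/-- the kernel of `F_{n+1} ⟶ F_n ⟶ K_n` is killed by `F_{n+1} ⟶ K_{n+1}` -/
lemma kernel_comp_e (n : ℕ) : kernel.ι (t F n ≫ e ℓ F n) ≫ e ℓ F (n + 1) = 0 := by
  rw [← cancel_mono (m ℓ F (n + 1)), Category.assoc, e_m, zero_comp]
  have h1 : (kernel.ι (t F n ≫ e ℓ F n) ≫ mul ℓ F n (n + 1)) ≫ t F n = 0 := by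
    rw [Category.assoc, mul_comp_t, ← e_m, ← Category.assoc (t F n), kernel.condition_assoc,
      zero_comp]
  have h2 : kernel.ι (t F n ≫ e ℓ F n) ≫ mul ℓ F n (n + 1) =
      kernel.lift (t F n) _ h1 ≫ kernel.ι (t F n) := (kernel.lift_ι _ _ _).symm
  rw [mul_succ, ← Category.assoc, h2, Category.assoc, kernel_t_mul hF, comp_zero]

lemma epi_t_e (n : ℕ) : Epi (t F n ≫ e ℓ F n) := by
  have := epi_t hF n
  exact epi_comp _ _

/-- the canonical epimorphism `K_n ⟶ K_{n+1}` -/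
noncomputable def σ (n : ℕ) : K ℓ F n ⟶ K ℓ F (n + 1) :=
  have := epi_t_e hF n
  Abelian.epiDesc (t F n ≫ e ℓ F n) (e ℓ F (n + 1)) (kernel_comp_e hF n)

lemma t_e_σ (n : ℕ) : (t F n ≫ e ℓ F n) ≫ σ hF n = e ℓ F (n + 1) := by
  have := epi_t_e hF n
  exact Abelian.comp_epiDesc _ _ _

lemma epi_σ (n : ℕ) : Epi (σ hF n) := by
  have h : Epi ((t F n ≫ e ℓ F n) ≫ σ hF n) := by
    rw [t_e_σ]
    infer_instance
  exact epi_of_epi (t F n ≫ e ℓ F n) (σ hF n)

/-- the canonical epimorphism `F_0 ⟶ K_n` -/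
noncomputable def π : ∀ n : ℕ, F.obj (op 0) ⟶ K ℓ F n
  | 0 => e ℓ F 0
  | n + 1 => π n ≫ σ hF n

lemma epi_π (n : ℕ) : Epi (π hF n) := by
  induction n with
  | zero => exact inferInstanceAs (Epi (e ℓ F 0))
  | succ n ih =>
    have := epi_σ hF n
    exact epi_comp _ _

omit hF [Linear R C] in
/-- if composing with `s` does not enlarge the kernel of an epimorphism, `s` is mono -/
lemma mono_of_kernelSubobject_eq {X Y Z : C} (p : X ⟶ Y) [Epi p] (s : Y ⟶ Z)
    (h : kernelSubobject p = kernelSubobject (p ≫ s)) : Mono s := by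
  refine Preadditive.mono_of_cancel_zero s (fun {P} g hg => ?_)
  have h1 : pullback.fst p g ≫ (p ≫ s) = 0 := by
    rw [← Category.assoc, pullback.condition, Category.assoc, hg, comp_zero]
  have h2 : (kernelSubobject p).Factors (pullback.fst p g) := by
    rw [h]
    exact (kernelSubobject_factors_iff _ _).2 h1
  have h3 : pullback.fst p g ≫ p = 0 := (kernelSubobject_factors_iff _ _).1 h2
  have h4 : pullback.snd p g ≫ g = 0 := by rw [← pullback.condition, h3]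
  have : Epi (pullback.snd p g) := inferInstance
  exact (cancel_epi (pullback.snd p g)).1 (h4.trans comp_zero.symm)

lemma π_succ (n : ℕ) : π hF (n + 1) = π hF n ≫ σ hF n := rfl

/-- the increasing chain of kernels of `F_0 ⟶ K_n` -/
noncomputable def chain : ℕ →o Subobject (F.obj (op 0)) :=
  ⟨fun n => kernelSubobject (π hF n),
    monotone_nat_of_le_succ (fun n => kernelSubobject_comp_le (π hF n) (σ hF n))⟩

/-- once the chain of kernels is stationary, the maps `K_n ⟶ K_{n+1}` are isomorphisms -/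
lemma isIso_σ_of_stationary (N : ℕ) (hN : ∀ n, N ≤ n → chain hF n = chain hF N) (n : ℕ)
    (hn : N ≤ n) : IsIso (σ hF n) := by
  have h1 : kernelSubobject (π hF n) = kernelSubobject (π hF n ≫ σ hF n) := by
    have e1 : chain hF n = chain hF (n + 1) :=
      (hN n hn).trans (hN (n + 1) (hn.trans (Nat.le_succ n))).symm
    exact e1
  have := epi_π hF n
  have hm : Mono (σ hF n) := mono_of_kernelSubobject_eq (π hF n) (σ hF n) h1
  have he := epi_σ hF n
  exact isIso_of_mono_of_epi _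

lemma m_t (n : ℕ) : m ℓ F (n + 1) ≫ t F n = 0 := by
  rw [← cancel_epi (e ℓ F (n + 1)), ← Category.assoc, e_m, mul_succ_comp_t hF, comp_zero]

/-- the short exact sequence `0 ⟶ K_{n+1} ⟶ F_{n+1} ⟶ F_n ⟶ 0` -/
lemma shortExact (n : ℕ) :
    (ShortComplex.mk (m ℓ F (n + 1)) (t F n) (m_t hF n)).ShortExact := by
  let S₁ := ShortComplex.mk (mul ℓ F (n + 1) (n + 1)) (t F n) (mul_succ_comp_t hF n)
  let S₂ := ShortComplex.mk (m ℓ F (n + 1)) (t F n) (m_t hF n)
  let φ : S₁ ⟶ S₂ :=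
    { τ₁ := e ℓ F (n + 1), τ₂ := 𝟙 _, τ₃ := 𝟙 _,
      comm₁₂ := by
        show e ℓ F (n + 1) ≫ m ℓ F (n + 1) = mul ℓ F (n + 1) (n + 1) ≫ 𝟙 _
        rw [e_m, Category.comp_id]
      comm₂₃ := by
        show 𝟙 _ ≫ t F n = t F n ≫ 𝟙 _
        rw [Category.id_comp, Category.comp_id] }
  have h1 : Epi φ.τ₁ := inferInstanceAs (Epi (e ℓ F (n + 1)))
  have h2 : IsIso φ.τ₂ := inferInstanceAs (IsIso (𝟙 _))
  have h3 : Mono φ.τ₃ := inferInstanceAs (Mono (𝟙 _))
  have hex : S₂.Exact := (ShortComplex.exact_iff_of_epi_of_isIso_of_mono φ).1 (exact_mul_t hF n)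
  exact { exact := hex, mono_f := inferInstanceAs (Mono (m ℓ F (n + 1))), epi_g := epi_t hF n }

omit hF in
/-- `K_0 ≅ F_0` -/
lemma isIso_e_zero : IsIso (e ℓ F 0) := by
  have h1 : mul ℓ F 0 0 = 𝟙 _ := by simp [mul]
  have h2 : e ℓ F 0 ≫ m ℓ F 0 = 𝟙 _ := by rw [e_m, h1]
  have : Mono (e ℓ F 0) := mono_of_mono_fac h2
  exact isIso_of_mono_of_epi _

end Groth.Agent.H21.AdicGr
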