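import Groth.Agent.H21.ConstrACC
import Groth.Agent.H21.AdicGr
import Groth.Prelude.Def_PBC

set_option autoImplicit false
universe u
open CategoryTheory CategoryTheory.Limits AlgebraicGeometry Opposite TopologicalSpace

namespace Groth.Agent.H21.AdicStrata

open Groth.Agent.H21.OverBridge Groth.Agent.H21.Constr Groth.Agent.H21.ConstrMain
  Groth.Agent.H21.ConstrSub Groth.Agent.H21.ConstrACC Groth.Agent.H21.ConstrSerre
  Groth.Agent.H21.AdicGr ARSys

variable {X : Scheme.{u}}

/-- a finite family of constructible sheaves on a qcqs scheme has a common stratification -/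
theorem strata_fin [CompactSpace X] [QuasiSeparatedSpace X] :
    ∀ (n : ℕ) (G : Fin n → EtCoh.Ab X), (∀ k, EtPBC.IsConstructible (G k)) →
      Strata G (Set.univ : Set X)
  | 0, G, _ => by
    refine ⟨PUnit, inferInstance, fun _ => X, fun _ => 𝟙 X, fun _ => inferInstance, fun _ => ?_,
      fun i j hij => (hij (Subsingleton.elim i j)).elim, ?_, fun _ k => k.elim0⟩
    · have : Set.range (𝟙 X : X ⟶ X) = Set.univ := by
        ext x; exact ⟨fun _ => trivial, fun _ => ⟨x, rfl⟩⟩
      rw [this, Set.preimage_univ]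
      exact Topology.IsConstructible.univ
    · rw [Set.iUnion_const]
      ext x; exact ⟨fun _ => trivial, fun _ => ⟨x, rfl⟩⟩
  | n + 1, G, hG => by
    have h1 := strata_fin n (fun k => G k.succ) (fun k => hG k.succ)
    have h2 : Strata (fun _ : Unit => G 0) (Set.univ : Set X) :=
      (strata_iff _ _).1 ((isConstructible_iff_of_qcqs _).1 (hG 0))
    refine (h1.inter h2).mono G (fun k => ?_)
    refine Fin.cases ⟨Sum.inr (), rfl⟩ (fun j => ⟨Sum.inl j, rfl⟩) k

/-- the graded pieces of a system of constructible sheaves are constructible -/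
theorem isConstructible_K {R : Type*} [CommRing R] [Linear R (EtCoh.Ab X)] (ℓ : R)
    (F : ARSys.PS (EtCoh.Ab X)) (hc : ∀ n : ℕ, EtPBC.IsConstructible (F.obj (op n))) (n : ℕ) :
    EtPBC.IsConstructible (K ℓ F n) := by
  have h1 := (isConstructible_kernel_cokernel (mul ℓ F n n) (hc n) (hc n)).2
  exact (isConstructible_kernel_cokernel (cokernel.π (mul ℓ F n n)) (hc n) h1).1

/-- **Uniform stratification of an adic system of constructible sheaves.** -/
theorem exists_strata [IsNoetherian X] {R : Type*} [CommRing R] [Linear R (EtCoh.Ab X)]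
    (ℓ : R) (F : ARSys.PS (EtCoh.Ab X)) (hF : ARSys.IsAdic (Ideal.span {ℓ}) F)
    (hc : ∀ n : ℕ, EtPBC.IsConstructible (F.obj (op n))) :
    ∃ (m : ℕ) (T : Fin m → Scheme.{u}) (g : ∀ i, T i ⟶ X),
      (∀ i, IsImmersion (g i)) ∧
      Pairwise (fun i j => Disjoint (Set.range (fun t => (g i).base t))
        (Set.range (fun t => (g j).base t))) ∧
      (⋃ i, Set.range (fun t => (g i).base t)) = Set.univ ∧
      ∀ (i : Fin m) (n : ℕ),
        EtCoh.IsFiniteLocallyConstant ((EtCoh.pull (g i)).obj (F.obj (op n))) := by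
  obtain ⟨N, hN⟩ := subobject_chain_stabilizes (F.obj (op 0)) (hc 0) (chain hF)
  obtain ⟨ι, hι, T, g, h1, h2, h3, h4, h5⟩ :=
    strata_fin (N + 1) (fun k : Fin (N + 1) => K ℓ F k.1) (fun k => isConstructible_K ℓ F hc k.1)
  -- all graded pieces are finite locally constant on the strata
  have hK : ∀ i n, EtCoh.IsFiniteLocallyConstant ((EtCoh.pull (g i)).obj (K ℓ F n)) := by
    intro i n
    by_cases hn : n ≤ N
    · exact h5 i ⟨n, Nat.lt_succ_of_le hn⟩
    · have hle : N ≤ n := le_of_not_ge hn
      induction n, hle using Nat.le_induction with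
      | base => exact h5 i ⟨N, Nat.lt_succ_self N⟩
      | succ n hle ih =>
        have hiso := isIso_σ_of_stationary hF N hN n hle
        have ih' : EtCoh.IsFiniteLocallyConstant ((EtCoh.pull (g i)).obj (K ℓ F n)) := by
          by_cases hn' : n ≤ N
          · exact h5 i ⟨n, Nat.lt_succ_of_le hn'⟩
          · exact ih hn'
        exact isFLC_of_iso ((EtCoh.pull (g i)).mapIso (asIso (σ hF n))) ih'
  have hFn : ∀ i n, EtCoh.IsFiniteLocallyConstant ((EtCoh.pull (g i)).obj (F.obj (op n))) := by
    intro i n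
    induction n with
    | zero =>
      have := isIso_e_zero (ℓ := ℓ) (F := F)
      exact isFLC_of_iso ((EtCoh.pull (g i)).mapIso (asIso (e ℓ F 0)).symm) (hK i 0)
    | succ n ih => exact pull_ext_isFLC (g i) (shortExact hF n) (hK i (n + 1)) ih
  obtain ⟨m, ⟨eq⟩⟩ := Finite.exists_equiv_fin ι
  refine ⟨m, fun i => T (eq.symm i), fun i => g (eq.symm i), fun i => h1 _, ?_, ?_,
    fun i n => hFn _ n⟩
  · intro i j hij
    exact h3 (fun h => hij (eq.symm.injective h))
  · rw [← h4]
    exact eq.symm.surjective.iUnion_comp (fun i => Set.range (g i))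

end Groth.Agent.H21.AdicStrata
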