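import Mathlib.AlgebraicGeometry.Morphisms.FlatRank
import Mathlib.AlgebraicGeometry.Morphisms.ClosedImmersion
import Mathlib.AlgebraicGeometry.Limits

/-!
# Additivity of the rank of a finite flat morphism over a clopen decomposition of the source
-/

set_option autoImplicit false
universe u
open CategoryTheory CategoryTheory.Limits AlgebraicGeometry TopologicalSpace

namespace Groth.Agent.H21.FinrankAdd

/-- Affine additivity. -/
theorem finrank_SpecMap_prod (R A B : Type u) [CommRing R] [CommRing A] [CommRing B]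
    [Algebra R A] [Algebra R B] [Module.Finite R A] [Module.Flat R A] [Module.Finite R B]
    [Module.Flat R B] [Module.Flat R (A × B)] (x : PrimeSpectrum R) :
    Scheme.Hom.finrank (Spec.map (CommRingCat.ofHom (algebraMap R (A × B)))) x =
      Scheme.Hom.finrank (Spec.map (CommRingCat.ofHom (algebraMap R A))) x +
        Scheme.Hom.finrank (Spec.map (CommRingCat.ofHom (algebraMap R B))) x := by
  rw [Scheme.Hom.finrank_SpecMap_algebraMap, Scheme.Hom.finrank_SpecMap_algebraMap,
    Scheme.Hom.finrank_SpecMap_algebraMap, Module.rankAtStalk_prod]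
  rfl

/-- The inclusion of a clopen subscheme is a closed immersion. -/
theorem isClosedImmersion_ι_of_isCompl {Z : Scheme.{u}} {U V : Z.Opens} (h : IsCompl U V) :
    IsClosedImmersion U.ι := by
  refine IsClosedImmersion.of_isPreimmersion _ ?_
  have : Set.range U.ι = (V : Set Z)ᶜ := by
    rw [Scheme.Opens.range_ι]
    have h1 : (U : Set Z) ∩ V = ∅ := by
      have := h.1.eq_bot
      rw [← Opens.coe_inf, this]; rfl
    have h2 : (U : Set Z) ∪ V = Set.univ := by
      have := h.2.eq_top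
      rw [← Opens.coe_sup, this]; rfl
    ext z
    constructor
    · intro hz hz'
      have : z ∈ (U : Set Z) ∩ V := ⟨hz, hz'⟩
      rw [h1] at this; exact this
    · intro hz
      have : z ∈ (U : Set Z) ∪ V := by rw [h2]; trivial
      exact this.resolve_right hz
  rw [this]
  exact V.2.isClosed_compl

end Groth.Agent.H21.FinrankAdd

namespace Groth.Agent.H21.FinrankAdd

set_option maxHeartbeats 400000 in
/-- Additivity of `finrank` over a clopen decomposition, affine base. -/
theorem finrank_eq_add_of_isCompl_of_affine {R : CommRingCat.{u}} {Z : Scheme.{u}}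
    (f : Z ⟶ Spec R) [IsFinite f] [Flat f] (U V : Z.Opens) (h : IsCompl U V)
    [IsFinite (U.ι ≫ f)] [IsFinite (V.ι ≫ f)] (x : Spec R) :
    f.finrank x = (U.ι ≫ f).finrank x + (V.ι ≫ f).finrank x := by
  have hU : IsAffineOpen U := isAffine_of_isAffineHom (U.ι ≫ f)
  have hV : IsAffineOpen V := isAffine_of_isAffineHom (V.ι ≫ f)
  let φA : R ⟶ Γ(Z, U) := Spec.preimage (hU.fromSpec ≫ f)
  let φB : R ⟶ Γ(Z, V) := Spec.preimage (hV.fromSpec ≫ f)
  have hφA : Spec.map φA = hU.fromSpec ≫ f := Spec.map_preimage _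
  have hφB : Spec.map φB = hV.fromSpec ≫ f := Spec.map_preimage _
  let _ : Algebra R Γ(Z, U) := φA.hom.toAlgebra
  let _ : Algebra R Γ(Z, V) := φB.hom.toAlgebra
  have eA : hU.isoSpec.inv ≫ (U.ι ≫ f) = Spec.map φA := by
    rw [hφA, ← Category.assoc, hU.isoSpec_inv_ι]
  have eB : hV.isoSpec.inv ≫ (V.ι ≫ f) = Spec.map φB := by
    rw [hφB, ← Category.assoc, hV.isoSpec_inv_ι]
  have finA : IsFinite (Spec.map φA) := by rw [← eA]; infer_instance
  have finB : IsFinite (Spec.map φB) := by rw [← eB]; infer_instance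
  have flA : Flat (Spec.map φA) := by rw [← eA]; infer_instance
  have flB : Flat (Spec.map φB) := by rw [← eB]; infer_instance
  have : Module.Finite R Γ(Z, U) := RingHom.finite_algebraMap.mp ((IsFinite.SpecMap_iff _).mp finA)
  have : Module.Finite R Γ(Z, V) := RingHom.finite_algebraMap.mp ((IsFinite.SpecMap_iff _).mp finB)
  have : Module.Flat R Γ(Z, U) := (RingHom.flat_algebraMap_iff).mp (Flat.SpecMap_iff.mp flA)
  have : Module.Flat R Γ(Z, V) := (RingHom.flat_algebraMap_iff).mp (Flat.SpecMap_iff.mp flB)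
  -- the coproduct decomposition
  have hcompl : IsCompl hU.fromSpec.opensRange hV.fromSpec.opensRange := by
    rw [hU.opensRange_fromSpec, hV.opensRange_fromSpec]; exact h
  obtain ⟨hc⟩ := nonempty_isColimit_binaryCofanMk_of_isCompl hU.fromSpec hV.fromSpec hcompl
  let d : Spec Γ(Z, U) ⨿ Spec Γ(Z, V) ⟶ Z := coprod.desc hU.fromSpec hV.fromSpec
  have hd : IsIso d :=
    (IsColimit.coconePointUniqueUpToIso (coprodIsCoprod _ _) hc).isIso_hom
  let k : Spec (.of (Γ(Z, U) × Γ(Z, V))) ⟶ Z := inv (coprodSpec Γ(Z, U) Γ(Z, V)) ≫ d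
  have hk : k ≫ f = Spec.map (CommRingCat.ofHom (algebraMap R (Γ(Z, U) × Γ(Z, V)))) := by
    have hk' : d ≫ f = coprodSpec Γ(Z, U) Γ(Z, V) ≫
        Spec.map (CommRingCat.ofHom (algebraMap R (Γ(Z, U) × Γ(Z, V)))) := by
      apply coprod.hom_ext
      · rw [coprod.inl_desc_assoc, coprodSpec_inl_assoc, ← hφA, ← Spec.map_comp]
        rfl
      · rw [coprod.inr_desc_assoc, coprodSpec_inr_assoc, ← hφB, ← Spec.map_comp]
        rfl
    rw [Category.assoc, hk', IsIso.inv_hom_id_assoc]
  have flAB : Flat (Spec.map (CommRingCat.ofHom (algebraMap R (Γ(Z, U) × Γ(Z, V))))) := by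
    rw [← hk]; infer_instance
  have : Module.Flat R (Γ(Z, U) × Γ(Z, V)) :=
    (RingHom.flat_algebraMap_iff).mp (Flat.SpecMap_iff.mp flAB)
  have finAB : IsFinite (Spec.map (CommRingCat.ofHom (algebraMap R (Γ(Z, U) × Γ(Z, V))))) := by
    rw [← hk]; infer_instance
  have h1 : f.finrank x =
      (Spec.map (CommRingCat.ofHom (algebraMap R (Γ(Z, U) × Γ(Z, V))))).finrank x := by
    rw [← hk, Scheme.Hom.finrank_comp_left_of_isIso]
  have h2 : (U.ι ≫ f).finrank x =
      (Spec.map (CommRingCat.ofHom (algebraMap R Γ(Z, U)))).finrank x := by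
    change _ = (Spec.map φA).finrank x
    rw [← eA, Scheme.Hom.finrank_comp_left_of_isIso hU.isoSpec.inv (U.ι ≫ f)]
  have h3 : (V.ι ≫ f).finrank x =
      (Spec.map (CommRingCat.ofHom (algebraMap R Γ(Z, V)))).finrank x := by
    change _ = (Spec.map φB).finrank x
    rw [← eB, Scheme.Hom.finrank_comp_left_of_isIso hV.isoSpec.inv (V.ι ≫ f)]
  rw [h1, h2, h3]
  exact finrank_SpecMap_prod R Γ(Z, U) Γ(Z, V) x

end Groth.Agent.H21.FinrankAdd

namespace Groth.Agent.H21.FinrankAdd

theorem isCompl_preimage {Z W : Scheme.{u}} (p : W ⟶ Z) {U V : Z.Opens} (h : IsCompl U V) :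
    IsCompl (p ⁻¹ᵁ U) (p ⁻¹ᵁ V) := by
  rw [isCompl_iff, disjoint_iff, codisjoint_iff] at h ⊢
  constructor
  · rw [← Scheme.Hom.preimage_inf, h.1]; rfl
  · rw [← Scheme.Hom.preimage_sup, h.2]; rfl

/-- Additivity of `finrank` over a clopen decomposition of the source. -/
theorem finrank_eq_add_of_isCompl {Z X : Scheme.{u}} (f : Z ⟶ X) [IsFinite f] [Flat f]
    (U V : Z.Opens) (h : IsCompl U V) (x : X) :
    haveI := isClosedImmersion_ι_of_isCompl h
    haveI := isClosedImmersion_ι_of_isCompl h.symm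
    f.finrank x = (U.ι ≫ f).finrank x + (V.ι ≫ f).finrank x := by
  have clU := isClosedImmersion_ι_of_isCompl h
  have clV := isClosedImmersion_ι_of_isCompl h.symm
  obtain ⟨R, g, _, x', rfl⟩ := X.exists_Spec_apply_eq x
  have sqU : IsPullback ((pullback.fst f g) ∣_ U) (((pullback.fst f g) ⁻¹ᵁ U).ι ≫ pullback.snd f g)
      (U.ι ≫ f) g :=
    (isPullback_morphismRestrict (pullback.fst f g) U).paste_vert (IsPullback.of_hasPullback f g)
  have sqV : IsPullback ((pullback.fst f g) ∣_ V) (((pullback.fst f g) ⁻¹ᵁ V).ι ≫ pullback.snd f g)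
      (V.ι ≫ f) g :=
    (isPullback_morphismRestrict (pullback.fst f g) V).paste_vert (IsPullback.of_hasPullback f g)
  have h' := isCompl_preimage (pullback.fst f g) h
  have := isClosedImmersion_ι_of_isCompl h'
  have := isClosedImmersion_ι_of_isCompl h'.symm
  rw [← Scheme.Hom.finrank_pullback_snd f g x',
    ← Scheme.Hom.finrank_of_isPullback _ _ _ _ sqU x',
    ← Scheme.Hom.finrank_of_isPullback _ _ _ _ sqV x']
  exact finrank_eq_add_of_isCompl_of_affine (pullback.snd f g) _ _ h' x'

end Groth.Agent.H21.FinrankAdd
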