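import Mathlib.AlgebraicGeometry.Morphisms.Etale
import Mathlib.AlgebraicGeometry.Morphisms.Separated
import Mathlib.AlgebraicGeometry.PullbackCarrier
import Groth.Agent.H21.FinrankAdd

/-!
# A finite étale morphism of constant rank is split by a finite étale surjective cover
-/

set_option autoImplicit false
universe u
open CategoryTheory CategoryTheory.Limits AlgebraicGeometry TopologicalSpace

namespace Groth.Agent.H21.FEtSplit

/-- In a pullback square of schemes, the range of the second projection is the preimage of the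
range of the first map. -/
theorem range_snd_of_isPullback {P X Y Z : Scheme.{u}} {a : P ⟶ X} {b : P ⟶ Y} {c : X ⟶ Z}
    {d : Y ⟶ Z} (sq : IsPullback a b c d) : Set.range b = d ⁻¹' Set.range c := by
  rw [← Scheme.Pullback.range_snd, ← sq.isoPullback_hom_snd, Scheme.Hom.comp_base,
    TopCat.coe_comp, Set.range_comp, Set.range_eq_univ.mpr sq.isoPullback.hom.surjective,
    Set.image_univ]

/-- `p : Z ⟶ Y` is split of degree `n` if it has `n` sections that are open immersions with
pairwise disjoint ranges covering `Z`. -/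
def IsSplit (n : ℕ) {Z Y : Scheme.{u}} (p : Z ⟶ Y) : Prop :=
  ∃ σ : Fin n → (Y ⟶ Z), (∀ i, σ i ≫ p = 𝟙 Y) ∧ (∀ i, IsOpenImmersion (σ i)) ∧
    (∀ i j, i ≠ j → Disjoint (Set.range (σ i)) (Set.range (σ j))) ∧
    (⋃ i, Set.range (σ i)) = Set.univ

end Groth.Agent.H21.FEtSplit

namespace Groth.Agent.H21.FEtSplit

/-- The complement of the diagonal in `X ×_S X`, for `φ` finite étale: rank drops by one. -/
theorem finrank_compl_diagonal {X S : Scheme.{u}} (φ : X ⟶ S) [IsFinite φ] [Etale φ] (n : ℕ)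
    (h : ∀ s, φ.finrank s = n + 1)
    (X' : (pullback φ φ).Opens) (hX' : (X' : Set ↥(pullback φ φ)) = (Set.range (pullback.diagonal φ))ᶜ)
    [IsFinite (X'.ι ≫ pullback.snd φ φ)] (x : X) :
    (X'.ι ≫ pullback.snd φ φ).finrank x = n := by
  set Δ := pullback.diagonal φ with hΔ
  let Uδ : (pullback φ φ).Opens := Δ.opensRange
  have hcompl : IsCompl Uδ X' := by
    rw [isCompl_iff, disjoint_iff, codisjoint_iff]
    constructor
    · ext z
      simp only [Opens.coe_inf, Opens.coe_bot, Set.mem_inter_iff, Set.mem_empty_iff_false,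
        iff_false, not_and]
      intro hz hz'
      rw [hX'] at hz'
      exact hz' hz
    · ext z
      simp only [Opens.coe_sup, Opens.coe_top, Set.mem_union, Set.mem_univ, iff_true]
      by_cases hz : z ∈ Set.range Δ
      · exact Or.inl hz
      · right; rw [hX']; exact hz
  have h1 := FinrankAdd.finrank_eq_add_of_isCompl (pullback.snd φ φ) Uδ X' hcompl x
  have h2 : (pullback.snd φ φ).finrank x = n + 1 := by
    rw [Scheme.Hom.finrank_pullback_snd, h]
  have h3 : (Uδ.ι ≫ pullback.snd φ φ).finrank x = 1 := by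
    have e : Uδ.ι ≫ pullback.snd φ φ = Δ.isoOpensRange.inv := by
      rw [← cancel_epi Δ.isoOpensRange.hom, Scheme.Hom.isoOpensRange_hom_ι_assoc,
        Iso.hom_inv_id, hΔ, pullback.diagonal_snd]
    have : IsIso (Uδ.ι ≫ pullback.snd φ φ) := by rw [e]; infer_instance
    rw [Scheme.Hom.finrank_eq_one_of_isIso]; rfl
  omega

end Groth.Agent.H21.FEtSplit

namespace Groth.Agent.H21.FEtSplit

set_option maxHeartbeats 1000000 in
theorem exists_split_step (n : ℕ)
    (ih : ∀ {X S : Scheme.{u}} (φ : X ⟶ S) [IsFinite φ] [Etale φ], (∀ s, φ.finrank s = n) →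
      ∃ (Y : Scheme.{u}) (ψ : Y ⟶ S), IsFinite ψ ∧ Etale ψ ∧ Surjective ψ ∧
        IsSplit n (pullback.snd φ ψ))
    {X S : Scheme.{u}} (φ : X ⟶ S) [IsFinite φ] [Etale φ] (h : ∀ s, φ.finrank s = n + 1) :
    ∃ (Y : Scheme.{u}) (ψ : Y ⟶ S), IsFinite ψ ∧ Etale ψ ∧ Surjective ψ ∧
      IsSplit (n + 1) (pullback.snd φ ψ) := by
  have hsurj : Surjective φ :=
    (Scheme.Hom.one_le_finrank_iff_surjective φ).mp (fun s ↦ by rw [h]; simp)
  set Δ := pullback.diagonal φ with hΔ
  have hΔc : IsClosedImmersion Δ := inferInstance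
  let X' : (pullback φ φ).Opens :=
    ⟨(Set.range Δ)ᶜ, Δ.isClosedEmbedding.isClosed_range.isOpen_compl⟩
  have hX' : (X' : Set ↥(pullback φ φ)) = (Set.range Δ)ᶜ := rfl
  have clX' : IsClosedImmersion X'.ι := by
    refine IsClosedImmersion.of_isPreimmersion _ ?_
    rw [Scheme.Opens.range_ι, hX']
    exact Δ.isOpenEmbedding.isOpen_range.isClosed_compl
  set p₂ := pullback.snd φ φ with hp₂
  let φ' : ↑X' ⟶ X := X'.ι ≫ p₂
  have hrank : ∀ x, φ'.finrank x = n := fun x ↦ finrank_compl_diagonal φ n h X' hX' x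
  obtain ⟨Y, ψ', hψ'fin, hψ'et, hψ'surj, τ, hτsec, hτopen, hτdisj, hτcov⟩ := ih φ' hrank
  set ψ : Y ⟶ S := ψ' ≫ φ with hψ
  -- the comparison map `X ×_S Y ⟶ X ×_S X`
  let q : pullback φ ψ ⟶ pullback φ φ :=
    pullback.map φ ψ φ φ (𝟙 X) ψ' (𝟙 S) (by simp) (by simp [hψ])
  have hq₁ : q ≫ pullback.fst φ φ = pullback.fst φ ψ := by
    simp only [q, pullback.map, pullback.lift_fst, Category.comp_id]
  have hq₂ : q ≫ p₂ = pullback.snd φ ψ ≫ ψ' := by
    simp only [q, hp₂, pullback.map, pullback.lift_snd]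
  have sqq : IsPullback q (pullback.snd φ ψ) p₂ ψ' := by
    refine IsPullback.of_right ?_ hq₂ (IsPullback.of_hasPullback φ φ)
    rw [hq₁]
    exact IsPullback.of_hasPullback φ ψ
  -- the diagonal section
  let σ₀ : Y ⟶ pullback φ ψ := pullback.lift ψ' (𝟙 Y) (by simp [hψ])
  have hσ₀snd : σ₀ ≫ pullback.snd φ ψ = 𝟙 Y := pullback.lift_snd _ _ _
  have hσ₀q : σ₀ ≫ q = ψ' ≫ Δ := by
    apply pullback.hom_ext
    · rw [Category.assoc, hq₁, Category.assoc, hΔ, pullback.diagonal_fst, Category.comp_id]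
      exact pullback.lift_fst _ _ _
    · rw [Category.assoc, ← hp₂, hq₂, ← Category.assoc, hσ₀snd, Category.id_comp, Category.assoc,
        hΔ, hp₂, pullback.diagonal_snd, Category.comp_id]
  have sq2 : IsPullback ψ' σ₀ Δ q := by
    refine IsPullback.of_bot ?_ hσ₀q.symm sqq
    rw [hσ₀snd, hΔ, hp₂, pullback.diagonal_snd]
    exact IsPullback.of_vert_isIso ⟨by simp⟩
  have hσ₀open : IsOpenImmersion σ₀ := MorphismProperty.of_isPullback sq2 inferInstance
  have hσ₀range : Set.range σ₀ = q ⁻¹' Set.range Δ := range_snd_of_isPullback sq2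
  -- the complement part
  let m : pullback φ' ψ' ⟶ pullback φ ψ :=
    sqq.lift (pullback.fst φ' ψ' ≫ X'.ι) (pullback.snd φ' ψ') (by
      rw [Category.assoc]; exact pullback.condition)
  have hm₁ : m ≫ q = pullback.fst φ' ψ' ≫ X'.ι := sqq.lift_fst _ _ _
  have hm₂ : m ≫ pullback.snd φ ψ = pullback.snd φ' ψ' := sqq.lift_snd _ _ _
  have sq1 : IsPullback (pullback.fst φ' ψ') m X'.ι q := by
    refine IsPullback.of_bot ?_ hm₁.symm sqq
    rw [hm₂]
    exact IsPullback.of_hasPullback φ' ψ'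
  have hmopen : IsOpenImmersion m := MorphismProperty.of_isPullback sq1 inferInstance
  have hmrange : Set.range m = q ⁻¹' (Set.range Δ)ᶜ := by
    rw [range_snd_of_isPullback sq1, Scheme.Opens.range_ι, hX']
  have hτmrange : ∀ i, Set.range (τ i ≫ m) = m '' Set.range (τ i) := fun i ↦ by
    rw [Scheme.Hom.comp_base, TopCat.coe_comp, Set.range_comp]
  have hminj : Function.Injective m := m.isOpenEmbedding.injective
  refine ⟨Y, ψ, inferInstance, inferInstance, inferInstance,
    Fin.cons σ₀ (fun i ↦ τ i ≫ m), ?_, ?_, ?_, ?_⟩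
  · refine Fin.cases ?_ fun i ↦ ?_
    · exact hσ₀snd
    · simp only [Fin.cons_succ]
      rw [Category.assoc, hm₂, hτsec]
  · refine Fin.cases ?_ fun i ↦ ?_
    · exact hσ₀open
    · simp only [Fin.cons_succ]
      have := hτopen i
      infer_instance
  · have key : ∀ i : Fin n, Disjoint (Set.range σ₀) (Set.range (τ i ≫ m)) := fun i ↦ by
      rw [hσ₀range, hτmrange]
      refine Set.disjoint_left.mpr fun z hz hz' ↦ ?_
      obtain ⟨w, -, rfl⟩ := hz'
      have : m w ∈ Set.range m := ⟨w, rfl⟩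
      rw [hmrange] at this
      exact this hz
    refine Fin.cases ?_ fun i ↦ ?_
    · refine Fin.cases ?_ fun j ↦ ?_
      · intro hne; exact absurd rfl hne
      · intro _; simp only [Fin.cons_zero, Fin.cons_succ]; exact key j
    · refine Fin.cases ?_ fun j ↦ ?_
      · intro _; simp only [Fin.cons_zero, Fin.cons_succ]; exact (key i).symm
      · intro hne
        simp only [Fin.cons_succ]
        rw [hτmrange, hτmrange]
        have hij : i ≠ j := fun e ↦ hne (by rw [e])
        exact (Set.disjoint_image_iff hminj).mpr (hτdisj i j hij)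
  · rw [Set.eq_univ_iff_forall]
    intro z
    by_cases hz : q z ∈ Set.range Δ
    · refine Set.mem_iUnion.mpr ⟨0, ?_⟩
      simp only [Fin.cons_zero]
      rw [hσ₀range]; exact hz
    · have : z ∈ Set.range m := by rw [hmrange]; exact hz
      obtain ⟨w, rfl⟩ := this
      have hw : w ∈ ⋃ i, Set.range (τ i) := by rw [hτcov]; trivial
      obtain ⟨i, hi⟩ := Set.mem_iUnion.mp hw
      refine Set.mem_iUnion.mpr ⟨i.succ, ?_⟩
      simp only [Fin.cons_succ]
      rw [hτmrange]
      exact ⟨w, hi, rfl⟩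

end Groth.Agent.H21.FEtSplit

namespace Groth.Agent.H21.FEtSplit

/-- **Core splitting lemma.** A finite étale morphism of constant rank `n` becomes split of
degree `n` after base change along a finite étale surjective morphism. -/
theorem exists_split (n : ℕ) : ∀ {X S : Scheme.{u}} (φ : X ⟶ S) [IsFinite φ] [Etale φ],
    (∀ s, φ.finrank s = n) →
    ∃ (Y : Scheme.{u}) (ψ : Y ⟶ S), IsFinite ψ ∧ Etale ψ ∧ Surjective ψ ∧
      IsSplit n (pullback.snd φ ψ) := by
  induction n with
  | zero =>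
    intro X S φ _ _ h
    have hX : IsEmpty X := ⟨fun x ↦ by
      have := Scheme.Hom.one_le_finrank_map φ x
      rw [h] at this
      exact absurd this (by norm_num)⟩
    have : IsEmpty ↥(pullback φ (𝟙 S)) := Function.isEmpty (pullback.fst φ (𝟙 S))
    refine ⟨S, 𝟙 S, inferInstance, inferInstance, inferInstance, Fin.elim0, fun i ↦ i.elim0,
      fun i ↦ i.elim0, fun i ↦ i.elim0, ?_⟩
    rw [Set.eq_univ_iff_forall]
    exact fun x ↦ isEmptyElim x
  | succ n ih =>
    intro X S φ _ _ h
    exact exists_split_step n ih φ h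

/-- A split morphism of degree `n` is isomorphic to the trivial cover `∐_{Fin n} Y ⟶ Y`. -/
theorem IsSplit.exists_iso {n : ℕ} {Z Y : Scheme.{u}} {p : Z ⟶ Y} (hp : IsSplit n p) :
    ∃ e : Z ≅ ∐ fun _ : Fin n => Y, ∀ i : Fin n, Sigma.ι (fun _ : Fin n => Y) i ≫ e.inv ≫ p = 𝟙 Y := by
  obtain ⟨σ, hsec, hopen, hdisj, hcov⟩ := hp
  have hcov' : ⨆ i, (σ i).opensRange = ⊤ := by
    ext z
    simp only [Opens.coe_iSup, Scheme.Hom.coe_opensRange, Opens.coe_top, hcov]
  have hdisj' : Pairwise (Function.onFun Disjoint fun i ↦ (σ i).opensRange) := by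
    intro i j hij
    have := hdisj i j hij
    simp only [Function.onFun]
    rw [disjoint_iff]
    ext z
    simp only [Opens.coe_inf, Scheme.Hom.coe_opensRange, Opens.coe_bot, Set.mem_inter_iff,
      Set.mem_empty_iff_false, iff_false, not_and]
    exact fun h1 h2 ↦ Set.disjoint_left.mp this h1 h2
  obtain ⟨hc⟩ := nonempty_isColimit_cofanMk_of σ hcov' hdisj'
  let e : (∐ fun _ : Fin n => Y) ≅ Z :=
    IsColimit.coconePointUniqueUpToIso (coproductIsCoproduct _) hc
  refine ⟨e.symm, fun i ↦ ?_⟩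
  have : Sigma.ι (fun _ : Fin n => Y) i ≫ e.hom = σ i :=
    IsColimit.comp_coconePointUniqueUpToIso_hom (coproductIsCoproduct _) hc ⟨i⟩
  simp only [Iso.symm_inv]
  rw [← Category.assoc, this, hsec]

end Groth.Agent.H21.FEtSplit
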