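import Mathlib.AlgebraicGeometry.Morphisms.Etale
import Mathlib.AlgebraicGeometry.Morphisms.Separated
import Mathlib.AlgebraicGeometry.Morphisms.Proper
import Mathlib.AlgebraicGeometry.Morphisms.QuasiFinite
import Mathlib.RingTheory.Unramified.LocalStructure
import Mathlib.AlgebraicGeometry.PullbackCarrier
import Mathlib.FieldTheory.PurelyInseparable.Basic
import Groth.Agent.H21.UnramNhd
import Groth.Agent.H21.FEtSplit

/-!
# Transport tools for étale neighbourhoods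

Given `f : X ⟶ S`, an open `X' ⊆ X`, `g : U ⟶ S` and an open `U' ⊆ U`, we compare
`X' ×_S U`, `X' ×_S U'` and `X ×_S U'`, and transport families of opens of the first to the last
after shrinking `U`.
-/

set_option autoImplicit false
universe u
open CategoryTheory CategoryTheory.Limits AlgebraicGeometry TopologicalSpace

namespace Groth.Agent.H21.EtNbhd

variable {X S U : Scheme.{u}}

section Maps

variable (f : X ⟶ S) (g : U ⟶ S) (X' : X.Opens) (U' : U.Opens)

/-- The comparison map `X' ×_S U' ⟶ X' ×_S U`. -/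
noncomputable def m₁ : pullback (X'.ι ≫ f) (U'.ι ≫ g) ⟶ pullback (X'.ι ≫ f) g :=
  pullback.map _ _ _ _ (𝟙 _) U'.ι (𝟙 _) (by simp) (by simp)

/-- The comparison map `X' ×_S U' ⟶ X ×_S U'`. -/
noncomputable def m₂ : pullback (X'.ι ≫ f) (U'.ι ≫ g) ⟶ pullback f (U'.ι ≫ g) :=
  pullback.map _ _ _ _ X'.ι (𝟙 _) (𝟙 _) (by simp) (by simp)

instance : IsOpenImmersion (m₁ f g X' U') := by
  unfold m₁; infer_instance

instance : IsOpenImmersion (m₂ f g X' U') := by
  unfold m₂; infer_instance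

@[reassoc]
theorem m₁_fst : m₁ f g X' U' ≫ pullback.fst _ _ = pullback.fst _ _ := by
  simp only [m₁, pullback.map, pullback.lift_fst, Category.comp_id]

@[reassoc]
theorem m₁_snd : m₁ f g X' U' ≫ pullback.snd _ _ = pullback.snd _ _ ≫ U'.ι := by
  simp only [m₁, pullback.map, pullback.lift_snd]

@[reassoc]
theorem m₂_fst : m₂ f g X' U' ≫ pullback.fst _ _ = pullback.fst _ _ ≫ X'.ι := by
  simp only [m₂, pullback.map, pullback.lift_fst]

@[reassoc]
theorem m₂_snd : m₂ f g X' U' ≫ pullback.snd _ _ = pullback.snd _ _ := by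
  simp only [m₂, pullback.map, pullback.lift_snd, Category.comp_id]

theorem isPullback_m₁ :
    IsPullback (m₁ f g X' U') (pullback.snd (X'.ι ≫ f) (U'.ι ≫ g))
      (pullback.snd (X'.ι ≫ f) g) U'.ι := by
  refine IsPullback.of_right ?_ (m₁_snd f g X' U') (IsPullback.of_hasPullback (X'.ι ≫ f) g)
  rw [m₁_fst]
  exact IsPullback.of_hasPullback (X'.ι ≫ f) (U'.ι ≫ g)

theorem isPullback_m₂ :
    IsPullback (m₂ f g X' U') (pullback.fst (X'.ι ≫ f) (U'.ι ≫ g))
      (pullback.fst f (U'.ι ≫ g)) X'.ι := by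
  refine IsPullback.of_right ?_ (m₂_fst f g X' U') (IsPullback.of_hasPullback f (U'.ι ≫ g)).flip
  rw [m₂_snd]
  exact (IsPullback.of_hasPullback (X'.ι ≫ f) (U'.ι ≫ g)).flip

theorem range_m₁ :
    Set.range (m₁ f g X' U') = (pullback.snd (X'.ι ≫ f) g) ⁻¹' (U' : Set U) := by
  rw [FEtSplit.range_snd_of_isPullback (isPullback_m₁ f g X' U').flip, Scheme.Opens.range_ι]

theorem range_m₂ :
    Set.range (m₂ f g X' U') = (pullback.fst f (U'.ι ≫ g)) ⁻¹' (X' : Set X) := by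
  rw [FEtSplit.range_snd_of_isPullback (isPullback_m₂ f g X' U').flip, Scheme.Opens.range_ι]

end Maps

/-- If the restriction of `h` over an open `U₀` has a base-change-stable property `P`, then so does
every base change of `h` along a morphism factoring through `U₀`. -/
theorem of_isPullback_of_restrict (P : MorphismProperty Scheme.{u}) [P.IsStableUnderBaseChange]
    {V T Z : Scheme.{u}} (h : V ⟶ U) (U₀ : U.Opens) (hP : P (h ∣_ U₀))
    {a : Z ⟶ V} {b : Z ⟶ T} {c : T ⟶ U} (sq : IsPullback a b h c)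
    (hc : Set.range c ⊆ (U₀ : Set U)) : P b := by
  have hbot : IsPullback (h ∣_ U₀) (h ⁻¹ᵁ U₀).ι U₀.ι h := isPullback_morphismRestrict h U₀
  let c₀ : T ⟶ U₀ := IsOpenImmersion.lift U₀.ι c (by rwa [Scheme.Opens.range_ι])
  have hc₀ : c₀ ≫ U₀.ι = c := IsOpenImmersion.lift_fac _ _ _
  let a₀ : Z ⟶ (h ⁻¹ᵁ U₀) := hbot.lift (b ≫ c₀) a (by rw [Category.assoc, hc₀, sq.w])
  have ha₀₁ : a₀ ≫ (h ∣_ U₀) = b ≫ c₀ := hbot.lift_fst _ _ _
  have ha₀₂ : a₀ ≫ (h ⁻¹ᵁ U₀).ι = a := hbot.lift_snd _ _ _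
  have top : IsPullback b a₀ c₀ (h ∣_ U₀) := by
    refine IsPullback.of_bot ?_ ha₀₁.symm hbot
    rw [ha₀₂, hc₀]
    exact sq.flip
  exact MorphismProperty.of_isPullback top.flip hP

section Shrink

variable (f : X ⟶ S) (g : U ⟶ S) (X' : X.Opens)

/-- The transported open of `X ×_S U'`. -/
noncomputable abbrev transp (U' : U.Opens) (V' : (pullback (X'.ι ≫ f) g).Opens) :
    (pullback f (U'.ι ≫ g)).Opens :=
  (m₂ f g X' U') ''ᵁ ((m₁ f g X' U') ⁻¹ᵁ V')

theorem mem_transp_iff (U' : U.Opens) (V' : (pullback (X'.ι ≫ f) g).Opens)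
    (w : ↑(pullback f (U'.ι ≫ g))) :
    w ∈ transp f g X' U' V' ↔
      ∃ q : ↑(pullback (X'.ι ≫ f) (U'.ι ≫ g)), m₂ f g X' U' q = w ∧ m₁ f g X' U' q ∈ V' := by
  constructor
  · rintro ⟨q, hq, rfl⟩
    exact ⟨q, rfl, hq⟩
  · rintro ⟨q, rfl, hq⟩
    exact ⟨q, hq, rfl⟩

theorem transp_property (P : MorphismProperty Scheme.{u}) [P.IsStableUnderBaseChange]
    (U' : U.Opens) (V' : (pullback (X'.ι ≫ f) g).Opens) (U₀ : U.Opens) (hU : U' ≤ U₀)
    (hP : P (((V').ι ≫ pullback.snd (X'.ι ≫ f) g) ∣_ U₀)) :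
    P ((transp f g X' U' V').ι ≫ pullback.snd f (U'.ι ≫ g)) := by
  let T := (m₁ f g X' U') ⁻¹ᵁ V'
  have h1 : IsPullback (m₁ f g X' U' ∣_ V') T.ι V'.ι (m₁ f g X' U') :=
    isPullback_morphismRestrict _ _
  have h2 := h1.paste_vert (isPullback_m₁ f g X' U')
  have h3 : P (T.ι ≫ pullback.snd (X'.ι ≫ f) (U'.ι ≫ g)) :=
    of_isPullback_of_restrict P _ U₀ hP h2 (by
      rw [Scheme.Opens.range_ι]; exact hU)
  have h4 : (transp f g X' U' V').ι ≫ pullback.snd f (U'.ι ≫ g) =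
      ((m₂ f g X' U').isoImage T).inv ≫ T.ι ≫ pullback.snd (X'.ι ≫ f) (U'.ι ≫ g) := by
    rw [Iso.eq_inv_comp, ← m₂_snd f g X' U', ← Category.assoc, ← Category.assoc]
    congr 1
    exact Scheme.Hom.isoImage_hom_ι _ _
  rw [h4, P.cancel_left_of_respectsIso]
  exact h3

theorem m₁_fst_apply (U' : U.Opens) (q : ↑(pullback (X'.ι ≫ f) (U'.ι ≫ g))) :
    pullback.fst (X'.ι ≫ f) g (m₁ f g X' U' q) = pullback.fst (X'.ι ≫ f) (U'.ι ≫ g) q := by
  rw [← Scheme.Hom.comp_apply, m₁_fst]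

theorem m₁_snd_apply (U' : U.Opens) (q : ↑(pullback (X'.ι ≫ f) (U'.ι ≫ g))) :
    pullback.snd (X'.ι ≫ f) g (m₁ f g X' U' q) =
      U'.ι (pullback.snd (X'.ι ≫ f) (U'.ι ≫ g) q) := by
  rw [← Scheme.Hom.comp_apply, m₁_snd, Scheme.Hom.comp_apply]

theorem m₂_fst_apply (U' : U.Opens) (q : ↑(pullback (X'.ι ≫ f) (U'.ι ≫ g))) :
    pullback.fst f (U'.ι ≫ g) (m₂ f g X' U' q) =
      X'.ι (pullback.fst (X'.ι ≫ f) (U'.ι ≫ g) q) := by
  rw [← Scheme.Hom.comp_apply, m₂_fst, Scheme.Hom.comp_apply]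

theorem m₂_snd_apply (U' : U.Opens) (q : ↑(pullback (X'.ι ≫ f) (U'.ι ≫ g))) :
    pullback.snd f (U'.ι ≫ g) (m₂ f g X' U' q) = pullback.snd (X'.ι ≫ f) (U'.ι ≫ g) q := by
  rw [← Scheme.Hom.comp_apply, m₂_snd]

end Shrink

/-- Transport of étale-neighbourhood data from `X' ×_S U` to `X ×_S U'` for a small enough open
neighbourhood `U'` of `u`. -/
theorem exists_of_data (f : X ⟶ S) (s : S) {ι : Type} (x : ι → X) (X' : X.Opens)
    (hxX' : ∀ i, x i ∈ X') (g : U ⟶ S) [Etale g] (u : U) (hu : g u = s)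
    (P : MorphismProperty Scheme.{u}) [P.IsStableUnderBaseChange]
    {K : Type} [Finite K] (lab : K → ι) (V' : K → (pullback (X'.ι ≫ f) g).Opens)
    (v' : K → ↑(pullback (X'.ι ≫ f) g))
    (hv : ∀ k, v' k ∈ V' k ∧ pullback.snd (X'.ι ≫ f) g (v' k) = u ∧
      ∀ w, w ∈ V' k → pullback.snd (X'.ι ≫ f) g w = u → w = v' k)
    (hinj : ∀ k k', v' k = v' k' → k = k')
    (hcov : ∀ (w : ↑(pullback (X'.ι ≫ f) g)) (i : ι), pullback.snd (X'.ι ≫ f) g w = u →
      X'.ι (pullback.fst (X'.ι ≫ f) g w) = x i → ∃ k, lab k = i ∧ w ∈ V' k)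
    (hP : ∀ k, ∃ U₀ : U.Opens, u ∈ U₀ ∧ P (((V' k).ι ≫ pullback.snd (X'.ι ≫ f) g) ∣_ U₀)) :
    ∃ (U₁ : Scheme.{u}) (g₁ : U₁ ⟶ S) (u₁ : U₁), Etale g₁ ∧ g₁ u₁ = s ∧
      ∃ (V : K → (pullback f g₁).Opens),
        (∀ k, P ((V k).ι ≫ pullback.snd f g₁) ∧ ∃ w, w ∈ V k ∧ pullback.snd f g₁ w = u₁) ∧
        (∀ k k' w, w ∈ V k → w ∈ V k' → pullback.snd f g₁ w = u₁ → k = k') ∧
        (∀ w i, pullback.snd f g₁ w = u₁ → pullback.fst f g₁ w = x i →
          ∃ k, lab k = i ∧ w ∈ V k) ∧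
        ((∀ k k', k ≠ k' → Disjoint (V' k) (V' k')) → ∀ k k', k ≠ k' → Disjoint (V k) (V k')) := by
  choose U₀ hu₀ hP₀ using hP
  let U' : U.Opens := ⟨⋂ k, (U₀ k : Set U), isOpen_iInter_of_finite fun k => (U₀ k).isOpen⟩
  have huU' : u ∈ U' := Set.mem_iInter.2 hu₀
  have hle : ∀ k, U' ≤ U₀ k := fun k w hw => Set.mem_iInter.1 hw k
  let u₁ : U'.toScheme := ⟨u, huU'⟩
  have hιu₁ : U'.ι u₁ = u := rfl
  have hιinj : Function.Injective U'.ι := U'.ι.isOpenEmbedding.injective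
  have hM₂inj : Function.Injective (m₂ f g X' U') := (m₂ f g X' U').isOpenEmbedding.injective
  refine ⟨U'.toScheme, U'.ι ≫ g, u₁, inferInstance, ?_, fun k => transp f g X' U' (V' k),
    fun k => ⟨transp_property f g X' P U' (V' k) (U₀ k) (hle k) (hP₀ k), ?_⟩, ?_, ?_, ?_⟩
  · rw [Scheme.Hom.comp_apply, hιu₁, hu]
  · -- a point of `V k` over `u₁`
    have hmem : v' k ∈ Set.range (m₁ f g X' U') := by
      rw [range_m₁]
      show pullback.snd (X'.ι ≫ f) g (v' k) ∈ U'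
      rw [(hv k).2.1]
      exact huU'
    obtain ⟨q, hq⟩ := hmem
    refine ⟨m₂ f g X' U' q, (mem_transp_iff f g X' U' _ _).2 ⟨q, rfl, ?_⟩, ?_⟩
    · rw [hq]; exact (hv k).1
    · rw [m₂_snd_apply]
      apply hιinj
      rw [← m₁_snd_apply, hq, (hv k).2.1, hιu₁]
  · intro k k' w hk hk' hw
    obtain ⟨q, rfl, hq⟩ := (mem_transp_iff f g X' U' _ _).1 hk
    obtain ⟨q', hq'w, hq'⟩ := (mem_transp_iff f g X' U' _ _).1 hk'
    obtain rfl : q' = q := hM₂inj hq'w
    have hsnd : pullback.snd (X'.ι ≫ f) g (m₁ f g X' U' q') = u := by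
      rw [m₁_snd_apply, ← m₂_snd_apply, hw, hιu₁]
    exact hinj k k' (((hv k).2.2 _ hq hsnd).symm.trans ((hv k').2.2 _ hq' hsnd))
  · intro w i hw hwx
    have hmem : w ∈ Set.range (m₂ f g X' U') := by
      rw [range_m₂]
      show pullback.fst f (U'.ι ≫ g) w ∈ X'
      rw [hwx]
      exact hxX' i
    obtain ⟨q, rfl⟩ := hmem
    have hsnd : pullback.snd (X'.ι ≫ f) g (m₁ f g X' U' q) = u := by
      rw [m₁_snd_apply, ← m₂_snd_apply, hw, hιu₁]
    have hfst : X'.ι (pullback.fst (X'.ι ≫ f) g (m₁ f g X' U' q)) = x i := by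
      rw [m₁_fst_apply, ← m₂_fst_apply, hwx]
    obtain ⟨k, hk, hqk⟩ := hcov _ i hsnd hfst
    exact ⟨k, hk, (mem_transp_iff f g X' U' _ _).2 ⟨q, rfl, hqk⟩⟩
  · intro hd k k' hkk'
    rw [disjoint_iff_inf_le]
    rintro w ⟨hk, hk'⟩
    obtain ⟨q, rfl, hq⟩ := (mem_transp_iff f g X' U' _ _).1 hk
    obtain ⟨q', hq'w, hq'⟩ := (mem_transp_iff f g X' U' _ _).1 hk'
    obtain rfl : q' = q := hM₂inj hq'w
    exact (hd k k' hkk').le_bot ⟨hq, hq'⟩

/-- A property local at the source holds on a union of opens as soon as it holds on each. -/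
theorem of_iSup_ι_comp (P : MorphismProperty Scheme.{u}) [IsZariskiLocalAtSource P]
    {ι : Type*} (W : ι → X.Opens) (f : X ⟶ S) (H : ∀ i, P ((W i).ι ≫ f)) :
    P ((⨆ i, W i).ι ≫ f) := by
  refine IsZariskiLocalAtSource.of_iSup_eq_top (fun i => (⨆ i, W i).ι ⁻¹ᵁ W i) ?_ fun i => ?_
  · rw [← Scheme.Hom.preimage_iSup, Scheme.Opens.ι_preimage_self]
  · have hr : Set.range (((⨆ i, W i).ι ⁻¹ᵁ W i).ι ≫ (⨆ i, W i).ι) ⊆ Set.range (W i).ι := by
      rintro _ ⟨y, rfl⟩
      rw [Scheme.Opens.range_ι]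
      exact y.2
    have hfac := IsOpenImmersion.lift_fac (W i).ι
      (((⨆ i, W i).ι ⁻¹ᵁ W i).ι ≫ (⨆ i, W i).ι) hr
    have : IsOpenImmersion (IsOpenImmersion.lift (W i).ι
        (((⨆ i, W i).ι ⁻¹ᵁ W i).ι ≫ (⨆ i, W i).ι) hr ≫ (W i).ι) := by
      rw [hfac]; infer_instance
    have : IsOpenImmersion (IsOpenImmersion.lift (W i).ι
        (((⨆ i, W i).ι ⁻¹ᵁ W i).ι ≫ (⨆ i, W i).ι) hr) := IsOpenImmersion.of_comp _ (W i).ι
    rw [← Category.assoc, ← hfac, Category.assoc]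
    exact IsZariskiLocalAtSource.comp (H i) _

/-- For an unramified morphism, a purely inseparable residue field extension is trivial. -/
theorem surjective_residueFieldMap_of_isPurelyInseparable {V : Scheme.{u}} (h : V ⟶ U)
    [LocallyOfFiniteType h] [FormallyUnramified h] (v : V)
    (hpi : letI := (h.residueFieldMap v).hom.toAlgebra
      IsPurelyInseparable (U.residueField (h v)) (V.residueField v)) :
    Function.Surjective (h.residueFieldMap v).hom := by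
  let := (h.residueFieldMap v).hom.toAlgebra
  have hsep : Algebra.IsSeparable (U.residueField (h v)) (V.residueField v) := inferInstance
  exact IsPurelyInseparable.surjective_algebraMap_of_isSeparable _ _

theorem locallyQuasiFinite_of_unramified' {X Y : Scheme.{u}} (f : X ⟶ Y) [LocallyOfFiniteType f]
    [FormallyUnramified f] : LocallyQuasiFinite f := by
  refine ⟨fun {U} hU {V} hV e => ?_⟩
  have h1 : (f.appLE U V e).hom.FiniteType := f.finiteType_appLE hU hV e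
  have h2 : (f.appLE U V e).hom.FormallyUnramified := f.formallyUnramified_appLE hU hV e
  algebraize [(f.appLE U V e).hom]
  have : Algebra.QuasiFinite Γ(Y, U) Γ(X, V) := inferInstance
  exact this

section Nhd

variable {P₁ : Scheme.{u}} (p : P₁ ⟶ U) (V' : P₁.Opens) (u : U) (v : P₁)

theorem preimage_singleton_eq (v₀ : V'.toScheme) (hpv : p (V'.ι v₀) = u)
    (huniq : ∀ w, w ∈ V' → p w = u → w = V'.ι v₀) :
    (V'.ι ≫ p) ⁻¹' {u} = {v₀} := by
  ext w
  simp only [Set.mem_preimage, Set.mem_singleton_iff]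
  constructor
  · intro hw
    exact V'.ι.isOpenEmbedding.injective (huniq (V'.ι w) w.2 hw)
  · rintro rfl
    exact hpv

theorem surjective_residueFieldMap_ι_comp [LocallyOfFiniteType p] [FormallyUnramified p]
    (v₀ : V'.toScheme)
    (hpi : letI := (p.residueFieldMap (V'.ι v₀)).hom.toAlgebra
      IsPurelyInseparable (U.residueField (p (V'.ι v₀))) (P₁.residueField (V'.ι v₀))) :
    Function.Surjective ((V'.ι ≫ p).residueFieldMap v₀) := by
  have h1 : Function.Surjective (p.residueFieldMap (V'.ι v₀)).hom :=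
    surjective_residueFieldMap_of_isPurelyInseparable p (V'.ι v₀) hpi
  have h2 : Function.Surjective (V'.ι.residueFieldMap v₀) :=
    (ConcreteCategory.bijective_of_isIso _).2
  have h3 := Scheme.residueFieldMap_comp V'.ι p v₀
  rw [h3]
  exact h2.comp h1

theorem formallyUnramified_ι_comp [FormallyUnramified p] : FormallyUnramified (V'.ι ≫ p) :=
  MorphismProperty.comp_mem _ _ _ inferInstance inferInstance

/-- An open `V'` of an unramified `U`-scheme which is finite over `U` with exactly one point over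
`u`, with purely inseparable residue field extension, is a closed subscheme of `U` near `u`. -/
theorem exists_nhd_restrict_isClosedImmersion [LocallyOfFiniteType p] [FormallyUnramified p]
    [IsFinite (V'.ι ≫ p)] (hv : v ∈ V') (hpv : p v = u)
    (huniq : ∀ w, w ∈ V' → p w = u → w = v)
    (hpi : letI := (p.residueFieldMap v).hom.toAlgebra
      IsPurelyInseparable (U.residueField (p v)) (P₁.residueField v)) :
    ∃ U₀ : U.Opens, u ∈ U₀ ∧ IsClosedImmersion ((V'.ι ≫ p) ∣_ U₀) := by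
  have := formallyUnramified_ι_comp p V'
  let v₀ : V'.toScheme := ⟨v, hv⟩
  exact exists_nhd_isClosedImmersion_of_finite_unramified (V'.ι ≫ p) u v₀
    (preimage_singleton_eq p V' u v₀ hpv huniq)
    (surjective_residueFieldMap_ι_comp p V' v₀ hpi)

/-- Étale version: the open `V'` maps isomorphically to `U` near `u`. -/
theorem exists_nhd_restrict_isIso [Etale p]
    [IsFinite (V'.ι ≫ p)] (hv : v ∈ V') (hpv : p v = u)
    (huniq : ∀ w, w ∈ V' → p w = u → w = v)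
    (hpi : letI := (p.residueFieldMap v).hom.toAlgebra
      IsPurelyInseparable (U.residueField (p v)) (P₁.residueField v)) :
    ∃ U₀ : U.Opens, u ∈ U₀ ∧ MorphismProperty.isomorphisms Scheme.{u} ((V'.ι ≫ p) ∣_ U₀) := by
  let v₀ : V'.toScheme := ⟨v, hv⟩
  obtain ⟨U₀, h1, h2⟩ := exists_nhd_isIso_of_finite_etale (V'.ι ≫ p) u v₀
    (preimage_singleton_eq p V' u v₀ hpv huniq)
    (surjective_residueFieldMap_ι_comp p V' v₀ hpi)
  exact ⟨U₀, h1, h2⟩

end Nhd

/-- An open subscheme which is universally closed over the base of a separated morphism is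
closed. -/
theorem isClosed_of_universallyClosed_ι_comp {Z Y : Scheme.{u}} (p : Z ⟶ Y) [IsSeparated p]
    (V : Z.Opens) [UniversallyClosed (V.ι ≫ p)] : IsClosed (V : Set Z) := by
  have : UniversallyClosed V.ι := UniversallyClosed.of_comp_of_isSeparated V.ι p
  have := V.ι.isClosedMap.isClosed_range
  rwa [Scheme.Opens.range_ι] at this

/-- The complement of a finite family of clopen opens. -/
theorem exists_compl_of_isClosed {Z : Scheme.{u}} {K : Type} [Finite K] (V : K → Z.Opens)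
    (hcl : ∀ k, IsClosed (V k : Set Z)) :
    ∃ W : Z.Opens, W ⊔ (⨆ k, V k) = ⊤ ∧ (∀ k, Disjoint W (V k)) ∧
      ∀ w, w ∈ W ↔ ∀ k, w ∉ V k := by
  refine ⟨⟨(⋃ k, (V k : Set Z))ᶜ, (isClosed_iUnion_of_finite hcl).isOpen_compl⟩, ?_, ?_, ?_⟩
  · rw [eq_top_iff]
    intro w _
    by_cases hw : w ∈ ⋃ k, (V k : Set Z)
    · obtain ⟨k, hk⟩ := Set.mem_iUnion.1 hw
      exact (le_sup_right : (⨆ k, V k) ≤ _) ((le_iSup V k : V k ≤ _) hk)
    · exact (le_sup_left : _ ≤ _ ⊔ (⨆ k, V k)) hw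
  · intro k
    rw [disjoint_iff_inf_le]
    rintro w ⟨hw, hk⟩
    exact (hw (Set.mem_iUnion.2 ⟨k, hk⟩)).elim
  · intro w
    show w ∉ (⋃ k, (V k : Set Z)) ↔ _
    simp

end Groth.Agent.H21.EtNbhd
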