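import Groth.Agent.H21.AlgDecomp
import Groth.Agent.H21.EtNbhd

/-!
# Multi-piece product decomposition from a clopen decomposition of `Spec T`
-/

set_option autoImplicit false
universe u
open CategoryTheory AlgebraicGeometry

namespace Groth.Agent.H21.AlgDecomp

section Alg

variable {R' T : Type*} [CommRing R'] [CommRing T] [Algebra R' T]

/-- Orthogonal idempotents `e i` split `T` as `∏ T/(1 - e i) × T/(∑ e i)`. -/
theorem bijective_prod_pi {n : ℕ} (e : Fin n → T) (he : OrthogonalIdempotents e) :
    Function.Bijective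
      ((AlgHom.pi (R := R') (A := fun i => T ⧸ Ideal.span {1 - e i})
          (fun i => Ideal.Quotient.mkₐ R' (Ideal.span {1 - e i}))).prod
        (Ideal.Quotient.mkₐ R' (Ideal.span {1 - (1 - ∑ i, e i)}))) := by
  have hc := CompleteOrthogonalIdempotents.option he
  have hbij := hc.bijective_pi
  constructor
  · intro t t' h
    apply hbij.1
    funext o
    cases o with
    | none => exact congrArg Prod.snd h
    | some i => exact congrFun (congrArg Prod.fst h) i
  · rintro ⟨a, b⟩
    obtain ⟨t, ht⟩ := hbij.2 (fun o => match o with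
      | none => b
      | some i => a i)
    refine ⟨t, Prod.ext ?_ ?_⟩
    · funext i
      exact congrFun ht (some i)
    · exact congrFun ht none

end Alg

section Multi

variable {R' T : Type u} [CommRing R'] [CommRing T] [Algebra R' T]

set_option backward.isDefEq.respectTransparency.types false in
/-- The multi-piece decomposition. -/
theorem exists_prod_decomposition_multi (p' : PrimeSpectrum R') {K : Type} [Finite K]
    (W : (Spec (.of T)).Opens) (V : K → (Spec (.of T)).Opens)
    (hcov : W ⊔ (⨆ k, V k) = ⊤)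
    (hVV : ∀ k k', k ≠ k' → Disjoint (V k) (V k'))
    (hV : ∀ k, IsClosedImmersion ((V k).ι ≫ Spec.map (CommRingCat.ofHom (algebraMap R' T))) ∧
      ∃ z : ↥(Spec (.of T)), z ∈ V k ∧ PrimeSpectrum.comap (algebraMap R' T) z = p')
    (hW : ∀ z : ↥(Spec (.of T)), z ∈ W → PrimeSpectrum.comap (algebraMap R' T) z ≠ p') :
    ∃ (n : ℕ) (A : Fin n → Type u) (_ : ∀ i, CommRing (A i))
      (_ : ∀ i, Algebra R' (A i)) (B : Type u) (_ : CommRing B) (_ : Algebra R' B),
      Nonempty (T ≃ₐ[R'] ((∀ i, A i) × B)) ∧
        (∀ i, Function.Surjective (algebraMap R' (A i)) ∧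
          (p'.asIdeal.map (algebraMap R' (A i))).IsPrime ∧
          (p'.asIdeal.map (algebraMap R' (A i))).comap (algebraMap R' (A i)) = p'.asIdeal) ∧
        ∀ (q : Ideal B) [q.IsPrime], q.comap (algebraMap R' B) ≠ p'.asIdeal := by
  classical
  let n := Nat.card K
  let eK : K ≃ Fin n := Finite.equivFin K
  let V' : Fin n → (Spec (.of T)).Opens := fun i => V (eK.symm i)
  have hcl : ∀ i, IsClosed (V' i : Set ↥(Spec (.of T))) := fun i => by
    have := (hV (eK.symm i)).1
    exact Groth.Agent.H21.EtNbhd.isClosed_of_universallyClosed_ι_comp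
      (Spec.map (CommRingCat.ofHom (algebraMap R' T))) (V' i)
  choose e he hVe using fun i => exists_idempotent_of_isClopen (V' i) (hcl i)
  have hmem : ∀ i (z : ↥(Spec (.of T))), z ∈ V' i ↔ e i ∉ PrimeSpectrum.asIdeal z := fun i z => by
    rw [hVe i]; exact Iff.rfl
  have hortho : OrthogonalIdempotents e := by
    refine ⟨he, fun i j hij => ?_⟩
    refine PrimeSpectrum.basicOpen_injOn_isIdempotentElem ((he i).mul (he j))
      IsIdempotentElem.zero ?_
    ext z
    simp only [PrimeSpectrum.basicOpen_zero]
    constructor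
    · intro hz
      have hz' : e i * e j ∉ z.asIdeal := hz
      have h1 : z ∈ V' i := (hmem i z).2 fun h => hz' (z.asIdeal.mul_mem_right _ h)
      have h2 : z ∈ V' j := (hmem j z).2 fun h => hz' (z.asIdeal.mul_mem_left _ h)
      exact ((hVV _ _ fun h => hij (eK.symm.injective h)).le_bot ⟨h1, h2⟩).elim
    · intro hz
      exact hz.elim
  have hbij := bijective_prod_pi (R' := R') e hortho
  refine ⟨n, fun i => T ⧸ Ideal.span {1 - e i}, fun i => inferInstance, fun i => inferInstance,
    T ⧸ Ideal.span {1 - (1 - ∑ i, e i)}, inferInstance, inferInstance,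
    ⟨AlgEquiv.ofBijective _ hbij⟩, fun i => ?_, ?_⟩
  · obtain ⟨z, hzV, hzp⟩ := (hV (eK.symm i)).2
    have hsurj := surjective_of_isClosedImmersion (R' := R') (e i) (he i) (V' i) (hVe i)
      (hV (eK.symm i)).1
    have hzprime : (PrimeSpectrum.asIdeal z).IsPrime := PrimeSpectrum.isPrime z
    obtain ⟨h1, h2, -⟩ := prime_of_surjective (e i) (he i) hsurj p'.asIdeal
      (PrimeSpectrum.asIdeal z) ((hmem i z).1 hzV) (congrArg PrimeSpectrum.asIdeal hzp)
    exact ⟨hsurj, h1, h2⟩
  · intro q hq heq
    let P : Ideal T := q.comap (Ideal.Quotient.mk (Ideal.span {1 - (1 - ∑ i, e i)}))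
    have hPprime : P.IsPrime := Ideal.comap_isPrime _ _
    let zP : PrimeSpectrum T := ⟨P, hPprime⟩
    have hsum : ∑ i, e i ∈ P := by
      change Ideal.Quotient.mk _ (∑ i, e i) ∈ q
      have : Ideal.Quotient.mk (Ideal.span {1 - (1 - ∑ i, e i)}) (∑ i, e i) = 0 := by
        rw [Ideal.Quotient.eq_zero_iff_mem]
        have : (∑ i, e i) = 1 - (1 - ∑ i, e i) := by ring
        rw [this]
        exact Ideal.subset_span (by simp)
      rw [this]
      exact q.zero_mem
    have hei : ∀ i, e i ∈ P := fun i => by
      have : e i = e i * ∑ j, e j := by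
        rw [Finset.mul_sum, Finset.sum_eq_single i]
        · exact (he i).eq.symm
        · intro j _ hji
          exact hortho.ortho (Ne.symm hji)
        · intro h
          exact (h (Finset.mem_univ i)).elim
      rw [this]
      exact P.mul_mem_left _ hsum
    have hzW : (show ↥(Spec (.of T)) from zP) ∈ W := by
      have hz : (show ↥(Spec (.of T)) from zP) ∈ W ⊔ (⨆ k, V k) := by rw [hcov]; trivial
      rcases hz with h | h
      · exact h
      · obtain ⟨k, hk⟩ := TopologicalSpace.Opens.mem_iSup.1 h
        have hk' : (show ↥(Spec (.of T)) from zP) ∈ V' (eK k) := by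
          change _ ∈ V (eK.symm (eK k))
          rwa [Equiv.symm_apply_apply]
        exact ((hmem (eK k) _).1 hk' (hei (eK k))).elim
    refine hW _ hzW (PrimeSpectrum.ext ?_)
    rw [← heq]
    change P.comap (algebraMap R' T) = _
    rw [Ideal.comap_comap]
    rfl

end Multi

end Groth.Agent.H21.AlgDecomp
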