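import Groth.Agent.H21.AnBasic
import Mathlib.RingTheory.Ideal.Maps
import Mathlib.Topology.Algebra.MvPolynomial
import Mathlib.Analysis.Complex.Basic

open AlgebraicGeometry CategoryTheory TopologicalSpace Opposite An Topology

namespace Groth.Agent.H21

noncomputable section

variable {X : Scheme.{0}} [X.Over SC]

/-- The map to `ℂⁿ` given by an `n`-tuple of global sections. -/
def genMap {n : ℕ} (s : Fin n → Γ(X, ⊤)) : Pts X → (Fin n → ℂ) := fun x i => x.evTop (s i)

lemma evTop_eval₂Hom {n : ℕ} (s : Fin n → Γ(X, ⊤)) (x : Pts X) (P : MvPolynomial (Fin n) ℂ) :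
    x.evTop (MvPolynomial.eval₂Hom (strHom X) s P) = MvPolynomial.eval (genMap s x) P := by
  have : (evHom x ⊤ (Opens.mem_top _)).comp (MvPolynomial.eval₂Hom (strHom X) s)
      = MvPolynomial.eval (genMap s x) := by
    apply MvPolynomial.ringHom_ext
    · intro c
      simp only [RingHom.coe_comp, Function.comp_apply, MvPolynomial.eval₂Hom_C, MvPolynomial.eval_C]
      exact evTop_strHom x c
    · intro i
      simp only [RingHom.coe_comp, Function.comp_apply, MvPolynomial.eval₂Hom_X', MvPolynomial.eval_X]
      rfl
  exact congrArg (fun φ => φ P) this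

lemma continuous_genMap {n : ℕ} (s : Fin n → Γ(X, ⊤)) : Continuous (genMap s) :=
  continuous_pi (fun i => continuous_evTop (s i))

theorem isClosedEmbedding_genMap [IsAffine X] {n : ℕ} (s : Fin n → Γ(X, ⊤))
    (hs : Function.Surjective (MvPolynomial.eval₂Hom (strHom X) s)) :
    Topology.IsClosedEmbedding (genMap s) := by
  set π := MvPolynomial.eval₂Hom (strHom X) s with hπ
  -- choose polynomial representatives
  choose rep hrep using hs
  let Φ : (Fin n → ℂ) → (Γ(X, ⊤) → ℂ) := fun v f => MvPolynomial.eval v (rep f)
  have hΦ : Continuous Φ := continuous_pi (fun f => MvPolynomial.continuous_eval (rep f))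
  have hcomp : Φ ∘ genMap s = evMap X := by
    funext x f
    simp only [Function.comp_apply, Φ, evMap]
    rw [← evTop_eval₂Hom, hrep]
  have hind : Topology.IsInducing (genMap s) := by
    apply Topology.IsInducing.of_comp (continuous_genMap s) hΦ
    rw [hcomp]
    exact isInducing_evMap
  have hinj : Function.Injective (genMap s) := by
    intro x y hxy
    apply isEmbedding_evMap.injective
    rw [← hcomp]
    simp only [Function.comp_apply, hxy]
  refine ⟨⟨hind, hinj⟩, ?_⟩
  -- closed range
  have hrange : Set.range (genMap s)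
      = ⋂ P ∈ {P : MvPolynomial (Fin n) ℂ | π P = 0}, {v | MvPolynomial.eval v P = 0} := by
    ext v
    simp only [Set.mem_range, Set.mem_iInter, Set.mem_ofPred_eq]
    constructor
    · rintro ⟨x, rfl⟩ P hP
      rw [← evTop_eval₂Hom, hP]
      exact ev_zero x ⊤ _
    · intro hv
      have hker : ∀ P, P ∈ RingHom.ker π → P ∈ RingHom.ker (MvPolynomial.eval v) := by
        intro P hP
        exact hv P hP
      let φ : Γ(X, ⊤) →+* ℂ := RingHom.liftOfSurjective π (fun f => ⟨rep f, hrep f⟩)
        ⟨MvPolynomial.eval v, hker⟩
      have hφπ : ∀ P, φ (π P) = MvPolynomial.eval v P := fun P =>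
        RingHom.liftOfSurjective_comp_apply π _ _ P
      have hφ : ∀ c, φ (strHom X c) = c := by
        intro c
        have := hφπ (MvPolynomial.C c)
        simpa [hπ] using this
      refine ⟨ptsOfHom φ hφ, ?_⟩
      funext i
      simp only [genMap]
      rw [ptsOfHom_evTop]
      have := hφπ (MvPolynomial.X i)
      simpa [hπ] using this
  rw [hrange]
  apply isClosed_biInter
  intro P _
  exact isClosed_eq (MvPolynomial.continuous_eval P) continuous_const

end

end Groth.Agent.H21
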