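import Groth.Prelude.Def_AnPts
import Mathlib.AlgebraicGeometry.AffineScheme
import Mathlib.AlgebraicGeometry.Morphisms.FiniteType

open AlgebraicGeometry CategoryTheory TopologicalSpace Opposite An Topology

namespace Groth.Agent.H21

noncomputable section

variable {X : Scheme.{0}} [X.Over SC]

/-- Evaluation at a complex point as a ring homomorphism. -/
def evHom (x : Pts X) (U : X.Opens) (h : x.pt ∈ U) : Γ(X, U) →+* ℂ :=
  (Scheme.ΓSpecIso (CommRingCat.of ℂ)).hom.hom.comp (x.1.appLE U ⊤ (Pts.top_le_preimage x h)).hom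

lemma evHom_apply (x : Pts X) (U : X.Opens) (h : x.pt ∈ U) (f : Γ(X, U)) :
    evHom x U h f = x.ev U h f := rfl

lemma ev_add (x : Pts X) (U : X.Opens) (h : x.pt ∈ U) (f g : Γ(X, U)) :
    x.ev U h (f + g) = x.ev U h f + x.ev U h g := map_add (evHom x U h) f g

lemma ev_mul (x : Pts X) (U : X.Opens) (h : x.pt ∈ U) (f g : Γ(X, U)) :
    x.ev U h (f * g) = x.ev U h f * x.ev U h g := map_mul (evHom x U h) f g

lemma ev_one (x : Pts X) (U : X.Opens) (h : x.pt ∈ U) :
    x.ev U h 1 = 1 := map_one (evHom x U h)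

lemma ev_zero (x : Pts X) (U : X.Opens) (h : x.pt ∈ U) :
    x.ev U h 0 = 0 := map_zero (evHom x U h)

lemma ev_pow (x : Pts X) (U : X.Opens) (h : x.pt ∈ U) (f : Γ(X, U)) (n : ℕ) :
    x.ev U h (f ^ n) = x.ev U h f ^ n := map_pow (evHom x U h) f n

/-- Evaluation is compatible with restriction of sections. -/
lemma ev_res (x : Pts X) {U V : X.Opens} (hVU : V ≤ U) (h : x.pt ∈ V) (f : Γ(X, U)) :
    x.ev V h (X.presheaf.map (homOfLE hVU).op f) = x.ev U (hVU h) f := by
  unfold Pts.ev
  congr 1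
  have := x.1.map_appLE (U := V) (U' := U) (V := ⊤) (Pts.top_le_preimage x h) (homOfLE hVU).op
  exact congrArg (fun φ => φ.hom f) this

lemma evTop_eq (x : Pts X) (f : Γ(X, ⊤)) :
    x.evTop f = (Scheme.ΓSpecIso (CommRingCat.of ℂ)).hom (x.1.appTop f) := by
  unfold Pts.evTop Pts.ev
  congr 1

/-- Evaluating a constant gives that constant. -/
lemma evTop_strHom (x : Pts X) (c : ℂ) : x.evTop (strHom X c) = c := by
  rw [evTop_eq]
  unfold strHom
  simp only [RingHom.coe_comp, Function.comp_apply]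
  have h1 : x.1.appTop ((X ↘ SC).appTop ((Scheme.ΓSpecIso (CommRingCat.of ℂ)).inv c))
      = (x.1 ≫ (X ↘ SC)).appTop ((Scheme.ΓSpecIso (CommRingCat.of ℂ)).inv c) := by
    rw [Scheme.Hom.comp_appTop]
    rfl
  erw [h1]
  rw [x.2]
  simp

/-- A complex point lies in the basic open of a section iff the section does not vanish there. -/
lemma mem_basicOpen_iff (x : Pts X) (U : X.Opens) (h : x.pt ∈ U) (f : Γ(X, U)) :
    x.pt ∈ X.basicOpen f ↔ x.ev U h f ≠ 0 := by
  have h1 : SC.basicOpen (x.1.appLE U ⊤ (Pts.top_le_preimage x h) f) = x.1 ⁻¹ᵁ (X.basicOpen f) := by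
    rw [Scheme.basicOpen_appLE]; simp
  have h2 : x.pt ∈ X.basicOpen f ↔ cpt ∈ SC.basicOpen (x.1.appLE U ⊤ (Pts.top_le_preimage x h) f) := by
    rw [h1]; rfl
  rw [h2]
  set c := x.1.appLE U ⊤ (Pts.top_le_preimage x h) f with hc
  have hev : x.ev U h f = (Scheme.ΓSpecIso (CommRingCat.of ℂ)).hom c := rfl
  rw [hev]
  constructor
  · intro hmem hzero
    have hc0 : c = 0 := by
      have := congrArg (Scheme.ΓSpecIso (CommRingCat.of ℂ)).inv hzero
      simpa using this
    rw [hc0, Scheme.basicOpen_zero] at hmem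
    exact hmem
  · intro hne
    have hu : IsUnit ((Scheme.ΓSpecIso (CommRingCat.of ℂ)).hom c) := IsUnit.mk0 _ hne
    have hu' : IsUnit c := by
      have := hu.map (Scheme.ΓSpecIso (CommRingCat.of ℂ)).inv.hom
      simpa using this
    rw [Scheme.basicOpen_of_isUnit _ hu']
    trivial

/-- Complex points of an affine scheme are determined by the values of global sections. -/
lemma pts_ext_of_isAffine [IsAffine X] {x y : Pts X} (h : ∀ f : Γ(X, ⊤), x.evTop f = y.evTop f) :
    x = y := by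
  apply Subtype.ext
  apply ext_of_isAffine
  ext f
  have := h f
  rw [evTop_eq, evTop_eq] at this
  have h2 := congrArg (Scheme.ΓSpecIso (CommRingCat.of ℂ)).inv this
  simpa using h2

lemma isoSpec_inv_appTop' (Y : Scheme.{0}) [IsAffine Y] :
    Y.isoSpec.inv.appTop = (Scheme.ΓSpecIso Γ(Y, ⊤)).inv := by
  have h := congrArg Scheme.Hom.appTop (Scheme.toSpecΓ_isoSpec_inv Y)
  rw [Scheme.Hom.comp_appTop, Scheme.toSpecΓ_appTop] at h
  rw [← cancel_mono (Scheme.ΓSpecIso Γ(Y, ⊤)).hom, Iso.inv_hom_id]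
  simpa using h

/-- The morphism `Spec ℂ ⟶ X` attached to a ring homomorphism `Γ(X, ⊤) →+* ℂ`, for affine `X`. -/
def ptOfHom [IsAffine X] (φ : Γ(X, ⊤) →+* ℂ) : SC ⟶ X :=
  Spec.map (CommRingCat.ofHom φ) ≫ X.isoSpec.inv

lemma ptOfHom_appTop [IsAffine X] (φ : Γ(X, ⊤) →+* ℂ) :
    (ptOfHom φ).appTop ≫ (Scheme.ΓSpecIso (CommRingCat.of ℂ)).hom = CommRingCat.ofHom φ := by
  unfold ptOfHom
  rw [Scheme.Hom.comp_appTop, isoSpec_inv_appTop', Category.assoc, Scheme.ΓSpecIso_naturality]
  exact Iso.inv_hom_id_assoc (Scheme.ΓSpecIso Γ(X, ⊤)) _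

lemma ptOfHom_over [IsAffine X] (φ : Γ(X, ⊤) →+* ℂ) (hφ : ∀ c, φ (strHom X c) = c) :
    ptOfHom φ ≫ (X ↘ SC) = 𝟙 SC := by
  apply ext_of_isAffine
  rw [← cancel_mono (Scheme.ΓSpecIso (CommRingCat.of ℂ)).hom, Scheme.Hom.comp_appTop, Category.assoc,
    ptOfHom_appTop]
  ext c
  have := hφ ((Scheme.ΓSpecIso (CommRingCat.of ℂ)).hom c)
  unfold strHom at this
  simp only [RingHom.coe_comp, Function.comp_apply] at this
  simp only [CommRingCat.hom_comp, CommRingCat.hom_ofHom, RingHom.coe_comp, Function.comp_apply,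
    Scheme.Hom.id_app, CommRingCat.hom_id, RingHom.id_apply]
  convert this using 3
  simp

/-- The complex point attached to a `ℂ`-algebra homomorphism `Γ(X, ⊤) → ℂ`, for affine `X`. -/
def ptsOfHom [IsAffine X] (φ : Γ(X, ⊤) →+* ℂ) (hφ : ∀ c, φ (strHom X c) = c) : Pts X :=
  ⟨ptOfHom φ, ptOfHom_over φ hφ⟩

lemma ptsOfHom_evTop [IsAffine X] (φ : Γ(X, ⊤) →+* ℂ) (hφ : ∀ c, φ (strHom X c) = c) (f : Γ(X, ⊤)) :
    (ptsOfHom φ hφ).evTop f = φ f := by
  rw [evTop_eq]
  exact congrArg (fun ψ => ψ.hom f) (ptOfHom_appTop φ)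

/-- Evaluation of a section over `U` is continuous on the open set of points lying in `U`. -/
lemma continuous_ev (U : X.Opens) (f : Γ(X, U)) :
    Continuous (fun x : {x : Pts X // x.pt ∈ U} => x.1.ev U x.2 f) := by
  rw [continuous_def]
  intro V hV
  have : (fun x : {x : Pts X // x.pt ∈ U} => x.1.ev U x.2 f) ⁻¹' V
      = Subtype.val ⁻¹' (Pts.basicSet U f V) := by
    ext x
    simp only [Set.mem_preimage, Pts.basicSet, Set.mem_ofPred_eq]
    constructor
    · intro h; exact ⟨x.2, h⟩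
    · rintro ⟨_, h⟩; exact h
  rw [this]
  exact (Pts.isOpen_basicSet U f hV).preimage continuous_subtype_val

lemma continuous_evTop (f : Γ(X, ⊤)) : Continuous (fun x : Pts X => x.evTop f) := by
  rw [continuous_def]
  intro V hV
  have : (fun x : Pts X => x.evTop f) ⁻¹' V = Pts.basicSet ⊤ f V := by
    ext x
    simp only [Set.mem_preimage, Pts.basicSet, Set.mem_ofPred_eq]
    constructor
    · intro h; exact ⟨Opens.mem_top _, h⟩
    · rintro ⟨_, h⟩; exact h
  rw [this]
  exact Pts.isOpen_basicSet ⊤ f hV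

/-- The evaluation map from complex points to functions on global sections. -/
def evMap (X : Scheme.{0}) [X.Over SC] : Pts X → (Γ(X, ⊤) → ℂ) := fun x f => x.evTop f

lemma continuous_evMap : Continuous (evMap X) :=
  continuous_pi (fun f => continuous_evTop f)

/-- Generating sets of the complex topology are open for the topology induced by global sections. -/
theorem isOpen_induced_basicSet [IsAffine X] (U : X.Opens) (f : Γ(X, U)) (V : Set ℂ) (hV : IsOpen V) :
    IsOpen[TopologicalSpace.induced (evMap X) Pi.topologicalSpace] (Pts.basicSet U f V) := by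
  letI τ : TopologicalSpace (Pts X) := TopologicalSpace.induced (evMap X) Pi.topologicalSpace
  rw [@isOpen_iff_forall_mem_open (Pts X) τ _]
  rintro x ⟨hxU, hxV⟩
  obtain ⟨h, hhU, hxh⟩ := (isAffineOpen_top X).exists_basicOpen_le ⟨x.pt, hxU⟩ (Opens.mem_top _)
  -- f restricted to D(h) is a fraction a / h ^ n
  obtain ⟨n, a, hna⟩ := IsLocalization.Away.surj h (X.presheaf.map (homOfLE hhU).op f)
  let W : Set (Pts X) := {y | y.evTop h ≠ 0 ∧ y.evTop a / (y.evTop h) ^ n ∈ V}
  have key : ∀ y : Pts X, ∀ hy : y.pt ∈ X.basicOpen h,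
      y.ev U (hhU hy) f * (y.evTop h) ^ n = y.evTop a := by
    intro y hy
    have h1 := congrArg (fun s => y.ev (X.basicOpen h) hy s) hna
    simp only [ev_mul, ev_pow] at h1
    rw [ev_res y hhU hy f] at h1
    have h2 : ∀ s : Γ(X, ⊤), y.ev (X.basicOpen h) hy (algebraMap Γ(X, ⊤) Γ(X, X.basicOpen h) s)
        = y.evTop s := fun s => ev_res y (X.basicOpen_le h) hy s
    rw [h2, h2] at h1
    exact h1
  refine ⟨W, ?_, ?_, ?_⟩
  · rintro y ⟨hy0, hyV⟩
    have hy : y.pt ∈ X.basicOpen h := (mem_basicOpen_iff y ⊤ (Opens.mem_top _) h).2 hy0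
    refine ⟨hhU hy, ?_⟩
    have := key y hy
    rw [← this, mul_div_assoc, div_self (pow_ne_zero n hy0), mul_one] at hyV
    exact hyV
  · -- W is open in the induced topology
    have hcont : @Continuous _ _ τ _ (fun y : Pts X => (y.evTop h, y.evTop a)) := by
      have e : (fun y : Pts X => (y.evTop h, y.evTop a))
          = (fun φ : Γ(X, ⊤) → ℂ => (φ h, φ a)) ∘ evMap X := rfl
      rw [e]
      exact (Continuous.prodMk (continuous_apply h) (continuous_apply a)).comp continuous_induced_dom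
    have hopen : IsOpen {p : ℂ × ℂ | p.1 ≠ 0 ∧ p.2 / p.1 ^ n ∈ V} := by
      have h1 : IsOpen {p : ℂ × ℂ | p.1 ≠ 0} := isOpen_ne_fun continuous_fst continuous_const
      have h2 : ContinuousOn (fun p : ℂ × ℂ => p.2 / p.1 ^ n) {p : ℂ × ℂ | p.1 ≠ 0} := by
        apply ContinuousOn.div continuous_snd.continuousOn (continuous_fst.pow n).continuousOn
        intro p hp
        exact pow_ne_zero n hp
      exact h2.isOpen_inter_preimage h1 hV
    exact hopen.preimage hcont
  · refine ⟨(mem_basicOpen_iff x ⊤ (Opens.mem_top _) h).1 hxh, ?_⟩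
    have := key x hxh
    rw [← this, mul_div_assoc, div_self (pow_ne_zero n ((mem_basicOpen_iff x ⊤ (Opens.mem_top _) h).1 hxh)),
      mul_one]
    exact hxV

/-- For affine `X`, the complex topology is induced by evaluation of global sections. -/
theorem isInducing_evMap [IsAffine X] : Topology.IsInducing (evMap X) := by
  constructor
  apply le_antisymm
  · exact continuous_evMap.le_induced
  · rw [Pts.topologicalSpace]
    apply le_generateFrom
    rintro _ ⟨U, f, V, hV, rfl⟩
    exact isOpen_induced_basicSet U f V hV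

/-- For affine `X`, the evaluation map is a topological embedding. -/
theorem isEmbedding_evMap [IsAffine X] : Topology.IsEmbedding (evMap X) :=
  ⟨isInducing_evMap, fun _ _ h => pts_ext_of_isAffine (fun f => congrFun h f)⟩

end

end Groth.Agent.H21
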