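import Groth.Agent.H21.AnOpen
import Mathlib.RingTheory.Jacobson.Ring
import Mathlib.FieldTheory.IsAlgClosed.Basic
import Mathlib.Analysis.Complex.Polynomial.Basic
import Mathlib.AlgebraicGeometry.Properties

open AlgebraicGeometry CategoryTheory TopologicalSpace Opposite An Topology

namespace Groth.Agent.H21

noncomputable section

variable {X Y : Scheme.{0}} [X.Over SC] [Y.Over SC]

instance (U : X.Opens) [LocallyOfFiniteType (X ↘ SC)] : LocallyOfFiniteType ((U : Scheme.{0}) ↘ SC) :=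
  inferInstanceAs (LocallyOfFiniteType (U.ι ≫ X ↘ SC))

/-- Evaluation is insensitive to rewriting the open along an equality. -/
lemma ev_congr (x : Pts X) {U U' : X.Opens} (e : U' = U) (h : x.pt ∈ U) (s : Γ(X, U)) :
    x.ev U' (e ▸ h) (X.presheaf.map (eqToHom e).op s) = x.ev U h s := by
  subst e
  simp

/-- Evaluation after a morphism, computed with any smaller open upstairs. -/
lemma ev_map_appLE (g : X ⟶ Y) [g.IsOver SC] (x : Pts X) (U : Y.Opens) (W : X.Opens)
    (e : W ≤ g ⁻¹ᵁ U) (hW : x.pt ∈ W) (f : Γ(Y, U)) :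
    (Pts.map g x).ev U (by rw [Pts.pt_map]; exact e hW) f = x.ev W hW (g.appLE U W e f) := by
  unfold Pts.ev
  congr 1
  have := Scheme.Hom.appLE_comp_appLE x.1 g U W ⊤ e (Pts.top_le_preimage x hW)
  exact (congrArg (fun φ => φ.hom f) this).symm

/-- A complex point lying in an open `U` comes from a complex point of `U`. -/
def liftOpens (U : X.Opens) (x : Pts X) (h : x.pt ∈ U) : Pts (U : Scheme.{0}) :=
  ⟨IsOpenImmersion.lift U.ι x.1 (by
      rintro _ ⟨p, rfl⟩
      rw [eq_cpt p, Scheme.Opens.range_ι]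
      exact h),
    (Category.assoc _ _ _).symm.trans
      ((congrArg (· ≫ (X ↘ SC)) (IsOpenImmersion.lift_fac U.ι x.1 _)).trans x.2)⟩

lemma map_liftOpens (U : X.Opens) (x : Pts X) (h : x.pt ∈ U) :
    Pts.map U.ι (liftOpens U x h) = x :=
  Subtype.ext (IsOpenImmersion.lift_fac _ _ _)

lemma pt_map_ι_mem (U : X.Opens) (x' : Pts (U : Scheme.{0})) : (Pts.map U.ι x').pt ∈ U := by
  rw [Pts.pt_map]
  exact x'.pt.2

/-- Values of global sections of an open subscheme, in terms of the ambient scheme. -/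
lemma evTop_opens (U : X.Opens) (x' : Pts (U : Scheme.{0})) (f : Γ(X, U)) :
    x'.evTop (U.ι.appLE U ⊤ U.ι_preimage_self.ge f) = (Pts.map U.ι x').ev U (pt_map_ι_mem U x') f :=
  (ev_map_appLE U.ι x' U ⊤ U.ι_preimage_self.ge (Opens.mem_top _) f).symm

/-- Two complex points lying in an affine open and agreeing on all its sections are equal. -/
theorem pts_ext {U : X.Opens} (hU : IsAffineOpen U) {x y : Pts X} (hx : x.pt ∈ U) (hy : y.pt ∈ U)
    (h : ∀ f : Γ(X, U), x.ev U hx f = y.ev U hy f) : x = y := by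
  have : IsAffine (U : Scheme.{0}) := hU
  rw [← map_liftOpens U x hx, ← map_liftOpens U y hy]
  congr 1
  apply pts_ext_of_isAffine
  intro g
  obtain ⟨f, rfl⟩ : ∃ f, U.ι.appLE U ⊤ U.ι_preimage_self.ge f = g := by
    refine ⟨inv (U.ι.appLE U ⊤ U.ι_preimage_self.ge) g, ?_⟩
    rw [← CommRingCat.comp_apply, IsIso.inv_hom_id]
    rfl
  rw [evTop_opens, evTop_opens]
  simp only [map_liftOpens]
  exact h f

/-- The constant section with value `c` over an open `U`. -/
def constSec (U : X.Opens) (c : ℂ) : Γ(X, U) :=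
  X.presheaf.map (homOfLE (le_top : U ≤ ⊤)).op (strHom X c)

lemma ev_constSec (x : Pts X) (U : X.Opens) (h : x.pt ∈ U) (c : ℂ) :
    x.ev U h (constSec U c) = c := by
  unfold constSec
  rw [ev_res x le_top h]
  exact evTop_strHom x c

lemma ev_sub (x : Pts X) (U : X.Opens) (h : x.pt ∈ U) (f g : Γ(X, U)) :
    x.ev U h (f - g) = x.ev U h f - x.ev U h g := map_sub (evHom x U h) f g

lemma exists_affineOpen_mem (p : X) : ∃ U : X.Opens, IsAffineOpen U ∧ p ∈ U := by
  obtain ⟨_, ⟨U, hU, rfl⟩, hpU, -⟩ :=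
    X.isBasis_affineOpens.exists_subset_of_mem_open (Set.mem_univ p) isOpen_univ
  exact ⟨U, hU, hpU⟩

/-- A complex point is determined by its underlying point. -/
theorem pt_injective : Function.Injective (Pts.pt : Pts X → X) := by
  intro x y hxy
  obtain ⟨U, hU, hxU⟩ := exists_affineOpen_mem x.pt
  have hyU : y.pt ∈ U := hxy ▸ hxU
  apply pts_ext hU hxU hyU
  intro f
  set c := x.ev U hxU f with hc
  have h0 : x.ev U hxU (f - constSec U c) = 0 := by
    rw [ev_sub, ev_constSec, ← hc, sub_self]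
  have h1 : x.pt ∉ X.basicOpen (f - constSec U c) := by
    rw [mem_basicOpen_iff x U hxU]; simpa using h0
  rw [hxy, mem_basicOpen_iff y U hyU] at h1
  have h2 : y.ev U hyU (f - constSec U c) = 0 := by simpa using h1
  rw [ev_sub, ev_constSec, sub_eq_zero] at h2
  exact h2.symm

lemma strHom_finiteType [IsAffine X] [LocallyOfFiniteType (X ↘ SC)] : (strHom X).FiniteType := by
  have h1 : (X ↘ SC).appTop.hom.FiniteType :=
    HasRingHomProperty.appTop (P := @LocallyOfFiniteType) _ inferInstance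
  have h2 : (Scheme.ΓSpecIso (CommRingCat.of ℂ)).inv.hom.FiniteType := by
    apply RingHom.FiniteType.of_surjective
    intro a
    refine ⟨(Scheme.ΓSpecIso (CommRingCat.of ℂ)).hom a, ?_⟩
    rw [← CommRingCat.comp_apply, Iso.hom_inv_id]
    rfl
  exact h1.comp h2

/-- Nullstellensatz: every maximal ideal of the ring of functions of an affine scheme of finite
type over `ℂ` is the kernel of evaluation at a complex point. -/
theorem exists_pts_of_isMaximal [IsAffine X] [LocallyOfFiniteType (X ↘ SC)] (m : Ideal Γ(X, ⊤))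
    [hm : m.IsMaximal] : ∃ x : Pts X, ∀ f : Γ(X, ⊤), x.evTop f = 0 ↔ f ∈ m := by
  letI : Field (Γ(X, ⊤) ⧸ m) := Ideal.Quotient.field m
  set q : ℂ →+* (Γ(X, ⊤) ⧸ m) := (Ideal.Quotient.mk m).comp (strHom X) with hq
  have hqft : q.FiniteType :=
    (RingHom.FiniteType.of_surjective _ Ideal.Quotient.mk_surjective).comp strHom_finiteType
  have hqfin : q.Finite := RingHom.finite_iff_finiteType_of_isJacobsonRing.2 hqft
  have hbij : Function.Bijective q :=
    IsAlgClosed.ringHom_bijective_of_isIntegral q (RingHom.IsIntegral.of_finite hqfin)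
  let e : ℂ ≃+* (Γ(X, ⊤) ⧸ m) := RingEquiv.ofBijective q hbij
  let φ : Γ(X, ⊤) →+* ℂ := (e.symm : (Γ(X, ⊤) ⧸ m) →+* ℂ).comp (Ideal.Quotient.mk m)
  have hφ : ∀ c, φ (strHom X c) = c := by
    intro c
    change e.symm (q c) = c
    exact e.symm_apply_apply c
  refine ⟨ptsOfHom φ hφ, ?_⟩
  intro f
  rw [ptsOfHom_evTop]
  change e.symm (Ideal.Quotient.mk m f) = 0 ↔ f ∈ m
  rw [map_eq_zero_iff _ e.symm.injective, Ideal.Quotient.eq_zero_iff_mem]

/-- Every point of a scheme locally of finite type over `ℂ` has complex points in each of its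
open neighbourhoods: more precisely every nonempty open contains a complex point. -/
theorem exists_pts_mem_of_nonempty [LocallyOfFiniteType (X ↘ SC)] (W : X.Opens) (p : X) (hp : p ∈ W) :
    ∃ x : Pts X, x.pt ∈ W := by
  obtain ⟨_, ⟨U', hU, rfl⟩, hpU, hUW⟩ :=
    X.isBasis_affineOpens.exists_subset_of_mem_open hp W.2
  let U : X.Opens := U'
  have : IsAffine (U : Scheme.{0}) := hU
  have : Nonempty ((⊤ : (U : Scheme.{0}).Opens)) := ⟨⟨⟨p, hpU⟩, trivial⟩⟩
  have : Nontrivial Γ((U : Scheme.{0}), ⊤) := Scheme.component_nontrivial _ ⊤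
  obtain ⟨m, hm⟩ := Ideal.exists_maximal Γ((U : Scheme.{0}), ⊤)
  obtain ⟨x', -⟩ := exists_pts_of_isMaximal (X := (U : Scheme.{0})) m
  exact ⟨Pts.map U.ι x', hUW (pt_map_ι_mem U x')⟩

theorem nonempty_iff_nonempty_pts [LocallyOfFiniteType (X ↘ SC)] : Nonempty X ↔ Nonempty (Pts X) := by
  constructor
  · rintro ⟨p⟩
    obtain ⟨x, -⟩ := exists_pts_mem_of_nonempty (⊤ : X.Opens) p (Opens.mem_top _)
    exact ⟨x⟩
  · rintro ⟨x⟩
    exact ⟨x.pt⟩

end

end Groth.Agent.H21
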