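import Groth.Agent.H21.AnAffine
import Groth.Agent.H21.AnPoints
import Mathlib.RingTheory.FiniteType
import Mathlib.Topology.Compactness.LocallyCompact

open AlgebraicGeometry CategoryTheory TopologicalSpace Opposite An Topology

namespace Groth.Agent.H21

noncomputable section

variable {X Y : Scheme.{0}} [X.Over SC] [Y.Over SC]

/-- An affine scheme of finite type over `ℂ` has finitely many generating global sections. -/
theorem exists_generators [IsAffine X] [LocallyOfFiniteType (X ↘ SC)] :
    ∃ (n : ℕ) (s : Fin n → Γ(X, ⊤)),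
      Function.Surjective (MvPolynomial.eval₂Hom (strHom X) s) := by
  have h : (strHom X).FiniteType := strHom_finiteType
  let _ : Algebra ℂ Γ(X, ⊤) := (strHom X).toAlgebra
  have h' : Algebra.FiniteType ℂ Γ(X, ⊤) := h
  obtain ⟨n, f, hf⟩ := Algebra.FiniteType.iff_quotient_mvPolynomial''.1 h'
  refine ⟨n, fun i => f (MvPolynomial.X i), ?_⟩
  have : (MvPolynomial.eval₂Hom (strHom X) (fun i => f (MvPolynomial.X i)))
      = (f : MvPolynomial (Fin n) ℂ →+* Γ(X, ⊤)) := by
    apply MvPolynomial.ringHom_ext
    · intro c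
      simp only [MvPolynomial.eval₂Hom_C]
      exact (f.commutes c).symm
    · intro i
      simp
  rw [this]
  exact hf

theorem exists_isClosedEmbedding_of_isAffine [IsAffine X] [LocallyOfFiniteType (X ↘ SC)] :
    ∃ (n : ℕ) (e : Pts X → (Fin n → ℂ)), Topology.IsClosedEmbedding e := by
  obtain ⟨n, s, hs⟩ := exists_generators (X := X)
  exact ⟨n, genMap s, isClosedEmbedding_genMap s hs⟩

theorem locallyCompactSpace_of_isAffine [IsAffine X] [LocallyOfFiniteType (X ↘ SC)] :
    LocallyCompactSpace (Pts X) := by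
  obtain ⟨n, e, he⟩ := exists_isClosedEmbedding_of_isAffine (X := X)
  exact he.locallyCompactSpace

theorem locallyCompactSpace_pts [LocallyOfFiniteType (X ↘ SC)] : LocallyCompactSpace (Pts X) := by
  constructor
  intro x n hn
  obtain ⟨U, hU, hxU⟩ := exists_affineOpen_mem x.pt
  have : IsAffine (U : Scheme.{0}) := hU
  have hlc : LocallyCompactSpace (Pts (U : Scheme.{0})) := locallyCompactSpace_of_isAffine
  have hoe := isOpenEmbedding_map_of_isOpenImmersion U.ι
  set x' := liftOpens U x hxU with hx'
  have hxx' : Pts.map U.ι x' = x := map_liftOpens U x hxU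
  have hn' : Pts.map U.ι ⁻¹' n ∈ 𝓝 x' := by
    apply hoe.continuous.continuousAt
    rw [hxx']
    exact hn
  obtain ⟨s, hs, hsn, hsc⟩ := hlc.local_compact_nhds x' _ hn'
  refine ⟨Pts.map U.ι '' s, ?_, ?_, hsc.image hoe.continuous⟩
  · rw [← hxx']
    exact hoe.isOpenMap.image_mem_nhds hs
  · rintro _ ⟨y, hy, rfl⟩
    exact hsn hy

end

end Groth.Agent.H21
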