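import Groth.Agent.H21.AnRestrict
import Groth.Agent.H21.AnLocal
import Mathlib.AlgebraicGeometry.Morphisms.ClosedImmersion

open AlgebraicGeometry CategoryTheory TopologicalSpace Opposite An Topology

namespace Groth.Agent.H21

noncomputable section

variable {X Y : Scheme.{0}} [X.Over SC] [Y.Over SC]

lemma evTop_map (f : X ⟶ Y) [f.IsOver SC] (x : Pts X) (g : Γ(Y, ⊤)) :
    (Pts.map f x).evTop g = x.evTop (f.appTop g) :=
  Pts.ev_map f x ⊤ (Opens.mem_top _) g

lemma appTop_strHom (f : X ⟶ Y) [f.IsOver SC] (c : ℂ) : f.appTop (strHom Y c) = strHom X c := by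
  unfold strHom
  simp only [RingHom.coe_comp, Function.comp_apply]
  have h : (X ↘ SC).appTop = (Y ↘ SC).appTop ≫ f.appTop := by
    rw [← Scheme.Hom.comp_appTop, comp_over f SC]
  rw [h]
  rfl

/-- A morphism of affine schemes over `ℂ` which is surjective on global sections induces a closed
embedding on complex points. -/
theorem isClosedEmbedding_map_of_surjective_appTop [IsAffine X] [IsAffine Y] (f : X ⟶ Y)
    [f.IsOver SC] (hf : Function.Surjective f.appTop) : IsClosedEmbedding (Pts.map f) := by
  choose rep hrep using hf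
  let Φ : (Γ(Y, ⊤) → ℂ) → (Γ(X, ⊤) → ℂ) := fun φ g => φ (rep g)
  have hΦ : Continuous Φ := continuous_pi (fun g => continuous_apply (rep g))
  have hcomp : (Φ ∘ evMap Y) ∘ Pts.map f = evMap X := by
    funext x g
    simp only [Function.comp_apply, Φ, evMap]
    rw [evTop_map, hrep]
  have hind : IsInducing (Pts.map f) := by
    apply IsInducing.of_comp (Pts.continuous_map f) (hΦ.comp continuous_evMap)
    rw [hcomp]
    exact isInducing_evMap
  have hinj : Function.Injective (Pts.map f) := by
    intro x y hxy
    apply isEmbedding_evMap.injective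
    rw [← hcomp]
    simp only [Function.comp_apply, hxy]
  refine ⟨⟨hind, hinj⟩, ?_⟩
  have hrange : Set.range (Pts.map f)
      = ⋂ g ∈ {g : Γ(Y, ⊤) | f.appTop g = 0}, {y : Pts Y | y.evTop g = 0} := by
    ext y
    simp only [Set.mem_range, Set.mem_iInter, Set.mem_ofPred_eq]
    constructor
    · rintro ⟨x, rfl⟩ g hg
      rw [evTop_map, hg]
      exact ev_zero x ⊤ _
    · intro hy
      have hker : ∀ g, g ∈ RingHom.ker f.appTop.hom → g ∈ RingHom.ker (evHom y ⊤ (Opens.mem_top _)) := by
        intro g hg
        exact hy g hg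
      let φ : Γ(X, ⊤) →+* ℂ := RingHom.liftOfSurjective f.appTop.hom (fun g => ⟨rep g, hrep g⟩)
        ⟨evHom y ⊤ (Opens.mem_top _), hker⟩
      have hφπ : ∀ g, φ (f.appTop g) = y.evTop g := fun g =>
        RingHom.liftOfSurjective_comp_apply f.appTop.hom _ _ g
      have hφ : ∀ c, φ (strHom X c) = c := by
        intro c
        rw [← appTop_strHom f, hφπ, evTop_strHom]
      refine ⟨ptsOfHom φ hφ, ?_⟩
      apply pts_ext_of_isAffine
      intro g
      rw [evTop_map, ptsOfHom_evTop, hφπ]
  rw [hrange]
  apply isClosed_biInter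
  intro g _
  exact isClosed_eq (continuous_evTop g) continuous_const

/-- A closed immersion induces a closed embedding on complex points. -/
theorem isClosedEmbedding_map_of_isClosedImmersion (f : X ⟶ Y) [f.IsOver SC]
    [IsClosedImmersion f] : IsClosedEmbedding (Pts.map f) := by
  apply isClosedEmbedding_map_of_cover f (fun V : Y.affineOpens => V.1)
    (iSup_affineOpens_eq_top Y)
  intro V
  have : IsAffine ((V.1 : Y.Opens) : Scheme.{0}) := V.2
  have h := IsClosedImmersion.isAffine_surjective_of_isAffine (f ∣_ V.1)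
  have := h.1
  exact isClosedEmbedding_map_of_surjective_appTop (f ∣_ V.1) h.2

end

end Groth.Agent.H21
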