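import Groth.Agent.H21.AnClosed
import Mathlib.AlgebraicGeometry.Morphisms.Finite
import Mathlib.AlgebraicGeometry.Morphisms.FinitePresentation
import Mathlib.AlgebraicGeometry.Noetherian
import Mathlib.AlgebraicGeometry.ResidueField
import Mathlib.Topology.JacobsonSpace

open AlgebraicGeometry CategoryTheory TopologicalSpace Opposite An Topology

namespace Groth.Agent.H21

noncomputable section

variable {X Y : Scheme.{0}} [X.Over SC] [Y.Over SC]

instance : IsLocallyNoetherian SC :=
  inferInstanceAs (IsLocallyNoetherian (Spec (CommRingCat.of ℂ)))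

instance : JacobsonSpace SC :=
  inferInstanceAs (JacobsonSpace (Spec (CommRingCat.of ℂ)))

theorem isLocallyNoetherian_of_lft [LocallyOfFiniteType (X ↘ SC)] : IsLocallyNoetherian X :=
  LocallyOfFiniteType.isLocallyNoetherian (X ↘ SC)

theorem jacobsonSpace_of_lft [LocallyOfFiniteType (X ↘ SC)] : JacobsonSpace X :=
  LocallyOfFiniteType.jacobsonSpace (X ↘ SC)

theorem lft_of_isOver (f : X ⟶ Y) [f.IsOver SC] [LocallyOfFiniteType (X ↘ SC)] :
    LocallyOfFiniteType f := by
  have : LocallyOfFiniteType (f ≫ Y ↘ SC) := by rw [comp_over f SC]; infer_instance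
  exact locallyOfFiniteType_of_comp f (Y ↘ SC)

theorem lfp_of_isOver (f : X ⟶ Y) [f.IsOver SC] [LocallyOfFiniteType (X ↘ SC)]
    [LocallyOfFiniteType (Y ↘ SC)] : LocallyOfFinitePresentation f := by
  have := isLocallyNoetherian_of_lft (X := Y)
  have := lft_of_isOver f
  exact LocallyOfFinitePresentation.iff_locallyOfFiniteType.2 inferInstance

/-- The point underlying a complex point is closed. -/
theorem isClosed_singleton_pt (x : Pts X) : IsClosed ({x.pt} : Set X) := by
  have : IsClosedImmersion x.1 := isClosedImmersion_of_comp_eq_id (X ↘ SC) x.1 x.2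
  have h := x.1.isClosedEmbedding.isClosed_range
  have hr : Set.range x.1 = {x.pt} := by
    ext p
    constructor
    · rintro ⟨s, rfl⟩
      rw [eq_cpt s]
      rfl
    · rintro rfl
      exact ⟨cpt, rfl⟩
  rwa [hr] at h

/-- Every closed point of a scheme locally of finite type over `ℂ` underlies a complex point. -/
theorem exists_pts_of_isClosed_singleton [LocallyOfFiniteType (X ↘ SC)] (q : X)
    (hq : IsClosed ({q} : Set X)) : ∃ x : Pts X, x.pt = q := by
  have hci : IsClosedImmersion (X.fromSpecResidueField q) :=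
    isClosed_singleton_iff_isClosedImmersion.mp hq
  let Z : Scheme.{0} := Spec (X.residueField q)
  let _ : Z.Over SC := ⟨X.fromSpecResidueField q ≫ X ↘ SC⟩
  have : (X.fromSpecResidueField q).IsOver SC := ⟨rfl⟩
  have : LocallyOfFiniteType (Z ↘ SC) :=
    inferInstanceAs (LocallyOfFiniteType (X.fromSpecResidueField q ≫ X ↘ SC))
  obtain ⟨z⟩ := (nonempty_iff_nonempty_pts (X := Z)).1 inferInstance
  refine ⟨Pts.map (X.fromSpecResidueField q) z, ?_⟩
  rw [Pts.pt_map]
  have : (X.fromSpecResidueField q) z.pt ∈ Set.range (X.fromSpecResidueField q) := ⟨_, rfl⟩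
  rw [Scheme.range_fromSpecResidueField] at this
  exact this

theorem range_pt [LocallyOfFiniteType (X ↘ SC)] :
    Set.range (Pts.pt : Pts X → X) = closedPoints X := by
  ext q
  constructor
  · rintro ⟨x, rfl⟩
    exact isClosed_singleton_pt x
  · intro hq
    exact exists_pts_of_isClosed_singleton q hq

end

end Groth.Agent.H21
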