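import Mathlib.Topology.LocalAtTarget
import Mathlib.Topology.Homeomorph.Lemmas

open TopologicalSpace Topology Set

namespace Groth.Agent.H21

universe u v

section

variable {A B A' B' : Type*} [TopologicalSpace A] [TopologicalSpace B] [TopologicalSpace A']
  [TopologicalSpace B']

/-- A homeomorphism from the source of an open embedding onto a set equal to its range. -/
noncomputable def homeoOfRange {a : A' → A} (ha : IsOpenEmbedding a) (S : Set A) (hr : range a = S) :
    A' ≃ₜ S :=
  (ha.isEmbedding.toHomeomorph).trans (Homeomorph.setCongr hr)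

lemma homeoOfRange_apply {a : A' → A} (ha : IsOpenEmbedding a) (S : Set A) (hr : range a = S)
    (x : A') : ((homeoOfRange ha S hr x : S) : A) = a x := rfl

/-- The restriction of `h` over `V`, transported along identifications of `h ⁻¹' V` and `V`
with other spaces, is the given map between those. -/
lemma restrictPreimage_conj (h : A → B) (V : Set B) {a : A' → A} {b : B' → B} (h' : A' → B')
    (ha : IsOpenEmbedding a) (hb : IsOpenEmbedding b) (hra : range a = h ⁻¹' V) (hrb : range b = V)
    (comm : ∀ x, b (h' x) = h (a x)) :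
    V.restrictPreimage h = (homeoOfRange hb V hrb) ∘ h' ∘ (homeoOfRange ha (h ⁻¹' V) hra).symm := by
  funext x
  apply Subtype.ext
  obtain ⟨x', rfl⟩ := (homeoOfRange ha (h ⁻¹' V) hra).surjective x
  simp only [Function.comp_apply, Homeomorph.symm_apply_apply, homeoOfRange_apply, comm]
  rfl

/-- A continuous map which is, locally on the source, a pullback of an inducing map along open
embeddings is inducing. -/
theorem isInducing_of_local_charts {A B : Type*} [TopologicalSpace A] [TopologicalSpace B]
    (Φ : A → B) (hΦ : Continuous Φ)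
    (H : ∀ a : A, ∃ (A' B' : Type) (_ : TopologicalSpace A') (_ : TopologicalSpace B')
      (j : A' → A) (k : B' → B) (Φ' : A' → B'),
      IsOpenEmbedding j ∧ IsOpenEmbedding k ∧ IsInducing Φ' ∧ (∀ a', k (Φ' a') = Φ (j a')) ∧
        Φ ⁻¹' (range k) ⊆ range j ∧ a ∈ range j) : IsInducing Φ := by
  rw [isInducing_iff_nhds]
  intro a
  apply le_antisymm (hΦ.tendsto a).le_comap
  obtain ⟨A', B', _, _, j, k, Φ', hj, hk, hΦ', comm, hcart, ⟨a', rfl⟩⟩ := H a
  intro N hN
  have h1 : j ⁻¹' N ∈ 𝓝 a' := hj.continuous.continuousAt hN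
  rw [hΦ'.nhds_eq_comap] at h1
  obtain ⟨M', hM', hsub⟩ := h1
  refine ⟨k '' M', ?_, ?_⟩
  · rw [← comm]
    exact hk.isOpenMap.image_mem_nhds hM'
  · rintro z ⟨m', hm', hz⟩
    obtain ⟨z', rfl⟩ := hcart ⟨m', hz⟩
    have h2 : m' = Φ' z' := hk.injective (hz.trans (comm z').symm)
    subst h2
    exact hsub hm'

end

end Groth.Agent.H21
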