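import Groth.Agent.H21.AnPoints
import Groth.Agent.H21.TopLocal
import Mathlib.AlgebraicGeometry.Restrict

open AlgebraicGeometry CategoryTheory TopologicalSpace Opposite An Topology

namespace Groth.Agent.H21

noncomputable section

variable {X Y : Scheme.{0}} [X.Over SC] [Y.Over SC]

instance morphismRestrict_isOver (f : X ⟶ Y) [f.IsOver SC] (V : Y.Opens) : (f ∣_ V).IsOver SC :=
  ⟨by
    change (f ∣_ V) ≫ (V.ι ≫ Y ↘ SC) = (f ⁻¹ᵁ V).ι ≫ X ↘ SC
    rw [← Category.assoc, morphismRestrict_ι, Category.assoc, comp_over f SC]⟩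

lemma map_morphismRestrict (f : X ⟶ Y) [f.IsOver SC] (V : Y.Opens)
    (x' : Pts ((f ⁻¹ᵁ V : X.Opens) : Scheme.{0})) :
    Pts.map V.ι (Pts.map (f ∣_ V) x') = Pts.map f (Pts.map (f ⁻¹ᵁ V).ι x') := by
  apply Subtype.ext
  simp only [Pts.map_val, Category.assoc]
  rw [morphismRestrict_ι]

lemma range_map_ι (U : X.Opens) : Set.range (Pts.map U.ι) = Pts.pt ⁻¹' (U : Set X) := by
  rw [range_map_of_isOpenImmersion, Scheme.Opens.range_ι]

lemma range_map_ι_preimage (f : X ⟶ Y) [f.IsOver SC] (V : Y.Opens) :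
    Set.range (Pts.map (f ⁻¹ᵁ V).ι) = Pts.map f ⁻¹' (Pts.pt ⁻¹' (V : Set Y)) := by
  rw [range_map_ι]
  ext x
  simp only [Set.mem_preimage, Pts.pt_map]
  rfl

/-- The open set of complex points lying in a given open. -/
def ptsOpens (V : Y.Opens) : Opens (Pts Y) := ⟨Pts.pt ⁻¹' (V : Set Y), Pts.isOpen_preimage_pt V⟩

lemma isOpenCover_ptsOpens {ι : Type*} (V : ι → Y.Opens) (hV : IsOpenCover V) :
    IsOpenCover (fun i => ptsOpens (V i)) := by
  rw [IsOpenCover, eq_top_iff]
  intro y _
  obtain ⟨i, hi⟩ := hV.exists_mem y.pt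
  exact Opens.mem_iSup.2 ⟨i, hi⟩

/-- The restriction of `Pts.map f` over the complex points of an open `V` is, up to
homeomorphisms, the map induced by the restriction of `f`. -/
theorem restrictPreimage_map (f : X ⟶ Y) [f.IsOver SC] (V : Y.Opens) :
    (ptsOpens V).1.restrictPreimage (Pts.map f) =
      (homeoOfRange (isOpenEmbedding_map_of_isOpenImmersion V.ι) (ptsOpens V).1 (range_map_ι V)) ∘
        Pts.map (f ∣_ V) ∘
        (homeoOfRange (isOpenEmbedding_map_of_isOpenImmersion (f ⁻¹ᵁ V).ι)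
          (Pts.map f ⁻¹' (ptsOpens V).1) (range_map_ι_preimage f V)).symm :=
  restrictPreimage_conj (Pts.map f) (ptsOpens V).1 (Pts.map (f ∣_ V)) _ _ _ _
    (map_morphismRestrict f V)

section glue

variable (f : X ⟶ Y) [f.IsOver SC] {ι : Type*} (V : ι → Y.Opens) (hV : IsOpenCover V)
include hV

theorem isClosedEmbedding_map_of_cover
    (h : ∀ i, IsClosedEmbedding (Pts.map (f ∣_ V i))) : IsClosedEmbedding (Pts.map f) := by
  rw [(isOpenCover_ptsOpens V hV).isClosedEmbedding_iff_restrictPreimage (Pts.continuous_map f)]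
  intro i
  rw [restrictPreimage_map]
  exact (Homeomorph.isClosedEmbedding _).comp ((h i).comp (Homeomorph.isClosedEmbedding _))

theorem isEmbedding_map_of_cover
    (h : ∀ i, IsEmbedding (Pts.map (f ∣_ V i))) : IsEmbedding (Pts.map f) := by
  rw [(isOpenCover_ptsOpens V hV).isEmbedding_iff_restrictPreimage (Pts.continuous_map f)]
  intro i
  rw [restrictPreimage_map]
  exact (Homeomorph.isEmbedding _).comp ((h i).comp (Homeomorph.isEmbedding _))

theorem isOpenEmbedding_map_of_cover
    (h : ∀ i, IsOpenEmbedding (Pts.map (f ∣_ V i))) : IsOpenEmbedding (Pts.map f) := by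
  rw [(isOpenCover_ptsOpens V hV).isOpenEmbedding_iff_restrictPreimage (Pts.continuous_map f)]
  intro i
  rw [restrictPreimage_map]
  exact (Homeomorph.isOpenEmbedding _).comp ((h i).comp (Homeomorph.isOpenEmbedding _))

theorem isHomeomorph_map_of_cover
    (h : ∀ i, IsHomeomorph (Pts.map (f ∣_ V i))) : IsHomeomorph (Pts.map f) := by
  rw [(isOpenCover_ptsOpens V hV).isHomeomorph_iff_restrictPreimage (Pts.continuous_map f)]
  intro i
  rw [restrictPreimage_map]
  exact (Homeomorph.isHomeomorph _).comp ((h i).comp (Homeomorph.isHomeomorph _))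

end glue

end

end Groth.Agent.H21
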