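import Groth.Agent.H21.AnInj
import Mathlib.AlgebraicGeometry.Morphisms.Affine
import Mathlib.Algebra.Category.Ring.Constructions

open AlgebraicGeometry CategoryTheory TopologicalSpace Opposite An Topology Limits

namespace Groth.Agent.H21

noncomputable section

/-- A pushout of commutative rings is generated by the images of the two legs. -/
theorem mem_closure_of_isPushout {A B C Q : CommRingCat.{0}} {f : A ⟶ B} {g : A ⟶ C}
    {inl : B ⟶ Q} {inr : C ⟶ Q} (h : IsPushout f g inl inr) (q : Q) :
    q ∈ Subring.closure (Set.range inl.hom ∪ Set.range inr.hom) := by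
  set R' := Subring.closure (Set.range inl.hom ∪ Set.range inr.hom) with hR'
  let inl' : B ⟶ CommRingCat.of R' := CommRingCat.ofHom
    (inl.hom.codRestrict R' (fun b => Subring.subset_closure (Or.inl ⟨b, rfl⟩)))
  let inr' : C ⟶ CommRingCat.of R' := CommRingCat.ofHom
    (inr.hom.codRestrict R' (fun c => Subring.subset_closure (Or.inr ⟨c, rfl⟩)))
  let i : CommRingCat.of R' ⟶ Q := CommRingCat.ofHom R'.subtype
  have hl : inl' ≫ i = inl := rfl
  have hr : inr' ≫ i = inr := rfl
  have w : f ≫ inl' = g ≫ inr' := by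
    ext a
    exact congrArg (fun φ => φ.hom a) h.w
  have key : h.desc inl' inr' w ≫ i = 𝟙 Q := by
    apply h.hom_ext
    · rw [h.inl_desc_assoc, hl, Category.comp_id]
    · rw [h.inr_desc_assoc, hr, Category.comp_id]
  have := congrArg (fun φ => φ.hom q) key
  simp only [CommRingCat.hom_comp, RingHom.coe_comp, Function.comp_apply, CommRingCat.hom_id,
    RingHom.id_apply] at this
  rw [← this]
  exact ((h.desc inl' inr' w).hom q).2

variable {X Y S : Scheme.{0}} [X.Over SC] [Y.Over SC] [S.Over SC]

/-- The canonical map from the complex points of a fibre product to the product of the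
spaces of complex points. -/
def fibMap (f : X ⟶ S) (g : Y ⟶ S) [f.IsOver SC] [g.IsOver SC] :
    Pts (pullback f g) → Pts X × Pts Y :=
  fun z => (Pts.map (pullback.fst f g) z, Pts.map (pullback.snd f g) z)

lemma continuous_fibMap (f : X ⟶ S) (g : Y ⟶ S) [f.IsOver SC] [g.IsOver SC] :
    Continuous (fibMap f g) :=
  (Pts.continuous_map _).prodMk (Pts.continuous_map _)

lemma injective_fibMap (f : X ⟶ S) (g : Y ⟶ S) [f.IsOver SC] [g.IsOver SC] :
    Function.Injective (fibMap f g) := by
  intro z z' h
  apply Subtype.ext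
  apply pullback.hom_ext
  · exact congrArg Subtype.val (congrArg Prod.fst h)
  · exact congrArg Subtype.val (congrArg Prod.snd h)

lemma exists_fibMap_eq (f : X ⟶ S) (g : Y ⟶ S) [f.IsOver SC] [g.IsOver SC] (x : Pts X) (y : Pts Y)
    (h : Pts.map f x = Pts.map g y) : ∃ z, fibMap f g z = (x, y) := by
  have h' : x.1 ≫ f = y.1 ≫ g := congrArg Subtype.val h
  refine ⟨⟨pullback.lift x.1 y.1 h', ?_⟩, ?_⟩
  · change pullback.lift x.1 y.1 h' ≫ (pullback.fst f g ≫ X ↘ SC) = 𝟙 SC
    rw [← Category.assoc, pullback.lift_fst]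
    exact x.2
  · apply Prod.ext
    · apply Subtype.ext
      exact pullback.lift_fst _ _ _
    · apply Subtype.ext
      exact pullback.lift_snd _ _ _

/-- Affine case: a map into the complex points of a fibre product of affine schemes whose two
components are continuous has continuous evaluations. -/
theorem continuous_evTop_comp_of_isAffine [IsAffine X] [IsAffine Y] [IsAffine S]
    (f : X ⟶ S) (g : Y ⟶ S) [f.IsOver SC] [g.IsOver SC] {Z' : Type*} [TopologicalSpace Z']
    (ψ : Z' → Pts (pullback f g)) (hψ : Continuous (fun z' => fibMap f g (ψ z')))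
    (q : Γ(pullback f g, ⊤)) : Continuous (fun z' => (ψ z').evTop q) := by
  have hpo := isPushout_appTop_of_isPullback (IsPullback.of_hasPullback f g)
  have hq := mem_closure_of_isPushout hpo q
  induction hq using Subring.closure_induction with
  | mem a ha =>
    rcases ha with ⟨b, rfl⟩ | ⟨c, rfl⟩
    · have : (fun z' : Z' => (ψ z').evTop ((pullback.fst f g).appTop b))
          = (fun p : Pts X × Pts Y => p.1.evTop b) ∘ (fun z' => fibMap f g (ψ z')) := by
        funext z
        exact (evTop_map (pullback.fst f g) (ψ z) b).symm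
      rw [this]
      exact ((continuous_evTop b).comp continuous_fst).comp hψ
    · have : (fun z' : Z' => (ψ z').evTop ((pullback.snd f g).appTop c))
          = (fun p : Pts X × Pts Y => p.2.evTop c) ∘ (fun z' => fibMap f g (ψ z')) := by
        funext z
        exact (evTop_map (pullback.snd f g) (ψ z) c).symm
      rw [this]
      exact ((continuous_evTop c).comp continuous_snd).comp hψ
  | zero =>
    simp only [ev_zero]
    exact continuous_const
  | one =>
    simp only [ev_one]
    exact continuous_const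
  | add a b _ _ iha ihb =>
    simp only [ev_add]
    exact iha.add ihb
  | neg a _ iha =>
    have : (fun z' : Z' => (ψ z').evTop (-a)) = fun z' => - (ψ z').evTop a := by
      funext z
      exact map_neg (evHom (ψ z) ⊤ (Opens.mem_top _)) a
    rw [this]
    exact iha.neg
  | mul a b _ _ iha ihb =>
    simp only [ev_mul]
    exact iha.mul ihb

/-- Affine case: the topology on the complex points of a fibre product of affine schemes is induced
from the product. -/
theorem isInducing_fibMap_of_isAffine [IsAffine X] [IsAffine Y] [IsAffine S]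
    (f : X ⟶ S) (g : Y ⟶ S) [f.IsOver SC] [g.IsOver SC] : IsInducing (fibMap f g) := by
  constructor
  apply le_antisymm
  · exact (continuous_fibMap f g).le_induced
  · rw [(isInducing_evMap (X := pullback f g)).eq_induced]
    refine (continuous_iff_le_induced (t₁ := TopologicalSpace.induced (fibMap f g) inferInstance)
      (f := evMap (pullback f g))).1 ?_
    refine @continuous_pi _ _ _ (TopologicalSpace.induced (fibMap f g) inferInstance) _ _ ?_
    intro q
    exact @continuous_evTop_comp_of_isAffine _ _ _ _ _ _ _ _ _ f g _ _ (Pts (pullback f g))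
      (TopologicalSpace.induced (fibMap f g) inferInstance) id continuous_induced_dom q

instance resLE_isOver (f : X ⟶ S) [f.IsOver SC] (W : S.Opens) (U : X.Opens) (e : U ≤ f ⁻¹ᵁ W) :
    (f.resLE W U e).IsOver SC :=
  ⟨by
    change f.resLE W U e ≫ (W.ι ≫ S ↘ SC) = U.ι ≫ X ↘ SC
    rw [← Category.assoc, Scheme.Hom.resLE_comp_ι, Category.assoc, comp_over f SC]⟩

/-- The topology on the complex points of a fibre product is induced from the product. -/
theorem isInducing_fibMap (f : X ⟶ S) (g : Y ⟶ S) [f.IsOver SC] [g.IsOver SC] :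
    IsInducing (fibMap f g) := by
  apply isInducing_of_local_charts _ (continuous_fibMap f g)
  intro z
  have hxy : Pts.map f (Pts.map (pullback.fst f g) z) = Pts.map g (Pts.map (pullback.snd f g) z) :=
    Pts.map_pullback_condition f g z
  obtain ⟨W, hW, hsW⟩ := exists_affineOpen_mem (Pts.map f (Pts.map (pullback.fst f g) z)).pt
  have hxW : (Pts.map (pullback.fst f g) z).pt ∈ f ⁻¹ᵁ W := by
    rw [Pts.pt_map] at hsW; exact hsW
  have hyW : (Pts.map (pullback.snd f g) z).pt ∈ g ⁻¹ᵁ W := by
    rw [hxy, Pts.pt_map] at hsW; exact hsW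
  obtain ⟨_, ⟨U', hU, rfl⟩, hxU, hUW⟩ :=
    X.isBasis_affineOpens.exists_subset_of_mem_open hxW (f ⁻¹ᵁ W).2
  obtain ⟨_, ⟨V', hV, rfl⟩, hyV, hVW⟩ :=
    Y.isBasis_affineOpens.exists_subset_of_mem_open hyW (g ⁻¹ᵁ W).2
  let U : X.Opens := U'
  let V : Y.Opens := V'
  have : IsAffine (U : Scheme.{0}) := hU
  have : IsAffine (V : Scheme.{0}) := hV
  have : IsAffine (W : Scheme.{0}) := hW
  let fU : (U : Scheme.{0}) ⟶ (W : Scheme.{0}) := f.resLE W U hUW
  let gV : (V : Scheme.{0}) ⟶ (W : Scheme.{0}) := g.resLE W V hVW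
  have : fU.IsOver SC := resLE_isOver f W U hUW
  have : gV.IsOver SC := resLE_isOver g W V hVW
  let j : pullback fU gV ⟶ pullback f g :=
    pullback.map fU gV f g U.ι V.ι W.ι (Scheme.Hom.resLE_comp_ι f hUW)
      (Scheme.Hom.resLE_comp_ι g hVW)
  have hjfst : j ≫ pullback.fst f g = pullback.fst fU gV ≫ U.ι := pullback.lift_fst _ _ _
  have hjsnd : j ≫ pullback.snd f g = pullback.snd fU gV ≫ V.ι := pullback.lift_snd _ _ _
  have : j.IsOver SC := ⟨by
    change j ≫ (pullback.fst f g ≫ X ↘ SC) = pullback.fst fU gV ≫ (U.ι ≫ X ↘ SC)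
    rw [← Category.assoc, hjfst, Category.assoc]⟩
  have hrange : Set.range j.base = (pullback.fst f g).base ⁻¹' (U : Set X) ∩
      (pullback.snd f g).base ⁻¹' (V : Set Y) := by
    have := Scheme.Pullback.range_map fU gV f g U.ι V.ι W.ι (Scheme.Hom.resLE_comp_ι f hUW)
      (Scheme.Hom.resLE_comp_ι g hVW)
    rw [Scheme.Opens.range_ι, Scheme.Opens.range_ι] at this
    exact this
  refine ⟨Pts (pullback fU gV), Pts (U : Scheme.{0}) × Pts (V : Scheme.{0}), inferInstance,
    inferInstance, Pts.map j, Prod.map (Pts.map U.ι) (Pts.map V.ι), fibMap fU gV,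
    isOpenEmbedding_map_of_isOpenImmersion j,
    (isOpenEmbedding_map_of_isOpenImmersion U.ι).prodMap (isOpenEmbedding_map_of_isOpenImmersion V.ι),
    isInducing_fibMap_of_isAffine fU gV, ?_, ?_, ?_⟩
  · intro a'
    apply Prod.ext
    · apply Subtype.ext
      change (a'.1 ≫ pullback.fst fU gV) ≫ U.ι = (a'.1 ≫ j) ≫ pullback.fst f g
      rw [Category.assoc, Category.assoc, hjfst]
    · apply Subtype.ext
      change (a'.1 ≫ pullback.snd fU gV) ≫ V.ι = (a'.1 ≫ j) ≫ pullback.snd f g
      rw [Category.assoc, Category.assoc, hjsnd]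
  · rintro w ⟨⟨u, v⟩, huv⟩
    rw [range_map_of_isOpenImmersion, Set.mem_preimage, hrange]
    have h1 : Pts.map U.ι u = Pts.map (pullback.fst f g) w := congrArg Prod.fst huv
    have h2 : Pts.map V.ι v = Pts.map (pullback.snd f g) w := congrArg Prod.snd huv
    constructor
    · change (pullback.fst f g) w.pt ∈ U
      rw [← Pts.pt_map, ← h1]
      exact pt_map_ι_mem U u
    · change (pullback.snd f g) w.pt ∈ V
      rw [← Pts.pt_map, ← h2]
      exact pt_map_ι_mem V v
  · rw [range_map_of_isOpenImmersion, Set.mem_preimage, hrange]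
    constructor
    · change (pullback.fst f g) z.pt ∈ U
      rw [← Pts.pt_map]
      exact hxU
    · change (pullback.snd f g) z.pt ∈ V
      rw [← Pts.pt_map]
      exact hyV

/-- Complex points of a fibre product are the fibre product of the spaces of complex points. -/
theorem isHomeomorph_fibre (f : X ⟶ S) (g : Y ⟶ S) [f.IsOver SC] [g.IsOver SC] :
    IsHomeomorph (fun z : Pts (pullback f g) =>
      (⟨(Pts.map (pullback.fst f g) z, Pts.map (pullback.snd f g) z),
        Pts.map_pullback_condition f g z⟩ :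
        {q : Pts X × Pts Y // Pts.map f q.1 = Pts.map g q.2})) := by
  rw [isHomeomorph_iff_isEmbedding_surjective]
  refine ⟨⟨?_, ?_⟩, ?_⟩
  · exact (Topology.IsInducing.of_comp_iff IsInducing.subtypeVal).1 (isInducing_fibMap f g)
  · intro z z' h
    exact injective_fibMap f g (congrArg Subtype.val h)
  · rintro ⟨⟨x, y⟩, h⟩
    obtain ⟨z, hz⟩ := exists_fibMap_eq f g x y h
    exact ⟨z, Subtype.ext hz⟩

end

end Groth.Agent.H21
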