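import Groth.Agent.H21.EtaleStd
import Groth.Agent.H21.AnFiber
import Groth.Prelude.Def_AnEps
import Mathlib.AlgebraicGeometry.Morphisms.Etale
import Mathlib.RingTheory.Unramified.LocalStructure

open AlgebraicGeometry CategoryTheory TopologicalSpace Opposite An Topology Set

namespace Groth.Agent.H21

/-- A map which, locally on the source, is conjugate via open embeddings to a local homeomorphism
is a local homeomorphism. -/
theorem isLocalHomeomorph_of_local_charts {A B : Type*} [TopologicalSpace A] [TopologicalSpace B]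
    (f : A → B)
    (H : ∀ a : A, ∃ (A' B' : Type) (_ : TopologicalSpace A') (_ : TopologicalSpace B')
      (j : A' → A) (k : B' → B) (f' : A' → B'),
      IsOpenEmbedding j ∧ IsOpenEmbedding k ∧ IsLocalHomeomorph f' ∧
        (∀ a', k (f' a') = f (j a')) ∧ a ∈ range j) : IsLocalHomeomorph f := by
  apply IsLocalHomeomorph.mk
  intro a
  obtain ⟨A', B', _, _, j, k, f', hj, hk, hf', comm, ⟨a', rfl⟩⟩ := H a
  obtain ⟨e', ha', he'⟩ := hf' a'
  have : Nonempty A' := ⟨a'⟩
  have : Nonempty B' := ⟨f' a'⟩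
  refine ⟨(hj.toOpenPartialHomeomorph j).symm.trans
    (e'.trans (hk.toOpenPartialHomeomorph k)), ?_, ?_⟩
  · simp [IsOpenEmbedding.toOpenPartialHomeomorph_left_inv, ha']
  · intro z hz
    simp only [OpenPartialHomeomorph.trans_source, OpenPartialHomeomorph.symm_source,
      IsOpenEmbedding.toOpenPartialHomeomorph_target, IsOpenEmbedding.toOpenPartialHomeomorph_source,
      preimage_univ, inter_univ, mem_inter_iff, mem_preimage] at hz
    obtain ⟨⟨z', rfl⟩, hz'⟩ := hz
    simp only [OpenPartialHomeomorph.coe_trans, Function.comp_apply,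
      IsOpenEmbedding.toOpenPartialHomeomorph_left_inv, IsOpenEmbedding.toOpenPartialHomeomorph_apply]
    rw [← comm, he']

noncomputable section

variable {X Y : Scheme.{0}} [X.Over SC] [Y.Over SC]

/-- Around any complex point, an étale morphism is standard étale on suitable affine opens. -/
theorem exists_standardEtale_nbhd (g : X ⟶ Y) [Etale g] (x : Pts X) :
    ∃ (V : Y.Opens) (U : X.Opens) (_ : IsAffineOpen V) (_ : IsAffineOpen U) (e : U ≤ g ⁻¹ᵁ V),
      x.pt ∈ U ∧ @Algebra.IsStandardEtale Γ(Y, V) Γ(X, U) _ _ (g.appLE V U e).hom.toAlgebra := by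
  obtain ⟨V, hV, hpV⟩ := exists_affineOpen_mem (g x.pt)
  have hpre : x.pt ∈ g ⁻¹ᵁ V := hpV
  obtain ⟨_, ⟨U₀', hU₀, rfl⟩, hpU₀, hU₀V⟩ :=
    X.isBasis_affineOpens.exists_subset_of_mem_open hpre (g ⁻¹ᵁ V).2
  let U₀ : X.Opens := U₀'
  have e₀ : U₀ ≤ g ⁻¹ᵁ V := hU₀V
  have het : (g.appLE V U₀ e₀).hom.Etale := g.etale_appLE hV hU₀ e₀
  let _ : Algebra Γ(Y, V) Γ(X, U₀) := (g.appLE V U₀ e₀).hom.toAlgebra
  have : Algebra.Etale Γ(Y, V) Γ(X, U₀) := het
  let Q : Ideal Γ(X, U₀) := RingHom.ker (evHom x U₀ hpU₀)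
  have : Q.IsPrime := RingHom.ker_isPrime _
  have : Algebra.IsEtaleAt Γ(Y, V) Q :=
    Algebra.FormallyEtale.comp Γ(Y, V) Γ(X, U₀) (Localization.AtPrime Q)
  obtain ⟨f, hfQ, hstd⟩ := Algebra.IsEtaleAt.exists_isStandardEtale (R := Γ(Y, V)) Q
  have hpf : x.pt ∈ X.basicOpen f := (mem_basicOpen_iff x U₀ hpU₀ f).2 hfQ
  have hle : X.basicOpen f ≤ U₀ := X.basicOpen_le f
  refine ⟨V, X.basicOpen f, hV, hU₀.basicOpen f, hle.trans e₀, hpf, ?_⟩
  let _ : Algebra Γ(Y, V) Γ(X, X.basicOpen f) :=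
    (g.appLE V (X.basicOpen f) (hle.trans e₀)).hom.toAlgebra
  have : IsScalarTower Γ(Y, V) Γ(X, U₀) Γ(X, X.basicOpen f) :=
    IsScalarTower.of_algebraMap_eq' (by
      simp only [RingHom.algebraMap_toAlgebra]
      rw [← CommRingCat.hom_comp, Scheme.Hom.appLE_map])
  have : IsLocalization.Away f Γ(X, X.basicOpen f) := hU₀.isLocalization_basicOpen f
  exact Algebra.IsStandardEtale.of_equiv
    ((IsLocalization.algEquiv (Submonoid.powers f) (Localization.Away f)
      Γ(X, X.basicOpen f)).restrictScalars Γ(Y, V))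

/-- Étale morphisms of schemes locally of finite type over `ℂ` induce local homeomorphisms on
complex points. (No finiteness hypothesis is actually needed.) -/
theorem isLocalHomeomorph_map_of_etale (g : X ⟶ Y) [g.IsOver SC] [Etale g] :
    IsLocalHomeomorph (Pts.map g) := by
  apply isLocalHomeomorph_of_local_charts
  intro x
  obtain ⟨V, U, hV, hU, e, hxU, hstd⟩ := exists_standardEtale_nbhd g x
  have : IsAffine (U : Scheme.{0}) := hU
  have : IsAffine (V : Scheme.{0}) := hV
  let gU : (U : Scheme.{0}) ⟶ (V : Scheme.{0}) := g.resLE V U e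
  have : gU.IsOver SC := resLE_isOver g V U e
  refine ⟨Pts (U : Scheme.{0}), Pts (V : Scheme.{0}), inferInstance, inferInstance,
    Pts.map U.ι, Pts.map V.ι, Pts.map gU,
    isOpenEmbedding_map_of_isOpenImmersion _, isOpenEmbedding_map_of_isOpenImmersion _, ?_, ?_, ?_⟩
  · let _ : Algebra Γ(Y, V) Γ(X, U) := (g.appLE V U e).hom.toAlgebra
    obtain ⟨Pst⟩ := hstd.nonempty_standardEtalePresentation
    refine isLocalHomeomorph_map_of_standardEtale gU Pst
      V.topIso.symm.commRingCatIsoToRingEquiv U.topIso.symm.commRingCatIsoToRingEquiv ?_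
    intro r
    change (gU.app ⊤).hom (V.topIso.inv.hom r) = U.topIso.inv.hom ((g.appLE V U e).hom r)
    rw [Scheme.Hom.resLE_app_top]
    change (V.topIso.inv ≫ V.topIso.hom ≫ g.appLE V U e ≫ U.topIso.inv).hom r
      = (g.appLE V U e ≫ U.topIso.inv).hom r
    rw [Iso.inv_hom_id_assoc]
  · intro a'
    apply Subtype.ext
    change (a'.1 ≫ gU) ≫ V.ι = (a'.1 ≫ U.ι) ≫ g
    rw [Category.assoc, Category.assoc, Scheme.Hom.resLE_comp_ι]
  · exact ⟨liftOpens U x hxU, map_liftOpens U x hxU⟩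

theorem etaleLH : An.EtaleLH := by
  intro X Y _ _ _ g _ _
  exact isLocalHomeomorph_map_of_etale g

end

end Groth.Agent.H21
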