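import Groth.Agent.H21.AnProper
import Groth.Agent.H21.EtaleLH
import Groth.Agent.H21.AnRestrict
import Mathlib.AlgebraicGeometry.Morphisms.Finite
import Mathlib.Topology.Covering.Basic

open AlgebraicGeometry CategoryTheory TopologicalSpace Opposite An Topology Set

namespace Groth.Agent.H21

noncomputable section

variable {X Y : Scheme.{0}} [X.Over SC] [Y.Over SC]

/-- An integral morphism to an affine scheme induces a proper map on complex points. -/
theorem isProperMap_map_of_isIntegralHom_of_isAffine [IsAffine Y] (f : X ⟶ Y) [f.IsOver SC]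
    [IsIntegralHom f] : IsProperMap (Pts.map f) := by
  have : IsAffine X := isAffine_of_isAffineHom f
  exact isProperMap_map_of_isIntegral f (f.isIntegral_app ⊤ (isAffineOpen_top Y))

/-- Affine-target case: a finite étale morphism induces a finite covering map. -/
theorem isCoveringMap_map_of_finite_etale_of_isAffine [IsAffine Y] (f : X ⟶ Y) [f.IsOver SC]
    [IsFinite f] [Etale f] :
    IsCoveringMap (Pts.map f) ∧ ∀ y : Pts Y, (Pts.map f ⁻¹' {y}).Finite := by
  have : IsAffine X := isAffine_of_isAffineHom f
  have hprop := isProperMap_map_of_isIntegralHom_of_isAffine f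
  have hLH := isLocalHomeomorph_map_of_etale f
  have hfin : ∀ y : Pts Y, (Pts.map f ⁻¹' {y}).Finite := fun y =>
    (hprop.isCompact_preimage isCompact_singleton).finite
      (IsDiscrete.of_openPartialHomeomorph (Pts.map f) subset_rfl (fun e _ => by
        obtain ⟨φ, h1, h2⟩ := hLH e
        exact ⟨φ, h1, h2.symm⟩))
  refine ⟨?_, hfin⟩
  rw [isCoveringMap_iff_isCoveringMapOn_univ]
  apply hprop.isClosedMap.isCoveringMapOn_of_isLocalHomeomorphOn (fun y _ => hfin y)
  rw [preimage_univ]
  exact isLocalHomeomorph_iff_isLocalHomeomorphOn_univ.1 hLH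

/-- A finite étale morphism induces a covering map with finite fibres on complex points. -/
theorem isCoveringMap_map_of_finite_etale (f : X ⟶ Y) [f.IsOver SC] [IsFinite f] [Etale f] :
    IsCoveringMap (Pts.map f) ∧ ∀ y : Pts Y, (Pts.map f ⁻¹' {y}).Finite := by
  have key : ∀ y : Pts Y, IsEvenlyCovered (Pts.map f) y (Pts.map f ⁻¹' {y}) ∧
      (Pts.map f ⁻¹' {y}).Finite := by
    intro y
    obtain ⟨V, hV, hyV⟩ := exists_affineOpen_mem y.pt
    have : IsAffine (V : Scheme.{0}) := hV
    obtain ⟨hcov, hfin⟩ := isCoveringMap_map_of_finite_etale_of_isAffine (f ∣_ V)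
    constructor
    · have h1 : IsCoveringMap ((ptsOpens V).1.restrictPreimage (Pts.map f)) := by
        rw [restrictPreimage_map]
        exact (hcov.comp_homeomorph _).homeomorph_comp _
      have h2 : IsCoveringMapOn (Pts.map f) (ptsOpens V).1 :=
        IsCoveringMapOn.of_isCoveringMap_restrictPreimage _ (ptsOpens V).2
          ((ptsOpens V).2.preimage (Pts.continuous_map f)) h1
      exact h2 y hyV
    · let y' := liftOpens V y hyV
      have hy' : Pts.map V.ι y' = y := map_liftOpens V y hyV
      refine ((hfin y').image (Pts.map (f ⁻¹ᵁ V).ι)).subset ?_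
      intro x hx
      have hx' : Pts.map f x = y := hx
      have hxV : x.pt ∈ f ⁻¹ᵁ V := by
        change f x.pt ∈ V
        rw [← Pts.pt_map, hx']
        exact hyV
      refine ⟨liftOpens (f ⁻¹ᵁ V) x hxV, ?_, map_liftOpens _ x hxV⟩
      apply injective_map_of_mono V.ι
      rw [map_morphismRestrict, map_liftOpens, hy']
      exact hx'
  exact ⟨fun y => (key y).1, fun y => (key y).2⟩

end

end Groth.Agent.H21
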