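import Mathlib.Topology.Constructible
import Mathlib.Topology.JacobsonSpace
import Mathlib.Topology.LocallyClosed

open TopologicalSpace Topology Set

namespace Groth.Agent.H21

variable {X : Type*} [TopologicalSpace X]

/-- Every point of a constructible set lies in a locally closed subset of it. -/
theorem exists_isLocallyClosed_of_isConstructible {s : Set X} (hs : IsConstructible s) :
    ∀ x ∈ s, ∃ Z, IsLocallyClosed Z ∧ x ∈ Z ∧ Z ⊆ s := by
  induction s, hs using BooleanSubalgebra.closure_sdiff_sup_induction with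
  | isSublattice =>
    exact ⟨fun s hs t ht ↦ ⟨hs.1.union ht.1, hs.2.union ht.2⟩,
      fun s hs t ht ↦ ⟨hs.1.inter ht.1, hs.2.inter_isOpen ht.2 ht.1⟩⟩
  | bot_mem => exact ⟨isOpen_empty, .empty⟩
  | top_mem => exact ⟨isOpen_univ, .univ⟩
  | sdiff U hU V hV =>
    intro x hx
    exact ⟨U \ V, hU.1.isLocallyClosed.inter hV.1.isClosed_compl.isLocallyClosed, hx, subset_rfl⟩
  | sup s _ t _ hs' ht' =>
    rintro x (hx | hx)
    · obtain ⟨Z, hZ, hxZ, hZs⟩ := hs' x hx
      exact ⟨Z, hZ, hxZ, hZs.trans subset_union_left⟩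
    · obtain ⟨Z, hZ, hxZ, hZs⟩ := ht' x hx
      exact ⟨Z, hZ, hxZ, hZs.trans subset_union_right⟩

/-- Every point of a locally constructible set lies in a locally closed subset of it. -/
theorem exists_isLocallyClosed_of_isLocallyConstructible {s : Set X}
    (hs : IsLocallyConstructible s) {x : X} (hx : x ∈ s) :
    ∃ Z, IsLocallyClosed Z ∧ x ∈ Z ∧ Z ⊆ s := by
  obtain ⟨U, hUx, hU, hUs⟩ := hs x
  have hxU : x ∈ U := mem_of_mem_nhds hUx
  obtain ⟨Z', hZ', hxZ', hZ's⟩ := exists_isLocallyClosed_of_isConstructible hUs ⟨x, hxU⟩ hx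
  refine ⟨Subtype.val '' Z', ?_, ⟨⟨x, hxU⟩, hxZ', rfl⟩, ?_⟩
  · apply hZ'.image IsInducing.subtypeVal
    rw [Subtype.range_coe]
    exact hU.isLocallyClosed
  · rintro _ ⟨z, hz, rfl⟩
    exact hZ's hz

theorem isLocallyConstructible_compl {s : Set X} (hs : IsLocallyConstructible s) :
    IsLocallyConstructible sᶜ := by
  intro x
  obtain ⟨U, hUx, hU, hUs⟩ := hs x
  exact ⟨U, hUx, hU, by rw [preimage_compl]; exact hUs.compl⟩

/-- A nonempty locally constructible subset of a Jacobson space contains a closed point. -/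
theorem nonempty_inter_closedPoints_of_isLocallyConstructible [JacobsonSpace X] {s : Set X}
    (hs : IsLocallyConstructible s) (hne : s.Nonempty) : (s ∩ closedPoints X).Nonempty := by
  obtain ⟨x, hx⟩ := hne
  obtain ⟨Z, hZ, hxZ, hZs⟩ := exists_isLocallyClosed_of_isLocallyConstructible hs hx
  obtain ⟨y, hyZ, hy⟩ := nonempty_inter_closedPoints ⟨x, hxZ⟩ hZ
  exact ⟨y, hZs hyZ, hy⟩

/-- A locally constructible subset of a Jacobson space containing all closed points is
everything. -/
theorem eq_univ_of_closedPoints_subset [JacobsonSpace X] {s : Set X}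
    (hs : IsLocallyConstructible s) (h : closedPoints X ⊆ s) : s = univ := by
  by_contra hne
  have hne' : (sᶜ).Nonempty := by
    rw [nonempty_compl]; exact hne
  obtain ⟨y, hys, hy⟩ := nonempty_inter_closedPoints_of_isLocallyConstructible
    (isLocallyConstructible_compl hs) hne'
  exact hys (h hy)

end Groth.Agent.H21
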