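import Groth.Agent.H21.AnClosedPts
import Groth.Agent.H21.ConstrTop
import Mathlib.AlgebraicGeometry.PullbackCarrier

open AlgebraicGeometry CategoryTheory TopologicalSpace Opposite An Topology Limits

namespace Groth.Agent.H21

noncomputable section

variable {X Y : Scheme.{0}} [X.Over SC] [Y.Over SC]

/-- If `p ∈ X` lies over the point underlying the complex point `y` of `Y`, then there is a complex
point of `X` over `y` (when `X` is locally of finite type over `ℂ`). -/
theorem exists_map_eq_of_mem_fiber (f : X ⟶ Y) [f.IsOver SC] [LocallyOfFiniteType (X ↘ SC)]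
    (y : Pts Y) (p : X) (hp : f p = y.pt) : ∃ x : Pts X, Pts.map f x = y := by
  have := lft_of_isOver f
  let P : Scheme.{0} := pullback f y.1
  let _ : P.Over SC := ⟨pullback.snd f y.1⟩
  have : LocallyOfFiniteType (P ↘ SC) :=
    inferInstanceAs (LocallyOfFiniteType (pullback.snd f y.1))
  obtain ⟨z, -, -⟩ := Scheme.Pullback.exists_preimage_pullback (f := f) (g := y.1) p cpt hp
  obtain ⟨w⟩ := (nonempty_iff_nonempty_pts (X := P)).1 ⟨z⟩
  have hw : w.1 ≫ pullback.snd f y.1 = 𝟙 SC := w.2
  refine ⟨⟨w.1 ≫ pullback.fst f y.1, ?_⟩, ?_⟩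
  · rw [Category.assoc, ← comp_over f SC, ← Category.assoc (pullback.fst f y.1),
      pullback.condition, Category.assoc, y.2, Category.comp_id]
    exact hw
  · apply Subtype.ext
    change (w.1 ≫ pullback.fst f y.1) ≫ f = y.1
    rw [Category.assoc, pullback.condition, ← Category.assoc, hw, Category.id_comp]

theorem surjective_map_of_surjective (f : X ⟶ Y) [f.IsOver SC] [LocallyOfFiniteType (X ↘ SC)]
    (hf : Function.Surjective f.base) : Function.Surjective (Pts.map f) := by
  intro y
  obtain ⟨p, hp⟩ := hf y.pt
  exact exists_map_eq_of_mem_fiber f y p hp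

theorem surjective_of_surjective_map (f : X ⟶ Y) [f.IsOver SC] [LocallyOfFiniteType (X ↘ SC)]
    [LocallyOfFiniteType (Y ↘ SC)] [QuasiCompact f]
    (hf : Function.Surjective (Pts.map f)) : Function.Surjective f.base := by
  have := lfp_of_isOver f
  have := jacobsonSpace_of_lft (X := Y)
  have hc : IsLocallyConstructible (Set.range f.base) := by
    rw [← Set.image_univ]
    exact f.isLocallyConstructible_image IsLocallyConstructible.univ
  have hsub : closedPoints Y ⊆ Set.range f.base := by
    intro q hq
    obtain ⟨y, rfl⟩ := exists_pts_of_isClosed_singleton q hq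
    obtain ⟨x, rfl⟩ := hf y
    rw [Pts.pt_map]
    exact ⟨x.pt, rfl⟩
  exact Set.range_eq_univ.1 (eq_univ_of_closedPoints_subset hc hsub)

end

end Groth.Agent.H21
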