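import Groth.Agent.H21.DensCore
import Groth.Agent.H21.AnSurj
import Mathlib.RingTheory.Ideal.MinimalPrime.Basic
import Mathlib.RingTheory.Ideal.Operations

open AlgebraicGeometry CategoryTheory TopologicalSpace Opposite An Topology

namespace Groth.Agent.H21

set_option linter.unusedSectionVars false

noncomputable section

variable {X : Scheme.{0}} [X.Over SC]

/-- The prime ideal of global sections vanishing at a point. -/
def vanIdeal (p : X) : Ideal Γ(X, ⊤) :=
  Ideal.comap (X.presheaf.germ ⊤ p trivial).hom (IsLocalRing.maximalIdeal (X.presheaf.stalk p))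

lemma mem_vanIdeal_iff (p : X) (a : Γ(X, ⊤)) : a ∈ vanIdeal p ↔ p ∉ X.basicOpen a := by
  rw [Scheme.mem_basicOpen_top]
  exact IsLocalRing.mem_maximalIdeal _

instance (p : X) : (vanIdeal p).IsPrime := Ideal.comap_isPrime _ _

/-- Evaluation at a complex point as a `ℂ`-algebra homomorphism (for the algebra structure given
by the structure morphism). -/
def evAlgHom (x : Pts X) :
    letI : Algebra ℂ Γ(X, ⊤) := (strHom X).toAlgebra
    Γ(X, ⊤) →ₐ[ℂ] ℂ :=
  letI : Algebra ℂ Γ(X, ⊤) := (strHom X).toAlgebra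
  { evHom x ⊤ (Opens.mem_top _) with
    commutes' := fun c => evTop_strHom x c }

/-- Basic case of the density theorem on an affine scheme: the constructible set
`D(f) \ ⋃ D(g)`. -/
theorem mem_closure_pts_basic [IsAffine X] [LocallyOfFiniteType (X ↘ SC)]
    (f : Γ(X, ⊤)) (s : Set Γ(X, ⊤)) (x : Pts X)
    (hx : x.pt ∈ closure ((X.basicOpen f : Set X) \ ⋃ g ∈ s, (X.basicOpen g : Set X))) :
    x ∈ closure (Pts.pt ⁻¹' ((X.basicOpen f : Set X) \ ⋃ g ∈ s, (X.basicOpen g : Set X))) := by
  let _ : Algebra ℂ Γ(X, ⊤) := (strHom X).toAlgebra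
  have hft : Algebra.FiniteType ℂ Γ(X, ⊤) := strHom_finiteType
  set T : Set X := (X.basicOpen f : Set X) \ ⋃ g ∈ s, (X.basicOpen g : Set X) with hT
  -- the maximal ideal of the point
  let q : Ideal Γ(X, ⊤) := RingHom.ker (evHom x ⊤ (Opens.mem_top _))
  have hq : q.IsPrime := RingHom.ker_isPrime _
  let I : Ideal Γ(X, ⊤) := Ideal.span s
  let S : Submonoid Γ(X, ⊤) := q.primeCompl ⊔ Submonoid.powers f
  -- a prime between I and q avoiding f
  have hdisj : Disjoint (I : Set Γ(X, ⊤)) (S : Set Γ(X, ⊤)) := by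
    rw [Set.disjoint_left]
    intro c hcI hcS
    obtain ⟨u, hu, v, ⟨N, rfl⟩, rfl⟩ := Submonoid.mem_sup.1 hcS
    -- D(u) is a neighbourhood of x.pt missing T
    have hxu : x.pt ∈ X.basicOpen u := by
      rw [mem_basicOpen_iff x ⊤ (Opens.mem_top _)]
      exact hu
    obtain ⟨p', hp'u, hp'T⟩ := mem_closure_iff.1 hx _ (X.basicOpen u).2 hxu
    have hIle : I ≤ vanIdeal p' := by
      rw [Ideal.span_le]
      intro g hg
      rw [SetLike.mem_coe, mem_vanIdeal_iff]
      intro hmem
      exact hp'T.2 (Set.mem_biUnion hg hmem)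
    have h1 : u * f ^ N ∈ vanIdeal p' := hIle hcI
    rcases Ideal.IsPrime.mem_or_mem inferInstance h1 with h2 | h2
    · exact (mem_vanIdeal_iff p' u).1 h2 hp'u
    · have h3 : f ∈ vanIdeal p' := Ideal.IsPrime.mem_of_pow_mem inferInstance N h2
      exact (mem_vanIdeal_iff p' f).1 h3 hp'T.1
  obtain ⟨p, hpprime, hIp, hpS⟩ := Ideal.exists_le_prime_disjoint I S hdisj
  have hfp : f ∉ p := by
    intro hf
    exact Set.disjoint_left.1 hpS hf
      (Submonoid.mem_sup_right (Submonoid.mem_powers f))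
  have hpq : p ≤ q := by
    intro c hc
    by_contra hcq
    exact Set.disjoint_left.1 hpS hc (Submonoid.mem_sup_left hcq)
  -- the quotient domain
  have hdom : IsDomain (Γ(X, ⊤) ⧸ p) := Ideal.Quotient.isDomain p
  have hftq : Algebra.FiniteType ℂ (Γ(X, ⊤) ⧸ p) :=
    Algebra.FiniteType.of_surjective (Ideal.Quotient.mkₐ ℂ p) Ideal.Quotient.mk_surjective
  let φ₀ : (Γ(X, ⊤) ⧸ p) →ₐ[ℂ] ℂ := Ideal.Quotient.liftₐ p (evAlgHom x) (fun a ha => hpq ha)
  have hφ₀ : ∀ a, φ₀ (Ideal.Quotient.mk p a) = x.evTop a := fun a => rfl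
  have hfne : (Ideal.Quotient.mk p f) ≠ 0 := by
    rw [Ne, Ideal.Quotient.eq_zero_iff_mem]
    exact hfp
  -- neighbourhoods
  rw [mem_closure_iff_nhds]
  intro N hN
  rw [isInducing_evMap.nhds_eq_comap] at hN
  obtain ⟨W, hW, hWN⟩ := hN
  obtain ⟨W', hW'sub, hW'open, hW'mem⟩ := mem_nhds_iff.1 hW
  obtain ⟨J, u, hu, hJsub⟩ := isOpen_pi_iff.1 hW'open (evMap X x) hW'mem
  -- a uniform radius
  have hrad : ∀ a ∈ J, ∃ r > 0, Metric.ball (x.evTop a) r ⊆ u a := by
    intro a ha
    exact Metric.isOpen_iff.1 (hu a ha).1 _ (hu a ha).2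
  choose! r hrpos hrsub using hrad
  have hε : ∃ ε > 0, ∀ a ∈ J, ε ≤ r a := by
    by_cases hJ : J.Nonempty
    · obtain ⟨a₀, ha₀, hmin⟩ := J.exists_min_image r hJ
      exact ⟨r a₀, hrpos a₀ ha₀, hmin⟩
    · rw [Finset.not_nonempty_iff_eq_empty] at hJ
      exact ⟨1, one_pos, fun a ha => by rw [hJ] at ha; simp at ha⟩
  obtain ⟨ε, hεpos, hεle⟩ := hε
  let a : Fin J.card → (Γ(X, ⊤) ⧸ p) := fun i => Ideal.Quotient.mk p (J.equivFin.symm i).1
  obtain ⟨φ, hφf, hφa⟩ := exists_algHom_near φ₀ (Ideal.Quotient.mk p f) hfne a hεpos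
  let φ' : Γ(X, ⊤) →+* ℂ := (φ : (Γ(X, ⊤) ⧸ p) →+* ℂ).comp (Ideal.Quotient.mk p)
  have hφ' : ∀ c, φ' (strHom X c) = c := by
    intro c
    have := φ.commutes c
    exact this
  let y : Pts X := ptsOfHom φ' hφ'
  have hy : ∀ b, y.evTop b = φ (Ideal.Quotient.mk p b) := fun b => ptsOfHom_evTop φ' hφ' b
  refine ⟨y, hWN ?_, ?_⟩
  · -- y ∈ N
    apply hW'sub
    apply hJsub
    intro b hb
    apply hrsub b hb
    rw [Metric.mem_ball, dist_eq_norm]
    change ‖y.evTop b - x.evTop b‖ < r b
    have := hφa (J.equivFin ⟨b, hb⟩)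
    simp only [a, Equiv.symm_apply_apply, hφ₀] at this
    rw [hy]
    exact lt_of_lt_of_le this (hεle b hb)
  · -- y lies in T
    refine ⟨?_, ?_⟩
    · change y.pt ∈ X.basicOpen f
      rw [mem_basicOpen_iff y ⊤ (Opens.mem_top _)]
      change y.evTop f ≠ 0
      rw [hy]
      exact hφf
    · intro hmem
      obtain ⟨g, hg, hyg⟩ := Set.mem_iUnion₂.1 hmem
      have h1 : y.pt ∈ X.basicOpen g := hyg
      rw [mem_basicOpen_iff y ⊤ (Opens.mem_top _)] at h1
      apply h1
      change y.evTop g = 0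
      rw [hy]
      have : Ideal.Quotient.mk p g = 0 :=
        Ideal.Quotient.eq_zero_iff_mem.2 (hIp (Ideal.subset_span hg))
      rw [this, map_zero]

/-- The density theorem for constructible subsets of an affine scheme. -/
theorem mem_closure_pts_of_isConstructible [IsAffine X] [LocallyOfFiniteType (X ↘ SC)]
    (T : Set X) (hT : IsConstructible T) :
    ∀ x : Pts X, x.pt ∈ closure T → x ∈ closure (Pts.pt ⁻¹' T) := by
  have hbasis : IsTopologicalBasis (Set.range (fun f : Γ(X, ⊤) => (X.basicOpen f : Set X))) := by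
    have := isBasis_basicOpen X
    rw [Opens.IsBasis, ← Set.range_comp] at this
    exact this
  induction T, hT using IsConstructible.induction_of_isTopologicalBasis
    (fun f : Γ(X, ⊤) => (X.basicOpen f : Set X)) hbasis with
  | isCompact_basis f => exact ((isAffineOpen_top X).basicOpen f).isCompact
  | sdiff f s hs => exact fun x hx => mem_closure_pts_basic f s x hx
  | union s hs t ht ihs iht =>
    intro x hx
    rw [closure_union] at hx
    rw [Set.preimage_union, closure_union]
    rcases hx with hx | hx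
    · exact Or.inl (ihs x hx)
    · exact Or.inr (iht x hx)

/-- **Density theorem.** For `X` locally of finite type over `ℂ` and `T ⊆ X` locally constructible,
the complex points lying in the closure of `T` are the closure of the complex points in `T`. -/
theorem preimage_closure_eq_closure_preimage [LocallyOfFiniteType (X ↘ SC)]
    (T : Set X) (hT : IsLocallyConstructible T) :
    (Pts.pt ⁻¹' closure T : Set (Pts X)) = closure (Pts.pt ⁻¹' T) := by
  apply Set.Subset.antisymm
  · intro x hx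
    obtain ⟨U, hU, hxU⟩ := exists_affineOpen_mem x.pt
    have : IsAffine (U : Scheme.{0}) := hU
    set x' := liftOpens U x hxU with hx'
    have hxx' : Pts.map U.ι x' = x := map_liftOpens U x hxU
    let T' : Set (U : Scheme.{0}) := U.ι ⁻¹' T
    have hT' : IsConstructible T' :=
      (hT.preimage_of_isOpenEmbedding U.ι.isOpenEmbedding).isConstructible
    have hx'cl : x'.pt ∈ closure T' := by
      rw [← U.ι.isOpenEmbedding.isOpenMap.preimage_closure_eq_closure_preimage U.ι.continuous]
      change U.ι x'.pt ∈ closure T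
      rw [← Pts.pt_map, hxx']
      exact hx
    have h1 := mem_closure_pts_of_isConstructible T' hT' x' hx'cl
    have h2 : Pts.map U.ι x' ∈ closure (Pts.map U.ι '' (Pts.pt ⁻¹' T')) :=
      image_closure_subset_closure_image (Pts.continuous_map U.ι) ⟨x', h1, rfl⟩
    rw [hxx'] at h2
    refine closure_mono ?_ h2
    rintro _ ⟨y, hy, rfl⟩
    change (Pts.map U.ι y).pt ∈ T
    rw [Pts.pt_map]
    exact hy
  · exact (Pts.continuous_pt.closure_preimage_subset T)

end

end Groth.Agent.H21
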