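import Groth.Agent.H21.AnDense
import Mathlib.AlgebraicGeometry.Noetherian

open AlgebraicGeometry CategoryTheory TopologicalSpace Opposite An Topology

namespace Groth.Agent.H21

set_option linter.unusedSectionVars false

noncomputable section

variable {X Y : Scheme.{0}} [X.Over SC] [Y.Over SC]

/-- Open subsets of a locally Noetherian scheme are locally constructible. -/
theorem isLocallyConstructible_of_isOpen [IsLocallyNoetherian X] {O : Set X} (hO : IsOpen O) :
    IsLocallyConstructible O := by
  intro p
  obtain ⟨_, ⟨U', hU, rfl⟩, hpU, -⟩ :=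
    X.isBasis_affineOpens.exists_subset_of_mem_open (Set.mem_univ p) isOpen_univ
  let U : X.Opens := U'
  have : IsNoetherianRing Γ(X, U) := IsLocallyNoetherian.component_noetherian ⟨U, hU⟩
  have hN : NoetherianSpace ((U : Set X) : Type) := noetherianSpace_of_isAffineOpen U hU
  refine ⟨U, U.2.mem_nhds hpU, U.2, ?_⟩
  apply IsRetrocompact.isConstructible (hO.preimage continuous_subtype_val)
  intro K _ _
  exact NoetherianSpace.isCompact _

theorem isLocallyConstructible_of_isClosed [IsLocallyNoetherian X] {Z : Set X} (hZ : IsClosed Z) :
    IsLocallyConstructible Z := by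
  have := isLocallyConstructible_compl (isLocallyConstructible_of_isOpen hZ.isOpen_compl)
  rwa [compl_compl] at this

theorem isLocallyConstructible_of_isLocallyClosed [IsLocallyNoetherian X] {Z : Set X}
    (hZ : IsLocallyClosed Z) : IsLocallyConstructible Z := by
  obtain ⟨O, C, hO, hC, rfl⟩ := hZ
  exact (isLocallyConstructible_of_isOpen hO).inter (isLocallyConstructible_of_isClosed hC)

/-- A locally constructible set is closed iff its set of complex points is closed. -/
theorem isClosed_iff_isClosed_preimage_pt [LocallyOfFiniteType (X ↘ SC)] (T : Set X)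
    (hT : IsLocallyConstructible T) :
    IsClosed T ↔ IsClosed (Pts.pt ⁻¹' T : Set (Pts X)) := by
  constructor
  · intro h
    exact h.preimage Pts.continuous_pt
  · intro h
    have := jacobsonSpace_of_lft (X := X)
    have := isLocallyNoetherian_of_lft (X := X)
    have h1 : (Pts.pt ⁻¹' closure T : Set (Pts X)) = Pts.pt ⁻¹' T := by
      rw [preimage_closure_eq_closure_preimage T hT, h.closure_eq]
    -- closure T \ T has no closed points
    by_contra hncl
    have hne : (closure T \ T).Nonempty := by
      by_contra hemp
      rw [Set.not_nonempty_iff_eq_empty, Set.sdiff_eq_empty] at hemp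
      exact hncl (closure_eq_iff_isClosed.1 (Set.Subset.antisymm hemp subset_closure))
    have hlc : IsLocallyConstructible (closure T \ T) := by
      rw [Set.sdiff_eq]
      exact (isLocallyConstructible_of_isClosed isClosed_closure).inter
        (isLocallyConstructible_compl hT)
    obtain ⟨q, ⟨hq1, hq2⟩, hq⟩ := nonempty_inter_closedPoints_of_isLocallyConstructible hlc hne
    obtain ⟨x, rfl⟩ := exists_pts_of_isClosed_singleton q hq
    have : x ∈ (Pts.pt ⁻¹' closure T : Set (Pts X)) := hq1
    rw [h1] at this
    exact hq2 this

/-- A locally constructible set is open iff its set of complex points is open. -/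
theorem isOpen_iff_isOpen_preimage_pt [LocallyOfFiniteType (X ↘ SC)] (T : Set X)
    (hT : IsLocallyConstructible T) :
    IsOpen T ↔ IsOpen (Pts.pt ⁻¹' T : Set (Pts X)) := by
  rw [← isClosed_compl_iff, isClosed_iff_isClosed_preimage_pt Tᶜ (isLocallyConstructible_compl hT),
    Set.preimage_compl, isClosed_compl_iff]

/-- A locally constructible set is dense iff its set of complex points is dense. -/
theorem dense_iff_dense_preimage_pt [LocallyOfFiniteType (X ↘ SC)] (T : Set X)
    (hT : IsLocallyConstructible T) :
    Dense T ↔ Dense (Pts.pt ⁻¹' T : Set (Pts X)) := by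
  rw [dense_iff_closure_eq, dense_iff_closure_eq, ← preimage_closure_eq_closure_preimage T hT]
  constructor
  · intro h
    rw [h, Set.preimage_univ]
  · intro h
    have := jacobsonSpace_of_lft (X := X)
    have hsub : closedPoints X ⊆ closure T := by
      intro q hq
      obtain ⟨x, rfl⟩ := exists_pts_of_isClosed_singleton q hq
      have : x ∈ (Pts.pt ⁻¹' closure T : Set (Pts X)) := by rw [h]; trivial
      exact this
    have h2 : closure (closedPoints X) ⊆ closure T :=
      closure_minimal hsub isClosed_closure
    rw [closure_closedPoints] at h2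
    exact Set.eq_univ_of_univ_subset h2

/-- The image of complex points is the set of complex points of the image. -/
theorem range_map_eq_preimage_pt (f : X ⟶ Y) [f.IsOver SC] [LocallyOfFiniteType (X ↘ SC)] :
    Set.range (Pts.map f) = Pts.pt ⁻¹' (Set.range f.base) := by
  ext y
  constructor
  · rintro ⟨x, rfl⟩
    rw [Set.mem_preimage, Pts.pt_map]
    exact ⟨x.pt, rfl⟩
  · rintro ⟨p, hp⟩
    exact exists_map_eq_of_mem_fiber f y p hp

theorem denseRange_iff (f : X ⟶ Y) [f.IsOver SC] [LocallyOfFiniteType (X ↘ SC)]
    [LocallyOfFiniteType (Y ↘ SC)] [QuasiCompact f] :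
    DenseRange f.base ↔ DenseRange (Pts.map f) := by
  have := lfp_of_isOver f
  have hc : IsLocallyConstructible (Set.range f.base) := by
    rw [← Set.image_univ]
    exact f.isLocallyConstructible_image IsLocallyConstructible.univ
  rw [DenseRange, DenseRange, range_map_eq_preimage_pt f]
  exact dense_iff_dense_preimage_pt _ hc

theorem discreteTopology_iff [LocallyOfFiniteType (X ↘ SC)] :
    DiscreteTopology X ↔ DiscreteTopology (Pts X) := by
  constructor
  · intro h
    rw [discreteTopology_iff_isOpen_singleton]
    intro x
    have h1 : IsOpen ({x.pt} : Set X) := isOpen_discrete _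
    have h2 : (Pts.pt ⁻¹' ({x.pt} : Set X) : Set (Pts X)) = {x} := by
      ext y
      simp only [Set.mem_preimage, Set.mem_singleton_iff]
      exact ⟨fun h => pt_injective h, fun h => by rw [h]⟩
    rw [← h2]
    exact h1.preimage Pts.continuous_pt
  · intro h
    have := jacobsonSpace_of_lft (X := X)
    have := isLocallyNoetherian_of_lft (X := X)
    rw [discreteTopology_iff_isOpen_singleton]
    -- closed points are open
    have hcl : ∀ q : X, IsClosed ({q} : Set X) → IsOpen ({q} : Set X) := by
      intro q hq
      rw [isOpen_iff_isOpen_preimage_pt _ (isLocallyConstructible_of_isClosed hq)]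
      exact isOpen_discrete _
    intro p
    -- the closure of p contains a closed point, which is open, hence equals p
    obtain ⟨q, hq1, hq2⟩ := nonempty_inter_closedPoints (Z := closure ({p} : Set X))
      ⟨p, subset_closure rfl⟩ isClosed_closure.isLocallyClosed
    have hqopen := hcl q hq2
    have : p ∈ ({q} : Set X) := by
      obtain ⟨p', hp'q, hp'p⟩ := mem_closure_iff.1 hq1 _ hqopen rfl
      rw [Set.mem_singleton_iff] at hp'p hp'q
      rw [← hp'p, hp'q]
      rfl
    rw [Set.mem_singleton_iff] at this
    rw [this]
    exact hqopen

end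

end Groth.Agent.H21
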