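import Groth.Agent.H21.AnProperMap
import Mathlib.AlgebraicGeometry.ZariskisMainTheorem

/-!
# Finite morphisms and complex points
-/

set_option autoImplicit false
set_option linter.style.haveILetI false
open CategoryTheory CategoryTheory.Limits AlgebraicGeometry TopologicalSpace Opposite An Topology

namespace Groth.Agent.H21.AnProj

open Groth.Agent.H21

noncomputable section

variable {X Y : Scheme.{0}} [X.Over SC] [Y.Over SC]

/-- Finite fibres on complex points of a finite morphism. -/
theorem finite_fibre_map_of_isFinite (f : X ⟶ Y) [f.IsOver SC] [IsFinite f] (y : Pts Y) :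
    (Pts.map f ⁻¹' {y}).Finite := by
  have h1 : (f.base ⁻¹' {y.pt}).Finite := f.finite_preimage_singleton y.pt
  have h2 : (Pts.pt ⁻¹' (f.base ⁻¹' {y.pt}) : Set (Pts X)).Finite :=
    h1.preimage (pt_injective.injOn)
  refine h2.subset ?_
  intro x hx
  simp only [Set.mem_preimage, Set.mem_singleton_iff] at hx ⊢
  rw [← Pts.pt_map, hx]

/-- If all fibres of `X(ℂ) → Y(ℂ)` are finite and `f` is a closed map of finite type,
then `f` is locally quasi-finite. -/
theorem locallyQuasiFinite_of_finite_fibres (f : X ⟶ Y) [f.IsOver SC]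
    [LocallyOfFiniteType (X ↘ SC)] [LocallyOfFiniteType (Y ↘ SC)]
    (h : ∀ y : Pts Y, (Pts.map f ⁻¹' {y}).Finite) : LocallyQuasiFinite f := by
  haveI : LocallyOfFiniteType f := lft_of_isOver f
  haveI := jacobsonSpace_of_lft (X := X)
  rw [← Scheme.Hom.quasiFiniteLocus_eq_top_iff]
  by_contra hne
  have hZ : ((f.quasiFiniteLocus : Set X)ᶜ).Nonempty := by
    rw [Set.nonempty_compl]
    intro h'
    exact hne (SetLike.coe_injective (by rw [h']; rfl))
  obtain ⟨z, hzZ, hzc⟩ := nonempty_inter_closedPoints hZ
    f.quasiFiniteLocus.2.isClosed_compl.isLocallyClosed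
  obtain ⟨x, rfl⟩ := exists_pts_of_isClosed_singleton z hzc
  set y := Pts.map f x with hy
  have hypt : y.pt = f x.pt := Pts.pt_map f x
  set F : Set X := f.base ⁻¹' {f x.pt} with hF
  have hFcl : IsClosed F := by
    rw [hF, ← hypt]
    exact (isClosed_singleton_pt y).preimage f.continuous
  -- closed points of the fibre are complex points in the fibre
  have hsub : F ∩ closedPoints X ⊆ Pts.pt '' (Pts.map f ⁻¹' {y}) := by
    rintro w ⟨hwF, hwc⟩
    obtain ⟨x', rfl⟩ := exists_pts_of_isClosed_singleton w hwc
    refine ⟨x', ?_, rfl⟩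
    apply pt_injective
    rw [Pts.pt_map, hypt]
    exact hwF
  have hfin : (F ∩ closedPoints X).Finite := ((h y).image _).subset hsub
  have hFeq : F = F ∩ closedPoints X := by
    have h1 := JacobsonSpace.closure_inter_closedPoints_eq_closure hFcl.isLocallyClosed
    have h2 : IsClosed (F ∩ closedPoints X) := by
      have := hfin.isClosed_biUnion (f := fun w => ({w} : Set X)) (fun w hw => hw.2)
      rwa [Set.biUnion_of_singleton] at this
    rw [h2.closure_eq, hFcl.closure_eq] at h1
    exact h1.symm
  have hFfin : F.Finite := by rw [hFeq]; exact hfin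
  have hFclosedPts : ∀ w ∈ F, IsClosed ({w} : Set X) := by
    intro w hw
    rw [hFeq] at hw
    exact hw.2
  -- the fibre is a finite T1 space, hence discrete
  haveI : Finite ↥F := hFfin.to_subtype
  haveI : T1Space ↥F := by
    constructor
    intro w
    have : ({w} : Set ↥F) = Subtype.val ⁻¹' ({w.1} : Set X) := by
      ext v
      simp only [Set.mem_singleton_iff, Set.mem_preimage]
      exact ⟨fun h => congrArg Subtype.val h, fun h => Subtype.ext h⟩
    rw [this]
    exact (hFclosedPts w.1 w.2).preimage continuous_subtype_val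
  haveI : DiscreteTopology ↥F := inferInstance
  haveI : DiscreteTopology ↥(f.fiber (f x.pt)) :=
    (f.fiberHomeo (f x.pt)).isEmbedding.discreteTopology
  have hq : f.QuasiFiniteAt x.pt := by
    rw [Scheme.Hom.quasiFiniteAt_iff_isOpen_singleton_asFiber]
    exact isOpen_discrete _
  exact hzZ hq

end

end Groth.Agent.H21.AnProj
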