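import Groth.Agent.H21.AnSurj
import Mathlib.AlgebraicGeometry.Morphisms.QuasiSeparated

open AlgebraicGeometry CategoryTheory TopologicalSpace Opposite An Topology Limits

namespace Groth.Agent.H21

noncomputable section

variable {X Y : Scheme.{0}} [X.Over SC] [Y.Over SC]

instance diagonal_isOver (f : X ⟶ Y) [f.IsOver SC] : (pullback.diagonal f).IsOver SC :=
  ⟨by
    change pullback.diagonal f ≫ (pullback.fst f f ≫ X ↘ SC) = X ↘ SC
    rw [← Category.assoc, pullback.diagonal_fst, Category.id_comp]⟩

theorem lft_pullback {S : Scheme.{0}} [S.Over SC] (f : X ⟶ S) (g : Y ⟶ S) [f.IsOver SC]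
    [g.IsOver SC] [LocallyOfFiniteType (X ↘ SC)] [LocallyOfFiniteType (Y ↘ SC)] :
    LocallyOfFiniteType ((pullback f g) ↘ SC) := by
  have := lft_of_isOver g
  exact inferInstanceAs (LocallyOfFiniteType (pullback.fst f g ≫ X ↘ SC))

theorem injective_map_of_injective (f : X ⟶ Y) [f.IsOver SC]
    (hf : Function.Injective f.base) : Function.Injective (Pts.map f) := by
  intro x x' h
  apply pt_injective
  apply hf
  rw [← Pts.pt_map, ← Pts.pt_map, h]

theorem surjective_map_diagonal_of_injective_map (f : X ⟶ Y) [f.IsOver SC]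
    (hf : Function.Injective (Pts.map f)) : Function.Surjective (Pts.map (pullback.diagonal f)) := by
  intro z
  have h := hf (Pts.map_pullback_condition f f z)
  have h1 : z.1 ≫ pullback.fst f f = z.1 ≫ pullback.snd f f := congrArg Subtype.val h
  refine ⟨Pts.map (pullback.fst f f) z, ?_⟩
  apply Subtype.ext
  change (z.1 ≫ pullback.fst f f) ≫ pullback.diagonal f = z.1
  apply pullback.hom_ext
  · rw [Category.assoc, pullback.diagonal_fst, Category.comp_id]
  · rw [Category.assoc, pullback.diagonal_snd, Category.comp_id, h1]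

theorem injective_of_injective_map (f : X ⟶ Y) [f.IsOver SC] [LocallyOfFiniteType (X ↘ SC)]
    [LocallyOfFiniteType (Y ↘ SC)]
    (hf : Function.Injective (Pts.map f)) : Function.Injective f.base := by
  have := isLocallyNoetherian_of_lft (X := X)
  have := lft_pullback f f
  have hΔ : Function.Surjective (pullback.diagonal f).base :=
    surjective_of_surjective_map _ (surjective_map_diagonal_of_injective_map f hf)
  intro p p' hpp'
  obtain ⟨z, hz1, hz2⟩ := Scheme.Pullback.exists_preimage_pullback (f := f) (g := f) p p' hpp'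
  obtain ⟨w, rfl⟩ := hΔ z
  rw [← hz1, ← hz2, ← Scheme.Hom.comp_apply, ← Scheme.Hom.comp_apply, pullback.diagonal_fst,
    pullback.diagonal_snd]

end

end Groth.Agent.H21
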