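import Groth.Agent.H21.AnBasic
import Mathlib.AlgebraicGeometry.OpenImmersion

open AlgebraicGeometry CategoryTheory TopologicalSpace Opposite An Topology

namespace Groth.Agent.H21

noncomputable section

variable {X Y : Scheme.{0}} [X.Over SC] [Y.Over SC]

/-- Basic sets are insensitive to rewriting the open along an equality. -/
lemma basicSet_congr {U U' : X.Opens} (e : U' = U) (s : Γ(X, U)) (V : Set ℂ) :
    Pts.basicSet U' (X.presheaf.map (eqToHom e).op s) V = Pts.basicSet U s V := by
  subst e
  simp

/-- For an open immersion, every basic set upstairs is the preimage of a basic set downstairs. -/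
lemma basicSet_eq_preimage_of_isOpenImmersion (f : X ⟶ Y) [f.IsOver SC] [IsOpenImmersion f]
    (U : X.Opens) (s : Γ(X, U)) (V : Set ℂ) :
    Pts.basicSet U s V = Pts.map f ⁻¹' Pts.basicSet (f ''ᵁ U) ((f.appIso U).inv s) V := by
  rw [Pts.preimage_basicSet]
  have h := congrArg (fun φ => φ.hom s) (f.appIso_inv_app U)
  simp only [CommRingCat.hom_comp, RingHom.coe_comp, Function.comp_apply] at h
  rw [h]
  exact (basicSet_congr (f.preimage_image_eq U) s V).symm

lemma isInducing_map_of_isOpenImmersion (f : X ⟶ Y) [f.IsOver SC] [IsOpenImmersion f] :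
    IsInducing (Pts.map f) := by
  constructor
  apply le_antisymm
  · exact (Pts.continuous_map f).le_induced
  · refine le_generateFrom ?_
    rintro _ ⟨U, s, V, hV, rfl⟩
    rw [basicSet_eq_preimage_of_isOpenImmersion f U s V]
    exact isOpen_induced_iff.2 ⟨_, Pts.isOpen_basicSet _ _ hV, rfl⟩

lemma injective_map_of_mono (f : X ⟶ Y) [f.IsOver SC] [Mono f] :
    Function.Injective (Pts.map f) := by
  intro x y h
  apply Subtype.ext
  have := congrArg Subtype.val h
  simp only [Pts.map_val] at this
  exact (cancel_mono f).1 this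

lemma range_map_of_isOpenImmersion (f : X ⟶ Y) [f.IsOver SC] [IsOpenImmersion f] :
    Set.range (Pts.map f) = Pts.pt ⁻¹' (Set.range f.base) := by
  ext y
  constructor
  · rintro ⟨x, rfl⟩
    rw [Set.mem_preimage, Pts.pt_map]
    exact ⟨x.pt, rfl⟩
  · intro hy
    have hr : Set.range y.1.base ⊆ Set.range f.base := by
      rintro _ ⟨p, rfl⟩
      rw [eq_cpt p]
      exact hy
    refine ⟨⟨IsOpenImmersion.lift f y.1 hr, ?_⟩, ?_⟩
    · rw [← comp_over f SC, ← Category.assoc, IsOpenImmersion.lift_fac]
      exact y.2
    · apply Subtype.ext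
      exact IsOpenImmersion.lift_fac f y.1 hr

/-- An open immersion induces an open embedding on complex points. -/
theorem isOpenEmbedding_map_of_isOpenImmersion (f : X ⟶ Y) [f.IsOver SC] [IsOpenImmersion f] :
    IsOpenEmbedding (Pts.map f) := by
  refine ⟨⟨isInducing_map_of_isOpenImmersion f, injective_map_of_mono f⟩, ?_⟩
  rw [range_map_of_isOpenImmersion]
  exact f.isOpenEmbedding.isOpen_range.preimage Pts.continuous_pt

end

end Groth.Agent.H21
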