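import Groth.Agent.H21.AnLocal
import Groth.Agent.H21.AnOpen
import Groth.Agent.H97.ProjChartAlg
import Groth.Agent.H18.TwistGenCover
import Mathlib

/-!
# Complex points of projective space: the standard charts
-/

set_option autoImplicit false
open CategoryTheory CategoryTheory.Limits AlgebraicGeometry TopologicalSpace Opposite An Topology
open HomogeneousLocalization

namespace Groth.Agent.H21.AnProj

open Groth.Agent.H21 Groth.Agent.H97.ProjChart

noncomputable section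

variable (n : ℕ)

local notation "𝒜" => CohB1.polyGrading n ℂ
local notation "S" => MvPolynomial (Fin (n + 1)) ℂ

/-- The `i`-th standard chart of `P^n_ℂ`. -/
abbrev U (i : Fin (n + 1)) : Scheme.{0} := Spec (.of (Away 𝒜 (MvPolynomial.X i : S)))

instance (i : Fin (n + 1)) : IsAffine (U n i) := by infer_instance

/-- The chart inclusion. -/
def ι (i : Fin (n + 1)) : U n i ⟶ CohB1.ProjSpace n ℂ :=
  Proj.awayι 𝒜 (MvPolynomial.X i : S) (X_mem ℂ n i) Nat.one_pos

instance (i : Fin (n + 1)) : IsOpenImmersion (ι n i) :=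
  inferInstanceAs (IsOpenImmersion (Proj.awayι 𝒜 (MvPolynomial.X i : S) (X_mem ℂ n i) Nat.one_pos))

instance chartOver (i : Fin (n + 1)) : (U n i).Over SC :=
  ⟨Spec.map (CommRingCat.ofHom (cst ℂ n (Submonoid.powers (MvPolynomial.X i : S))))⟩

lemma chart_over (i : Fin (n + 1)) :
    (U n i ↘ SC) = Spec.map (CommRingCat.ofHom (cst ℂ n (Submonoid.powers (MvPolynomial.X i : S)))) :=
  rfl

instance ι_isOver (i : Fin (n + 1)) : (ι n i).IsOver SC := by
  constructor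
  have h := Proj.awayι_toSpecZero 𝒜 (MvPolynomial.X i : S) (X_mem ℂ n i) Nat.one_pos
  change (Proj.awayι 𝒜 (MvPolynomial.X i : S) (X_mem ℂ n i) Nat.one_pos ≫ Proj.toSpecZero 𝒜 ≫
    Spec.map (CommRingCat.ofHom (algebraMap ℂ (𝒜 0)))) = _
  rw [reassoc_of% h, ← Spec.map_comp]
  rfl

/-- Sections of the chart attached to elements of the chart ring. -/
def sec (i : Fin (n + 1)) : Away 𝒜 (MvPolynomial.X i : S) →+* Γ(U n i, ⊤) :=
  (Scheme.ΓSpecIso (.of (Away 𝒜 (MvPolynomial.X i : S)))).inv.hom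

lemma sec_surjective (i : Fin (n + 1)) : Function.Surjective (sec n i) := by
  intro f
  refine ⟨(Scheme.ΓSpecIso (.of (Away 𝒜 (MvPolynomial.X i : S)))).hom f, ?_⟩
  change ((Scheme.ΓSpecIso (.of (Away 𝒜 (MvPolynomial.X i : S)))).hom ≫
    (Scheme.ΓSpecIso (.of (Away 𝒜 (MvPolynomial.X i : S)))).inv) f = f
  rw [Iso.hom_inv_id]
  rfl

lemma strHom_chart (i : Fin (n + 1)) (c : ℂ) :
    strHom (U n i) c = sec n i (cst ℂ n _ c) := by
  unfold strHom sec
  rw [chart_over]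
  have h := Scheme.ΓSpecIso_inv_naturality
    (CommRingCat.ofHom (cst ℂ n (Submonoid.powers (MvPolynomial.X i : S))))
  exact (congrArg (fun ψ => ψ.hom c) h).symm

/-- The complex point of a chart attached to a `ℂ`-algebra map out of the chart ring. -/
def chartPt (i : Fin (n + 1)) (φ : Away 𝒜 (MvPolynomial.X i : S) →+* ℂ)
    (hφ : ∀ c, φ (cst ℂ n _ c) = c) : Pts (U n i) :=
  ⟨Spec.map (CommRingCat.ofHom φ), by
    rw [chart_over, ← Spec.map_comp]
    have : CommRingCat.ofHom (cst ℂ n (Submonoid.powers (MvPolynomial.X i : S))) ≫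
        CommRingCat.ofHom φ = 𝟙 _ := by
      ext c
      exact hφ c
    rw [this, Spec.map_id]⟩

lemma evTop_chartPt (i : Fin (n + 1)) (φ : Away 𝒜 (MvPolynomial.X i : S) →+* ℂ)
    (hφ : ∀ c, φ (cst ℂ n _ c) = c) (a : Away 𝒜 (MvPolynomial.X i : S)) :
    (chartPt n i φ hφ).evTop (sec n i a) = φ a := by
  rw [evTop_eq]
  have h := Scheme.ΓSpecIso_inv_naturality (CommRingCat.ofHom φ)
  have h2 := congrArg (fun ψ => ψ.hom a) h
  change (Scheme.ΓSpecIso (CommRingCat.of ℂ)).inv (φ a) =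
    (Spec.map (CommRingCat.ofHom φ)).appTop (sec n i a) at h2
  change (Scheme.ΓSpecIso (CommRingCat.of ℂ)).hom
    ((Spec.map (CommRingCat.ofHom φ)).appTop (sec n i a)) = φ a
  rw [← h2]
  change ((Scheme.ΓSpecIso (CommRingCat.of ℂ)).inv ≫ (Scheme.ΓSpecIso (CommRingCat.of ℂ)).hom) (φ a) = _
  rw [Iso.inv_hom_id]
  rfl

/-- The `ℂ`-algebra map out of the chart ring attached to a complex point. -/
def ptHom (i : Fin (n + 1)) (q : Pts (U n i)) : Away 𝒜 (MvPolynomial.X i : S) →+* ℂ :=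
  (evHom q ⊤ (Opens.mem_top _)).comp (sec n i)

lemma ptHom_apply (i : Fin (n + 1)) (q : Pts (U n i)) (a : Away 𝒜 (MvPolynomial.X i : S)) :
    ptHom n i q a = q.evTop (sec n i a) := rfl

lemma ptHom_cst (i : Fin (n + 1)) (q : Pts (U n i)) (c : ℂ) :
    ptHom n i q (cst ℂ n _ c) = c := by
  rw [ptHom_apply, ← strHom_chart, evTop_strHom]

lemma chartPt_ptHom (i : Fin (n + 1)) (q : Pts (U n i)) :
    chartPt n i (ptHom n i q) (ptHom_cst n i q) = q := by
  apply pts_ext_of_isAffine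
  intro f
  obtain ⟨a, rfl⟩ := sec_surjective n i f
  rw [evTop_chartPt, ptHom_apply]

lemma xc_eq_mk (i j : Fin (n + 1)) :
    xc ℂ n i j = Away.mk 𝒜 (X_mem ℂ n i) 1 (MvPolynomial.X j : S)
      (by rw [one_smul]; exact X_mem ℂ n j) := by
  apply val_injective
  rw [val_xc, Away.val_mk]
  congr 1
  exact Subtype.ext (pow_one _).symm

/-- Transition between charts on complex points. -/
theorem exists_transition (i₀ i : Fin (n + 1)) (q₀ : Pts (U n i₀))
    (hne : ptHom n i₀ q₀ (xc ℂ n i₀ i) ≠ 0) :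
    ∃ q : Pts (U n i), Pts.map (ι n i) q = Pts.map (ι n i₀) q₀ ∧
      ∀ j, ptHom n i q (xc ℂ n i j) * ptHom n i₀ q₀ (xc ℂ n i₀ i) = ptHom n i₀ q₀ (xc ℂ n i₀ j) := by
  set x : S := MvPolynomial.X i₀ * MvPolynomial.X i with hx
  have hx' : x = MvPolynomial.X i * MvPolynomial.X i₀ := mul_comm _ _
  set m₀ : Away 𝒜 (MvPolynomial.X i₀ : S) →+* Away 𝒜 x := awayMap 𝒜 (X_mem ℂ n i) hx with hm₀
  set mi : Away 𝒜 (MvPolynomial.X i : S) →+* Away 𝒜 x := awayMap 𝒜 (X_mem ℂ n i₀) hx' with hmi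
  set φ₀ := ptHom n i₀ q₀ with hφ₀
  letI alg : Algebra (Away 𝒜 (MvPolynomial.X i₀ : S)) (Away 𝒜 x) := m₀.toAlgebra
  have hloc : IsLocalization.Away (Away.isLocalizationElem (X_mem ℂ n i₀) (X_mem ℂ n i))
      (Away 𝒜 x) := Away.isLocalization_mul (X_mem ℂ n i₀) (X_mem ℂ n i) hx one_ne_zero
  have helem : Away.isLocalizationElem (X_mem ℂ n i₀) (X_mem ℂ n i) = xc ℂ n i₀ i := by
    apply val_injective
    rw [val_xc, Away.val_mk]
    congr 1
    · exact pow_one _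
    · exact Subtype.ext (pow_one _)
  have hunit : IsUnit (φ₀ (Away.isLocalizationElem (X_mem ℂ n i₀) (X_mem ℂ n i))) := by
    rw [helem]
    exact IsUnit.mk0 _ hne
  set θ' : Away 𝒜 x →+* ℂ := IsLocalization.Away.lift
    (Away.isLocalizationElem (X_mem ℂ n i₀) (X_mem ℂ n i)) hunit with hθ'
  have hθm₀ : ∀ a, θ' (m₀ a) = φ₀ a := fun a => IsLocalization.Away.lift_eq _ hunit a
  set φ : Away 𝒜 (MvPolynomial.X i : S) →+* ℂ := θ'.comp mi with hφ
  have hcst : ∀ c, mi (cst ℂ n _ c) = m₀ (cst ℂ n _ c) := by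
    intro c
    unfold cst
    simp only [RingHom.comp_apply, hmi, hm₀, awayMap_fromZeroRingHom]
  have hφc : ∀ c, φ (cst ℂ n _ c) = c := by
    intro c
    rw [hφ, RingHom.comp_apply, hcst, hθm₀, hφ₀, ptHom_cst]
  refine ⟨chartPt n i φ hφc, ?_, ?_⟩
  · apply Subtype.ext
    have hq₀ : q₀ = chartPt n i₀ φ₀ (ptHom_cst n i₀ q₀) := (chartPt_ptHom n i₀ q₀).symm
    rw [hq₀]
    change Spec.map (CommRingCat.ofHom φ) ≫ ι n i = Spec.map (CommRingCat.ofHom φ₀) ≫ ι n i₀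
    have e1 : CommRingCat.ofHom φ = CommRingCat.ofHom mi ≫ CommRingCat.ofHom θ' := rfl
    have e2 : CommRingCat.ofHom φ₀ = CommRingCat.ofHom m₀ ≫ CommRingCat.ofHom θ' := by
      ext a
      exact (hθm₀ a).symm
    rw [e1, e2, Spec.map_comp, Spec.map_comp, Category.assoc, Category.assoc]
    congr 1
    have h1 := Proj.SpecMap_awayMap_awayι 𝒜 (X_mem ℂ n i) Nat.one_pos (X_mem ℂ n i₀) hx'
    have h2 := Proj.SpecMap_awayMap_awayι 𝒜 (X_mem ℂ n i₀) Nat.one_pos (X_mem ℂ n i) hx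
    exact h1.trans h2.symm
  · intro j
    have hkey : mi (xc ℂ n i j) * m₀ (xc ℂ n i₀ i) = m₀ (xc ℂ n i₀ j) := by
      rw [xc_eq_mk, xc_eq_mk, xc_eq_mk, hmi, hm₀, awayMap_mk, awayMap_mk, awayMap_mk]
      apply val_injective
      rw [val_mul, Away.val_mk, Away.val_mk, Away.val_mk, Localization.mk_mul,
        Localization.mk_eq_mk_iff, Localization.r_iff_exists]
      refine ⟨1, ?_⟩
      simp only [OneMemClass.coe_one, one_mul, pow_one, Submonoid.coe_mul]
      rw [hx]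
      ring
    rw [ptHom_apply, evTop_chartPt, hφ, RingHom.comp_apply, ← hθm₀, ← hθm₀, ← map_mul, hkey]

/-- The coordinates `x_j / x_i` of a complex point of the `i`-th chart. -/
def coord (i : Fin (n + 1)) (q : Pts (U n i)) : Fin (n + 1) → ℂ :=
  fun j => ptHom n i q (xc ℂ n i j)

theorem isClosedEmbedding_coord (i : Fin (n + 1)) : IsClosedEmbedding (coord n i) := by
  have hs : Function.Surjective
      (MvPolynomial.eval₂Hom (strHom (U n i)) (fun j => sec n i (xc ℂ n i j))) := by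
    have e : MvPolynomial.eval₂Hom (strHom (U n i)) (fun j => sec n i (xc ℂ n i j)) =
        (sec n i).comp (θ ℂ n i) := by
      apply MvPolynomial.ringHom_ext
      · intro c
        rw [MvPolynomial.eval₂Hom_C, RingHom.comp_apply, θ_C, strHom_chart]
      · intro j
        rw [MvPolynomial.eval₂Hom_X', RingHom.comp_apply, θ_X]
    rw [e]
    exact (sec_surjective n i).comp (θ_surjective ℂ n i)
  exact isClosedEmbedding_genMap (fun j => sec n i (xc ℂ n i j)) hs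

/-- The compact polydisc in the `i`-th chart. -/
def K (i : Fin (n + 1)) : Set (Pts (U n i)) := coord n i ⁻¹' Metric.closedBall 0 1

lemma isCompact_K (i : Fin (n + 1)) : IsCompact (K n i) :=
  (isClosedEmbedding_coord n i).isCompact_preimage (isCompact_closedBall 0 1)

lemma mem_K_iff (i : Fin (n + 1)) (q : Pts (U n i)) :
    q ∈ K n i ↔ ∀ j, ‖ptHom n i q (xc ℂ n i j)‖ ≤ 1 := by
  unfold K
  rw [Set.mem_preimage, mem_closedBall_zero_iff, pi_norm_le_iff_of_nonneg zero_le_one]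
  rfl

theorem exists_mem_K (p : Pts (CohB1.ProjSpace n ℂ)) :
    ∃ (i : Fin (n + 1)) (q : Pts (U n i)), q ∈ K n i ∧ Pts.map (ι n i) q = p := by
  obtain ⟨i₀, hi₀⟩ := Groth.Agent.H18.exists_notMem_of_adjoin_eq_top 𝒜
    (fun i : Fin (n + 1) => (MvPolynomial.X i : S)) MvPolynomial.adjoin_range_X p.pt
  have hp : p ∈ Set.range (Pts.map (ι n i₀)) := by
    rw [range_map_of_isOpenImmersion]
    change p.pt ∈ (ι n i₀).opensRange
    have : (ι n i₀).opensRange = Proj.basicOpen 𝒜 (MvPolynomial.X i₀ : S) :=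
      Proj.opensRange_awayι 𝒜 _ (X_mem ℂ n i₀) Nat.one_pos
    rw [this]
    exact hi₀
  obtain ⟨q₀, rfl⟩ := hp
  obtain ⟨i, hi⟩ := Finite.exists_max (fun j => ‖ptHom n i₀ q₀ (xc ℂ n i₀ j)‖)
  have h1 : ptHom n i₀ q₀ (xc ℂ n i₀ i₀) = 1 := by rw [xc_self', map_one]
  have hge : 1 ≤ ‖ptHom n i₀ q₀ (xc ℂ n i₀ i)‖ := by
    have := hi i₀
    rwa [h1, norm_one] at this
  have hne : ptHom n i₀ q₀ (xc ℂ n i₀ i) ≠ 0 := by
    intro h0
    rw [h0, norm_zero] at hge
    exact absurd hge (by norm_num)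
  obtain ⟨q, hq, hqj⟩ := exists_transition n i₀ i q₀ hne
  refine ⟨i, q, ?_, hq⟩
  rw [mem_K_iff]
  intro j
  have hj := hqj j
  have hnorm : ‖ptHom n i q (xc ℂ n i j)‖ * ‖ptHom n i₀ q₀ (xc ℂ n i₀ i)‖ =
      ‖ptHom n i₀ q₀ (xc ℂ n i₀ j)‖ := by rw [← norm_mul, hj]
  have hpos : 0 < ‖ptHom n i₀ q₀ (xc ℂ n i₀ i)‖ := lt_of_lt_of_le zero_lt_one hge
  have hle := hi j
  rw [← hnorm] at hle
  by_contra hcon
  push_neg at hcon
  have : ‖ptHom n i₀ q₀ (xc ℂ n i₀ i)‖ < ‖ptHom n i q (xc ℂ n i j)‖ * ‖ptHom n i₀ q₀ (xc ℂ n i₀ i)‖ := by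
    calc ‖ptHom n i₀ q₀ (xc ℂ n i₀ i)‖ = 1 * ‖ptHom n i₀ q₀ (xc ℂ n i₀ i)‖ := (one_mul _).symm
      _ < _ := mul_lt_mul_of_pos_right hcon hpos
  exact absurd hle (not_le.2 this)

/-- The space of complex points of `P^n_ℂ` is compact. -/
instance compactSpace_projSpace : CompactSpace (Pts (CohB1.ProjSpace n ℂ)) := by
  have huniv : (Set.univ : Set (Pts (CohB1.ProjSpace n ℂ))) =
      ⋃ i : Fin (n + 1), Pts.map (ι n i) '' K n i := by
    ext p
    simp only [Set.mem_univ, Set.mem_iUnion, Set.mem_image, true_iff]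
    obtain ⟨i, q, hq, hqp⟩ := exists_mem_K n p
    exact ⟨i, q, hq, hqp⟩
  refine ⟨?_⟩
  rw [huniv]
  exact isCompact_iUnion fun i => (isCompact_K n i).image (Pts.continuous_map _)

end

end Groth.Agent.H21.AnProj
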