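import Groth.Agent.H21.AnProjChart
import Groth.Agent.H21.AnFiber
import Groth.Agent.H21.AnRestrict
import Groth.Agent.H97.ProjSpaceOverIso
import Groth.Agent.H48.ProjSpace

/-!
# Complex points of relative projective space: `P^n_Y(ℂ) → Y(ℂ)` is a proper map
-/

set_option autoImplicit false
open CategoryTheory CategoryTheory.Limits AlgebraicGeometry TopologicalSpace Opposite An Topology

namespace Groth.Agent.H21.AnProj

open Groth.Agent.H21

noncomputable section

section general

variable {X Y S : Scheme.{0}} [X.Over SC] [Y.Over SC] [S.Over SC]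

/-- An isomorphism over `ℂ` induces a homeomorphism on complex points. -/
theorem isHomeomorph_map_of_isIso (f : X ⟶ Y) [f.IsOver SC] [IsIso f] :
    IsHomeomorph (Pts.map f) := by
  have h1 : ∀ x, Pts.map (inv f) (Pts.map f x) = x := by
    intro x
    rw [← Pts.map_comp]
    apply Subtype.ext
    change x.1 ≫ (f ≫ inv f) = x.1
    rw [IsIso.hom_inv_id, Category.comp_id]
  have h2 : ∀ y, Pts.map f (Pts.map (inv f) y) = y := by
    intro y
    rw [← Pts.map_comp]
    apply Subtype.ext
    change y.1 ≫ (inv f ≫ f) = y.1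
    rw [IsIso.inv_hom_id, Category.comp_id]
  let e : Pts X ≃ₜ Pts Y :=
    { toFun := Pts.map f
      invFun := Pts.map (inv f)
      left_inv := h1
      right_inv := h2
      continuous_toFun := Pts.continuous_map f
      continuous_invFun := Pts.continuous_map (inv f) }
  exact e.isHomeomorph

/-- The second projection of a fibre product with compact first factor is proper on complex
points. -/
theorem isProperMap_map_snd (f : X ⟶ S) (g : Y ⟶ S) [f.IsOver SC] [g.IsOver SC]
    [CompactSpace (Pts X)] [T2Space (Pts S)] :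
    IsProperMap (Pts.map (pullback.snd f g)) := by
  have hh := isHomeomorph_fibre f g
  have hcl : IsClosed {q : Pts X × Pts Y | Pts.map f q.1 = Pts.map g q.2} :=
    isClosed_eq ((Pts.continuous_map f).comp continuous_fst)
      ((Pts.continuous_map g).comp continuous_snd)
  have h1 : IsProperMap (fun z : Pts (pullback f g) =>
      (⟨(Pts.map (pullback.fst f g) z, Pts.map (pullback.snd f g) z),
        Pts.map_pullback_condition f g z⟩ :
        {q : Pts X × Pts Y // Pts.map f q.1 = Pts.map g q.2})) := hh.isProperMap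
  have h2 : IsProperMap (Subtype.val :
      {q : Pts X × Pts Y // Pts.map f q.1 = Pts.map g q.2} → Pts X × Pts Y) :=
    hcl.isProperMap_subtypeVal
  have h3 : IsProperMap (Prod.snd : Pts X × Pts Y → Pts Y) := isProperMap_snd_of_compactSpace
  exact h3.comp (h2.comp h1)

end general

section proj

/-- `Spec ℂ` over itself via the identity (fixed here to be independent of imports). -/
@[instance_reducible]
def scOver : SC.Over SC := ⟨𝟙 SC⟩

attribute [local instance 2000] scOver

variable (n : ℕ) (Y : Scheme.{0}) [Y.Over SC]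

/-- `P^n_Y` as a scheme over `ℂ`, for `Y` a scheme over `ℂ`. -/
@[instance_reducible]
def projOver : (CohB1.ProjSpaceOver n Y).Over SC :=
  ⟨CohB1.ProjSpaceOver.toBase n Y ≫ (Y ↘ SC)⟩

attribute [local instance 900] projOver

lemma toBase_isOver : (CohB1.ProjSpaceOver.toBase n Y).IsOver SC := ⟨rfl⟩

attribute [local instance] toBase_isOver

lemma projOver_over : (CohB1.ProjSpaceOver n Y ↘ SC) = CohB1.ProjSpaceOver.toBase n Y ≫ (Y ↘ SC) :=
  rfl

lemma over_SC : (CohB1.ProjSpaceOver n SC ↘ SC) = CohB1.ProjSpaceOver.toBase n SC := rfl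

lemma over_self : (SC ↘ SC) = 𝟙 SC := rfl

instance toBase_SC_isOver : (CohB1.ProjSpaceOver.toBase n SC).IsOver SC :=
  ⟨by rw [over_SC, over_self]; exact Category.comp_id _⟩

instance compactSpace_projSpaceOver : CompactSpace (Pts (CohB1.ProjSpaceOver n SC)) := by
  let e := Groth.Agent.H97.ProjChart.projSpaceOverIso ℂ n
  have hover : e.hom.IsOver SC := by
    constructor
    rw [over_SC]
    exact Groth.Agent.H97.ProjChart.projSpaceOverIso_hom_toSpec ℂ n
  have hh : IsHomeomorph (Pts.map e.hom) := isHomeomorph_map_of_isIso e.hom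
  exact hh.homeomorph.symm.compactSpace

instance : T2Space (Pts SC) := by
  have : Subsingleton (Pts SC) := by
    constructor
    intro a b
    apply Subtype.ext
    have ha : a.1 ≫ 𝟙 SC = 𝟙 SC := a.2
    have hb : b.1 ≫ 𝟙 SC = 𝟙 SC := b.2
    rw [Category.comp_id] at ha hb
    rw [ha, hb]
  infer_instance

/-- The structure map `P^n_Y(ℂ) → Y(ℂ)` is a proper map. -/
theorem isProperMap_map_toBase : IsProperMap (Pts.map (CohB1.ProjSpaceOver.toBase n Y)) := by
  have hP := Groth.Agent.H48.isPullback_projSpaceOverMap n (Y ↘ SC)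
  let e := hP.isoPullback
  have hsnd : e.hom ≫ pullback.snd _ _ = CohB1.ProjSpaceOver.toBase n Y := hP.isoPullback_hom_snd
  have hfst : e.hom ≫ pullback.fst _ _ = Groth.Agent.H48.projSpaceOverMap n (Y ↘ SC) :=
    hP.isoPullback_hom_fst
  have hgover : (Y ↘ SC).IsOver SC := ⟨by rw [over_self]; exact Category.comp_id _⟩
  have hover : e.hom.IsOver SC := by
    constructor
    have h1 : (pullback (CohB1.ProjSpaceOver.toBase n SC) (Y ↘ SC) ↘ SC) =
        pullback.fst _ _ ≫ CohB1.ProjSpaceOver.toBase n SC := rfl
    rw [h1, projOver_over, ← Category.assoc, hfst, hP.w]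
  have h1 : IsProperMap (Pts.map e.hom) := (isHomeomorph_map_of_isIso e.hom).isProperMap
  have h2 : IsProperMap (Pts.map (pullback.snd (CohB1.ProjSpaceOver.toBase n SC) (Y ↘ SC))) :=
    isProperMap_map_snd _ _
  have hcomp : Pts.map (CohB1.ProjSpaceOver.toBase n Y) =
      Pts.map (pullback.snd (CohB1.ProjSpaceOver.toBase n SC) (Y ↘ SC)) ∘ Pts.map e.hom := by
    funext z
    apply Subtype.ext
    change z.1 ≫ CohB1.ProjSpaceOver.toBase n Y = (z.1 ≫ e.hom) ≫ pullback.snd _ _
    rw [Category.assoc, hsnd]
  rw [hcomp]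
  exact h2.comp h1

end proj

end

end Groth.Agent.H21.AnProj
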