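import Groth.Agent.H21.AnClosed
import Mathlib.Topology.Maps.Proper.Basic
import Mathlib.Analysis.Polynomial.CauchyBound
import Mathlib.Analysis.Complex.Basic
import Mathlib.RingTheory.IntegralClosure.IsIntegral.Defs

open AlgebraicGeometry CategoryTheory TopologicalSpace Opposite An Topology Polynomial Filter
open scoped NNReal

namespace Groth.Agent.H21

/-- Roots of monic polynomials with bounded coefficients are bounded. -/
lemma nnnorm_lt_of_isRoot_of_coeff_le {q : ℂ[X]} (hq : q.Monic) {K : ℝ≥0}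
    (hK : ∀ j < q.natDegree, ‖q.coeff j‖₊ ≤ K) {z : ℂ} (hz : q.IsRoot z) : ‖z‖₊ < K + 1 := by
  have h1 := hz.norm_lt_cauchyBound hq.ne_zero
  have h2 : cauchyBound q ≤ K + 1 := by
    unfold cauchyBound
    rw [hq.leadingCoeff, nnnorm_one, div_one]
    gcongr
    exact Finset.sup_le (fun j hj => hK j (Finset.mem_range.1 hj))
  exact lt_of_lt_of_le h1 h2

noncomputable section

variable {X Y : Scheme.{0}} [X.Over SC] [Y.Over SC]

lemma eval_map_evHom (f : X ⟶ Y) [f.IsOver SC] (x : Pts X) (p : Γ(Y, ⊤)[X]) (b : Γ(X, ⊤)) :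
    (p.map (evHom (Pts.map f x) ⊤ (Opens.mem_top _))).eval (x.evTop b)
      = x.evTop (p.eval₂ f.appTop.hom b) := by
  have h : evHom (Pts.map f x) ⊤ (Opens.mem_top _)
      = (evHom x ⊤ (Opens.mem_top _)).comp f.appTop.hom := by
    ext a
    exact evTop_map f x a
  rw [h, eval_map]
  exact (hom_eval₂ p f.appTop.hom (evHom x ⊤ (Opens.mem_top _)) b).symm

/-- Along an ultrafilter whose image converges, the values of an integral function converge. -/
lemma exists_tendsto_evTop (f : X ⟶ Y) [f.IsOver SC] (𝒰 : Ultrafilter (Pts X)) (y : Pts Y)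
    (hy : Tendsto (Pts.map f) 𝒰 (𝓝 y)) (b : Γ(X, ⊤)) (hb : f.appTop.hom.IsIntegralElem b) :
    ∃ c : ℂ, Tendsto (fun x : Pts X => x.evTop b) 𝒰 (𝓝 c) := by
  obtain ⟨p, hp, hroot⟩ := hb
  have hcoef : ∀ j, Tendsto (fun x : Pts X => (Pts.map f x).evTop (p.coeff j)) 𝒰
      (𝓝 (y.evTop (p.coeff j))) :=
    fun j => ((continuous_evTop (p.coeff j)).tendsto y).comp hy
  let K : ℝ≥0 := (Finset.range p.natDegree).sup (fun j => ‖y.evTop (p.coeff j)‖₊ + 1)
  have hev : ∀ᶠ x in (𝒰 : Filter (Pts X)), ∀ j ∈ Finset.range p.natDegree,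
      ‖(Pts.map f x).evTop (p.coeff j)‖₊ ≤ K := by
    rw [Filter.eventually_all_finset]
    intro j hj
    have : ∀ᶠ x in (𝒰 : Filter (Pts X)),
        ‖(Pts.map f x).evTop (p.coeff j)‖₊ < ‖y.evTop (p.coeff j)‖₊ + 1 :=
      ((continuous_nnnorm.tendsto _).comp (hcoef j)).eventually_lt_const (lt_add_one _)
    filter_upwards [this] with x hx
    exact hx.le.trans (Finset.le_sup (f := fun j => ‖y.evTop (p.coeff j)‖₊ + 1) hj)
  have hball : ∀ᶠ x in (𝒰 : Filter (Pts X)),
      x.evTop b ∈ Metric.closedBall (0 : ℂ) ((K + 1 : ℝ≥0) : ℝ) := by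
    filter_upwards [hev] with x hx
    have hq : (p.map (evHom (Pts.map f x) ⊤ (Opens.mem_top _))).IsRoot (x.evTop b) := by
      rw [IsRoot.def, eval_map_evHom, hroot]
      exact ev_zero x ⊤ _
    have := nnnorm_lt_of_isRoot_of_coeff_le (hp.map _) (K := K) (by
      intro j hj
      rw [coeff_map]
      rw [hp.natDegree_map] at hj
      exact hx j (Finset.mem_range.2 hj)) hq
    rw [mem_closedBall_zero_iff]
    exact_mod_cast this.le
  obtain ⟨c, -, hc⟩ := (isCompact_closedBall (0 : ℂ) ((K + 1 : ℝ≥0) : ℝ)).ultrafilter_le_nhds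
    (𝒰.map (fun x => x.evTop b)) (by
      rw [Filter.le_principal_iff]
      exact hball)
  exact ⟨c, hc⟩

/-- An integral morphism of affine schemes over `ℂ` induces a proper map on complex points. -/
theorem isProperMap_map_of_isIntegral [IsAffine X] [IsAffine Y] (f : X ⟶ Y) [f.IsOver SC]
    (hf : f.appTop.hom.IsIntegral) : IsProperMap (Pts.map f) := by
  rw [isProperMap_iff_ultrafilter]
  refine ⟨Pts.continuous_map f, ?_⟩
  intro 𝒰 y hy
  choose χ hχ using fun b => exists_tendsto_evTop f 𝒰 y hy b (hf b)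
  have hadd : ∀ b b', χ (b + b') = χ b + χ b' := fun b b' =>
    tendsto_nhds_unique (hχ (b + b')) (by simpa only [ev_add] using (hχ b).add (hχ b'))
  have hmul : ∀ b b', χ (b * b') = χ b * χ b' := fun b b' =>
    tendsto_nhds_unique (hχ (b * b')) (by simpa only [ev_mul] using (hχ b).mul (hχ b'))
  have hone : χ 1 = 1 :=
    tendsto_nhds_unique (hχ 1) (by simp only [ev_one]; exact tendsto_const_nhds)
  have hzero : χ 0 = 0 :=
    tendsto_nhds_unique (hχ 0) (by simp only [ev_zero]; exact tendsto_const_nhds)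
  let χ' : Γ(X, ⊤) →+* ℂ :=
    { toFun := χ, map_one' := hone, map_mul' := hmul, map_zero' := hzero, map_add' := hadd }
  have hconst : ∀ c, χ' (strHom X c) = c := fun c =>
    tendsto_nhds_unique (hχ _) (by simp only [evTop_strHom]; exact tendsto_const_nhds)
  refine ⟨ptsOfHom χ' hconst, ?_, ?_⟩
  · apply pts_ext_of_isAffine
    intro a
    rw [evTop_map, ptsOfHom_evTop]
    refine tendsto_nhds_unique (hχ (f.appTop.hom a)) ?_
    have : (fun x : Pts X => x.evTop (f.appTop.hom a)) = fun x => (Pts.map f x).evTop a :=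
      funext fun x => (evTop_map f x a).symm
    rw [this]
    exact ((continuous_evTop a).tendsto y).comp hy
  · rw [isInducing_evMap.nhds_eq_comap, ← Filter.map_le_iff_le_comap]
    change Tendsto (evMap X) 𝒰 (𝓝 (evMap X (ptsOfHom χ' hconst)))
    rw [tendsto_pi_nhds]
    intro b
    change Tendsto (fun x : Pts X => x.evTop b) 𝒰 (𝓝 ((ptsOfHom χ' hconst).evTop b))
    rw [ptsOfHom_evTop]
    exact hχ b

instance t2Space_pts_of_isAffine [IsAffine X] : T2Space (Pts X) :=
  isEmbedding_evMap.t2Space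

end

end Groth.Agent.H21
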