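import Groth.Agent.H21.AnDenseCor
import Groth.Agent.H21.AnFiber
import Mathlib.AlgebraicGeometry.Morphisms.Immersion
import Mathlib.AlgebraicGeometry.Morphisms.Separated
import Mathlib.Topology.SeparatedMap

open AlgebraicGeometry CategoryTheory TopologicalSpace Opposite An Topology Limits

namespace Groth.Agent.H21

set_option linter.unusedSectionVars false

noncomputable section

variable {X Y : Scheme.{0}} [X.Over SC] [Y.Over SC]

/-- The homeomorphism between complex points of `X ×_Y X` and the fibre square of spaces. -/
def fibHomeo (f : X ⟶ Y) [f.IsOver SC] :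
    Pts (pullback f f) ≃ₜ (Pts.map f).Pullback (Pts.map f) :=
  (isHomeomorph_fibre f f).homeomorph

lemma fibHomeo_map_diagonal (f : X ⟶ Y) [f.IsOver SC] (x : Pts X) :
    fibHomeo f (Pts.map (pullback.diagonal f) x) = toPullbackDiag (Pts.map f) x := by
  apply Subtype.ext
  apply Prod.ext
  · apply Subtype.ext
    change (x.1 ≫ pullback.diagonal f) ≫ pullback.fst f f = x.1
    rw [Category.assoc, pullback.diagonal_fst, Category.comp_id]
  · apply Subtype.ext
    change (x.1 ≫ pullback.diagonal f) ≫ pullback.snd f f = x.1
    rw [Category.assoc, pullback.diagonal_snd, Category.comp_id]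

theorem isSeparated_iff_isSeparatedMap (f : X ⟶ Y) [f.IsOver SC] [LocallyOfFiniteType (X ↘ SC)]
    [LocallyOfFiniteType (Y ↘ SC)] : IsSeparated f ↔ IsSeparatedMap (Pts.map f) := by
  have hcomp : toPullbackDiag (Pts.map f) = fibHomeo f ∘ Pts.map (pullback.diagonal f) := by
    funext x
    exact (fibHomeo_map_diagonal f x).symm
  rw [isSeparatedMap_iff_isClosedEmbedding, hcomp]
  constructor
  · intro h
    exact (fibHomeo f).isClosedEmbedding.comp
      (isClosedEmbedding_map_of_isClosedImmersion (pullback.diagonal f))
  · intro h
    have h1 : IsClosedEmbedding (Pts.map (pullback.diagonal f)) := by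
      have := (fibHomeo f).symm.isClosedEmbedding.comp h
      have e : (fibHomeo f).symm ∘ (fibHomeo f ∘ Pts.map (pullback.diagonal f))
          = Pts.map (pullback.diagonal f) := by
        funext x
        simp
      rwa [e] at this
    have := lft_pullback f f
    have := isLocallyNoetherian_of_lft (X := pullback f f)
    have h2 : IsClosed (Set.range (pullback.diagonal f).base) := by
      rw [isClosed_iff_isClosed_preimage_pt _
        (isLocallyConstructible_of_isLocallyClosed (pullback.diagonal f).isLocallyClosed_range),
        ← range_map_eq_preimage_pt]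
      exact h1.isClosed_range
    exact ⟨IsClosedImmersion.of_isPreimmersion _ h2⟩

end

end Groth.Agent.H21
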