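import Groth.Agent.H21.AnProjRel
import Groth.Agent.H21.AnSep
import Groth.Agent.H21.AnSurj
import Groth.Agent.H21.AnClosed
import Groth.Agent.H20.Chow.General
import Groth.Agent.H97.ProjProper
import Groth.Agent.S4204

/-!
# Proper morphisms and proper maps on complex points
-/

set_option autoImplicit false
set_option linter.style.haveILetI false
open CategoryTheory CategoryTheory.Limits AlgebraicGeometry TopologicalSpace Opposite An Topology

namespace Groth.Agent.H21.AnProj

open Groth.Agent.H21

noncomputable section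

attribute [local instance 900] projOver
attribute [local instance] toBase_isOver

/-- Properness of a continuous map is local on the target. -/
theorem isProperMap_of_restrictPreimage {α β : Type*} [TopologicalSpace α] [TopologicalSpace β]
    {f : α → β} {ι : Type*} {U : ι → Opens β} (hU : IsOpenCover U) (hf : Continuous f)
    (h : ∀ i, IsProperMap ((U i).1.restrictPreimage f)) : IsProperMap f := by
  rw [isProperMap_iff_isClosedMap_and_compact_fibers]
  refine ⟨hf, (hU.isClosedMap_iff_restrictPreimage).2 (fun i => (h i).isClosedMap), ?_⟩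
  intro y
  obtain ⟨i, hi⟩ := hU.exists_mem y
  have hc := (h i).isCompact_preimage (K := {⟨y, hi⟩}) isCompact_singleton
  have e : f ⁻¹' {y} = Subtype.val '' ((U i).1.restrictPreimage f ⁻¹' {⟨y, hi⟩}) := by
    ext x
    simp only [Set.mem_preimage, Set.mem_singleton_iff, Set.mem_image, Subtype.exists,
      exists_and_right, exists_eq_right]
    constructor
    · intro hx
      refine ⟨by rw [hx]; exact hi, ?_⟩
      exact Subtype.ext hx
    · rintro ⟨hx, hx'⟩
      exact congrArg Subtype.val hx'
  rw [e]
  exact hc.image continuous_subtype_val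

variable {X Y : Scheme.{0}} [X.Over SC] [Y.Over SC]

theorem isProperMap_map_of_cover (f : X ⟶ Y) [f.IsOver SC] {ι : Type*} (V : ι → Y.Opens)
    (hV : IsOpenCover V) (h : ∀ i, IsProperMap (Pts.map (f ∣_ V i))) : IsProperMap (Pts.map f) := by
  refine isProperMap_of_restrictPreimage (isOpenCover_ptsOpens V hV) (Pts.continuous_map f) ?_
  intro i
  rw [restrictPreimage_map]
  exact (Homeomorph.isProperMap _).comp ((h i).comp (Homeomorph.isProperMap _))

theorem isProperMap_map_morphismRestrict (f : X ⟶ Y) [f.IsOver SC] (V : Y.Opens)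
    (h : IsProperMap (Pts.map f)) : IsProperMap (Pts.map (f ∣_ V)) := by
  have h1 := h.restrictPreimage (ptsOpens V).1
  rw [restrictPreimage_map] at h1
  set e1 := homeoOfRange (isOpenEmbedding_map_of_isOpenImmersion V.ι) (ptsOpens V).1 (range_map_ι V)
  set e2 := homeoOfRange (isOpenEmbedding_map_of_isOpenImmersion (f ⁻¹ᵁ V).ι)
          (Pts.map f ⁻¹' (ptsOpens V).1) (range_map_ι_preimage f V)
  have h2 : Pts.map (f ∣_ V) = e1.symm ∘ (e1 ∘ Pts.map (f ∣_ V) ∘ e2.symm) ∘ e2 := by
    funext z
    simp
  rw [h2]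
  exact (Homeomorph.isProperMap _).comp (h1.comp (Homeomorph.isProperMap _))

/-- `P^n_Y` is locally of finite type over `ℂ` when `Y` is. -/
lemma lft_projSpaceOver (n : ℕ) (Y : Scheme.{0}) [Y.Over SC] [LocallyOfFiniteType (Y ↘ SC)] :
    LocallyOfFiniteType (CohB1.ProjSpaceOver n Y ↘ SC) := by
  rw [projOver_over]
  have : IsProper (CohB1.ProjSpaceOver.toBase n Y) := Groth.Agent.H97.ProjProper.isProper_toBase n Y
  infer_instance

/-- A proper morphism to a quasi-compact quasi-separated base induces a proper map on complex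
points. -/
theorem isProperMap_map_of_isProper_of_qcqs (f : X ⟶ Y) [f.IsOver SC]
    [LocallyOfFiniteType (X ↘ SC)] [LocallyOfFiniteType (Y ↘ SC)]
    [CompactSpace Y] [QuasiSeparatedSpace Y] [IsProper f] : IsProperMap (Pts.map f) := by
  obtain ⟨n, X', π, j, hj, hcomm, hπ, hπs⟩ := Groth.Agent.H20.Chow.chow_general f
  letI instX' : X'.Over SC := ⟨π ≫ (X ↘ SC)⟩
  haveI hπover : π.IsOver SC := ⟨rfl⟩
  haveI hjover : j.IsOver SC := by
    constructor
    rw [projOver_over, ← Category.assoc, hcomm, Category.assoc, comp_over f SC]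
    rfl
  haveI : LocallyOfFiniteType (X' ↘ SC) := by
    change LocallyOfFiniteType (π ≫ (X ↘ SC))
    infer_instance
  haveI := lft_projSpaceOver n Y
  haveI : IsProper (CohB1.ProjSpaceOver.toBase n Y) :=
    Groth.Agent.H97.ProjProper.isProper_toBase n Y
  haveI : IsProper (j ≫ CohB1.ProjSpaceOver.toBase n Y) := by
    rw [hcomm]
    infer_instance
  haveI : IsProper j := IsProper.of_comp j (CohB1.ProjSpaceOver.toBase n Y)
  haveI : IsClosedImmersion j :=
    IsClosedImmersion.of_isPreimmersion j j.isClosedMap.isClosed_range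
  have h1 : IsProperMap (Pts.map j) := (isClosedEmbedding_map_of_isClosedImmersion j).isProperMap
  have h2 : IsProperMap (Pts.map (CohB1.ProjSpaceOver.toBase n Y)) := isProperMap_map_toBase n Y
  have h3 : IsProperMap (Pts.map f ∘ Pts.map π) := by
    have e : Pts.map f ∘ Pts.map π = Pts.map (CohB1.ProjSpaceOver.toBase n Y) ∘ Pts.map j := by
      funext z
      apply Subtype.ext
      change (z.1 ≫ π) ≫ f = (z.1 ≫ j) ≫ CohB1.ProjSpaceOver.toBase n Y
      rw [Category.assoc, Category.assoc, hcomm]
    rw [e]
    exact h2.comp h1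
  have hsurj : Function.Surjective (Pts.map π) := surjective_map_of_surjective π hπs.surj
  exact isProperMap_of_comp_of_surj (Pts.continuous_map π) (Pts.continuous_map f) h3 hsurj

/-- A proper morphism induces a proper map on complex points. -/
theorem isProperMap_map_of_isProper (f : X ⟶ Y) [f.IsOver SC]
    [LocallyOfFiniteType (X ↘ SC)] [LocallyOfFiniteType (Y ↘ SC)] [IsProper f] :
    IsProperMap (Pts.map f) := by
  apply isProperMap_map_of_cover f (fun V : Y.affineOpens => V.1) (iSup_affineOpens_eq_top Y)
  intro V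
  haveI : IsAffine (V.1 : Scheme.{0}) := V.2
  exact isProperMap_map_of_isProper_of_qcqs (f ∣_ V.1)

/-- If `Y` is affine and `X(ℂ) → Y(ℂ)` is proper, then the separated quasi-compact morphism `f`
is proper. -/
theorem isProper_of_isProperMap_of_isAffine (f : X ⟶ Y) [f.IsOver SC]
    [LocallyOfFiniteType (X ↘ SC)] [LocallyOfFiniteType (Y ↘ SC)] [IsAffine Y]
    [QuasiCompact f] [IsSeparated f] (h : IsProperMap (Pts.map f)) : IsProper f := by
  haveI : LocallyOfFiniteType f := lft_of_isOver f
  obtain ⟨n, X', π, j, hj, hcomm, hπ, hπs⟩ := Groth.Agent.H20.Chow.chow_general f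
  letI instX' : X'.Over SC := ⟨π ≫ (X ↘ SC)⟩
  haveI hπover : π.IsOver SC := ⟨rfl⟩
  haveI hjover : j.IsOver SC := by
    constructor
    rw [projOver_over, ← Category.assoc, hcomm, Category.assoc, comp_over f SC]
    rfl
  haveI : LocallyOfFiniteType (X' ↘ SC) := by
    change LocallyOfFiniteType (π ≫ (X ↘ SC))
    infer_instance
  haveI := lft_projSpaceOver n Y
  haveI : IsProper (CohB1.ProjSpaceOver.toBase n Y) :=
    Groth.Agent.H97.ProjProper.isProper_toBase n Y
  haveI : IsSeparated (CohB1.ProjSpaceOver n Y ↘ SC) := by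
    rw [projOver_over]
    infer_instance
  haveI : T2Space (Pts (CohB1.ProjSpaceOver n Y)) :=
    (Groth.Agent.S4204.result (CohB1.ProjSpaceOver n Y)).1 inferInstance
  have hπp : IsProperMap (Pts.map π) := isProperMap_map_of_isProper π
  have h3 : IsProperMap (Pts.map (CohB1.ProjSpaceOver.toBase n Y) ∘ Pts.map j) := by
    have e : Pts.map (CohB1.ProjSpaceOver.toBase n Y) ∘ Pts.map j = Pts.map f ∘ Pts.map π := by
      funext z
      apply Subtype.ext
      change (z.1 ≫ j) ≫ CohB1.ProjSpaceOver.toBase n Y = (z.1 ≫ π) ≫ f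
      rw [Category.assoc, Category.assoc, hcomm]
    rw [e]
    exact h.comp hπp
  have hjp : IsProperMap (Pts.map j) :=
    isProperMap_of_comp_of_t2 (Pts.continuous_map j) (Pts.continuous_map _) h3
  haveI := isLocallyNoetherian_of_lft (X := CohB1.ProjSpaceOver n Y)
  have hcl : IsClosed (Set.range j.base) := by
    rw [isClosed_iff_isClosed_preimage_pt _
      (isLocallyConstructible_of_isLocallyClosed j.isLocallyClosed_range),
      ← range_map_eq_preimage_pt]
    exact hjp.isClosed_range
  haveI : IsClosedImmersion j := IsClosedImmersion.of_isPreimmersion j hcl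
  haveI : IsProper (π ≫ f) := by
    rw [← hcomm]
    infer_instance
  haveI : UniversallyClosed f := UniversallyClosed.of_comp_surjective π f
  exact {}

/-- If `X(ℂ) → Y(ℂ)` is proper, then the separated quasi-compact morphism `f` is proper. -/
theorem isProper_of_isProperMap (f : X ⟶ Y) [f.IsOver SC]
    [LocallyOfFiniteType (X ↘ SC)] [LocallyOfFiniteType (Y ↘ SC)]
    [QuasiCompact f] [IsSeparated f] (h : IsProperMap (Pts.map f)) : IsProper f := by
  rw [IsZariskiLocalAtTarget.iff_of_iSup_eq_top (P := @IsProper) _ (iSup_affineOpens_eq_top Y)]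
  intro V
  haveI : IsAffine (V.1 : Scheme.{0}) := V.2
  exact isProper_of_isProperMap_of_isAffine (f ∣_ V.1) (isProperMap_map_morphismRestrict f V.1 h)

/-- **Proper morphisms and proper maps**: `f` is proper iff `X(ℂ) → Y(ℂ)` is proper and
separated. -/
theorem isProper_iff (f : X ⟶ Y) [f.IsOver SC]
    [LocallyOfFiniteType (X ↘ SC)] [LocallyOfFiniteType (Y ↘ SC)] [QuasiCompact f] :
    IsProper f ↔ IsProperMap (Pts.map f) ∧ IsSeparatedMap (Pts.map f) := by
  constructor
  · intro hf
    exact ⟨isProperMap_map_of_isProper f, (isSeparated_iff_isSeparatedMap f).1 inferInstance⟩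
  · rintro ⟨h1, h2⟩
    haveI : IsSeparated f := (isSeparated_iff_isSeparatedMap f).2 h2
    exact isProper_of_isProperMap f h1

end

end Groth.Agent.H21.AnProj
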