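import Groth.Agent.H21.Constr
import Groth.Agent.S6645
import Groth.Agent.H4.EtRestr

/-!
# Kernels, cokernels and extensions of constructible abelian sheaves (helper21)
-/

set_option autoImplicit false
universe u
open CategoryTheory CategoryTheory.Limits AlgebraicGeometry Opposite

namespace Groth.Agent.H21.ConstrSerre

open Groth.Agent.H21.OverBridge Groth.Agent.H21.Constr Groth.Agent.H4.EtRestr

variable {X : Scheme.{u}}

theorem pull_kernel_isFLC {T : Scheme.{u}} (g : T ⟶ X) {F G : EtCoh.Ab X} (φ : F ⟶ G)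
    (hF : EtCoh.IsFiniteLocallyConstant ((EtCoh.pull g).obj F))
    (hG : EtCoh.IsFiniteLocallyConstant ((EtCoh.pull g).obj G)) :
    EtCoh.IsFiniteLocallyConstant ((EtCoh.pull g).obj (kernel φ)) ∧
      EtCoh.IsFiniteLocallyConstant ((EtCoh.pull g).obj (cokernel φ)) := by
  have h := (Groth.Agent.S6645.result T).1 _ _ ((EtCoh.pull g).map φ) hF hG
  exact ⟨isFLC_of_iso (PreservesKernel.iso (EtCoh.pull g) φ).symm h.1,
    isFLC_of_iso (PreservesCokernel.iso (EtCoh.pull g) φ).symm h.2⟩

theorem pull_ext_isFLC {T : Scheme.{u}} (g : T ⟶ X) {S : ShortComplex (EtCoh.Ab X)}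
    (hS : S.ShortExact)
    (h1 : EtCoh.IsFiniteLocallyConstant ((EtCoh.pull g).obj S.X₁))
    (h3 : EtCoh.IsFiniteLocallyConstant ((EtCoh.pull g).obj S.X₃)) :
    EtCoh.IsFiniteLocallyConstant ((EtCoh.pull g).obj S.X₂) := by
  have := (Groth.Agent.S6645.result T).2
  have hS' : (S.map (EtCoh.pull g)).ShortExact := hS.map_of_exact (EtCoh.pull g)
  exact ObjectProperty.prop_X₂_of_shortExact
    (P := fun F : EtCoh.Ab T => EtCoh.IsFiniteLocallyConstant F) hS' h1 h3

end Groth.Agent.H21.ConstrSerre
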