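import Groth.Agent.H21.ConstUnit
import Groth.Agent.H4.Stalks

set_option autoImplicit false
universe u
open CategoryTheory CategoryTheory.Limits AlgebraicGeometry Opposite

namespace Groth.Agent.H21.GenStalk

open Groth.Agent.H21.ConstSec Groth.Agent.H21.ConstUnit Groth.Agent.H4.Stalks

variable {X : Scheme.{u}}

lemma app_map_eta {M N : AddCommGrpCat.{u + 1}} (h : M ⟶ N) (V : X.Etale) (m : ↑M) :
    app ((Δ X).map h) V (eta M V m) = eta N V (h.hom m) := by
  have h1 := toSheafify_naturality X.smallEtaleTopology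
    ((Functor.const X.Etaleᵒᵖ).map h)
  have h2 := congrArg (fun k => (k.app (op V)).hom m) h1
  exact h2.symm

lemma injective_app_of_mono {F G : EtCoh.Ab X} (a : F ⟶ G) [Mono a] (W : X.Etale) :
    Function.Injective (app a W) := by
  have h2 : Mono ((sheafToPresheaf _ _).map a) := inferInstance
  have h3 : Mono (((evaluation _ _).obj (op W)).map ((sheafToPresheaf _ _).map a)) :=
    inferInstance
  exact (AddCommGrpCat.mono_iff_injective _).1 h3

theorem exists_generic_point [IrreducibleSpace X] (T : X.Etale) [Nonempty T.left] :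
    ∃ t : T.left, T.hom t = genericPoint X := by
  have ho : IsOpen (Set.range (T.hom : T.left ⟶ X)) :=
    (T.hom : T.left ⟶ X).isOpenMap.isOpen_range
  have hne : (Set.range (T.hom : T.left ⟶ X)).Nonempty := by
    obtain ⟨t⟩ := ‹Nonempty T.left›
    exact ⟨_, t, rfl⟩
  have := ((genericPoint_spec X).mem_open_set_iff ho).2 (by simpa using hne)
  exact this


set_option backward.isDefEq.respectTransparency.types false in
theorem isIso_of_stalk_generic [IrreducibleSpace X] {Ω : Type u} [Field Ω] [IsSepClosed Ω]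
    (ξ : Spec (CommRingCat.of Ω) ⟶ X) (hξ : ξ.base default = genericPoint X)
    {M' M : AddCommGrpCat.{u + 1}} (ι' : M' ⟶ M) (G : EtCoh.Ab X)
    (a : cst X M' ⟶ G) (b : G ⟶ cst X M) [Mono a] [Mono b] (hab : a ≫ b = (Δ X).map ι')
    (hst : IsIso ((EtCoh.stalk ξ).map a)) : IsIso a := by
  have hb := injective_app_of_mono b
  have ha := injective_app_of_mono a
  have habs : ∀ (W : X.Etale) (r : Sec (cst X M') W), app b W (app a W r) = app ((Δ X).map ι') W r := by
    intro W r
    exact congrArg (fun k => app k W r) hab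
  refine (Sheaf.isLocallyBijective_iff_isIso a).1 ⟨⟨?_⟩, ⟨?_⟩⟩
  · intro V x y hxy
    have hxy' : x = y := ha V.unop hxy
    rw [mem_iff]
    intro v
    refine ⟨V.unop, 𝟙 _, v, ?_, rfl⟩
    show res (cst X M') (𝟙 _) x = res (cst X M') (𝟙 _) y
    rw [hxy']
  · intro V s
    rw [mem_iff]
    intro v
    obtain ⟨c, T, g, t₀, ht₀, hT⟩ := exists_isVal (app b V s) v
    have : Nonempty T.left := ⟨t₀⟩
    obtain ⟨t₁, ht₁⟩ := exists_generic_point T
    obtain ⟨x, hx⟩ := Fib.exists_of_point (ξ := ξ) T t₁ (ht₁.trans hξ.symm)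
    -- use the stalk
    have hsurj : Function.Surjective ((EtCoh.stalk ξ).map a) := by
      have := (isIso_iff_bijective ((forget AddCommGrpCat).map ((EtCoh.stalk ξ).map a))).1 inferInstance
      exact this.2
    obtain ⟨τ, hτ⟩ := hsurj (germ G x (res G g s))
    obtain ⟨U', y, r, hr⟩ := germ_surjective (cst X M') τ
    let e₁ : (Scheme.pointSmallEtale ξ).fiber.Elements := ⟨T, x⟩
    let e₂ : (Scheme.pointSmallEtale ξ).fiber.Elements := ⟨U', y⟩
    let Z := IsCofiltered.min e₁ e₂
    let p : Z ⟶ e₁ := IsCofiltered.minToLeft e₁ e₂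
    let q : Z ⟶ e₂ := IsCofiltered.minToRight e₁ e₂
    have hp : (Scheme.pointSmallEtale ξ).fiber.map p.1 Z.2 = x := p.2
    have hq : (Scheme.pointSmallEtale ξ).fiber.map q.1 Z.2 = y := q.2
    have h1 : germ G Z.2 (res G p.1 (res G g s)) = germ G Z.2 (app a Z.1 (res (cst X M') q.1 r)) := by
      have e1 : germ G Z.2 (res G p.1 (res G g s)) = germ G x (res G g s) := by
        have := germ_res G p.1 Z.2 (res G g s)
        rw [hp] at this
        exact this
      have e2 : germ G Z.2 (app a Z.1 (res (cst X M') q.1 r)) = germ G y (app a U' r) := by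
        rw [app_res]
        have := germ_res G q.1 Z.2 (app a U' r)
        rw [hq] at this
        exact this
      rw [e1, e2, ← hτ, ← hr]
      exact germ_map a y r
    obtain ⟨Z', k, z', hz', hk⟩ := (germ_eq_iff G Z.2 _ _).1 h1
    obtain ⟨c', Z'', k', z'', hz'', hZ''⟩ := exists_isVal (res (cst X M') (k ≫ q.1) r) z'.pt
    -- compare values on Z''
    have hs'' : res G (k' ≫ k ≫ p.1 ≫ g) s = app a Z'' (eta M' Z'' c') := by
      have h2 : res G k (res G p.1 (res G g s)) = res G k (app a Z.1 (res (cst X M') q.1 r)) := hk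
      have h3 := congrArg (res G k') h2
      rw [res_res, res_res, res_res, ← app_res, ← app_res, res_res, res_res] at h3
      have hZ3 : res (cst X M') ((k' ≫ k) ≫ q.1) r = eta M' Z'' c' := by
        rw [Category.assoc, ← res_res]
        exact hZ''
      rw [hZ3] at h3
      simpa only [Category.assoc] using h3
    have hc : c = ι'.hom c' := by
      have h4 : app b Z'' (res G (k' ≫ k ≫ p.1 ≫ g) s) = eta M Z'' c := by
        rw [app_res, ← res_res, ← res_res, ← res_res, hT, res_eta, res_eta, res_eta]
      rw [hs'', habs, app_map_eta] at h4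
      rcases eta_injective_or M _ _ h4 with h | h
      · exact h.symm
      · exact ((bot_mem_iff.1 h).false z'').elim
    refine ⟨T, g, t₀, ⟨eta M' T c', ?_⟩, ht₀⟩
    show app a T (eta M' T c') = res G g s
    apply hb T
    rw [habs, app_map_eta, ← hc]
    have : app b T (res G g s) = eta M T c := by
      rw [app_res]
      exact hT
    exact this.symm

end Groth.Agent.H21.GenStalk
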