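import Groth.Agent.H21.ConstrNoeth
import Groth.Agent.H21.ConstrSerre
import Groth.Agent.H21.AbExt
import Groth.Agent.H21.GenStalk

set_option autoImplicit false
universe u
open CategoryTheory CategoryTheory.Limits AlgebraicGeometry Opposite TopologicalSpace

namespace Groth.Agent.H21.ConstrSub

open Groth.Agent.H21.ConstSec Groth.Agent.H21.ConstUnit Groth.Agent.H21.LocConst
  Groth.Agent.H21.LocConstMap Groth.Agent.H21.AbExt Groth.Agent.H21.GenStalk
  Groth.Agent.H21.OverBridge Groth.Agent.H21.ConstrMain Groth.Agent.H21.ConstrNoeth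

/-- a finite constant sheaf is finite locally constant -/
theorem isFLC_const (X : Scheme.{u}) (E : Type) [AddCommGroup E] [Finite E] :
    EtCoh.IsFiniteLocallyConstant (EtCoh.const X E) := by
  refine (isFLC_iff _).2 ⟨PUnit, fun _ => Scheme.Etale.mk (𝟙 X), ?_, fun _ => ?_⟩
  · intro x
    exact ⟨PUnit.unit, x, rfl⟩
  · exact ⟨E, inferInstance, inferInstance,
      ⟨(EtCore.pullConstIso (𝟙 X)).app _⟩⟩

/-- finite local constancy descends along an étale morphism, over its (open) image -/
theorem isFLC_on_range {T Y' : Scheme.{u}} (r : Y' ⟶ T) [Etale r] (H : EtCoh.Ab T) (W : T.Opens)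
    (hW : (W : Set T) = Set.range r)
    (h : EtCoh.IsFiniteLocallyConstant ((EtCoh.pull r).obj H)) :
    EtCoh.IsFiniteLocallyConstant ((EtCoh.pull W.ι).obj H) := by
  have hle : Set.range r ⊆ Set.range W.ι := by
    rw [Scheme.Opens.range_ι, hW]
  let r' : Y' ⟶ ↑W := IsOpenImmersion.lift W.ι r hle
  have hr' : r' ≫ W.ι = r := IsOpenImmersion.lift_fac W.ι r hle
  have het : Etale r' := by
    have h1 : EtCoh.etaleMP (r' ≫ W.ι) := by rw [hr']; exact (inferInstance : Etale r)
    exact EtCoh.etaleMP.of_postcomp (W' := EtCoh.etaleMP) r' W.ι (inferInstance : Etale W.ι) h1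
  obtain ⟨ι, U, hc, htriv⟩ := (isFLC_iff _).1 h
  refine (isFLC_iff _).2 ⟨ι, fun i => Scheme.Etale.mk (((U i).hom : (U i).left ⟶ Y') ≫ r'), ?_,
    fun i => ?_⟩
  · intro x
    have hx : W.ι x ∈ Set.range r := by rw [← hW]; exact x.2
    obtain ⟨y', hy'⟩ := hx
    obtain ⟨i, u, hu⟩ := hc y'
    refine ⟨i, u, ?_⟩
    apply W.ι.isOpenEmbedding.injective
    show W.ι ((((U i).hom : (U i).left ⟶ Y') ≫ r') u) = W.ι x
    rw [← hy', ← hr']
    simp only [Scheme.Hom.comp_apply]
    rw [← hu]
  · obtain ⟨M, i1, i2, ⟨a⟩⟩ := htriv i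
    refine ⟨M, i1, i2, ⟨?_⟩⟩
    have w : (((U i).hom : (U i).left ⟶ Y') ≫ r') ≫ W.ι = ((U i).hom : (U i).left ⟶ Y') ≫ r := by
      rw [Category.assoc, hr']
    exact (EtCore.pullComp (((U i).hom : (U i).left ⟶ Y') ≫ r') W.ι).symm.app H ≪≫
      (EtCore.pullCongr w).app H ≪≫
      (EtCore.pullComp ((U i).hom : (U i).left ⟶ Y') r).app H ≪≫ a

/-- a nonempty locally Noetherian scheme has an irreducible open subscheme -/
theorem exists_irreducible_open (P : Scheme.{u}) [IsLocallyNoetherian P] (u₀ : P) :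
    ∃ B : P.Opens, IrreducibleSpace ↥B := by
  obtain ⟨A, hA, hu₀, -⟩ := exists_affine_nbhd (⊤ : P.Opens) u₀ trivial
  have hN : IsNoetherianRing Γ(P, A) := IsLocallyNoetherian.component_noetherian ⟨A, hA⟩
  have hNS : NoetherianSpace ↥A := noetherianSpace_of_isAffineOpen A hA
  let a₀ : ↥A := ⟨u₀, hu₀⟩
  obtain ⟨o, ho, hne, hoZ⟩ := NoetherianSpace.exists_isOpen_nonempty_subset_irreducibleComponent
    (irreducibleComponent a₀) (irreducibleComponent_mem_irreducibleComponents a₀)
  have hirr : IsIrreducible o :=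
    ⟨hne, isIrreducible_irreducibleComponent.isPreirreducible.open_subset ho hoZ⟩
  let B : P.Opens := ⟨Subtype.val '' o, A.isOpen.isOpenMap_subtype_val _ ho⟩
  refine ⟨B, ?_⟩
  have h2 : IsIrreducible (B : Set P) := hirr.image _ continuous_subtype_val.continuousOn
  exact Subtype.irreducibleSpace h2

/-- the source of an immersion onto an open part of the closure of a point is irreducible,
with a generic point over that point -/
theorem exists_generic_preimage {T X : Scheme.{u}} (g : T ⟶ X) [IsImmersion g] (x : X)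
    (V : X.Opens) (hxV : x ∈ V) (hr : Set.range g = (V : Set X) ∩ closure {x}) :
    ∃ t : T, g t = x ∧ closure {t} = Set.univ := by
  have hx : x ∈ Set.range g := by rw [hr]; exact ⟨hxV, subset_closure rfl⟩
  obtain ⟨t, ht⟩ := hx
  refine ⟨t, ht, ?_⟩
  rw [g.isEmbedding.isInducing.closure_eq_preimage_closure_image, Set.image_singleton, ht]
  ext y
  simp only [Set.mem_preimage, Set.mem_univ, iff_true]
  have : g y ∈ Set.range g := ⟨y, rfl⟩
  rw [hr] at this
  exact this.2

variable {Y : Scheme.{u}}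

section Core

variable {G : EtCoh.Ab Y} {M : AddCommGrpCat.{u + 1}} (κ : G ⟶ cst Y M)

/-- the locus where the constant section `m` lifts to `G` -/
def locus (m : ↑M) : Set Y :=
  {y | ∃ (W : Y.Etale) (w : W.left) (s : Sec G W),
    (W.hom : W.left ⟶ Y) w = y ∧ app κ W s = eta M W m}

lemma isOpen_locus (m : ↑M) : IsOpen (locus κ m) := by
  rw [isOpen_iff_forall_mem_open]
  rintro y ⟨W, w, s, hw, hs⟩
  refine ⟨Set.range (W.hom : W.left ⟶ Y), ?_,
    (W.hom : W.left ⟶ Y).isOpenMap.isOpen_range, ⟨w, hw⟩⟩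
  rintro _ ⟨w', rfl⟩
  exact ⟨W, w', s, rfl, hs⟩

/-- the sieve of maps along which `m` lifts -/
def liftSieve (m : ↑M) (V : Y.Etale) : Sieve V where
  arrows S' _ := ∃ s : Sec G S', app κ S' s = eta M S' m
  downward_closed := by
    rintro S' S'' f ⟨s, hs⟩ g
    exact ⟨res G g s, by rw [app_res, hs, res_eta]⟩

lemma locus_of_section {W : Y.Etale} (w : W.left) (s : Sec G W) (m : ↑M)
    (hs : app κ W s = eta M W m) : (W.hom : W.left ⟶ Y) w ∈ locus κ m :=
  ⟨W, w, s, rfl, hs⟩

end Core

section Irr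

variable {G : EtCoh.Ab Y} {M : AddCommGrpCat.{u + 1}} (κ : G ⟶ cst Y M)

lemma hom_apply_of_hom {W P : Y.Etale} (p : P ⟶ W) (x : P.left) :
    (W.hom : W.left ⟶ Y) (p.left x) = (P.hom : P.left ⟶ Y) x := by
  have e1 : p.left ≫ W.hom = P.hom := Over.w p.hom
  have e2 := congrArg (fun f => f x) e1
  simpa only [Scheme.Hom.comp_apply] using e2

/-- two étale neighbourhoods of the same point have a common refinement -/
lemma exists_common (W W' : Y.Etale) (w : W.left) (w' : W'.left)
    (h : (W.hom : W.left ⟶ Y) w = (W'.hom : W'.left ⟶ Y) w') :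
    ∃ (P : Y.Etale) (p : P ⟶ W) (p' : P ⟶ W') (x : P.left), p.left x = w ∧ p'.left x = w' := by
  let g : W ⟶ EtCoh.top Y := MorphismProperty.Over.homMk W.hom (Category.comp_id _) trivial
  let g' : W' ⟶ EtCoh.top Y := MorphismProperty.Over.homMk W'.hom (Category.comp_id _) trivial
  obtain ⟨P, p, p', x, -, hx, hx'⟩ := exists_pullback_point g g' w w' h
  exact ⟨P, p, p', x, hx, hx'⟩

lemma locus_add {m m' : ↑M} {y : Y} (h : y ∈ locus κ m) (h' : y ∈ locus κ m') :
    y ∈ locus κ (m + m') := by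
  obtain ⟨W, w, s, hw, hs⟩ := h
  obtain ⟨W', w', s', hw', hs'⟩ := h'
  obtain ⟨P, p, p', x, hx, hx'⟩ := exists_common W W' w w' (hw.trans hw'.symm)
  refine ⟨P, x, res G p s + res G p' s', ?_, ?_⟩
  · rw [← hom_apply_of_hom p x, hx, hw]
  · rw [map_add, app_res, app_res, hs, hs', res_eta, res_eta, map_add]

lemma locus_neg {m : ↑M} {y : Y} (h : y ∈ locus κ m) : y ∈ locus κ (-m) := by
  obtain ⟨W, w, s, hw, hs⟩ := h
  exact ⟨W, w, -s, hw, by rw [map_neg, hs, map_neg]⟩

lemma locus_zero (y : Y) : y ∈ locus κ (0 : ↑M) := by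
  refine ⟨EtCoh.top Y, y, 0, rfl, ?_⟩
  rw [map_zero, map_zero]

variable [IrreducibleSpace Y]

lemma generic_mem_of_nonempty (m : ↑M) (h : (locus κ m).Nonempty) :
    genericPoint Y ∈ locus κ m :=
  ((genericPoint_spec Y).mem_open_set_iff (isOpen_locus κ m)).2 (by simpa using h)

/-- the generic value group of the subsheaf -/
def genSub : AddSubgroup ↑M where
  carrier := {m | genericPoint Y ∈ locus κ m}
  zero_mem' := locus_zero κ _
  add_mem' := fun h h' => locus_add κ h h'
  neg_mem' := fun h => locus_neg κ h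

set_option backward.isDefEq.respectTransparency.types false in
/-- a subsheaf of a finite constant sheaf on an irreducible scheme is constant on a nonempty
open subset -/
theorem exists_open_triv [Finite ↑M] [Mono κ] :
    ∃ U : Y.Opens, genericPoint Y ∈ U ∧ ∃ (E : Type) (_ : AddCommGroup E) (_ : Finite E),
      Nonempty ((EtCoh.pull U.ι).obj G ≅ EtCoh.const U E) := by
  classical
  have hinj := injective_app_of_mono κ
  let M' := genSub κ
  let U : Y.Opens := ⟨⋂ m ∈ (M' : Set ↑M), locus κ m,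
    (Set.toFinite _).isOpen_biInter (fun m _ => isOpen_locus κ m)⟩
  have hηU : genericPoint Y ∈ U := Set.mem_iInter₂.2 (fun m hm => hm)
  let VU : Y.Etale := Scheme.Etale.mk U.ι
  -- lifting
  let S : ShortComplex (EtCoh.Ab Y) := ShortComplex.mk κ (cokernel.π κ) (cokernel.condition κ)
  have hS : S.ShortExact :=
    { exact := ShortComplex.exact_cokernel κ, mono_f := ‹Mono κ›, epi_g := inferInstance }
  have hlift : ∀ m : M', ∃ t : Sec G VU, app κ VU t = eta M VU m.1 := by
    intro m
    apply app_exact hS VU (eta M VU m.1)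
    refine sec_ext S.X₃ (liftSieve κ m.1 VU) ?_ _ _ ?_
    · rw [mem_iff]
      intro x
      have hx : (VU.hom : VU.left ⟶ Y) x ∈ locus κ m.1 :=
        Set.mem_iInter₂.1 (show (VU.hom : VU.left ⟶ Y) x ∈ (U : Set Y) from x.2) m.1 m.2
      obtain ⟨W, w, s, hw, hs⟩ := hx
      obtain ⟨P, p, p', z, hz, hz'⟩ := exists_common W VU w x hw
      exact ⟨P, p', z, ⟨res G p s, by rw [app_res, hs, res_eta]⟩, hz'⟩
    · rintro W g ⟨s, hs⟩
      rw [map_zero, ← app_res, res_eta, ← hs]
      exact app_zero (S := S) W s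
  choose t ht using hlift
  let ε : ↥M' →+ Sec G VU := AddMonoidHom.mk' t (fun a b => hinj VU (by
    rw [map_add, ht, ht, ht]
    exact map_add (eta M VU) a.1 b.1))
  have hε : ∀ m : M', app κ VU (ε m) = eta M VU m.1 := ht
  let E : AddCommGrpCat.{u + 1} := AddCommGrpCat.of ↥M'
  let θ : (cst Y E).over VU ⟶ G.over VU := cstLift ε
  have Kθ : ∀ {V' : Y.Etale} (k : V' ⟶ VU) (m : ↥M'),
      app κ V' (secHom θ k (eta E V' m)) = eta M V' m.1 := by
    intro V' k m
    rw [secHom_cstLift, app_res, hε, res_eta]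
  have hθ : IsIso θ := by
    refine (Sheaf.isLocallyBijective_iff_isIso θ).1 ⟨⟨?_⟩, ⟨?_⟩⟩
    · intro W x y hxy
      rw [GrothendieckTopology.mem_over_iff, mem_iff]
      intro v'
      let k : W.unop.left ⟶ VU := W.unop.hom
      let x' : Sec (cst Y E) W.unop.left := x
      let y' : Sec (cst Y E) W.unop.left := y
      have hxy' : secHom θ k x' = secHom θ k y' := hxy
      let d : Sec (cst Y E) W.unop.left := x' - y'
      have hd : secHom θ k d = 0 := by
        show secHom θ k (x' - y') = 0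
        rw [map_sub, sub_eq_zero]
        exact hxy'
      obtain ⟨m, V'', g, v'', hv'', hres⟩ := exists_isVal d v'
      have h1 : secHom θ (g ≫ k) (eta E V'' m) = 0 := by
        rw [← hres, secHom_res, hd, map_zero]
      have hm : m = 0 := by
        have h2 := Kθ (g ≫ k) m
        rw [h1, map_zero] at h2
        have h3 : eta M V'' m.1 = eta M V'' 0 := by rw [← h2, map_zero]
        rcases eta_injective_or M m.1 0 h3 with h | h
        · exact Subtype.ext h
        · exact ((bot_mem_iff.1 h).false v'').elim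
      refine ⟨V'', g, v'', ?_, hv''⟩
      rw [Sieve.overEquiv_iff]
      show res (cst Y E) g x' = res (cst Y E) g y'
      have h2 : res (cst Y E) g d = 0 := by rw [hres, hm, map_zero]
      have h3 : res (cst Y E) g d = res (cst Y E) g x' - res (cst Y E) g y' := map_sub _ _ _
      rw [h3, sub_eq_zero] at h2
      exact h2
    · intro W s
      rw [GrothendieckTopology.mem_over_iff, mem_iff]
      intro v'
      let k : W.left ⟶ VU := W.hom
      let s' : Sec G W.left := s
      obtain ⟨m, V'', g, v'', hv'', hres⟩ := exists_isVal (app κ W.left s') v'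
      have hm : m ∈ M' := by
        apply generic_mem_of_nonempty κ m
        refine ⟨_, locus_of_section κ v'' (res G g s') m ?_⟩
        rw [app_res, hres]
      refine ⟨V'', g, v'', ?_, hv''⟩
      rw [Sieve.overEquiv_iff]
      refine ⟨eta E V'' ⟨m, hm⟩, ?_⟩
      show secHom θ (g ≫ k) (eta E V'' ⟨m, hm⟩) = res G g s'
      apply hinj V''
      rw [Kθ, app_res, hres]
  obtain ⟨E₀, _, _, ⟨eE⟩⟩ := exists_small_model ↥M'
  refine ⟨U, hηU, E₀, inferInstance, inferInstance, ?_⟩
  refine (triv_iff VU G _).1 ⟨(asIso θ).symm ≪≫ (constOverIso VU E).symm ≪≫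
    (constantSheaf (Y.smallEtaleTopology.over VU) AddCommGrpCat.{u + 1}).mapIso
      eE.toAddCommGrpIso⟩

end Irr

section Main

variable {X : Scheme.{u}}

/-- a subsheaf of a constructible sheaf on a locally Noetherian scheme is generically finite
locally constant along the closure of every point -/
theorem sub_generic [IsLocallyNoetherian X] {F G : EtCoh.Ab X} (ι : G ⟶ F) [Mono ι]
    (hF : EtPBC.IsConstructible F) (x : X) :
    ∃ (V : X.Opens) (T : Scheme.{u}) (g : T ⟶ X), IsImmersion g ∧ x ∈ V ∧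
      Set.range g = (V : Set X) ∩ closure {x} ∧
      EtCoh.IsFiniteLocallyConstant ((EtCoh.pull g).obj G) := by
  obtain ⟨V, T, g, hg, hxV, hr, hflc⟩ := generic_of_isConstructible F hF x
  obtain ⟨tx, htx, hcl⟩ := exists_generic_preimage g x V hxV hr
  have hTN : IsLocallyNoetherian T := LocallyOfFiniteType.isLocallyNoetherian g
  have hTirr : IrreducibleSpace T := by
    rw [irreducibleSpace_def, Set.top_eq_univ, ← hcl]
    exact isIrreducible_singleton.closure
  obtain ⟨ι₀, U, hcov, htriv⟩ := (isFLC_iff _).1 hflc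
  obtain ⟨i₀, u₀, hu₀⟩ := hcov tx
  obtain ⟨M, iM1, iM2, ⟨a⟩⟩ := htriv i₀
  let P : Scheme.{u} := (U i₀).left
  let p : P ⟶ T := (U i₀).hom
  have hPN : IsLocallyNoetherian P := LocallyOfFiniteType.isLocallyNoetherian p
  obtain ⟨B, hB⟩ := exists_irreducible_open P u₀
  have hB' : IrreducibleSpace ↥(B.toScheme) := hB
  let q : B.toScheme ⟶ T := B.ι ≫ p
  let GT := (EtCoh.pull g).obj G
  let FT := (EtCoh.pull g).obj F
  let ιT : GT ⟶ FT := (EtCoh.pull g).map ι
  have hιT : Mono ιT := inferInstance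
  let e : (EtCoh.pull q).obj FT ≅ cst B.toScheme (AddCommGrpCat.of (ULift.{u + 1} M)) :=
    (EtCore.pullComp B.ι p).app FT ≪≫ (EtCoh.pull B.ι).mapIso a ≪≫
      (EtCore.pullConstIso B.ι).app _
  let κ : (EtCoh.pull q).obj GT ⟶ cst B.toScheme (AddCommGrpCat.of (ULift.{u + 1} M)) :=
    (EtCoh.pull q).map ιT ≫ e.hom
  have hκ : Mono κ := mono_comp _ _
  have hfin : Finite ↑(AddCommGrpCat.of (ULift.{u + 1} M)) :=
    inferInstanceAs (Finite (ULift.{u + 1} M))
  obtain ⟨U', hηU', E, iE1, iE2, ⟨b⟩⟩ := exists_open_triv κ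
  let r : U'.toScheme ⟶ T := U'.ι ≫ q
  let W : T.Opens := ⟨Set.range r, r.isOpenMap.isOpen_range⟩
  have hWflc : EtCoh.IsFiniteLocallyConstant ((EtCoh.pull W.ι).obj GT) := by
    apply isFLC_on_range r GT W rfl
    exact isFLC_of_iso (b.symm ≪≫ ((EtCore.pullComp U'.ι q).app GT).symm) (isFLC_const _ E)
  have htxW : tx ∈ W := by
    have hw : r ⟨genericPoint B.toScheme, hηU'⟩ ∈ (W : Set T) := ⟨_, rfl⟩
    have hw' : r ⟨genericPoint B.toScheme, hηU'⟩ ∈ closure {tx} := by rw [hcl]; trivial
    obtain ⟨z, hz1, hz2⟩ := mem_closure_iff.1 hw' W W.isOpen hw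
    rw [Set.mem_singleton_iff] at hz2
    rw [← hz2]
    exact hz1
  obtain ⟨O, hO, hOW⟩ := g.isEmbedding.isInducing.isOpen_iff.1 W.isOpen
  refine ⟨⟨O, hO⟩ ⊓ V, W.toScheme, W.ι ≫ g, inferInstance, ⟨?_, hxV⟩, ?_, ?_⟩
  · have h1 : tx ∈ g ⁻¹' O := by rw [hOW]; exact htxW
    rw [← htx]
    exact h1
  · rw [Scheme.Hom.comp_base, TopCat.coe_comp, Set.range_comp, Scheme.Opens.range_ι]
    show g '' (W : Set T) = _
    rw [← hOW, Set.image_preimage_eq_inter_range, hr]
    ext y
    simp only [Set.mem_inter_iff, Opens.coe_inf, Opens.coe_mk, SetLike.mem_coe]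
    tauto
  · exact isFLC_of_iso ((EtCore.pullComp W.ι g).app G).symm hWflc

/-- a subsheaf of a constructible sheaf on a locally Noetherian scheme is constructible -/
theorem isConstructible_of_mono [IsLocallyNoetherian X] {F G : EtCoh.Ab X} (ι : G ⟶ F) [Mono ι]
    (hF : EtPBC.IsConstructible F) : EtPBC.IsConstructible G :=
  isConstructible_of_generic G (fun x => sub_generic ι hF x)

/-- constructibility is invariant under isomorphism -/
theorem isConstructible_of_iso {F F' : EtCoh.Ab X} (e : F ≅ F') (hF : EtPBC.IsConstructible F) :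
    EtPBC.IsConstructible F' := by
  intro U hU
  obtain ⟨n, T, g, h1, h2, h3, h4, h5⟩ := hF U hU
  refine ⟨n, T, g, h1, h2, h3, h4, fun i _ => ?_⟩
  exact isFLC_of_iso ((EtCoh.pull (g i)).mapIso e) (h5 i)

/-- kernels and cokernels of maps of constructible sheaves are constructible -/
theorem isConstructible_kernel_cokernel {F G : EtCoh.Ab X} (φ : F ⟶ G)
    (hF : EtPBC.IsConstructible F) (hG : EtPBC.IsConstructible G) :
    EtPBC.IsConstructible (kernel φ) ∧ EtPBC.IsConstructible (cokernel φ) := by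
  have key : ∀ U : X.Opens, IsAffineOpen U →
      Groth.Agent.H21.Constr.Strata (fun b : Bool => if b then kernel φ else cokernel φ)
        (U : Set X) := by
    intro U hU
    obtain ⟨ι, hι, T, g, h1, h2, h3, h4, h5⟩ :=
      ((Groth.Agent.H21.Constr.strata_iff F U).1 (hF U hU)).inter
        ((Groth.Agent.H21.Constr.strata_iff G U).1 (hG U hU))
    refine ⟨ι, hι, T, g, h1, h2, h3, h4, fun i b => ?_⟩
    have h := Groth.Agent.H21.ConstrSerre.pull_kernel_isFLC (g i) φ (h5 i (Sum.inl ()))
      (h5 i (Sum.inr ()))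
    cases b
    · exact h.2
    · exact h.1
  constructor
  · intro U hU
    exact (Groth.Agent.H21.Constr.strata_iff _ _).2
      ((key U hU).mono _ (fun _ => ⟨true, rfl⟩))
  · intro U hU
    exact (Groth.Agent.H21.Constr.strata_iff _ _).2
      ((key U hU).mono _ (fun _ => ⟨false, rfl⟩))

/-- a quotient of a constructible sheaf on a locally Noetherian scheme is constructible -/
theorem isConstructible_of_epi [IsLocallyNoetherian X] {F Q : EtCoh.Ab X} (π : F ⟶ Q) [Epi π]
    (hF : EtPBC.IsConstructible F) : EtPBC.IsConstructible Q := by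
  have hK := isConstructible_of_mono (kernel.ι π) hF
  have hC := (isConstructible_kernel_cokernel (kernel.ι π) hK hF).2
  have hcolim := Abelian.epiIsCokernelOfKernel _ (kernelIsKernel π)
  let e : cokernel (kernel.ι π) ≅ Q :=
    (colimit.isColimit (parallelPair (kernel.ι π) 0)).coconePointUniqueUpToIso hcolim
  exact isConstructible_of_iso e hC

end Main

end Groth.Agent.H21.ConstrSub
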