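import Groth.Agent.H21.ConstrNoeth
import Groth.Agent.H20.GenericFinite2

/-!
# Stratifying an étale morphism into finite pieces: the Noetherian case (helper21)
-/

set_option autoImplicit false
universe u
open CategoryTheory CategoryTheory.Limits AlgebraicGeometry Opposite TopologicalSpace

namespace Groth.Agent.H21.QFStrata

variable {Y : Scheme.{u}}

/-- finite stratifications of a subset by locally closed pieces with a property `P` -/
def GStrata (P : ∀ (T : Scheme.{u}), (T ⟶ Y) → Prop) (S : Set Y) : Prop :=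
  ∃ (ι : Type) (_ : Finite ι) (T : ι → Scheme.{u}) (g : ∀ i, T i ⟶ Y),
    (∀ i, IsImmersion (g i)) ∧
    Pairwise (fun i j => Disjoint (Set.range (g i)) (Set.range (g j))) ∧
    (⋃ i, Set.range (g i)) = S ∧ ∀ i, P (T i) (g i)

/-- **Noetherian induction** for stratifications with a property stable under restriction to
opens of the strata. -/
theorem gstrata_of_generic [NoetherianSpace Y] (P : ∀ (T : Scheme.{u}), (T ⟶ Y) → Prop)
    (hP : ∀ (T : Scheme.{u}) (g : T ⟶ Y) (W : T.Opens), P T g → P W.toScheme (W.ι ≫ g))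
    (H : ∀ y : Y, ∃ (V : Y.Opens) (T : Scheme.{u}) (g : T ⟶ Y), IsImmersion g ∧ y ∈ V ∧
      Set.range g = (V : Set Y) ∩ closure {y} ∧ P T g)
    (Z : Closeds Y) : GStrata P (Z : Set Y) := by
  refine wellFounded_lt.induction (C := fun Z : Closeds Y => GStrata P (Z : Set Y)) Z ?_
  intro Z ih
  by_cases hZ : (Z : Set Y) = ∅
  · refine ⟨PEmpty, inferInstance, fun i => i.elim, fun i => i.elim, fun i => i.elim,
      fun i => i.elim, ?_, fun i => i.elim⟩
    rw [hZ]
    exact Set.iUnion_of_empty _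
  obtain ⟨S, hSf, hSc, hSi, hSU⟩ :=
    NoetherianSpace.exists_finite_set_isClosed_irreducible Z.isClosed
  have hSne : S.Nonempty := by
    by_contra hS
    rw [Set.not_nonempty_iff_eq_empty] at hS
    rw [hS, Set.sUnion_empty] at hSU
    exact hZ hSU
  obtain ⟨t₁, ht₁, hmax⟩ := hSf.exists_maximal hSne
  obtain ⟨x, hx⟩ := QuasiSober.sober (hSi t₁ ht₁) (hSc t₁ ht₁)
  have hxt : x ∈ t₁ := hx.mem
  let Z₂ : Set Y := ⋃₀ (S \ {t₁})
  have hZ₂c : IsClosed Z₂ := by
    show IsClosed (⋃₀ (S \ {t₁}))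
    rw [Set.sUnion_eq_biUnion]
    exact hSf.sdiff.isClosed_biUnion fun t ht => hSc t ht.1
  have hxZ₂ : x ∉ Z₂ := by
    rintro ⟨t, ⟨htS, htne⟩, hxt'⟩
    have hle : t₁ ⊆ t := by
      rw [← hx.def]
      exact (hSc t htS).closure_subset_iff.2 (Set.singleton_subset_iff.2 hxt')
    exact htne (Set.mem_singleton_iff.2 (Set.Subset.antisymm (hmax htS hle) hle))
  have hZeq : (Z : Set Y) = t₁ ∪ Z₂ := by
    rw [hSU]
    ext y
    constructor
    · rintro ⟨t, htS, hyt⟩
      by_cases h : t = t₁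
      · exact Or.inl (h ▸ hyt)
      · exact Or.inr ⟨t, ⟨htS, h⟩, hyt⟩
    · rintro (hy | ⟨t, ⟨htS, -⟩, hyt⟩)
      · exact ⟨t₁, ht₁, hy⟩
      · exact ⟨t, htS, hyt⟩
  obtain ⟨V, T, g, hg, hxV, hrg, hPg⟩ := H x
  let V' : Y.Opens := V ⊓ ⟨Z₂ᶜ, hZ₂c.isOpen_compl⟩
  have hxV' : x ∈ V' := ⟨hxV, hxZ₂⟩
  let Z' : Closeds Y := ⟨(Z : Set Y) ∩ (V' : Set Y)ᶜ, Z.isClosed.inter V'.isOpen.isClosed_compl⟩
  have hxZ : x ∈ (Z : Set Y) := by rw [hZeq]; exact Or.inl hxt
  have hlt : Z' < Z := by
    refine lt_of_le_of_ne (fun y hy => hy.1) fun h => ?_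
    have : x ∈ (Z' : Set Y) := by rw [h]; exact hxZ
    exact this.2 hxV'
  obtain ⟨ι, hι, T', g', h1, h3, h4, h5⟩ := ih Z' hlt
  have hrnew : Set.range ((g ⁻¹ᵁ V').ι ≫ g) = (Z : Set Y) ∩ (V' : Set Y) := by
    rw [Scheme.Hom.comp_base, TopCat.coe_comp, Set.range_comp, Scheme.Opens.range_ι]
    show g '' (g ⁻¹' (V' : Set Y)) = _
    rw [Set.image_preimage_eq_range_inter, hrg, hx.def, hZeq]
    ext y
    constructor
    · rintro ⟨⟨-, hy1⟩, hy2⟩
      exact ⟨Or.inl hy1, hy2⟩
    · rintro ⟨hy1 | hy1, hy2⟩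
      · exact ⟨⟨hy2.1, hy1⟩, hy2⟩
      · exact absurd hy1 hy2.2
  refine ⟨Option ι, inferInstance, fun o => o.elim (g ⁻¹ᵁ V').toScheme T',
    fun o => Option.rec ((g ⁻¹ᵁ V').ι ≫ g) g' o, fun o => ?_, ?_, ?_, fun o => ?_⟩
  · cases o with
    | none => exact inferInstanceAs (IsImmersion ((g ⁻¹ᵁ V').ι ≫ g))
    | some i => exact h1 i
  · intro o o' hoo
    have hd : ∀ i, Disjoint (Set.range ((g ⁻¹ᵁ V').ι ≫ g)) (Set.range (g' i)) := fun i => by
      rw [hrnew]
      refine Set.disjoint_left.2 fun y hy hy' => ?_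
      have : y ∈ (Z' : Set Y) := by rw [← h4]; exact Set.mem_iUnion.2 ⟨i, hy'⟩
      exact this.2 hy.2
    cases o with
    | none =>
      cases o' with
      | none => exact absurd rfl hoo
      | some i' => exact hd i'
    | some i =>
      cases o' with
      | none => exact (hd i).symm
      | some i' => exact h3 (fun h => hoo (by rw [h]))
  · apply Set.Subset.antisymm
    · intro y hy
      obtain ⟨o, ho⟩ := Set.mem_iUnion.1 hy
      cases o with
      | none =>
        have : y ∈ (Z : Set Y) ∩ (V' : Set Y) := by rw [← hrnew]; exact ho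
        exact this.1
      | some i =>
        have : y ∈ (Z' : Set Y) := by rw [← h4]; exact Set.mem_iUnion.2 ⟨i, ho⟩
        exact this.1
    · intro y hy
      by_cases hyV : y ∈ (V' : Set Y)
      · refine Set.mem_iUnion.2 ⟨none, ?_⟩
        show y ∈ Set.range ((g ⁻¹ᵁ V').ι ≫ g)
        rw [hrnew]
        exact ⟨hy, hyV⟩
      · have : y ∈ (Z' : Set Y) := ⟨hy, hyV⟩
        rw [← h4] at this
        obtain ⟨i, hi⟩ := Set.mem_iUnion.1 this
        exact Set.mem_iUnion.2 ⟨some i, hi⟩
  · cases o with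
    | none => exact hP T g _ hPg
    | some i => exact h5 i

/-! ### finiteness of base changes -/

section BC

variable {U X T T' : Scheme.{u}}

/-- if `snd` is a base change of `f` along `h ≫ g` and the base change of `f` along `g` is
finite then `snd` is finite -/
theorem isFinite_of_isPullback_comp (f : U ⟶ X) (g : T ⟶ X) (h : T' ⟶ T) {P : Scheme.{u}}
    {fst : P ⟶ U} {snd : P ⟶ T'} (H : IsPullback fst snd f (h ≫ g))
    (hfin : IsFinite (pullback.snd f g)) : IsFinite snd := by
  have h1 : IsFinite (pullback.snd (pullback.snd f g) h) :=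
    MorphismProperty.pullback_snd (P := @IsFinite) _ _ hfin
  have h2 : IsFinite (pullback.snd f (h ≫ g)) := by
    have : pullback.snd f (h ≫ g) =
        (pullbackLeftPullbackSndIso f g h).inv ≫ pullback.snd (pullback.snd f g) h := by
      rw [Iso.eq_inv_comp]
      exact pullbackLeftPullbackSndIso_hom_snd f g h
    rw [this]
    infer_instance
  have : snd = H.isoPullback.hom ≫ pullback.snd f (h ≫ g) := (H.isoPullback_hom_snd).symm
  rw [this]
  infer_instance

theorem isFinite_snd_comp (f : U ⟶ X) (g : T ⟶ X) (h : T' ⟶ T)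
    (hfin : IsFinite (pullback.snd f g)) : IsFinite (pullback.snd f (h ≫ g)) :=
  isFinite_of_isPullback_comp f g h (IsPullback.of_hasPullback f (h ≫ g)) hfin

end BC

theorem locallyQuasiFinite_of_etale {X Y : Scheme.{u}} (f : X ⟶ Y) [Etale f] :
    LocallyQuasiFinite f := by
  refine ⟨fun {U} hU {V} hV e => ?_⟩
  have hφ : (f.appLE U V e).hom.Etale :=
    HasRingHomProperty.appLE (P := @Etale) f inferInstance ⟨U, hU⟩ ⟨V, hV⟩ e
  algebraize [(f.appLE U V e).hom]
  have : Algebra.Etale Γ(Y, U) Γ(X, V) := hφ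
  exact RingHom.quasiFinite_algebraMap.mpr inferInstance

variable {U X : Scheme.{u}}

/-- generic finiteness of a quasi-compact étale morphism to a locally Noetherian scheme along
the closure of a point -/
theorem exists_generic_finite [IsLocallyNoetherian X] (j : U ⟶ X) [Etale j] [QuasiCompact j]
    (y : X) :
    ∃ (V : X.Opens) (T : Scheme.{u}) (g : T ⟶ X), IsImmersion g ∧ y ∈ V ∧
      Set.range g = (V : Set X) ∩ closure {y} ∧ IsFinite (pullback.snd j g) := by
  let C : Closeds X := ⟨closure {y}, isClosed_closure⟩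
  let I := Scheme.IdealSheafData.vanishingIdeal C
  let ι : I.subscheme ⟶ X := I.subschemeι
  have hrι : Set.range ι = closure {y} := by
    rw [Scheme.IdealSheafData.range_subschemeι,
      Scheme.IdealSheafData.coe_support_vanishingIdeal]
    rfl
  have hy : y ∈ Set.range ι := by rw [hrι]; exact subset_closure rfl
  obtain ⟨y', hy'⟩ := hy
  let jZ : pullback j ι ⟶ I.subscheme := pullback.snd j ι
  have hemb : Topology.IsClosedEmbedding ι := ι.isClosedEmbedding
  have hcl : closure ({y'} : Set I.subscheme) = Set.univ := by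
    rw [hemb.isInducing.closure_eq_preimage_closure_image, Set.image_singleton, hy',
      ← hrι]
    exact Set.preimage_range _
  have hirr : closure ({y'} : Set I.subscheme) ∈ irreducibleComponents ↥I.subscheme := by
    rw [hcl]
    have hi : IsIrreducible (Set.univ : Set I.subscheme) := by
      rw [← hcl]
      exact isIrreducible_singleton.closure
    exact ⟨hi, fun t _ _ => Set.subset_univ t⟩
  have hlqf : LocallyQuasiFinite jZ := locallyQuasiFinite_of_etale jZ
  have hfin : (jZ ⁻¹' {y'}).Finite := jZ.finite_preimage_singleton y'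
  have hLN : IsLocallyNoetherian I.subscheme :=
    LocallyOfFiniteType.isLocallyNoetherian ι
  have hLN' : IsLocallyNoetherian (pullback j ι) :=
    LocallyOfFiniteType.isLocallyNoetherian jZ
  have hqs : IsQuasiSeparated (((⊤ : (Limits.pullback j ι).Opens)) : Set ↥(Limits.pullback j ι)) := by
    rw [Opens.coe_top, isQuasiSeparated_univ_iff]
    infer_instance
  obtain ⟨V', -, hyV', -, hV'fin⟩ :=
    Groth.Agent.H20.exists_isFinite_morphismRestrict_of_finite_fiber' jZ hirr hfin ⊤
      hqs (fun _ _ => trivial) ⊤ trivial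
  obtain ⟨V, hV, hVV'⟩ := hemb.isInducing.isOpen_iff.1 V'.isOpen
  refine ⟨⟨V, hV⟩, V'.toScheme, V'.ι ≫ ι, inferInstance, ?_, ?_, ?_⟩
  · show y ∈ V
    rw [← hy']
    have : y' ∈ ι ⁻¹' V := by rw [hVV']; exact hyV'
    exact this
  · rw [Scheme.Hom.comp_base, TopCat.coe_comp, Set.range_comp, Scheme.Opens.range_ι]
    show ι '' (V' : Set I.subscheme) = V ∩ closure {y}
    rw [← hVV', Set.image_preimage_eq_range_inter, hrι, Set.inter_comm]
  · have h1 : IsPullback (pullback.fst j ι) jZ j ι := IsPullback.of_hasPullback j ι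
    have h2 := isPullback_morphismRestrict jZ V'
    have h3 := h2.flip.paste_horiz h1
    have : pullback.snd j (V'.ι ≫ ι) = h3.isoPullback.inv ≫ (jZ ∣_ V') := by
      rw [Iso.eq_inv_comp]
      exact h3.isoPullback_hom_snd
    rw [this]
    infer_instance

end Groth.Agent.H21.QFStrata
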