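import Groth.Agent.H21.CardLocus
import Groth.Agent.H21.ConstrSub
import Groth.Agent.H21.QFStrata1

/-!
# Generic local constancy from constructibility of the cardinality loci (helper21)
-/

set_option autoImplicit false
universe u
open CategoryTheory CategoryTheory.Limits AlgebraicGeometry Opposite TopologicalSpace

namespace Groth.Agent.H21.CardGeneric

open Groth.Agent.H21.OverBridge Groth.Agent.H21.Constr Groth.Agent.H21.ConstrMain
  Groth.Agent.H21.ConstrSupp Groth.Agent.H21.ConstSec Groth.Agent.H21.ConstrACC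
  Groth.Agent.H21.ConstrStalk Groth.Agent.H21.CardLocus
  Groth.Agent.H21.LocConst Groth.Agent.H21.LocConstMap Groth.Agent.H21.AbExt
  Groth.Agent.H21.ConstrSub
  Groth.Agent.H4.Stalks Groth.Agent.H4.StalkPull

section Top

variable {N : Type*} [TopologicalSpace N]

/-- a constructible set or its complement contains a neighbourhood of `p` in `closure {p}` -/
theorem constructible_dichotomy (p : N) {C : Set N} (hC : Topology.IsConstructible C) :
    (∃ O : Set N, IsOpen O ∧ p ∈ O ∧ O ∩ closure {p} ⊆ C) ∨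
      (∃ O : Set N, IsOpen O ∧ p ∈ O ∧ O ∩ closure {p} ⊆ Cᶜ) := by
  induction hC using Topology.IsConstructible.empty_union_induction with
  | open_retrocompact U hUopen hUcomp =>
    by_cases hp : p ∈ U
    · exact Or.inl ⟨U, hUopen, hp, Set.inter_subset_left⟩
    · refine Or.inr ⟨Set.univ, isOpen_univ, trivial, ?_⟩
      rintro y ⟨-, hy⟩ hyU
      obtain ⟨z, hz1, hz2⟩ := mem_closure_iff.1 hy U hUopen hyU
      rw [Set.mem_singleton_iff] at hz2
      exact hp (hz2 ▸ hz1)
  | union s hs t ht hs' ht' =>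
    rcases hs' with ⟨O, hO, hpO, hOs⟩ | ⟨O, hO, hpO, hOs⟩
    · exact Or.inl ⟨O, hO, hpO, hOs.trans Set.subset_union_left⟩
    · rcases ht' with ⟨O', hO', hpO', hOt⟩ | ⟨O', hO', hpO', hOt⟩
      · exact Or.inl ⟨O', hO', hpO', hOt.trans Set.subset_union_right⟩
      · refine Or.inr ⟨O ∩ O', hO.inter hO', ⟨hpO, hpO'⟩, ?_⟩
        rintro y ⟨⟨hy1, hy2⟩, hy3⟩ hy4
        rcases hy4 with h | h
        · exact hOs ⟨hy1, hy3⟩ h
        · exact hOt ⟨hy2, hy3⟩ h
  | compl s hs hs' =>
    rcases hs' with ⟨O, hO, hpO, hOs⟩ | ⟨O, hO, hpO, hOs⟩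
    · exact Or.inr ⟨O, hO, hpO, by rwa [compl_compl]⟩
    · exact Or.inl ⟨O, hO, hpO, hOs⟩

/-- a locally constructible set containing `x` contains a neighbourhood of `x` in
`closure {x}` -/
theorem exists_open_inter_closure_subset {s : Set N} (hs : Topology.IsLocallyConstructible s)
    {x : N} (hx : x ∈ s) : ∃ O : Set N, IsOpen O ∧ x ∈ O ∧ O ∩ closure {x} ⊆ s := by
  obtain ⟨U, hU, hUo, hc⟩ := hs x
  have hxU : x ∈ U := mem_of_mem_nhds hU
  let p : ↥U := ⟨x, hxU⟩
  rcases constructible_dichotomy p hc with ⟨O, hO, hpO, hOs⟩ | ⟨O, hO, hpO, hOs⟩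
  · refine ⟨Subtype.val '' O, hUo.isOpenMap_subtype_val _ hO, ⟨p, hpO, rfl⟩, ?_⟩
    rintro _ ⟨⟨q, hq, rfl⟩, hy⟩
    have hq' : q ∈ closure {p} := by
      rw [Topology.IsInducing.subtypeVal.closure_eq_preimage_closure_image, Set.image_singleton]
      exact hy
    exact hOs ⟨hq, hq'⟩
  · exact (hOs ⟨hpO, subset_closure rfl⟩ hx).elim

end Top

section Sections

variable {Z : Scheme.{u}} (G : EtCoh.Ab Z) {Ω : Type u} [Field Ω] [IsSepClosed Ω]
  (η : Spec (CommRingCat.of Ω) ⟶ Z)

/-- finitely many elements of a stalk are germs of sections over a common étale neighbourhood -/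
theorem exists_common_sections {ι : Type*} [Finite ι] (τ : ι → ↑((EtCoh.stalk η).obj G)) :
    ∃ (W : Z.Etale) (w : Fib η W) (t : ι → Sec G W), ∀ i, germ G w (t i) = τ i := by
  classical
  have : Fintype ι := Fintype.ofFinite ι
  have key : ∀ S : Finset ι, ∃ (W : Z.Etale) (w : Fib η W) (t : ι → Sec G W),
      ∀ i ∈ S, germ G w (t i) = τ i := by
    intro S
    induction S using Finset.induction_on with
    | empty =>
      obtain ⟨x₀, -⟩ := Fib.exists_of_point (ξ := η) (EtCoh.top Z) (η default) rfl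
      exact ⟨EtCoh.top Z, x₀, fun _ => 0, fun i hi => (Finset.notMem_empty i hi).elim⟩
    | insert i S hi ih =>
      obtain ⟨W, w, t, ht⟩ := ih
      obtain ⟨U, x, s, hs⟩ := germ_surjective G (τ i)
      let e₁ : (Scheme.pointSmallEtale η).fiber.Elements := ⟨W, w⟩
      let e₂ : (Scheme.pointSmallEtale η).fiber.Elements := ⟨U, x⟩
      let P := IsCofiltered.min e₁ e₂
      let p : P ⟶ e₁ := IsCofiltered.minToLeft e₁ e₂
      let q : P ⟶ e₂ := IsCofiltered.minToRight e₁ e₂
      have hp : (Scheme.pointSmallEtale η).fiber.map p.1 P.2 = w := p.2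
      have hq : (Scheme.pointSmallEtale η).fiber.map q.1 P.2 = x := q.2
      refine ⟨P.1, P.2, fun j => if j = i then res G q.1 s else res G p.1 (t j), ?_⟩
      intro j hj
      by_cases hji : j = i
      · subst hji
        simp only [if_true]
        have h1 := germ_res G q.1 P.2 s
        rw [hq] at h1
        exact h1.trans hs
      · simp only [if_neg hji]
        have hjS : j ∈ S := by
          rcases Finset.mem_insert.1 hj with h | h
          · exact (hji h).elim
          · exact h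
        have h1 := germ_res G p.1 P.2 (t j)
        rw [hp] at h1
        exact h1.trans (ht j hjS)
  obtain ⟨W, w, t, ht⟩ := key Finset.univ
  exact ⟨W, w, t, fun i => ht i (Finset.mem_univ i)⟩

/-- finitely many sections with vanishing germs vanish on a common étale neighbourhood -/
theorem exists_vanish {ι : Type*} [Finite ι] {W : Z.Etale} (w : Fib η W) (a : ι → Sec G W)
    (ha : ∀ i, germ G w (a i) = 0) :
    ∃ (W' : Z.Etale) (q : W' ⟶ W) (w' : Fib η W'),
      (Scheme.pointSmallEtale η).fiber.map q w' = w ∧ ∀ i, res G q (a i) = 0 := by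
  classical
  have : Fintype ι := Fintype.ofFinite ι
  have key : ∀ S : Finset ι, ∃ (W' : Z.Etale) (q : W' ⟶ W) (w' : Fib η W'),
      (Scheme.pointSmallEtale η).fiber.map q w' = w ∧ ∀ i ∈ S, res G q (a i) = 0 := by
    intro S
    induction S using Finset.induction_on with
    | empty =>
      exact ⟨W, 𝟙 W, w, by simp, fun i hi => (Finset.notMem_empty i hi).elim⟩
    | insert i S hi ih =>
      obtain ⟨W', q, w', hw', hq⟩ := ih
      have h0 : germ G w' (res G q (a i)) = 0 := by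
        have h1 := germ_res G q w' (a i)
        rw [hw'] at h1
        exact h1.trans (ha i)
      obtain ⟨V, g, y, hy, hg⟩ := (germ_eq_zero_iff G w' _).1 h0
      refine ⟨V, g ≫ q, y, ?_, ?_⟩
      · rw [Functor.map_comp_apply, hy, hw']
      · intro j hj
        rw [← res_res]
        rcases Finset.mem_insert.1 hj with rfl | hjS
        · exact hg
        · rw [hq j hjS, map_zero]
  obtain ⟨W', q, w', hw', hq⟩ := key Finset.univ
  exact ⟨W', q, w', hw', fun i => hq i (Finset.mem_univ i)⟩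

/-- a finite stalk is realized by an additive family of sections over an étale neighbourhood -/
theorem exists_sections [Finite ↑((EtCoh.stalk η).obj G)] :
    ∃ (W : Z.Etale) (w : Fib η W) (ε : ↑((EtCoh.stalk η).obj G) →+ Sec G W),
      ∀ m, germ G w (ε m) = m := by
  obtain ⟨W₁, w₁, t, ht⟩ := exists_common_sections G η (fun m : ↑((EtCoh.stalk η).obj G) => m)
  let a : ↑((EtCoh.stalk η).obj G) × ↑((EtCoh.stalk η).obj G) → Sec G W₁ :=
    fun mm => t (mm.1 + mm.2) - t mm.1 - t mm.2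
  have ha : ∀ mm, germ G w₁ (a mm) = 0 := by
    intro mm
    show germ G w₁ (t (mm.1 + mm.2) - t mm.1 - t mm.2) = 0
    rw [map_sub, map_sub, ht, ht, ht]
    abel
  obtain ⟨W', q, w', hw', hq⟩ := exists_vanish G η w₁ a ha
  let ε : ↑((EtCoh.stalk η).obj G) →+ Sec G W' :=
    AddMonoidHom.mk' (fun m => res G q (t m)) (fun m m' => by
      have h1 : res G q (t (m + m') - t m - t m') = 0 := hq (m, m')
      rw [map_sub, map_sub, sub_sub, sub_eq_zero] at h1
      exact h1)
  refine ⟨W', w', ε, fun m => ?_⟩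
  show germ G w' (res G q (t m)) = m
  have h1 := germ_res G q w' (t m)
  rw [hw'] at h1
  exact h1.trans (ht m)

end Sections

section Triv

variable {Z : Scheme.{u}} (G : EtCoh.Ab Z) (W : Z.Etale) (M₀ : Type (u + 1)) [AddCommGroup M₀]
  [Finite M₀]

set_option backward.isDefEq.respectTransparency.types false in
/-- a family of sections which is injective on every nonempty étale scheme over `W` and whose
cardinality bounds the stalks trivializes the sheaf over `W` -/
theorem triv_of_sections (ε : M₀ →+ Sec G W)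
    (hinj : ∀ (V : Z.Etale) (q : V ⟶ W) (m : M₀), Nonempty V.left → res G q (ε m) = 0 → m = 0)
    (hcard : ∀ w : W.left, ∃ (Ω : Type u) (_ : Field Ω) (_ : IsSepClosed Ω)
      (ξ : Spec (CommRingCat.of Ω) ⟶ Z), ξ default = (W.hom : W.left ⟶ Z) w ∧
        Finite ↑((EtCoh.stalk ξ).obj G) ∧ Nat.card ↑((EtCoh.stalk ξ).obj G) ≤ Nat.card M₀) :
    ∃ (E : Type) (_ : AddCommGroup E) (_ : Finite E),
      Nonempty ((EtCoh.pull (W.hom : W.left ⟶ Z)).obj G ≅ EtCoh.const W.left E) := by
  let M : AddCommGrpCat.{u + 1} := AddCommGrpCat.of M₀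
  let ε' : ↑M →+ Sec G W := ε
  let θ : (cst Z M).over W ⟶ G.over W := cstLift ε'
  have Kθ : ∀ {V' : Z.Etale} (k : V' ⟶ W) (m : M₀),
      secHom θ k (eta M V' m) = res G k (ε m) := fun k m => secHom_cstLift ε' k m
  have hθ : IsIso θ := by
    refine (Sheaf.isLocallyBijective_iff_isIso θ).1 ⟨⟨?_⟩, ⟨?_⟩⟩
    · intro S x y hxy
      rw [GrothendieckTopology.mem_over_iff, mem_iff]
      intro v'
      let k : S.unop.left ⟶ W := S.unop.hom
      let x' : Sec (cst Z M) S.unop.left := x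
      let y' : Sec (cst Z M) S.unop.left := y
      have hxy' : secHom θ k x' = secHom θ k y' := hxy
      let d : Sec (cst Z M) S.unop.left := x' - y'
      have hd : secHom θ k d = 0 := by
        show secHom θ k (x' - y') = 0
        rw [map_sub, sub_eq_zero]
        exact hxy'
      obtain ⟨m, V'', g, v'', hv'', hres⟩ := exists_isVal d v'
      have h1 : secHom θ (g ≫ k) (eta M V'' m) = 0 := by
        rw [← hres, secHom_res, hd, map_zero]
      have hm : m = 0 := hinj V'' (g ≫ k) m ⟨v''⟩ (by rw [← Kθ]; exact h1)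
      refine ⟨V'', g, v'', ?_, hv''⟩
      rw [Sieve.overEquiv_iff]
      show res (cst Z M) g x' = res (cst Z M) g y'
      have h2 : res (cst Z M) g d = 0 := by rw [hres, hm, map_zero]
      have h3 : res (cst Z M) g d = res (cst Z M) g x' - res (cst Z M) g y' := map_sub _ _ _
      rw [h3, sub_eq_zero] at h2
      exact h2
    · intro S s
      rw [GrothendieckTopology.mem_over_iff, mem_iff]
      intro v'
      let k : S.left ⟶ W := S.hom
      let s' : Sec G S.left := s
      obtain ⟨Ω, _, _, ξ, hξ, hfin, hle⟩ := hcard (k.left v')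
      have hpt : (S.left.hom : S.left.left ⟶ Z) v' = ξ default := by
        rw [hξ]
        exact (hom_apply_of_hom k v').symm
      obtain ⟨yS, hyS⟩ := Fib.exists_of_point (ξ := ξ) S.left v' hpt
      let yW : Fib ξ W := (Scheme.pointSmallEtale ξ).fiber.map k yS
      let φ : M₀ →+ ↑((EtCoh.stalk ξ).obj G) := (germ G yW).hom.comp ε
      have hφinj : Function.Injective φ := by
        rw [injective_iff_map_eq_zero]
        intro m hm
        have hm' : germ G yW (ε m) = 0 := hm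
        obtain ⟨V, g, v, -, hg⟩ := (germ_eq_zero_iff' G yW (ε m)).1 hm'
        exact hinj V g m ⟨v⟩ hg
      have hφbij : Function.Bijective φ := hφinj.bijective_of_nat_card_le hle
      obtain ⟨m, hm⟩ := hφbij.2 (germ G yS s')
      have hm' : germ G yW (ε m) = germ G yS s' := hm
      have h2 : germ G yS s' = germ G yS (res G k (ε m)) := by
        rw [← hm']
        exact (germ_res G k yS (ε m)).symm
      obtain ⟨V'', g, y'', hy'', hg⟩ := (germ_eq_iff G yS _ _).1 h2
      refine ⟨V'', g, y''.pt, ?_, ?_⟩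
      · rw [Sieve.overEquiv_iff]
        refine ⟨eta M V'' m, ?_⟩
        show secHom θ (g ≫ k) (eta M V'' m) = res G g s'
        rw [Kθ, ← res_res]
        exact hg.symm
      · rw [← Fib.pt_map, hy'', hyS]
  obtain ⟨E₀, _, _, ⟨eE⟩⟩ := exists_small_model M₀
  refine ⟨E₀, inferInstance, inferInstance, ?_⟩
  refine (triv_iff W G _).1 ⟨(asIso θ).symm ≪≫ (constOverIso W M).symm ≪≫
    (constantSheaf (Z.smallEtaleTopology.over W) AddCommGrpCat.{u + 1}).mapIso
      eE.toAddCommGrpIso⟩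

end Triv

section Generic

variable {Z : Scheme.{u}} (G : EtCoh.Ab Z) (z₀ : Z) (hz₀ : closure {z₀} = Set.univ)
  {Ω : Type u} [Field Ω] [IsSepClosed Ω] (η : Spec (CommRingCat.of Ω) ⟶ Z) (hη : η default = z₀)

include hz₀ hη in
/-- a sheaf with a finite generic geometric stalk whose cardinality bounds the stalks near the
generic point is finite locally constant near the generic point -/
theorem generic_triv [Finite ↑((EtCoh.stalk η).obj G)] (B : Set Z) (hB : IsOpen B) (hzB : z₀ ∈ B)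
    (hcard : ∀ z ∈ B, ∃ (Ω' : Type u) (_ : Field Ω') (_ : IsSepClosed Ω')
      (ξ : Spec (CommRingCat.of Ω') ⟶ Z), ξ default = z ∧
        Finite ↑((EtCoh.stalk ξ).obj G) ∧
        Nat.card ↑((EtCoh.stalk ξ).obj G) ≤ Nat.card ↑((EtCoh.stalk η).obj G)) :
    ∃ O : Z.Opens, z₀ ∈ O ∧ EtCoh.IsFiniteLocallyConstant ((EtCoh.pull O.ι).obj G) := by
  obtain ⟨W₁, w₁, ε₁, hε₁⟩ := exists_sections G η
  let f₁ : W₁.left ⟶ Z := W₁.hom
  have hf₁ : f₁ w₁.pt = z₀ := (Fib.hom_pt w₁).trans hη
  have hqf : LocallyQuasiFinite f₁ := Groth.Agent.H21.QFStrata.locallyQuasiFinite_of_etale f₁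
  obtain ⟨O', hO', hO'fib⟩ := isOpen_inter_eq_singleton_of_mem_discrete
    (f₁.isDiscrete_preimage_singleton z₀) (x := w₁.pt) hf₁
  have hw₁O' : w₁.pt ∈ O' := by
    have : w₁.pt ∈ O' ∩ f₁ ⁻¹' {z₀} := by rw [hO'fib]; rfl
    exact this.1
  let P : W₁.left.Opens := ⟨O' ∩ f₁ ⁻¹' B, hO'.inter (hB.preimage f₁.continuous)⟩
  have hηP : w₁.pt ∈ P := ⟨hw₁O', by show f₁ w₁.pt ∈ B; rw [hf₁]; exact hzB⟩
  let W : Z.Etale := Scheme.Etale.mk (P.ι ≫ f₁)
  let q₁ : W ⟶ W₁ := MorphismProperty.Over.homMk P.ι rfl trivial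
  obtain ⟨w, hw, hwpt⟩ := Fib.exists_lift q₁ w₁ (⟨w₁.pt, hηP⟩ : ↥P) rfl
  let ε : ↑((EtCoh.stalk η).obj G) →+ Sec G W := (res G q₁).comp ε₁
  have hε : ∀ m, germ G w (ε m) = m := by
    intro m
    have h1 := germ_res G q₁ w (ε₁ m)
    rw [hw] at h1
    exact h1.trans (hε₁ m)
  have hWhom : ∀ p : W.left, (W.hom : W.left ⟶ Z) p = f₁ (P.ι p) := fun p => rfl
  have hgen : ∀ (V : Z.Etale) (q : V ⟶ W), Nonempty V.left → ∃ v : V.left, q.left v = w.pt := by
    rintro V q ⟨v₁⟩
    have ho : IsOpen (Set.range (V.hom : V.left ⟶ Z)) :=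
      (V.hom : V.left ⟶ Z).isOpenMap.isOpen_range
    have hz : z₀ ∈ Set.range (V.hom : V.left ⟶ Z) := by
      have h1 : (V.hom : V.left ⟶ Z) v₁ ∈ closure {z₀} := by rw [hz₀]; trivial
      obtain ⟨z, hz1, hz2⟩ := mem_closure_iff.1 h1 _ ho ⟨v₁, rfl⟩
      rw [Set.mem_singleton_iff] at hz2
      exact hz2 ▸ hz1
    obtain ⟨v, hv⟩ := hz
    refine ⟨v, ?_⟩
    have h2 : (W.hom : W.left ⟶ Z) (q.left v) = z₀ := (hom_apply_of_hom q v).trans hv
    have h3 : P.ι (q.left v) ∈ O' ∩ f₁ ⁻¹' {z₀} := ⟨(q.left v).2.1, h2⟩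
    rw [hO'fib, Set.mem_singleton_iff] at h3
    apply P.ι.isOpenEmbedding.injective
    rw [h3, hwpt]
    rfl
  have hinj : ∀ (V : Z.Etale) (q : V ⟶ W) (m : ↑((EtCoh.stalk η).obj G)), Nonempty V.left →
      res G q (ε m) = 0 → m = 0 := by
    intro V q m hV h0
    obtain ⟨v, hv⟩ := hgen V q hV
    obtain ⟨y, hy, -⟩ := Fib.exists_lift q w v hv
    have h1 := germ_res G q y (ε m)
    rw [hy, hε] at h1
    rw [← h1]
    show germ G y (res G q (ε m)) = 0
    rw [h0, map_zero]
  have hcardW : ∀ p : W.left, ∃ (Ω' : Type u) (_ : Field Ω') (_ : IsSepClosed Ω')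
      (ξ : Spec (CommRingCat.of Ω') ⟶ Z), ξ default = (W.hom : W.left ⟶ Z) p ∧
        Finite ↑((EtCoh.stalk ξ).obj G) ∧
        Nat.card ↑((EtCoh.stalk ξ).obj G) ≤ Nat.card ↑((EtCoh.stalk η).obj G) :=
    fun p => hcard _ p.2.2
  obtain ⟨E, _, _, ⟨e⟩⟩ := triv_of_sections G W _ ε hinj hcardW
  have hflc : EtCoh.IsFiniteLocallyConstant ((EtCoh.pull (W.hom : W.left ⟶ Z)).obj G) :=
    isFLC_of_iso e.symm (isFLC_const _ E)
  let O : Z.Opens := ⟨Set.range (W.hom : W.left ⟶ Z), (W.hom : W.left ⟶ Z).isOpenMap.isOpen_range⟩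
  refine ⟨O, ⟨w.pt, ?_⟩, isFLC_on_range (W.hom : W.left ⟶ Z) G O rfl hflc⟩
  exact (Fib.hom_pt w).trans hη

end Generic

section Main

variable {X : Scheme.{u}}

/-- if the cardinality loci of a sheaf with finite stalks are locally constructible, the sheaf
is generically finite locally constant along the closure of every point -/
theorem generic_of_cardLocus (F : EtCoh.Ab X)
    (hfin : ∀ (Ω : Type u) [Field Ω] [IsSepClosed Ω] (ξ : Spec (CommRingCat.of Ω) ⟶ X),
      Finite ((EtCoh.stalk ξ).obj F))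
    (hloc : ∀ n : ℕ, Topology.IsLocallyConstructible (cardLocus F n)) (x : X) :
    ∃ (V : X.Opens) (T : Scheme.{u}) (g : T ⟶ X), IsImmersion g ∧ x ∈ V ∧
      Set.range g = (V : Set X) ∩ closure {x} ∧
      EtCoh.IsFiniteLocallyConstant ((EtCoh.pull g).obj F) := by
  obtain ⟨Z, c, hc, hr⟩ := Groth.Agent.H21.ConstrGlue.exists_cut (𝟙 X) (closure {x}) isClosed_closure
  have hr' : Set.range c = closure {x} := by simpa using hr
  obtain ⟨z₀, hz₀⟩ : x ∈ Set.range c := by rw [hr']; exact subset_closure rfl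
  have hcl : closure {z₀} = Set.univ := by
    rw [c.isEmbedding.isInducing.closure_eq_preimage_closure_image, Set.image_singleton, hz₀]
    ext y
    simp only [Set.mem_preimage, Set.mem_univ, iff_true]
    have : c y ∈ Set.range c := ⟨y, rfl⟩
    rw [hr'] at this
    exact this
  let G := (EtCoh.pull c).obj F
  let η := geomPt z₀
  have hη : η default = z₀ := geomPt_default z₀
  have eη : (EtCoh.stalk (η ≫ c)).obj F ≅ (EtCoh.stalk η).obj G := (stalkPullIso c η).app F
  have hfinη : Finite ↑((EtCoh.stalk η).obj G) :=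
    have := hfin _ (η ≫ c)
    Finite.of_equiv _ eη.addCommGroupIsoToAddEquiv.toEquiv
  let n := Nat.card ↑((EtCoh.stalk η).obj G)
  have hxn : x ∈ cardLocus F n := by
    refine ⟨_, inferInstance, inferInstance, η ≫ c, ?_, ?_⟩
    · rw [range_geom]
      congr 1
      show c (η default) = x
      rw [hη, hz₀]
    · exact Nat.card_congr eη.addCommGroupIsoToAddEquiv.toEquiv
  obtain ⟨V₁, hV₁, hxV₁, hsub⟩ := exists_open_inter_closure_subset (hloc n) hxn
  have hcard : ∀ z ∈ c ⁻¹' V₁, ∃ (Ω' : Type u) (_ : Field Ω') (_ : IsSepClosed Ω')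
      (ξ : Spec (CommRingCat.of Ω') ⟶ Z), ξ default = z ∧
        Finite ↑((EtCoh.stalk ξ).obj G) ∧
        Nat.card ↑((EtCoh.stalk ξ).obj G) ≤ Nat.card ↑((EtCoh.stalk η).obj G) := by
    intro z hz
    have h1 : c z ∈ cardLocus F n := hsub ⟨hz, by rw [← hr']; exact ⟨z, rfl⟩⟩
    obtain ⟨Ω', i1, i2, ξ, hξ, hn⟩ := h1
    have hd := default_of_range ξ hξ
    obtain ⟨ξ', hξ'⟩ := exists_lift_of_immersion c ξ (by rw [hd]; exact ⟨z, rfl⟩)
    subst hξ'
    have e : (EtCoh.stalk (ξ' ≫ c)).obj F ≅ (EtCoh.stalk ξ').obj G := (stalkPullIso c ξ').app F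
    have := hfin _ (ξ' ≫ c)
    refine ⟨Ω', i1, i2, ξ', c.isEmbedding.injective hd,
      Finite.of_equiv _ e.addCommGroupIsoToAddEquiv.toEquiv, le_of_eq ?_⟩
    rw [← Nat.card_congr e.addCommGroupIsoToAddEquiv.toEquiv, hn]
  obtain ⟨O, hzO, hflc⟩ := generic_triv G z₀ hcl η hη (c ⁻¹' V₁) (hV₁.preimage c.continuous)
    (show c z₀ ∈ V₁ from hz₀ ▸ hxV₁) hcard
  obtain ⟨O', hO', hOO'⟩ := c.isEmbedding.isInducing.isOpen_iff.1 O.isOpen
  refine ⟨⟨O', hO'⟩, O.toScheme, O.ι ≫ c, inferInstance, ?_, ?_, ?_⟩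
  · have h1 : z₀ ∈ c ⁻¹' O' := by rw [hOO']; exact hzO
    rw [← hz₀]
    exact h1
  · rw [Scheme.Hom.comp_base, TopCat.coe_comp, Set.range_comp, Scheme.Opens.range_ι]
    show c '' (O : Set Z) = _
    rw [← hOO', Set.image_preimage_eq_inter_range, hr']
    rfl
  · exact isFLC_of_iso ((EtCore.pullComp O.ι c).app F).symm hflc

end Main

end Groth.Agent.H21.CardGeneric
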