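import Groth.Agent.H21.ConstrStalk

/-!
# The loci where the geometric stalks of an étale sheaf have a given cardinality (helper21)
-/

set_option autoImplicit false
universe u
open CategoryTheory CategoryTheory.Limits AlgebraicGeometry Opposite TopologicalSpace

namespace Groth.Agent.H21.CardLocus

open Groth.Agent.H21.OverBridge Groth.Agent.H21.Constr Groth.Agent.H21.ConstrMain
  Groth.Agent.H21.ConstrSupp Groth.Agent.H21.ConstSec Groth.Agent.H21.ConstrACC
  Groth.Agent.H21.ConstrStalk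
  Groth.Agent.H4.Stalks Groth.Agent.H4.StalkPull

/-- the locus where some geometric stalk has exactly `n` elements -/
def cardLocus {X : Scheme.{u}} (F : EtCoh.Ab X) (n : ℕ) : Set X :=
  {x : X | ∃ (Ω : Type u) (_ : Field Ω) (_ : IsSepClosed Ω) (ξ : Spec (CommRingCat.of Ω) ⟶ X),
    Set.range ξ = {x} ∧ Nat.card ((EtCoh.stalk ξ).obj F) = n}

section Stalk

variable {W : Scheme.{u}} {Ω : Type u} [Field Ω] [IsSepClosed Ω]

/-- the stalk of a constant sheaf has the cardinality of the value group -/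
theorem card_stalk_cst (ξ : Spec (CommRingCat.of Ω) ⟶ W) (M : AddCommGrpCat.{u + 1}) :
    Nat.card ↑((EtCoh.stalk ξ).obj (cst W M)) = Nat.card ↑M := by
  obtain ⟨x₀, -⟩ := Fib.exists_of_point (ξ := ξ) (EtCoh.top W) (ξ default) rfl
  have hsub : ∀ x : Fib ξ (EtCoh.top W), x = x₀ := by
    intro x
    apply Over.OverMorphism.ext
    have h1 := Over.w x
    have h2 := Over.w x₀
    dsimp at h1 h2
    rw [Category.comp_id] at h1 h2
    rw [h1, h2]
  let f : ↑M → ↑((EtCoh.stalk ξ).obj (cst W M)) := fun m =>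
    germ (cst W M) x₀ (eta M (EtCoh.top W) m)
  have hsurj : Function.Surjective f := by
    intro τ
    obtain ⟨U, y, r, rfl⟩ := germ_surjective (cst W M) τ
    obtain ⟨m, V'', g, v'', hv'', hres⟩ := exists_isVal r y.pt
    obtain ⟨y', hy', -⟩ := Fib.exists_lift g y v'' hv''
    refine ⟨m, ?_⟩
    have h1 := germ_res (cst W M) g y' r
    rw [hy'] at h1
    rw [← h1]
    have h2 : (cst W M).obj.map g.op r = eta M V'' m := hres
    rw [h2]
    let t : V'' ⟶ EtCoh.top W := (EtCore.topIsTerminal W).from V''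
    have h3 : eta M V'' m = (cst W M).obj.map t.op (eta M (EtCoh.top W) m) :=
      (res_eta M t m).symm
    rw [h3, germ_res, hsub ((Scheme.pointSmallEtale ξ).fiber.map t y')]
  have hinj : Function.Injective f := by
    intro m m' hmm
    have h0 : germ (cst W M) x₀ (eta M (EtCoh.top W) (m - m')) = 0 := by
      rw [map_sub, map_sub, sub_eq_zero]
      exact hmm
    obtain ⟨V, g, v, -, hs⟩ := (germ_eq_zero_iff' (cst W M) x₀ _).1 h0
    have h1 : eta M V (m - m') = eta M V 0 := by
      rw [map_zero, ← hs]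
      exact (res_eta M g (m - m')).symm
    rcases eta_injective_or M _ _ h1 with h | h
    · exact sub_eq_zero.1 h
    · exact ((bot_mem_iff.1 h).false v).elim
  exact (Nat.card_congr (Equiv.ofBijective f ⟨hinj, hsurj⟩)).symm

/-- the cardinality of the stalk at a geometric point under a trivializing étale
neighbourhood -/
theorem card_stalk_of_triv {T : Scheme.{u}} (H : EtCoh.Ab T) (V : T.Etale) (v : V.left)
    (M : Type) [AddCommGroup M]
    (c : (EtCoh.pull (V.hom : V.left ⟶ T)).obj H ≅ EtCoh.const V.left M)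
    (ξ' : Spec (CommRingCat.of Ω) ⟶ T) (hξ' : (V.hom : V.left ⟶ T) v = ξ' default) :
    Nat.card ↑((EtCoh.stalk ξ').obj H) = Nat.card M := by
  obtain ⟨ξ'', hx⟩ : ∃ ξ'' : Spec (CommRingCat.of Ω) ⟶ V.left,
      ξ'' ≫ (V.hom : V.left ⟶ T) = ξ' := by
    obtain ⟨x, -⟩ := Fib.exists_of_point (ξ := ξ') V v hξ'
    exact ⟨x.left, Over.w x⟩
  subst hx
  have e : (EtCoh.stalk (ξ'' ≫ (V.hom : V.left ⟶ T))).obj H ≅
      (EtCoh.stalk ξ'').obj (cst V.left (AddCommGrpCat.of (ULift.{u + 1} M))) :=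
    (stalkPullIso (V.hom : V.left ⟶ T) ξ'').app H ≪≫ (EtCoh.stalk ξ'').mapIso c
  rw [Nat.card_congr e.addCommGroupIsoToAddEquiv.toEquiv, card_stalk_cst]
  exact Nat.card_congr Equiv.ulift

end Stalk

/-- the cardinality loci of an inverse image along an immersion -/
theorem cardLocus_inter_range {T X : Scheme.{u}} (g : T ⟶ X) [IsImmersion g] (F : EtCoh.Ab X)
    (n : ℕ) :
    cardLocus F n ∩ Set.range g = g '' cardLocus ((EtCoh.pull g).obj F) n := by
  ext x
  constructor
  · rintro ⟨⟨Ω', i1, i2, ξ, hξ, hn⟩, ⟨t, rfl⟩⟩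
    have hd := default_of_range ξ hξ
    obtain ⟨ξ', hξ'⟩ := exists_lift_of_immersion g ξ (by rw [hd]; exact ⟨t, rfl⟩)
    subst hξ'
    refine ⟨t, ⟨Ω', i1, i2, ξ', ?_, ?_⟩, rfl⟩
    · rw [range_geom]
      congr 1
      apply g.isEmbedding.injective
      exact hd
    · rw [← hn]
      exact Nat.card_congr ((stalkPullIso g ξ').app F).symm.addCommGroupIsoToAddEquiv.toEquiv
  · rintro ⟨t, ⟨Ω', i1, i2, ξ', hξ', hn⟩, rfl⟩
    refine ⟨⟨Ω', i1, i2, ξ' ≫ g, ?_, ?_⟩, ⟨t, rfl⟩⟩
    · rw [range_geom]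
      congr 1
      have hd := default_of_range ξ' hξ'
      show g (ξ' default) = g t
      rw [hd]
    · rw [← hn]
      exact Nat.card_congr ((stalkPullIso g ξ').app F).addCommGroupIsoToAddEquiv.toEquiv

/-- the cardinality loci of a finite locally constant sheaf are open and closed -/
theorem isClopen_cardLocus_of_isFLC {T : Scheme.{u}} (H : EtCoh.Ab T)
    (hH : EtCoh.IsFiniteLocallyConstant H) (n : ℕ) : IsClopen (cardLocus H n) := by
  obtain ⟨ι, U, hcov, htriv⟩ := (isFLC_iff _).1 hH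
  have a1 : ∀ (V : T.Etale) (v : V.left) (M : Type) [AddCommGroup M]
      (_ : (EtCoh.pull (V.hom : V.left ⟶ T)).obj H ≅ EtCoh.const V.left M),
      Nat.card M = n → (V.hom : V.left ⟶ T) v ∈ cardLocus H n := by
    intro V v M _ c hM
    refine ⟨_, inferInstance, inferInstance, geomPt ((V.hom : V.left ⟶ T) v), ?_, ?_⟩
    · rw [range_geom, geomPt_default]
    · rw [card_stalk_of_triv H V v M c _ (geomPt_default _).symm, hM]
  have a2 : ∀ (V : T.Etale) (v : V.left) (M : Type) [AddCommGroup M]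
      (_ : (EtCoh.pull (V.hom : V.left ⟶ T)).obj H ≅ EtCoh.const V.left M),
      (V.hom : V.left ⟶ T) v ∈ cardLocus H n → Nat.card M = n := by
    rintro V v M _ c ⟨Ω', i1, i2, ξ, hξ, hn⟩
    rw [← hn, card_stalk_of_triv H V v M c ξ (default_of_range ξ hξ).symm]
  constructor
  · rw [← isOpen_compl_iff, isOpen_iff_forall_mem_open]
    intro t ht
    obtain ⟨i, v, hv⟩ := hcov t
    obtain ⟨M, i1, i2, ⟨c⟩⟩ := htriv i
    have hM : Nat.card M ≠ n := by
      intro hM
      exact ht (hv ▸ a1 (U i) v M c hM)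
    refine ⟨Set.range ((U i).hom : (U i).left ⟶ T), ?_,
      ((U i).hom : (U i).left ⟶ T).isOpenMap.isOpen_range, ⟨v, hv⟩⟩
    rintro _ ⟨v', rfl⟩ hv'
    exact hM (a2 (U i) v' M c hv')
  · rw [isOpen_iff_forall_mem_open]
    intro t ht
    obtain ⟨i, v, hv⟩ := hcov t
    obtain ⟨M, i1, i2, ⟨c⟩⟩ := htriv i
    have hM : Nat.card M = n := a2 (U i) v M c (hv ▸ ht)
    refine ⟨Set.range ((U i).hom : (U i).left ⟶ T), ?_,
      ((U i).hom : (U i).left ⟶ T).isOpenMap.isOpen_range, ⟨v, hv⟩⟩
    rintro _ ⟨v', rfl⟩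
    exact a1 (U i) v' M c hM

section Main

variable {X : Scheme.{u}}

/-- the cardinality loci of a sheaf with an adapted stratification of a quasi-compact
quasi-separated open are constructible there -/
theorem isConstructible_preimage_cardLocus (F : EtCoh.Ab X) (n : ℕ) (S : X.Opens)
    [CompactSpace ↥S] [QuasiSeparatedSpace ↥S] (h : Strata (fun _ : Unit => F) (S : Set X)) :
    Topology.IsConstructible ((Subtype.val : ↥S → X) ⁻¹' cardLocus F n) := by
  obtain ⟨ι, hι, T, g, h1, h2, h3, h4, h5⟩ := h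
  have hPS : PrespectralSpace ↥S := inferInstanceAs (PrespectralSpace ↥(S.toScheme))
  have hmem : ∀ i (t : T i), g i t ∈ (S : Set X) := by
    intro i t
    rw [← h4]
    exact Set.mem_iUnion.2 ⟨i, t, rfl⟩
  let g' : ∀ i, T i → ↥S := fun i t => ⟨g i t, hmem i t⟩
  have hg' : ∀ i, Topology.IsEmbedding (g' i) := fun i => by
    have := h1 i
    exact (g i).isEmbedding.codRestrict _ _
  have hrange : ∀ i, Set.range (g' i) = (Subtype.val : ↥S → X) ⁻¹' Set.range (g i) := by
    intro i
    ext y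
    constructor
    · rintro ⟨t, rfl⟩
      exact ⟨t, rfl⟩
    · rintro ⟨t, ht⟩
      exact ⟨t, Subtype.ext ht⟩
  have key : (Subtype.val : ↥S → X) ⁻¹' cardLocus F n =
      ⋃ i, g' i '' cardLocus ((EtCoh.pull (g i)).obj F) n := by
    ext y
    simp only [Set.mem_preimage, Set.mem_iUnion]
    constructor
    · intro hy
      have hyS : y.1 ∈ ⋃ i, Set.range (g i) := by rw [h4]; exact y.2
      obtain ⟨i, hi⟩ := Set.mem_iUnion.1 hyS
      have := h1 i
      have h6 : y.1 ∈ (g i) '' cardLocus ((EtCoh.pull (g i)).obj F) n := by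
        rw [← cardLocus_inter_range]
        exact ⟨hy, hi⟩
      obtain ⟨t, ht, hty⟩ := h6
      exact ⟨i, t, ht, Subtype.ext hty⟩
    · rintro ⟨i, t, ht, rfl⟩
      have := h1 i
      have h6 : g i t ∈ cardLocus F n ∩ Set.range (g i) := by
        rw [cardLocus_inter_range]
        exact ⟨t, ht, rfl⟩
      exact h6.1
  rw [key]
  refine Topology.IsConstructible.iUnion (fun i => ?_)
  refine isConstructible_image_of_isClopen (g' i) (hg' i) ?_ _
    (isClopen_cardLocus_of_isFLC _ (h5 i ()) n)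
  rw [hrange]
  exact h2 i

/-- the cardinality loci of a constructible sheaf are locally constructible -/
theorem isLocallyConstructible_cardLocus (F : EtCoh.Ab X) (hF : EtPBC.IsConstructible F)
    (n : ℕ) : Topology.IsLocallyConstructible (cardLocus F n) := by
  intro x
  obtain ⟨U, hU, hxU, -⟩ := exists_affine_nbhd (⊤ : X.Opens) x trivial
  have hqs : QuasiSeparatedSpace ↥U := quasiSeparatedSpace_of_isAffineOpen hU
  have hc : CompactSpace ↥U := isCompact_iff_compactSpace.1 hU.isCompact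
  exact ⟨U, U.isOpen.mem_nhds hxU, U.isOpen,
    isConstructible_preimage_cardLocus F n U ((strata_iff F U).1 (hF U hU))⟩

end Main

end Groth.Agent.H21.CardLocus
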