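import Groth.Prelude.Def_AnCl
import Mathlib.CategoryTheory.Sites.DenseSubsite.SheafEquiv

universe u

open CategoryTheory TopologicalSpace Topology Opposite

namespace Groth.Agent.H21

noncomputable section

variable (T : Type u) [TopologicalSpace T]

instance opensToCl_faithful : (An.opensToCl T).Faithful where
  map_injective {_ _} f g _ := Subsingleton.elim f g

lemma opensToCl_hom_le {U V : Opens T} (φ : (An.opensToCl T).obj U ⟶ (An.opensToCl T).obj V) :
    U ≤ V := by
  intro x hx
  have h : ((An.opensToCl T).obj V).p (φ.toFun ⟨x, hx⟩) = x := φ.over ⟨x, hx⟩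
  have h2 : ((An.opensToCl T).obj V).p (φ.toFun ⟨x, hx⟩) ∈ V :=
    Subtype.property (p := fun t => t ∈ V) (φ.toFun ⟨x, hx⟩)
  rwa [h] at h2

instance opensToCl_full : (An.opensToCl T).Full where
  map_surjective {U V} φ := by
    refine ⟨homOfLE (opensToCl_hom_le T φ), ?_⟩
    apply An.Cl.hom_ext
    funext x
    apply Subtype.ext
    exact (φ.over x).symm

instance opensToCl_isCoverDense : (An.opensToCl T).IsCoverDense (An.Cl.topology T) where
  is_cover A := by
    intro a
    obtain ⟨e, hae, hpe⟩ := A.lh a
    let W : Set A.E := e.source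
    have hW : IsOpen W := e.open_source
    let V : Opens T := ⟨e.target, e.open_target⟩
    refine ⟨An.Cl.restrictOpen A W hW, An.Cl.restrictOpenι A W hW, ?_,
      hW.isOpenEmbedding_subtypeVal, ⟨⟨a, hae⟩, rfl⟩⟩
    refine ⟨⟨V, ⟨fun w => ⟨e w.1, e.map_source w.2⟩, ?_, ?_⟩, ⟨fun v => e.symm v.1, ?_, ?_⟩, ?_⟩⟩
    · exact Continuous.subtype_mk (e.continuousOn.comp_continuous continuous_subtype_val
        (fun w => w.2)) _
    · intro w
      change (e w.1 : T) = A.p w.1
      rw [hpe]
    · exact e.symm.continuousOn.comp_continuous continuous_subtype_val (fun v => v.2)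
    · intro v
      change A.p (e.symm v.1) = v.1
      rw [hpe]
      exact e.right_inv v.2
    · apply An.Cl.hom_ext
      funext w
      change e.symm (e w.1) = w.1
      exact e.left_inv w.2

instance opensToCl_isDenseSubsite :
    (An.opensToCl T).IsDenseSubsite (Opens.grothendieckTopology T) (An.Cl.topology T) where
  functorPushforward_mem_iff {U S} := by
    constructor
    · intro h x hx
      obtain ⟨B, g, ⟨V, f, k, hSf, hfac⟩, -, ⟨b, hb⟩⟩ := h ⟨x, hx⟩
      refine ⟨V, f, hSf, ?_⟩
      have h1 : ((An.opensToCl T).obj U).p (g.toFun b) = x := congrArg Subtype.val hb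
      rw [hfac] at h1
      have h2 : ((An.opensToCl T).obj V).p (k.toFun b) ∈ V :=
        Subtype.property (p := fun t => t ∈ V) (k.toFun b)
      have h3 : ((An.opensToCl T).obj V).p (k.toFun b) = x := h1
      rwa [h3] at h2
    · intro h a
      obtain ⟨V, f, hSf, hxV⟩ := h a.1 a.2
      refine ⟨(An.opensToCl T).obj V, (An.opensToCl T).map f,
        Sieve.image_mem_functorPushforward _ _ hSf, ?_, ⟨⟨a.1, hxV⟩, rfl⟩⟩
      exact IsOpenEmbedding.inclusion f.le (V.2.preimage continuous_subtype_val)

theorem opCont : An.OpCont T := inferInstance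

end

end Groth.Agent.H21
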