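import Mathlib.FieldTheory.PrimitiveElement
import Mathlib.RingTheory.Algebraic.Integral
import Mathlib.RingTheory.Localization.Finiteness
import Mathlib.RingTheory.Localization.Integral
import Mathlib.RingTheory.IntegralClosure.IntegrallyClosed
import Mathlib.FieldTheory.Minpoly.IsIntegrallyClosed
import Mathlib.FieldTheory.Perfect
import Mathlib.RingTheory.Polynomial.Tower
import Mathlib.RingTheory.Adjoin.Polynomial.Basic

open Polynomial nonZeroDivisors IntermediateField

namespace Groth.Agent.H21

attribute [local instance] FractionRing.liftAlgebra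

/-- A finite injective extension of characteristic zero domains is generically generated by a
single element. -/
theorem exists_primitive_data (P A : Type*) [CommRing P] [IsDomain P] [CommRing A] [IsDomain A]
    [Algebra P A] [Module.Finite P A] [FaithfulSMul P A] [CharZero P] :
    ∃ θ : A, ∃ δ₀ : P, δ₀ ≠ 0 ∧ ∀ y : A, ∃ G : P[X], Polynomial.aeval θ G = δ₀ • y := by
  classical
  have i2 : IsScalarTower P (FractionRing P) (FractionRing A) :=
    FractionRing.isScalarTower_liftAlgebra ..
  have i3 : IsLocalization (Algebra.algebraMapSubmonoid A P⁰) (FractionRing A) := inferInstance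
  have i4 : Module.Finite (FractionRing P) (FractionRing A) :=
    Module.Finite.of_isLocalization P A P⁰
  obtain ⟨α, hα⟩ := Field.exists_primitive_element (FractionRing P) (FractionRing A)
  obtain ⟨⟨a, s⟩, has⟩ := IsLocalization.surj (Algebra.algebraMapSubmonoid A P⁰) α
  obtain ⟨p, hp, hps⟩ := s.2
  have hp0 : p ≠ 0 := nonZeroDivisors.ne_zero hp
  have hinjPL : Function.Injective (algebraMap P (FractionRing A)) :=
    FaithfulSMul.algebraMap_injective P (FractionRing A)
  have hpL : algebraMap (FractionRing P) (FractionRing A) (algebraMap P (FractionRing P) p) ≠ 0 := by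
    rw [← IsScalarTower.algebraMap_apply P (FractionRing P) (FractionRing A)]
    exact (map_ne_zero_iff _ hinjPL).2 hp0
  have hs_eq : algebraMap A (FractionRing A) s
      = algebraMap (FractionRing P) (FractionRing A) (algebraMap P (FractionRing P) p) := by
    rw [← IsScalarTower.algebraMap_apply P (FractionRing P) (FractionRing A), ← hps,
      ← IsScalarTower.algebraMap_apply P A (FractionRing A)]
  have hθL : (FractionRing P)⟮algebraMap A (FractionRing A) a⟯ = ⊤ := by
    rw [eq_top_iff, ← hα, IntermediateField.adjoin_le_iff, Set.singleton_subset_iff]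
    have h1 : α = algebraMap A (FractionRing A) a *
        (algebraMap (FractionRing P) (FractionRing A) (algebraMap P (FractionRing P) p))⁻¹ := by
      rw [eq_mul_inv_iff_mul_eq₀ hpL, ← hs_eq]
      exact has
    rw [h1]
    exact mul_mem (IntermediateField.mem_adjoin_simple_self _ _)
      (inv_mem (IntermediateField.algebraMap_mem _ _))
  -- every element of `A` is, up to a denominator, a polynomial in `a`
  have hkey : ∀ y : A, ∃ b : P, b ≠ 0 ∧ ∃ G : P[X], Polynomial.aeval a G = b • y := by
    intro y
    have hmem : algebraMap A (FractionRing A) y ∈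
        ((FractionRing P)⟮algebraMap A (FractionRing A) a⟯).toSubalgebra := by
      rw [hθL]
      trivial
    rw [IntermediateField.adjoin_simple_toSubalgebra_of_isAlgebraic
      (Algebra.IsAlgebraic.isAlgebraic _), Algebra.adjoin_singleton_eq_range_aeval] at hmem
    obtain ⟨q, hq⟩ := hmem
    obtain ⟨b, hbm, hb⟩ := IsLocalization.integerNormalization_spec P⁰ q
    refine ⟨b, nonZeroDivisors.ne_zero hbm, IsLocalization.integerNormalization P⁰ q, ?_⟩
    apply IsFractionRing.injective A (FractionRing A)
    have hq' : (Polynomial.aeval (algebraMap A (FractionRing A) a)) q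
        = algebraMap A (FractionRing A) y := hq
    have h1 : Polynomial.aeval (algebraMap A (FractionRing A) a) (b • q)
        = b • algebraMap A (FractionRing A) y := by
      rw [← algebraMap_smul (FractionRing P) b q, map_smul, hq', algebraMap_smul]
    rw [← Polynomial.aeval_algebraMap_apply, ← Polynomial.aeval_map_algebraMap (FractionRing P),
      hb, h1, Algebra.smul_def, Algebra.smul_def, map_mul,
      ← IsScalarTower.algebraMap_apply P A (FractionRing A)]
  -- a uniform denominator
  obtain ⟨T, hT⟩ := (Module.finite_def.1 (inferInstance : Module.Finite P A))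
  choose b hb0 G hG using hkey
  refine ⟨a, ∏ t ∈ T, b t, Finset.prod_ne_zero_iff.2 (fun t _ => hb0 t), ?_⟩
  let N : Submodule P A :=
    { carrier := {y | ∃ G : P[X], Polynomial.aeval a G = (∏ t ∈ T, b t) • y}
      add_mem' := by
        rintro y y' ⟨G₁, h₁⟩ ⟨G₂, h₂⟩
        exact ⟨G₁ + G₂, by rw [map_add, h₁, h₂, smul_add]⟩
      zero_mem' := ⟨0, by rw [map_zero, smul_zero]⟩
      smul_mem' := by
        rintro c y ⟨G₁, h₁⟩
        exact ⟨Polynomial.C c * G₁, by
          rw [map_mul, Polynomial.aeval_C, h₁, ← Algebra.smul_def, smul_comm]⟩ }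
  have hN : (⊤ : Submodule P A) ≤ N := by
    rw [← hT, Submodule.span_le]
    intro t ht
    refine ⟨Polynomial.C (∏ t' ∈ T.erase t, b t') * G t, ?_⟩
    rw [map_mul, Polynomial.aeval_C, hG t, ← Algebra.smul_def, smul_smul,
      Finset.prod_erase_mul T b ht]
  intro y
  exact hN (Submodule.mem_top (x := y))

/-- A Bezout identity between the minimal polynomial of a generic generator and its derivative,
with polynomial coefficients. -/
theorem exists_bezout_minpoly (P A : Type*) [CommRing P] [IsDomain P] [CommRing A] [IsDomain A]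
    [Algebra P A] [Module.Finite P A] [FaithfulSMul P A] [CharZero P] [IsIntegrallyClosed P]
    (θ : A) (δ₀ : P) (hδ₀ : δ₀ ≠ 0)
    (hgen : ∀ y : A, ∃ G : P[X], Polynomial.aeval θ G = δ₀ • y) :
    ∃ D₀ : P, D₀ ≠ 0 ∧ ∃ a₁ b₁ : P[X],
      a₁ * minpoly P θ + b₁ * (minpoly P θ).derivative = Polynomial.C D₀ := by
  have hint : IsIntegral P θ := Algebra.IsIntegral.isIntegral θ
  have hη : Polynomial.aeval θ (minpoly P θ).derivative ≠ 0 := by
    intro h0
    have hdvd := minpoly.isIntegrallyClosed_dvd hint h0
    have hpos := minpoly.natDegree_pos hint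
    have hlt : (minpoly P θ).derivative.natDegree < (minpoly P θ).natDegree :=
      Polynomial.natDegree_derivative_lt (by omega)
    have hz := Polynomial.eq_zero_of_dvd_of_natDegree_lt hdvd hlt
    have := Polynomial.derivative_eq_zero.1 hz
    omega
  obtain ⟨r, hr0, η', hη'⟩ := (Algebra.IsAlgebraic.isAlgebraic (R := P)
    (Polynomial.aeval θ (minpoly P θ).derivative)).exists_nonzero_dvd
    (mem_nonZeroDivisors_of_ne_zero hη)
  obtain ⟨G', hG'⟩ := hgen η'
  have hker : Polynomial.aeval θ ((minpoly P θ).derivative * G' - Polynomial.C (δ₀ * r)) = 0 := by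
    rw [map_sub, map_mul, hG', Polynomial.aeval_C, map_mul, hη', Algebra.smul_def]
    ring
  obtain ⟨H, hH⟩ := minpoly.isIntegrallyClosed_dvd hint hker
  refine ⟨δ₀ * r, mul_ne_zero hδ₀ hr0, -H, G', ?_⟩
  linear_combination hH

end Groth.Agent.H21
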