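import Groth.Agent.H21.DensAux
import Mathlib.LinearAlgebra.Lagrange
import Mathlib.Algebra.MvPolynomial.Equiv
import Mathlib.Algebra.MvPolynomial.Funext

open Polynomial Topology Filter Finset

namespace Groth.Agent.H21

lemma eval_cons_eq (n : ℕ) (a : ℂ) (x' : Fin n → ℂ) (f : MvPolynomial (Fin (n + 1)) ℂ) :
    MvPolynomial.eval (Fin.cons a x' : Fin (n + 1) → ℂ) f
      = MvPolynomial.eval x' ((MvPolynomial.finSuccEquiv ℂ n f).eval (MvPolynomial.C a)) := by
  rw [MvPolynomial.eval_eq_eval_mv_eval']
  exact specPoly_eval _ _ _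

lemma eval_lagrange_expansion {p : ℂ[X]} {T : Finset ℂ} (hp : p.natDegree < T.card) (x : ℂ) :
    p.eval x = ∑ a ∈ T, p.eval a * (Lagrange.basis T id a).eval x := by
  have h1 : p = Lagrange.interpolate T id (fun a => p.eval (id a)) :=
    Lagrange.eq_interpolate (Set.injOn_id _)
      (lt_of_le_of_lt degree_le_natDegree (by exact_mod_cast hp))
  conv_lhs => rw [h1]
  rw [Lagrange.interpolate_apply, eval_finsetSum]
  apply Finset.sum_congr rfl
  intro a _
  rw [eval_mul, eval_C, id]

/-- A function on the complement of a hypersurface of `ℂⁿ` which is continuous and restricts to a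
polynomial of bounded degree on each line parallel to a coordinate axis is a polynomial. -/
theorem exists_mvPolynomial_of_coordinate_lines : ∀ (n : ℕ) (D : MvPolynomial (Fin n) ℂ),
    D ≠ 0 → ∀ (c : (Fin n → ℂ) → ℂ) (N : ℕ),
    ContinuousOn c {t | MvPolynomial.eval t D ≠ 0} →
    (∀ a, MvPolynomial.eval a D ≠ 0 → ∀ i : Fin n, ∃ p : ℂ[X], p.natDegree ≤ N ∧
      ∀ s : ℂ, MvPolynomial.eval (Function.update a i s) D ≠ 0 →
        c (Function.update a i s) = p.eval s) →
    ∃ F : MvPolynomial (Fin n) ℂ, ∀ t, MvPolynomial.eval t D ≠ 0 → c t = MvPolynomial.eval t F := by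
  intro n
  induction n with
  | zero =>
    intro D hD c N hc hline
    refine ⟨MvPolynomial.C (c 0), fun t _ => ?_⟩
    rw [MvPolynomial.eval_C]
    congr 1
    exact Subsingleton.elim _ _
  | succ n ih =>
    intro D hD c N hc hline
    classical
    set D₁ := MvPolynomial.finSuccEquiv ℂ n D with hD₁def
    have hD₁ : D₁ ≠ 0 := by
      rw [hD₁def]
      exact (map_ne_zero_iff _ (MvPolynomial.finSuccEquiv ℂ n).injective).2 hD
    -- the good values of the first coordinate
    have hbad : {a : ℂ | D₁.eval (MvPolynomial.C a) = 0}.Finite := by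
      have h1 : ((D₁.roots.toFinset : Set (MvPolynomial (Fin n) ℂ)).preimage
          (MvPolynomial.C : ℂ → MvPolynomial (Fin n) ℂ)).Finite :=
        Set.Finite.preimage (Set.injOn_of_injective (MvPolynomial.C_injective _ _))
          (Finset.finite_toSet _)
      refine h1.subset ?_
      intro a ha
      simp only [Set.mem_preimage, Finset.mem_coe, Multiset.mem_toFinset]
      rw [mem_roots hD₁]
      exact ha
    obtain ⟨T, hTsub, hTcard⟩ := hbad.infinite_compl.exists_subset_card_eq (N + 1)
    have hTgood : ∀ a ∈ T, D₁.eval (MvPolynomial.C a) ≠ 0 := fun a ha => hTsub ha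
    -- induction hypothesis for each slice
    have hslice : ∀ a : ℂ, D₁.eval (MvPolynomial.C a) ≠ 0 → ∃ F : MvPolynomial (Fin n) ℂ,
        ∀ x', MvPolynomial.eval x' (D₁.eval (MvPolynomial.C a)) ≠ 0 →
          c (Fin.cons a x') = MvPolynomial.eval x' F := by
      intro a ha
      apply ih (D₁.eval (MvPolynomial.C a)) ha (fun x' => c (Fin.cons a x')) N
      · have hcont : Continuous (fun x' : Fin n → ℂ => (Fin.cons a x' : Fin (n + 1) → ℂ)) :=
          Continuous.finCons continuous_const continuous_id
        refine hc.comp hcont.continuousOn ?_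
        intro x' hx'
        change MvPolynomial.eval _ D ≠ 0
        rw [eval_cons_eq]
        exact hx'
      · intro x' hx' i
        obtain ⟨p, hp, hpe⟩ := hline (Fin.cons a x') (by rw [eval_cons_eq]; exact hx') i.succ
        refine ⟨p, hp, fun s hs => ?_⟩
        have h1 : (Fin.cons a (Function.update x' i s) : Fin (n + 1) → ℂ)
            = Function.update (Fin.cons a x') i.succ s := Fin.cons_update _ _ _ _
        change c (Fin.cons a (Function.update x' i s)) = _
        rw [h1]
        apply hpe
        rw [← h1, eval_cons_eq]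
        exact hs
    choose! F hF using hslice
    -- the interpolating polynomial
    set G : (MvPolynomial (Fin n) ℂ)[X] :=
      ∑ a ∈ T, (Lagrange.basis T id a).map MvPolynomial.C * Polynomial.C (F a) with hG
    set Fbig := (MvPolynomial.finSuccEquiv ℂ n).symm G with hFbig
    have hFbig_eval : ∀ (x₁ : ℂ) (x' : Fin n → ℂ),
        MvPolynomial.eval (Fin.cons x₁ x' : Fin (n + 1) → ℂ) Fbig
          = ∑ a ∈ T, MvPolynomial.eval x' (F a) * (Lagrange.basis T id a).eval x₁ := by
      intro x₁ x'
      rw [eval_cons_eq, hFbig, AlgEquiv.apply_symm_apply, hG, eval_finsetSum, map_sum]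
      apply Finset.sum_congr rfl
      intro a _
      rw [eval_mul, eval_C, eval_map, eval₂_at_apply, map_mul, MvPolynomial.eval_C, mul_comm]
    -- the product of the slices of `D`
    set Dstar : MvPolynomial (Fin (n + 1)) ℂ :=
      ∏ a ∈ T, MvPolynomial.rename Fin.succ (D₁.eval (MvPolynomial.C a)) with hDstar
    have hDstar0 : Dstar ≠ 0 := by
      rw [hDstar, Finset.prod_ne_zero_iff]
      intro a ha
      exact (map_ne_zero_iff _ (MvPolynomial.rename_injective _ (Fin.succ_injective _))).2
        (hTgood a ha)
    have hDstar_eval : ∀ x : Fin (n + 1) → ℂ, MvPolynomial.eval x Dstar ≠ 0 →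
        ∀ a ∈ T, MvPolynomial.eval (Fin.tail x) (D₁.eval (MvPolynomial.C a)) ≠ 0 := by
      intro x hx a ha
      rw [hDstar, map_prod, Finset.prod_ne_zero_iff] at hx
      have := hx a ha
      rw [MvPolynomial.eval_rename] at this
      exact this
    -- agreement on the dense open subset
    have hagree : ∀ x : Fin (n + 1) → ℂ, MvPolynomial.eval x D ≠ 0 →
        MvPolynomial.eval x Dstar ≠ 0 → c x = MvPolynomial.eval x Fbig := by
      intro x hxD hxs
      have hx : x = Fin.cons (x 0) (Fin.tail x) := (Fin.cons_self_tail x).symm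
      obtain ⟨p, hp, hpe⟩ := hline x hxD 0
      have hupd : ∀ s : ℂ, Function.update x 0 s = Fin.cons s (Fin.tail x) := by
        intro s
        conv_lhs => rw [hx]
        exact Fin.update_cons_zero _ _ _
      have h1 : c x = p.eval (x 0) := by
        have := hpe (x 0) (by rw [Function.update_eq_self]; exact hxD)
        rwa [Function.update_eq_self] at this
      have h2 : ∀ a ∈ T, p.eval a = MvPolynomial.eval (Fin.tail x) (F a) := by
        intro a ha
        have hne := hDstar_eval x hxs a ha
        have h3 : MvPolynomial.eval (Function.update x 0 a) D ≠ 0 := by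
          rw [hupd, eval_cons_eq]
          exact hne
        rw [← hpe a h3, hupd]
        exact hF a (hTgood a ha) _ hne
      rw [h1, eval_lagrange_expansion (T := T) (by rw [hTcard]; omega)]
      conv_rhs => rw [hx, hFbig_eval]
      exact Finset.sum_congr rfl (fun a ha => by rw [h2 a ha])
    -- extension by continuity
    refine ⟨Fbig, fun x hxD => ?_⟩
    by_contra hne
    have hUopen : IsOpen {t : Fin (n + 1) → ℂ | MvPolynomial.eval t D ≠ 0} :=
      isOpen_ne_fun (MvPolynomial.continuous_eval D) continuous_const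
    have hcx : ContinuousAt (fun y => c y - MvPolynomial.eval y Fbig) x :=
      (hc.continuousAt (hUopen.mem_nhds hxD)).sub (MvPolynomial.continuous_eval Fbig).continuousAt
    have hev : ∀ᶠ y in 𝓝 x, c y - MvPolynomial.eval y Fbig ≠ 0 :=
      hcx.eventually_ne (sub_ne_zero.2 hne)
    obtain ⟨y, hy1, hy2, hy3⟩ := (dense_eval_ne_zero Dstar hDstar0).inter_nhds_nonempty
      (hev.and (hUopen.mem_nhds hxD))
    exact hy2 (sub_eq_zero.2 (hagree y hy3 hy1))

end Groth.Agent.H21
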