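import Groth.Agent.H21.ConnSheets
import Groth.Agent.H21.ConnLines

open Polynomial Topology Filter Finset

set_option linter.unusedSectionVars false

namespace Groth.Agent.H21

section LineHom

variable {n : ℕ}

/-- Restriction of polynomials to a line parallel to a coordinate axis. -/
noncomputable def lineHom (a : Fin n → ℂ) (i : Fin n) : MvPolynomial (Fin n) ℂ →+* ℂ[X] :=
  MvPolynomial.eval₂Hom Polynomial.C
    (fun j => if j = i then (Polynomial.X : ℂ[X]) else Polynomial.C (a j))

lemma evalRingHom_comp_lineHom (a : Fin n → ℂ) (i : Fin n) (s : ℂ) :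
    (Polynomial.evalRingHom s).comp (lineHom a i) = MvPolynomial.eval (Function.update a i s) := by
  apply MvPolynomial.ringHom_ext
  · intro c
    simp [lineHom]
  · intro j
    simp only [lineHom, RingHom.comp_apply, MvPolynomial.eval₂Hom_X', coe_evalRingHom,
      MvPolynomial.eval_X, Function.update_apply]
    split_ifs <;> simp

lemma eval_lineHom (a : Fin n → ℂ) (i : Fin n) (s : ℂ) (f : MvPolynomial (Fin n) ℂ) :
    (lineHom a i f).eval s = MvPolynomial.eval (Function.update a i s) f := by
  rw [← evalRingHom_comp_lineHom]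
  rfl

lemma natDegree_lineHom_le (a : Fin n → ℂ) (i : Fin n) (f : MvPolynomial (Fin n) ℂ) :
    (lineHom a i f).natDegree ≤ f.totalDegree := by
  unfold lineHom
  rw [MvPolynomial.coe_eval₂Hom, MvPolynomial.eval₂_eq']
  apply natDegree_sum_le_of_forall_le
  intro d hd
  refine (natDegree_C_mul_le _ _).trans ?_
  refine (natDegree_prod_le _ _).trans ?_
  refine le_trans ?_ (MvPolynomial.le_totalDegree hd)
  rw [Finsupp.sum_fintype _ _ (fun _ => rfl)]
  apply Finset.sum_le_sum
  intro j _
  refine natDegree_pow_le.trans ?_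
  have : (if j = i then (X : ℂ[X]) else C (a j)).natDegree ≤ 1 := by
    split_ifs
    · exact natDegree_X_le
    · rw [natDegree_C]; omega
  nlinarith

end LineHom

section FiberPoly

variable {B : Type*} [TopologicalSpace B] {P : B → ℂ[X]} {U : Set B} {M : Set (Sheets P U)}

lemma fiberPoly_monic (s : B) : (fiberPoly P U M s).Monic := monic_prod_X_sub_C _ _

lemma natDegree_fiberPoly (s : B) : (fiberPoly P U M s).natDegree = (fiberSet P U M s).card :=
  natDegree_finsetProd_X_sub_C_eq_card _ _

lemma fiberPoly_dvd (s : B) (hP : P s ≠ 0) : fiberPoly P U M s ∣ P s := by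
  classical
  unfold fiberPoly
  rw [Finset.prod_eq_multiset_prod, Multiset.prod_X_sub_C_dvd_iff_le_roots hP,
    Multiset.le_iff_subset (fiberSet P U M s).nodup]
  intro z hz
  have := (Finset.mem_filter.1 (show z ∈ fiberSet P U M s from hz)).1
  exact Multiset.mem_toFinset.1 this

lemma mem_fiberSet_iff {s : B} (hP : P s ≠ 0) {z : ℂ} :
    z ∈ fiberSet P U M s ↔
      ∃ h : (P s).IsRoot z ∧ (s, z) ∈ (Prod.fst ⁻¹' U : Set (B × ℂ)),
        (⟨(s, z), h⟩ : Sheets P U) ∈ M := by
  classical
  unfold fiberSet
  rw [Finset.mem_filter, Multiset.mem_toFinset, mem_roots hP]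
  exact ⟨fun h => h.2, fun h => ⟨h.1.1, h⟩⟩

end FiberPoly

section Main

variable {n : ℕ}

lemma isContFamily_specPoly {Q : (MvPolynomial (Fin n) ℂ)[X]} (hQ : Q.Monic) :
    IsContFamily (specPoly Q) Q.natDegree :=
  { monic := specPoly_monic hQ
    natDegree := specPoly_natDegree hQ
    cont := fun j => by
      simp only [specPoly_coeff]
      exact MvPolynomial.continuous_eval _ }

/-- A polynomial vanishing on the complement of a hypersurface is zero. -/
lemma eq_zero_of_eval_eq_zero_off {D f : MvPolynomial (Fin n) ℂ} (hD : D ≠ 0)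
    (h : ∀ t, MvPolynomial.eval t D ≠ 0 → MvPolynomial.eval t f = 0) : f = 0 := by
  have : f * D = 0 := by
    apply MvPolynomial.funext
    intro t
    rw [map_mul, map_zero]
    by_cases ht : MvPolynomial.eval t D = 0
    · rw [ht, mul_zero]
    · rw [h t ht, zero_mul]
  exact (mul_eq_zero.1 this).resolve_right hD

/-- The root locus of an irreducible monic polynomial over a polynomial ring, over the complement
of a hypersurface containing the discriminant locus, is connected. -/
theorem preconnectedSpace_sheets_of_irreducible (Q : (MvPolynomial (Fin n) ℂ)[X]) (hQm : Q.Monic)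
    (hQi : Irreducible Q) (D : MvPolynomial (Fin n) ℂ) (hD : D ≠ 0)
    (hsep : ∀ t, MvPolynomial.eval t D ≠ 0 → ∀ z, (specPoly Q t).IsRoot z →
      (specPoly Q t).derivative.eval z ≠ 0)
    {U : Set (Fin n → ℂ)} (hU : ∀ t, t ∈ U ↔ MvPolynomial.eval t D ≠ 0) :
    PreconnectedSpace (Sheets (specPoly Q) U) := by
  classical
  rw [preconnectedSpace_iff_clopen]
  intro M hM
  have hfam := isContFamily_specPoly hQm
  set m := Q.natDegree with hm
  have hUopen : IsOpen U := by
    have : U = {t | MvPolynomial.eval t D ≠ 0} := Set.ext hU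
    rw [this]
    exact isOpen_ne_fun (MvPolynomial.continuous_eval D) continuous_const
  have hd : ∀ s ∈ U, ∀ z, (specPoly Q s).IsRoot z → (specPoly Q s).derivative.eval z ≠ 0 :=
    fun s hs => hsep s ((hU s).1 hs)
  obtain ⟨E, hE⟩ : ∃ E, ∀ j, (Q.coeff j).totalDegree ≤ E :=
    ⟨(range (m + 1)).sup (fun j => (Q.coeff j).totalDegree), fun j => by
      by_cases hj : j ∈ range (m + 1)
      · exact Finset.le_sup (f := fun j => (Q.coeff j).totalDegree) hj
      · rw [Finset.mem_range, not_lt] at hj
        rw [coeff_eq_zero_of_natDegree_lt (by omega)]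
        simp⟩
  have hstep1 : ∀ k, ∃ F : MvPolynomial (Fin n) ℂ, ∀ t, MvPolynomial.eval t D ≠ 0 →
      (fiberPoly (specPoly Q) U M t).coeff k = MvPolynomial.eval t F := by
    intro k
    apply exists_mvPolynomial_of_coordinate_lines n D hD _ (m * E)
    · intro t ht
      exact (hfam.continuousAt_coeff_fiberPoly hUopen hd hM ((hU t).2 ht) k).continuousWithinAt
    · intro a ha i
      set Q₁ : ℂ[X][X] := Q.map (lineHom a i) with hQ₁
      have hQ₁m : Q₁.Monic := hQm.map _
      have hQ₁deg : Q₁.natDegree = m := hQm.natDegree_map _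
      have hE₁ : ∀ j, (Q₁.coeff j).natDegree ≤ E := fun j => by
        rw [hQ₁, coeff_map]
        exact (natDegree_lineHom_le a i _).trans (hE j)
      have hφD : lineHom a i D ≠ 0 := by
        intro h0
        have := eval_lineHom a i (a i) D
        rw [h0, eval_zero, Function.update_eq_self] at this
        exact ha this.symm
      set S : Finset ℂ := (lineHom a i D).roots.toFinset with hS
      have hSmem : ∀ s, s ∉ S ↔ MvPolynomial.eval (Function.update a i s) D ≠ 0 := by
        intro s
        rw [hS, Multiset.mem_toFinset, mem_roots hφD, IsRoot.def, eval_lineHom]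
      let PL : ℂ → ℂ[X] := fun s => specPoly Q (Function.update a i s)
      have hPL : ∀ s, PL s = Q₁.map (evalRingHom s) := by
        intro s
        change specPoly Q _ = _
        rw [hQ₁, Polynomial.map_map, evalRingHom_comp_lineHom]
        rfl
      have hsepL : ∀ s ∉ S, ∀ z, (PL s).IsRoot z → (PL s).derivative.eval z ≠ 0 :=
        fun s hs => hsep _ ((hSmem s).1 hs)
      let j : Sheets PL (↑S : Set ℂ)ᶜ → Sheets (specPoly Q) U := fun y =>
        ⟨(Function.update a i y.1.1, y.1.2), y.2.1,
          (hU _).2 ((hSmem _).1 (by simpa using y.2.2))⟩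
      have hupd : Continuous (fun s : ℂ => Function.update a i s) :=
        continuous_const.update i continuous_id
      have hj : Continuous j := by
        apply Continuous.subtype_mk
        exact (hupd.comp (continuous_fst.comp continuous_subtype_val)).prodMk
          (continuous_snd.comp continuous_subtype_val)
      obtain ⟨p, hp, hpe⟩ := sheets_coeff_polynomial Q₁ hQ₁m E hE₁ S hPL hsepL (j ⁻¹' M)
        (hM.preimage hj) k
      refine ⟨p, by rw [← hQ₁deg]; exact hp, fun s hs => ?_⟩
      rw [← hpe s ((hSmem s).2 hs)]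
      congr 1
      unfold fiberPoly
      congr 1
      ext z
      rw [mem_fiberSet_iff (hfam.monic _).ne_zero,
        mem_fiberSet_iff (P := PL) (hfam.monic _).ne_zero]
      constructor
      · rintro ⟨h, hmem⟩
        exact ⟨⟨h.1, by simpa using (hSmem s).2 hs⟩, hmem⟩
      · rintro ⟨h, hmem⟩
        exact ⟨⟨h.1, (hU _).2 hs⟩, hmem⟩
  choose F hF using hstep1
  set R : (MvPolynomial (Fin n) ℂ)[X] := ∑ k ∈ range (m + 1), Polynomial.C (F k) * X ^ k with hR
  have hRcoeff : ∀ k, R.coeff k = if k < m + 1 then F k else 0 := by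
    intro k
    simp only [hR, finsetSum_coeff, coeff_C_mul_X_pow, Finset.sum_ite_eq, Finset.mem_range]
  have hfibdeg : ∀ t, (fiberPoly (specPoly Q) U M t).natDegree ≤ m := by
    intro t
    rw [natDegree_fiberPoly]
    calc (fiberSet (specPoly Q) U M t).card ≤ (specPoly Q t).roots.toFinset.card :=
          Finset.card_le_card (Finset.filter_subset _ _)
      _ ≤ (specPoly Q t).roots.card := Multiset.toFinset_card_le _
      _ ≤ (specPoly Q t).natDegree := card_roots' _
      _ = m := hfam.natDegree t
  have hspecR : ∀ t, MvPolynomial.eval t D ≠ 0 →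
      specPoly R t = fiberPoly (specPoly Q) U M t := by
    intro t ht
    ext k
    rw [specPoly_coeff, hRcoeff]
    split_ifs with hk
    · exact (hF k t ht).symm
    · rw [map_zero]
      symm
      exact coeff_eq_zero_of_natDegree_lt (lt_of_le_of_lt (hfibdeg t) (by omega))
  obtain ⟨t₀, ht₀⟩ : ∃ t₀, MvPolynomial.eval t₀ D ≠ 0 := (dense_eval_ne_zero D hD).nonempty
  have hR0 : R ≠ 0 := by
    intro h0
    have := hspecR t₀ ht₀
    rw [h0] at this
    have h1 : specPoly (0 : (MvPolynomial (Fin n) ℂ)[X]) t₀ = 0 := Polynomial.map_zero _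
    rw [h1] at this
    exact (fiberPoly_monic t₀).ne_zero this.symm
  have hRmonic : R.Monic := by
    have hlc0 : R.leadingCoeff ≠ 0 := leadingCoeff_ne_zero.2 hR0
    have key : (R.leadingCoeff - 1) * (R.leadingCoeff * D) = 0 := by
      apply MvPolynomial.funext
      intro t
      rw [map_mul, map_zero]
      by_cases ht : MvPolynomial.eval t (R.leadingCoeff * D) = 0
      · rw [ht, mul_zero]
      · rw [map_mul] at ht
        have ht1 : MvPolynomial.eval t R.leadingCoeff ≠ 0 := left_ne_zero_of_mul ht
        have ht2 : MvPolynomial.eval t D ≠ 0 := right_ne_zero_of_mul ht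
        have h1 : (specPoly R t).natDegree = R.natDegree :=
          natDegree_map_of_leadingCoeff_ne_zero _ ht1
        have h2 : (specPoly R t).leadingCoeff = MvPolynomial.eval t R.leadingCoeff := by
          rw [leadingCoeff, h1, specPoly_coeff]
          rfl
        rw [hspecR t ht2, (fiberPoly_monic t).leadingCoeff] at h2
        rw [map_sub, map_one, ← h2, sub_self, zero_mul]
    rcases mul_eq_zero.1 key with h | h
    · exact sub_eq_zero.1 h
    · exact absurd h (mul_ne_zero hlc0 hD)
  have hdvd : R ∣ Q := by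
    rw [← modByMonic_eq_zero_iff_dvd hRmonic]
    refine Polynomial.ext (fun k => ?_)
    rw [coeff_zero]
    apply eq_zero_of_eval_eq_zero_off hD
    intro t ht
    rw [← specPoly_coeff]
    have : specPoly (Q %ₘ R) t = 0 := by
      unfold specPoly
      rw [map_modByMonic _ hRmonic]
      change specPoly Q t %ₘ specPoly R t = 0
      rw [hspecR t ht, modByMonic_eq_zero_iff_dvd (fiberPoly_monic t)]
      exact fiberPoly_dvd t (hfam.monic t).ne_zero
    rw [this, coeff_zero]
  obtain ⟨S', hS'⟩ := hdvd
  rcases hQi.isUnit_or_isUnit hS' with hu | hu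
  · left
    have hR1 : R = 1 := hRmonic.eq_one_of_isUnit hu
    rw [Set.eq_empty_iff_forall_notMem]
    rintro ⟨⟨t, z⟩, hr, ht⟩ hmem
    have ht' : MvPolynomial.eval t D ≠ 0 := (hU t).1 ht
    have h1 := hspecR t ht'
    rw [hR1] at h1
    have h2 : (fiberSet (specPoly Q) U M t).card = 0 := by
      rw [← natDegree_fiberPoly, ← h1]
      unfold specPoly
      rw [Polynomial.map_one, natDegree_one]
    have h3 : z ∈ fiberSet (specPoly Q) U M t :=
      (mem_fiberSet_iff (hfam.monic t).ne_zero).2 ⟨⟨hr, ht⟩, hmem⟩
    rw [Finset.card_eq_zero] at h2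
    rw [h2] at h3
    exact Finset.notMem_empty _ h3
  · right
    have hS'm : S'.Monic := hRmonic.of_mul_monic_left (hS' ▸ hQm)
    have hS'1 : S' = 1 := hS'm.eq_one_of_isUnit hu
    rw [hS'1, mul_one] at hS'
    rw [Set.eq_univ_iff_forall]
    rintro ⟨⟨t, z⟩, hr, ht⟩
    have ht' : MvPolynomial.eval t D ≠ 0 := (hU t).1 ht
    have h1 := hspecR t ht'
    rw [← hS'] at h1
    have h2 : (fiberPoly (specPoly Q) U M t).IsRoot z := by
      rw [← h1]
      exact hr
    unfold fiberPoly at h2
    rw [IsRoot.def, eval_prod, Finset.prod_eq_zero_iff] at h2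
    obtain ⟨w, hw, hw0⟩ := h2
    rw [eval_sub, eval_X, eval_C, sub_eq_zero] at hw0
    subst hw0
    obtain ⟨h, hmem⟩ := (mem_fiberSet_iff (hfam.monic t).ne_zero).1 hw
    exact hmem

end Main

end Groth.Agent.H21
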