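import Groth.Agent.H21.ConnAlg
import Groth.Agent.H21.ConnHyp
import Mathlib.RingTheory.NoetherNormalization
import Mathlib.RingTheory.Polynomial.UniqueFactorization

open Polynomial Topology Filter

set_option linter.unusedSectionVars false

namespace Groth.Agent.H21

section Param

variable {n : ℕ} {A : Type*} [CommRing A] [Algebra ℂ A]
  [Algebra (MvPolynomial (Fin n) ℂ) A] [IsScalarTower ℂ (MvPolynomial (Fin n) ℂ) A]
  (θ : A) (Q : (MvPolynomial (Fin n) ℂ)[X])
  (hQ : ∀ G : (MvPolynomial (Fin n) ℂ)[X], Polynomial.aeval θ G = 0 → Q ∣ G)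
  (δ₀ : MvPolynomial (Fin n) ℂ) (Gy : A → (MvPolynomial (Fin n) ℂ)[X])
  (hGy : ∀ y, Polynomial.aeval θ (Gy y) = δ₀ • y)

include hQ in
lemma specPoly_eval_congr {G G' : (MvPolynomial (Fin n) ℂ)[X]}
    (h : Polynomial.aeval θ G = Polynomial.aeval θ G') {t : Fin n → ℂ} {z : ℂ}
    (hz : (specPoly Q t).IsRoot z) : (specPoly G t).eval z = (specPoly G' t).eval z := by
  obtain ⟨H, hH⟩ := hQ (G - G') (by rw [map_sub, h, sub_self])
  have h1 : G = G' + Q * H := by rw [← hH]; ring
  have h2 : specPoly G t = specPoly G' t + specPoly Q t * specPoly H t := by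
    unfold specPoly
    rw [h1, Polynomial.map_add, Polynomial.map_mul]
  rw [h2, eval_add, eval_mul, hz.eq_zero, zero_mul, add_zero]

/-- The candidate homomorphism attached to a point of the root locus. -/
noncomputable def psi (t : Fin n → ℂ) (z : ℂ) (y : A) : ℂ :=
  (specPoly (Gy y) t).eval z / MvPolynomial.eval t δ₀

include hQ hGy in
lemma psi_algebraMap {t : Fin n → ℂ} {z : ℂ} (hz : (specPoly Q t).IsRoot z)
    (ht : MvPolynomial.eval t δ₀ ≠ 0) (p : MvPolynomial (Fin n) ℂ) :
    psi δ₀ Gy t z (algebraMap (MvPolynomial (Fin n) ℂ) A p) = MvPolynomial.eval t p := by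
  unfold psi
  have h1 : Polynomial.aeval θ (Gy (algebraMap (MvPolynomial (Fin n) ℂ) A p))
      = Polynomial.aeval θ (Polynomial.C (δ₀ * p)) := by
    rw [hGy, Polynomial.aeval_C, map_mul, Algebra.smul_def]
  rw [specPoly_eval_congr θ Q hQ h1 hz]
  unfold specPoly
  rw [Polynomial.map_C, eval_C, map_mul]
  field_simp

include hQ hGy in
/-- The homomorphism attached to a point of the root locus. -/
theorem exists_algHom_psi {t : Fin n → ℂ} {z : ℂ} (hz : (specPoly Q t).IsRoot z)
    (ht : MvPolynomial.eval t δ₀ ≠ 0) : ∃ φ : A →ₐ[ℂ] ℂ, ⇑φ = psi δ₀ Gy t z := by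
  have hev : ∀ {G G' : (MvPolynomial (Fin n) ℂ)[X]},
      Polynomial.aeval θ G = Polynomial.aeval θ G' →
      (specPoly G t).eval z = (specPoly G' t).eval z :=
    fun h => specPoly_eval_congr θ Q hQ h hz
  have hone : psi δ₀ Gy t z 1 = 1 := by
    have := psi_algebraMap θ Q hQ δ₀ Gy hGy hz ht 1
    rwa [map_one, map_one] at this
  have hmul : ∀ y y', psi δ₀ Gy t z (y * y') = psi δ₀ Gy t z y * psi δ₀ Gy t z y' := by
    intro y y'
    have h1 : Polynomial.aeval θ (Gy y * Gy y')
        = Polynomial.aeval θ (Polynomial.C δ₀ * Gy (y * y')) := by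
      rw [map_mul, map_mul, hGy, hGy, hGy, Polynomial.aeval_C, Algebra.smul_def,
        Algebra.smul_def, Algebra.smul_def]
      ring
    have h2 := hev h1
    unfold specPoly at h2
    rw [Polynomial.map_mul, Polynomial.map_mul, eval_mul, eval_mul, Polynomial.map_C, eval_C]
      at h2
    unfold psi specPoly
    field_simp
    linear_combination (-1 : ℂ) * h2
  have hadd : ∀ y y', psi δ₀ Gy t z (y + y') = psi δ₀ Gy t z y + psi δ₀ Gy t z y' := by
    intro y y'
    have h1 : Polynomial.aeval θ (Gy (y + y')) = Polynomial.aeval θ (Gy y + Gy y') := by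
      rw [map_add, hGy, hGy, hGy, smul_add]
    have h2 := hev h1
    unfold specPoly at h2
    rw [Polynomial.map_add, eval_add] at h2
    unfold psi specPoly
    rw [h2, add_div]
  have hzero : psi δ₀ Gy t z 0 = 0 := by
    have := hadd 0 0
    rw [add_zero] at this
    exact left_eq_add.1 this
  refine ⟨{ toFun := psi δ₀ Gy t z
            map_one' := hone
            map_mul' := hmul
            map_zero' := hzero
            map_add' := hadd
            commutes' := fun c => ?_ }, rfl⟩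
  rw [IsScalarTower.algebraMap_apply ℂ (MvPolynomial (Fin n) ℂ) A,
    psi_algebraMap θ Q hQ δ₀ Gy hGy hz ht, MvPolynomial.algebraMap_eq, MvPolynomial.eval_C]
  rfl

/-- The base point of a homomorphism. -/
noncomputable def basePt (φ : A →ₐ[ℂ] ℂ) : Fin n → ℂ :=
  fun i => φ (algebraMap (MvPolynomial (Fin n) ℂ) A (MvPolynomial.X i))

lemma algHom_algebraMap (φ : A →ₐ[ℂ] ℂ) (p : MvPolynomial (Fin n) ℂ) :
    φ (algebraMap (MvPolynomial (Fin n) ℂ) A p) = MvPolynomial.eval (basePt φ) p := by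
  have h : φ.comp (IsScalarTower.toAlgHom ℂ (MvPolynomial (Fin n) ℂ) A)
      = MvPolynomial.aeval (basePt φ) := by
    apply MvPolynomial.algHom_ext
    intro i
    simp [basePt]
  have := DFunLike.congr_fun h p
  simpa [MvPolynomial.aeval_eq_eval] using this

lemma algHom_aeval (φ : A →ₐ[ℂ] ℂ) (G : (MvPolynomial (Fin n) ℂ)[X]) :
    φ (Polynomial.aeval θ G) = (specPoly G (basePt φ)).eval (φ θ) := by
  unfold specPoly
  rw [Polynomial.eval_map, Polynomial.aeval_def]
  have h := Polynomial.hom_eval₂ G (algebraMap (MvPolynomial (Fin n) ℂ) A) (φ : A →+* ℂ) θ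
  simp only [RingHom.coe_coe] at h
  rw [h]
  congr 1
  apply RingHom.ext
  intro p
  exact algHom_algebraMap φ p

end Param

lemma continuous_specPoly_eval {n : ℕ} (G : (MvPolynomial (Fin n) ℂ)[X]) :
    Continuous (fun q : (Fin n → ℂ) × ℂ => (specPoly G q.1).eval q.2) := by
  have : (fun q : (Fin n → ℂ) × ℂ => (specPoly G q.1).eval q.2)
      = fun q => ∑ j ∈ Finset.range (G.natDegree + 1),
          MvPolynomial.eval q.1 (G.coeff j) * q.2 ^ j := by
    funext q
    have hdeg : (specPoly G q.1).natDegree < G.natDegree + 1 :=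
      lt_of_le_of_lt (natDegree_map_le (f := MvPolynomial.eval q.1)) (Nat.lt_succ_self _)
    rw [eval_eq_sum_range' hdeg]
    simp only [specPoly_coeff]
  rw [this]
  exact continuous_finsetSum _ (fun j _ =>
    ((MvPolynomial.continuous_eval _).comp continuous_fst).mul (continuous_snd.pow j))

/-- For a domain of finite type over `ℂ`, the complex points off a suitable hypersurface form a
connected space. -/
theorem exists_isPreconnected_algHom (A : Type*) [CommRing A] [IsDomain A] [Algebra ℂ A]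
    [Algebra.FiniteType ℂ A] :
    ∃ δ : A, δ ≠ 0 ∧ IsPreconnected {f : A → ℂ | ∃ φ : A →ₐ[ℂ] ℂ, ⇑φ = f ∧ φ δ ≠ 0} := by
  classical
  obtain ⟨n, g, hginj, hgfin⟩ := exists_finite_inj_algHom_of_fg ℂ A
  let _ : Algebra (MvPolynomial (Fin n) ℂ) A := g.toRingHom.toAlgebra
  have : IsScalarTower ℂ (MvPolynomial (Fin n) ℂ) A :=
    IsScalarTower.of_algebraMap_eq' g.comp_algebraMap.symm
  have : Module.Finite (MvPolynomial (Fin n) ℂ) A := hgfin
  have : FaithfulSMul (MvPolynomial (Fin n) ℂ) A :=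
    (faithfulSMul_iff_algebraMap_injective _ _).2 hginj
  obtain ⟨θ, δ₀, hδ₀, hgen⟩ := exists_primitive_data (MvPolynomial (Fin n) ℂ) A
  obtain ⟨D₀, hD₀, a₁, b₁, hbez⟩ :=
    exists_bezout_minpoly (MvPolynomial (Fin n) ℂ) A θ δ₀ hδ₀ hgen
  have hint : IsIntegral (MvPolynomial (Fin n) ℂ) θ := Algebra.IsIntegral.isIntegral θ
  set Q := minpoly (MvPolynomial (Fin n) ℂ) θ with hQdef
  have hQm : Q.Monic := minpoly.monic hint
  have hQi : Irreducible Q := minpoly.irreducible hint
  have hQ : ∀ G : (MvPolynomial (Fin n) ℂ)[X], Polynomial.aeval θ G = 0 → Q ∣ G :=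
    fun G hG => minpoly.isIntegrallyClosed_dvd hint hG
  set D := δ₀ * D₀ with hDdef
  have hD : D ≠ 0 := mul_ne_zero hδ₀ hD₀
  have hδ₀t : ∀ t, MvPolynomial.eval t D ≠ 0 → MvPolynomial.eval t δ₀ ≠ 0 := by
    intro t ht
    rw [hDdef, map_mul] at ht
    exact left_ne_zero_of_mul ht
  have hsep : ∀ t, MvPolynomial.eval t D ≠ 0 → ∀ z, (specPoly Q t).IsRoot z →
      (specPoly Q t).derivative.eval z ≠ 0 := by
    intro t ht z hz hder
    have h1 := congrArg (fun G => (specPoly G t).eval z) hbez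
    simp only [specPoly, Polynomial.map_add, Polynomial.map_mul, eval_add, eval_mul,
      Polynomial.map_C, eval_C, ← Polynomial.derivative_map] at h1
    have hz' : eval z (Polynomial.map (MvPolynomial.eval t) Q) = 0 := hz
    have hder' : eval z (derivative (Polynomial.map (MvPolynomial.eval t) Q)) = 0 := hder
    rw [hz', hder', mul_zero, mul_zero, add_zero] at h1
    rw [hDdef, map_mul] at ht
    exact (right_ne_zero_of_mul ht) h1.symm
  let U : Set (Fin n → ℂ) := {t | MvPolynomial.eval t D ≠ 0}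
  have hY : PreconnectedSpace (Sheets (specPoly Q) U) :=
    preconnectedSpace_sheets_of_irreducible Q hQm hQi D hD hsep (fun t => Iff.rfl)
  choose Gy hGy using hgen
  let Ψ : Sheets (specPoly Q) U → (A → ℂ) := fun q => psi δ₀ Gy q.1.1 q.1.2
  have hΨ : Continuous Ψ := by
    apply continuous_pi
    intro y
    change Continuous (fun q : Sheets (specPoly Q) U =>
      (specPoly (Gy y) q.1.1).eval q.1.2 / MvPolynomial.eval q.1.1 δ₀)
    apply Continuous.div
    · exact (continuous_specPoly_eval (Gy y)).comp continuous_subtype_val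
    · exact (MvPolynomial.continuous_eval δ₀).comp (continuous_fst.comp continuous_subtype_val)
    · intro q
      exact hδ₀t _ q.2.2
  refine ⟨algebraMap _ A D, (map_ne_zero_iff _ hginj).2 hD, ?_⟩
  have hrange : {f : A → ℂ | ∃ φ : A →ₐ[ℂ] ℂ, ⇑φ = f ∧
      φ (algebraMap (MvPolynomial (Fin n) ℂ) A D) ≠ 0} = Set.range Ψ := by
    ext f
    constructor
    · rintro ⟨φ, rfl, hφ⟩
      have hz : (specPoly Q (basePt φ)).IsRoot (φ θ) := by
        rw [IsRoot.def, ← algHom_aeval θ φ Q, hQdef, minpoly.aeval, map_zero]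
      have ht : MvPolynomial.eval (basePt φ) D ≠ 0 := by
        rw [← algHom_algebraMap φ D]
        exact hφ
      refine ⟨⟨(basePt φ, φ θ), hz, ht⟩, ?_⟩
      funext y
      change psi δ₀ Gy (basePt φ) (φ θ) y = φ y
      unfold psi
      have h0 : φ (algebraMap (MvPolynomial (Fin n) ℂ) A δ₀) ≠ 0 := by
        rw [algHom_algebraMap φ δ₀]
        exact hδ₀t _ ht
      rw [← algHom_aeval θ φ (Gy y), hGy, ← algHom_algebraMap φ δ₀, Algebra.smul_def, map_mul,
        mul_div_cancel_left₀ _ h0]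
    · rintro ⟨⟨⟨t, z⟩, hz, ht⟩, rfl⟩
      obtain ⟨φ, hφ⟩ := exists_algHom_psi θ Q hQ δ₀ Gy hGy hz (hδ₀t t ht)
      refine ⟨φ, hφ, ?_⟩
      have h1 : φ (algebraMap (MvPolynomial (Fin n) ℂ) A D)
          = psi δ₀ Gy t z (algebraMap (MvPolynomial (Fin n) ℂ) A D) := congrFun hφ _
      rw [h1, psi_algebraMap θ Q hQ δ₀ Gy hGy hz (hδ₀t t ht)]
      exact ht
  rw [hrange]
  exact isPreconnected_range hΨ

end Groth.Agent.H21
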