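import Mathlib.Analysis.Complex.Liouville
import Mathlib.Analysis.Complex.TaylorSeries
import Mathlib.Analysis.Complex.RemovableSingularity
import Mathlib.Algebra.Polynomial.BigOperators
import Mathlib.Topology.Algebra.Module.Cardinality

open Complex Polynomial Filter Topology Metric

namespace Groth.Agent.H21

/-- An entire function of polynomial growth is a polynomial. -/
theorem exists_polynomial_of_growth {f : ℂ → ℂ} (hf : Differentiable ℂ f) {C : ℝ} {N : ℕ}
    (hb : ∀ z, ‖f z‖ ≤ C * (1 + ‖z‖) ^ N) :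
    ∃ p : ℂ[X], p.natDegree ≤ N ∧ ∀ z, f z = p.eval z := by
  have hC : 0 ≤ C := by
    have := hb 0
    simp only [norm_zero, add_zero, one_pow, mul_one] at this
    exact le_trans (norm_nonneg _) this
  have hder : ∀ n, N < n → iteratedDeriv n f 0 = 0 := by
    intro n hn
    set K : ℝ := n.factorial * (C * 2 ^ N) with hK
    have hle : ∀ R : ℝ, 1 ≤ R → ‖iteratedDeriv n f 0‖ ≤ K / R := by
      intro R hR
      have hR0 : 0 < R := lt_of_lt_of_le one_pos hR
      have h1 : ‖iteratedDeriv n f 0‖ ≤ n.factorial * (C * (1 + R) ^ N) / R ^ n := by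
        apply norm_iteratedDeriv_le_of_forall_mem_sphere_norm_le n hR0 hf.diffContOnCl
        intro z hz
        have hz' : ‖z‖ = R := by simpa using hz
        rw [← hz']
        exact hb z
      refine h1.trans ?_
      have h2 : (1 + R) ^ N ≤ 2 ^ N * R ^ N := by
        rw [← mul_pow]
        apply pow_le_pow_left₀ (by linarith)
        linarith
      have h3 : R ^ (N + 1) ≤ R ^ n := pow_le_pow_right₀ hR hn
      have h4 : (n.factorial : ℝ) * (C * (1 + R) ^ N) ≤ K * R ^ N := by
        rw [hK]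
        have : C * (1 + R) ^ N ≤ C * 2 ^ N * R ^ N := by
          rw [mul_assoc]
          exact mul_le_mul_of_nonneg_left h2 hC
        calc (n.factorial : ℝ) * (C * (1 + R) ^ N) ≤ n.factorial * (C * 2 ^ N * R ^ N) :=
              mul_le_mul_of_nonneg_left this (by positivity)
          _ = n.factorial * (C * 2 ^ N) * R ^ N := by ring
      have hKnn : 0 ≤ K := by rw [hK]; positivity
      calc (n.factorial : ℝ) * (C * (1 + R) ^ N) / R ^ n ≤ K * R ^ N / R ^ n :=
            div_le_div_of_nonneg_right h4 (by positivity)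
        _ ≤ K * R ^ N / R ^ (N + 1) :=
            div_le_div_of_nonneg_left (by positivity) (by positivity) h3
        _ = K / R := by
            rw [pow_succ]
            field_simp
    have hlim : Tendsto (fun R : ℝ => K / R) atTop (𝓝 0) :=
      tendsto_const_nhds.div_atTop tendsto_id
    have h0 : ‖iteratedDeriv n f 0‖ ≤ 0 :=
      ge_of_tendsto hlim ((eventually_ge_atTop 1).mono hle)
    exact norm_le_zero_iff.1 h0
  refine ⟨∑ n ∈ Finset.range (N + 1),
    Polynomial.C ((n.factorial : ℂ)⁻¹ * iteratedDeriv n f 0) * X ^ n, ?_, ?_⟩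
  · apply Polynomial.natDegree_sum_le_of_forall_le
    intro n hn
    refine (Polynomial.natDegree_C_mul_X_pow_le _ _).trans ?_
    exact Nat.lt_succ_iff.1 (Finset.mem_range.1 hn)
  · intro z
    have h := Complex.taylorSeries_eq_of_entire' (c := 0) (z := z) hf
    rw [← h, tsum_eq_sum (s := Finset.range (N + 1))]
    · rw [Polynomial.eval_finsetSum]
      apply Finset.sum_congr rfl
      intro n _
      simp [sub_zero]
    · intro n hn
      rw [Finset.mem_range, not_lt] at hn
      rw [hder n hn]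
      simp

/-- Removing finitely many bounded singularities. -/
theorem exists_entire_of_bounded_near (S : Finset ℂ) :
    ∀ f : ℂ → ℂ, DifferentiableOn ℂ f (↑S : Set ℂ)ᶜ →
      (∀ a ∈ S, ∃ s ∈ 𝓝 a, BddAbove (norm ∘ f '' (s \ {a}))) →
      ∃ g : ℂ → ℂ, Differentiable ℂ g ∧ ∀ z ∉ S, g z = f z := by
  classical
  induction S using Finset.induction_on with
  | empty =>
    intro f hf _
    refine ⟨f, ?_, fun _ _ => rfl⟩
    intro z
    have : (↑(∅ : Finset ℂ) : Set ℂ)ᶜ = Set.univ := by simp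
    rw [this] at hf
    exact hf.differentiableAt Filter.univ_mem
  | insert a S' ha ih =>
    intro f hf hb
    set f₁ : ℂ → ℂ := Function.update f a (limUnder (𝓝[≠] a) f) with hf₁
    have hopen : IsOpen ((↑S' : Set ℂ)ᶜ) := S'.finite_toSet.isClosed.isOpen_compl
    have hopen' : IsOpen ((↑(insert a S') : Set ℂ)ᶜ) :=
      (insert a S').finite_toSet.isClosed.isOpen_compl
    have haS' : a ∈ (↑S' : Set ℂ)ᶜ := by simpa using ha
    -- differentiability at `a`
    have hda : DifferentiableAt ℂ f₁ a := by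
      obtain ⟨s, hs, hbs⟩ := hb a (Finset.mem_insert_self a S')
      have hs' : s ∩ (↑S' : Set ℂ)ᶜ ∈ 𝓝 a := Filter.inter_mem hs (hopen.mem_nhds haS')
      have hd : DifferentiableOn ℂ f ((s ∩ (↑S' : Set ℂ)ᶜ) \ {a}) := by
        apply hf.mono
        rintro z ⟨⟨_, hz2⟩, hz3⟩
        simp only [Finset.coe_insert, Set.mem_compl_iff, Set.mem_insert_iff, not_or]
        exact ⟨hz3, hz2⟩
      have hbd : BddAbove (norm ∘ f '' ((s ∩ (↑S' : Set ℂ)ᶜ) \ {a})) := by
        apply hbs.mono
        apply Set.image_mono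
        rintro z ⟨⟨hz1, _⟩, hz3⟩
        exact ⟨hz1, hz3⟩
      exact (Complex.differentiableOn_update_limUnder_of_bddAbove hs' hd hbd).differentiableAt hs'
    have hd₁ : DifferentiableOn ℂ f₁ (↑S' : Set ℂ)ᶜ := by
      intro x hx
      by_cases hxa : x = a
      · rw [hxa]; exact hda.differentiableWithinAt
      · have hx' : x ∈ (↑(insert a S') : Set ℂ)ᶜ := by
          simp only [Finset.coe_insert, Set.mem_compl_iff, Set.mem_insert_iff, not_or]
          exact ⟨hxa, hx⟩
        have h1 : DifferentiableAt ℂ f x := hf.differentiableAt (hopen'.mem_nhds hx')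
        have h2 : f₁ =ᶠ[𝓝 x] f := by
          filter_upwards [isOpen_compl_singleton.mem_nhds (show x ∈ ({a} : Set ℂ)ᶜ from hxa)]
            with z hz
          exact Function.update_of_ne hz _ _
        exact (h2.differentiableAt_iff.2 h1).differentiableWithinAt
    have hb₁ : ∀ a' ∈ S', ∃ s ∈ 𝓝 a', BddAbove (norm ∘ f₁ '' (s \ {a'})) := by
      intro a' ha'
      have hne : a' ≠ a := fun h => ha (h ▸ ha')
      obtain ⟨s, hs, hbs⟩ := hb a' (Finset.mem_insert_of_mem ha')
      refine ⟨s ∩ ({a} : Set ℂ)ᶜ, Filter.inter_mem hs (isOpen_compl_singleton.mem_nhds hne), ?_⟩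
      apply hbs.mono
      rintro _ ⟨z, ⟨⟨hz1, hz2⟩, hz3⟩, rfl⟩
      refine ⟨z, ⟨hz1, hz3⟩, ?_⟩
      simp only [Function.comp_apply, hf₁, Function.update_of_ne (show z ≠ a from hz2)]
    obtain ⟨g, hg, hgf⟩ := ih f₁ hd₁ hb₁
    refine ⟨g, hg, ?_⟩
    intro z hz
    rw [Finset.mem_insert, not_or] at hz
    rw [hgf z hz.2, hf₁, Function.update_of_ne hz.1]

/-- A function holomorphic off a finite set with polynomial growth agrees with a polynomial
off that set. -/
theorem exists_polynomial_of_growth_off_finset (S : Finset ℂ) {f : ℂ → ℂ}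
    (hf : DifferentiableOn ℂ f (↑S : Set ℂ)ᶜ) {C : ℝ} {N : ℕ}
    (hb : ∀ z ∉ S, ‖f z‖ ≤ C * (1 + ‖z‖) ^ N) :
    ∃ p : ℂ[X], p.natDegree ≤ N ∧ ∀ z ∉ S, f z = p.eval z := by
  have hdense : Dense ((↑S : Set ℂ)ᶜ) := S.countable_toSet.dense_compl ℂ
  have hC : 0 ≤ C := by
    obtain ⟨z, hz⟩ := hdense.nonempty
    have := hb z (by simpa using hz)
    by_contra hneg
    rw [not_le] at hneg
    have : C * (1 + ‖z‖) ^ N < 0 := mul_neg_of_neg_of_pos hneg (by positivity)
    linarith [norm_nonneg (f z)]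
  obtain ⟨g, hg, hgf⟩ := exists_entire_of_bounded_near S f hf (by
    intro a _
    classical
    refine ⟨Metric.ball a 1 ∩ (↑(S.erase a) : Set ℂ)ᶜ,
      Filter.inter_mem (Metric.ball_mem_nhds a one_pos)
        ((S.erase a).finite_toSet.isClosed.isOpen_compl.mem_nhds (by simp)),
      ⟨C * (2 + ‖a‖) ^ N, ?_⟩⟩
    rintro _ ⟨z, ⟨⟨hz1, hz1'⟩, hz2⟩, rfl⟩
    simp only [Function.comp_apply]
    have hzS : z ∉ S := by
      intro hzS
      apply hz1'
      simp only [Finset.coe_erase, Set.mem_sdiff, Finset.mem_coe, Set.mem_singleton_iff]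
      exact ⟨hzS, hz2⟩
    · refine (hb z hzS).trans ?_
      apply mul_le_mul_of_nonneg_left _ hC
      apply pow_le_pow_left₀ (by positivity)
      have : ‖z‖ ≤ ‖a‖ + 1 := by
        have h1 : ‖z - a‖ < 1 := by rwa [Metric.mem_ball, dist_eq_norm] at hz1
        calc ‖z‖ = ‖(z - a) + a‖ := by ring_nf
          _ ≤ ‖z - a‖ + ‖a‖ := norm_add_le _ _
          _ ≤ ‖a‖ + 1 := by linarith
      linarith)
  have hbg : ∀ z, ‖g z‖ ≤ C * (1 + ‖z‖) ^ N := by
    have hcl : IsClosed {z : ℂ | ‖g z‖ ≤ C * (1 + ‖z‖) ^ N} :=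
      isClosed_le hg.continuous.norm (by fun_prop)
    have hsub : (↑S : Set ℂ)ᶜ ⊆ {z : ℂ | ‖g z‖ ≤ C * (1 + ‖z‖) ^ N} := by
      intro z hz
      have hz' : z ∉ S := by simpa using hz
      simp only [Set.mem_ofPred_eq, hgf z hz']
      exact hb z hz'
    intro z
    have := hcl.closure_subset_iff.2 hsub (hdense z)
    exact this
  obtain ⟨p, hp, hpe⟩ := exists_polynomial_of_growth hg hbg
  exact ⟨p, hp, fun z hz => by rw [← hgf z hz, hpe z]⟩

end Groth.Agent.H21
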