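import Groth.Agent.H21.ConnAlgTop
import Groth.Agent.H21.AnDenseCor

open AlgebraicGeometry CategoryTheory TopologicalSpace Opposite An Topology

set_option linter.unusedSectionVars false

namespace Groth.Agent.H21

/-- For a prime ideal of an algebra of finite type over `ℂ`, the complex points of the
corresponding closed subset, off a suitable hypersurface, form a connected set. -/
theorem exists_isPreconnected_algHom_prime (A : Type*) [CommRing A] [Algebra ℂ A]
    [Algebra.FiniteType ℂ A] (𝔭 : Ideal A) [𝔭.IsPrime] :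
    ∃ δ : A, δ ∉ 𝔭 ∧ IsPreconnected
      {f : A → ℂ | ∃ φ : A →ₐ[ℂ] ℂ, ⇑φ = f ∧ (∀ a ∈ 𝔭, φ a = 0) ∧ φ δ ≠ 0} := by
  have hft : Algebra.FiniteType ℂ (A ⧸ 𝔭) :=
    Algebra.FiniteType.of_surjective (Ideal.Quotient.mkₐ ℂ 𝔭) (Ideal.Quotient.mkₐ_surjective ℂ 𝔭)
  obtain ⟨δB, hδB, hconn⟩ := exists_isPreconnected_algHom (A ⧸ 𝔭)
  obtain ⟨δ, rfl⟩ := Ideal.Quotient.mk_surjective δB
  refine ⟨δ, fun h => hδB (Ideal.Quotient.eq_zero_iff_mem.2 h), ?_⟩
  let c : ((A ⧸ 𝔭) → ℂ) → (A → ℂ) := fun h a => h (Ideal.Quotient.mk 𝔭 a)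
  have hc : Continuous c := continuous_pi (fun a => continuous_apply _)
  have himg : c '' {f | ∃ φ : (A ⧸ 𝔭) →ₐ[ℂ] ℂ, ⇑φ = f ∧ φ (Ideal.Quotient.mk 𝔭 δ) ≠ 0}
      = {f : A → ℂ | ∃ φ : A →ₐ[ℂ] ℂ, ⇑φ = f ∧ (∀ a ∈ 𝔭, φ a = 0) ∧ φ δ ≠ 0} := by
    ext f
    constructor
    · rintro ⟨_, ⟨φ, rfl, hφ⟩, rfl⟩
      refine ⟨φ.comp (Ideal.Quotient.mkₐ ℂ 𝔭), rfl, ?_, hφ⟩
      intro a ha
      change φ (Ideal.Quotient.mk 𝔭 a) = 0
      rw [Ideal.Quotient.eq_zero_iff_mem.2 ha, map_zero]
    · rintro ⟨φ, rfl, hker, hφ⟩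
      refine ⟨_, ⟨Ideal.Quotient.liftₐ 𝔭 φ hker, rfl, ?_⟩, ?_⟩
      · exact hφ
      · funext a
        rfl
  rw [← himg]
  exact hconn.image c hc.continuousOn

variable {X : Scheme.{0}} [X.Over SC]

/-- The affine case, in terms of a prime ideal of global sections. -/
theorem exists_isPreconnected_pts_prime [IsAffine X] [LocallyOfFiniteType (X ↘ SC)]
    (𝔭 : Ideal Γ(X, ⊤)) [𝔭.IsPrime] :
    ∃ δ : Γ(X, ⊤), δ ∉ 𝔭 ∧
      IsPreconnected {x : Pts X | (∀ f ∈ 𝔭, x.evTop f = 0) ∧ x.evTop δ ≠ 0} := by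
  let alg : Algebra ℂ Γ(X, ⊤) := (strHom X).toAlgebra
  have hft : Algebra.FiniteType ℂ Γ(X, ⊤) := strHom_finiteType
  obtain ⟨δ, hδ, hconn⟩ := exists_isPreconnected_algHom_prime Γ(X, ⊤) 𝔭
  refine ⟨δ, hδ, ?_⟩
  rw [← isInducing_evMap.isPreconnected_image]
  convert hconn using 1
  ext f
  constructor
  · rintro ⟨x, ⟨hx1, hx2⟩, rfl⟩
    refine ⟨{ toRingHom := evHom x ⊤ (Opens.mem_top _)
              commutes' := fun c => evTop_strHom x c }, ?_, ?_, ?_⟩
    · funext f
      rfl
    · exact hx1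
    · exact hx2
  · rintro ⟨φ, rfl, hφ1, hφ2⟩
    have hφc : ∀ c, (φ : Γ(X, ⊤) →+* ℂ) (strHom X c) = c := fun c => φ.commutes c
    refine ⟨ptsOfHom (φ : Γ(X, ⊤) →+* ℂ) hφc, ⟨?_, ?_⟩, ?_⟩
    · intro f hf
      rw [ptsOfHom_evTop]
      exact hφ1 f hf
    · rw [ptsOfHom_evTop]
      exact hφ2
    · funext f
      exact ptsOfHom_evTop _ _ f

/-- The affine case: a dense open part of an irreducible closed subset has connected set of
complex points. -/
theorem exists_isPreconnected_preimage_inter_of_isAffine [IsAffine X]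
    [LocallyOfFiniteType (X ↘ SC)] {Z : Set X} (hZ : IsIrreducible Z) (hZc : IsClosed Z) :
    ∃ O : X.Opens, (Z ∩ O).Nonempty ∧ IsPreconnected (Pts.pt ⁻¹' (Z ∩ O) : Set (Pts X)) := by
  let 𝔭 : Ideal Γ(X, ⊤) :=
    { carrier := {f | ∀ p ∈ Z, p ∉ X.basicOpen f}
      add_mem' := by
        intro f g hf hg p hp hmem
        have := X.basicOpen_add_le (f := f) (g := g) hmem
        rcases this with h | h
        · exact hf p hp h
        · exact hg p hp h
      zero_mem' := by
        intro p _ hmem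
        rw [Scheme.basicOpen_zero] at hmem
        exact hmem
      smul_mem' := by
        intro c f hf p hp hmem
        rw [smul_eq_mul, Scheme.basicOpen_mul] at hmem
        exact hf p hp hmem.2 }
  have hmem𝔭 : ∀ f, f ∈ 𝔭 ↔ ∀ p ∈ Z, p ∉ X.basicOpen f := fun f => Iff.rfl
  have hnon : ∀ f, f ∉ 𝔭 → (Z ∩ X.basicOpen f).Nonempty := by
    intro f hf
    by_contra hne
    apply hf
    intro p hp hmem
    exact hne ⟨p, hp, hmem⟩
  have hprime : 𝔭.IsPrime := by
    constructor
    · rw [Ideal.ne_top_iff_one]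
      intro h1
      obtain ⟨p, hp⟩ := hZ.nonempty
      exact h1 p hp (by rw [Scheme.basicOpen_one]; trivial)
    · intro f g hfg
      by_contra hcon
      rw [not_or] at hcon
      obtain ⟨hf, hg⟩ := hcon
      obtain ⟨p, hp, hpf, hpg⟩ := hZ.isPreirreducible (X.basicOpen f) (X.basicOpen g)
        (X.basicOpen f).isOpen (X.basicOpen g).isOpen (hnon f hf) (hnon g hg)
      exact hfg p hp (by rw [Scheme.basicOpen_mul]; exact ⟨hpf, hpg⟩)
  obtain ⟨δ, hδ, hconn⟩ := exists_isPreconnected_pts_prime 𝔭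
  refine ⟨X.basicOpen δ, hnon δ hδ, ?_⟩
  convert hconn using 1
  ext x
  simp only [Set.mem_preimage, Set.mem_inter_iff, SetLike.mem_coe, Set.mem_ofPred_eq]
  rw [mem_basicOpen_iff x ⊤ (Opens.mem_top _) δ]
  refine and_congr_left (fun _ => ?_)
  constructor
  · intro hx f hf
    by_contra hne
    exact hf x.pt hx ((mem_basicOpen_iff x ⊤ (Opens.mem_top _) f).2 hne)
  · intro h
    by_contra hx
    obtain ⟨f, hfle, hxf⟩ := (isAffineOpen_top X).exists_basicOpen_le
      (V := ⟨Zᶜ, hZc.isOpen_compl⟩) ⟨x.pt, hx⟩ (Opens.mem_top _)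
    have hf : f ∈ 𝔭 := fun p hp hmem => hfle hmem hp
    exact (mem_basicOpen_iff x ⊤ (Opens.mem_top _) f).1 hxf (h f hf)

/-- The complex points of an irreducible closed subset form a connected set. -/
theorem isPreconnected_preimage_pt_of_isIrreducible [LocallyOfFiniteType (X ↘ SC)] {Z : Set X}
    (hZ : IsIrreducible Z) (hZc : IsClosed Z) : IsPreconnected (Pts.pt ⁻¹' Z : Set (Pts X)) := by
  obtain ⟨p, hp⟩ := hZ.nonempty
  obtain ⟨U, hU, hpU⟩ := exists_affineOpen_mem p
  have : IsAffine (U : Scheme.{0}) := hU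
  have hZ' : IsIrreducible (U.ι ⁻¹' Z : Set (U : Scheme.{0})) :=
    ⟨⟨⟨p, hpU⟩, hp⟩, hZ.isPreirreducible.preimage U.ι.isOpenEmbedding⟩
  have hZ'c : IsClosed (U.ι ⁻¹' Z : Set (U : Scheme.{0})) := hZc.preimage U.ι.continuous
  obtain ⟨O', hne, hconn⟩ := exists_isPreconnected_preimage_inter_of_isAffine hZ' hZ'c
  set T : Set X := U.ι '' ((U.ι ⁻¹' Z) ∩ O') with hT
  have hTeq : T = Z ∩ (U.ι ''ᵁ O' : X.Opens) := by
    rw [hT, Set.image_preimage_inter]
    rfl
  have himg : (Pts.pt ⁻¹' T : Set (Pts X))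
      = Pts.map U.ι '' (Pts.pt ⁻¹' ((U.ι ⁻¹' Z) ∩ O')) := by
    ext x
    constructor
    · rintro ⟨q, hq, hqx⟩
      have hxU : x.pt ∈ U := by
        rw [← hqx]
        exact q.2
      refine ⟨liftOpens U x hxU, ?_, map_liftOpens U x hxU⟩
      change (liftOpens U x hxU).pt ∈ ((U.ι ⁻¹' Z) ∩ O' : Set (U : Scheme.{0}))
      have h1 : U.ι (liftOpens U x hxU).pt = U.ι q := by
        rw [← Pts.pt_map, map_liftOpens, hqx]
      rw [U.ι.isOpenEmbedding.injective h1]
      exact hq
    · rintro ⟨x', hx', rfl⟩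
      exact ⟨x'.pt, hx', (Pts.pt_map _ _).symm⟩
  have hTconn : IsPreconnected (Pts.pt ⁻¹' T : Set (Pts X)) := by
    rw [himg]
    exact hconn.image _ (Pts.continuous_map U.ι).continuousOn
  have hTne : (Z ∩ (U.ι ''ᵁ O' : X.Opens)).Nonempty := by
    rw [← hTeq, hT]
    exact hne.image _
  have hcl : closure T = Z := by
    apply Set.Subset.antisymm
    · exact hZc.closure_subset_iff.2 (by rw [hTeq]; exact Set.inter_subset_left)
    · rw [hTeq]
      exact subset_closure_inter_of_isPreirreducible_of_isOpen hZ.isPreirreducible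
        (U.ι ''ᵁ O' : X.Opens).isOpen hTne
  have : IsLocallyNoetherian X := isLocallyNoetherian_of_lft
  have hTlc : IsLocallyConstructible T := by
    rw [hTeq, Set.inter_comm]
    exact isLocallyConstructible_of_isLocallyClosed
      ⟨_, _, (U.ι ''ᵁ O' : X.Opens).isOpen, hZc, rfl⟩
  have hpre := preimage_closure_eq_closure_preimage T hTlc
  rw [hcl] at hpre
  rw [hpre]
  exact hTconn.closure

section Top

variable {Y : Type*} [TopologicalSpace Y]

/-- In a Noetherian quasi-sober space, a set stable under specialization and generization is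
closed. -/
theorem isClosed_of_stable [NoetherianSpace Y] [QuasiSober Y] {T : Set Y}
    (hs : StableUnderSpecialization T) (hg : StableUnderGeneralization T) : IsClosed T := by
  have hfin : {Z ∈ irreducibleComponents Y | (Z ∩ T).Nonempty}.Finite :=
    (NoetherianSpace.finite_irreducibleComponents).subset (fun Z hZ => hZ.1)
  have heq : T = ⋃ Z ∈ {Z ∈ irreducibleComponents Y | (Z ∩ T).Nonempty}, Z := by
    apply Set.Subset.antisymm
    · intro p hp
      exact Set.mem_biUnion (x := irreducibleComponent p)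
        ⟨irreducibleComponent_mem_irreducibleComponents p, ⟨p, mem_irreducibleComponent, hp⟩⟩
        mem_irreducibleComponent
    · intro q hq
      obtain ⟨Z, ⟨hZ, ⟨p, hpZ, hpT⟩⟩, hqZ⟩ := Set.mem_iUnion₂.1 hq
      have hirr : IsIrreducible Z := hZ.1
      have hcl : IsClosed Z := isClosed_of_mem_irreducibleComponents Z hZ
      have hgen := hirr.isGenericPoint_genericPoint hcl
      have h1 : hirr.genericPoint ∈ T := hg (hgen.specializes hpZ) hpT
      exact hs (hgen.specializes hqZ) h1
  rw [heq]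
  exact hfin.isClosed_biUnion (fun Z hZ => isClosed_of_mem_irreducibleComponents Z hZ.1)

end Top

/-- In a locally Noetherian scheme, a set stable under specialization and generization is
open. -/
theorem isOpen_of_stable [IsLocallyNoetherian X] {T : Set X}
    (hs : StableUnderSpecialization T) (hg : StableUnderGeneralization T) : IsOpen T := by
  rw [isOpen_iff_forall_mem_open]
  intro p hp
  obtain ⟨U, hU, hpU⟩ := exists_affineOpen_mem p
  have : IsNoetherianRing Γ(X, U) := IsLocallyNoetherian.component_noetherian ⟨U, hU⟩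
  have : NoetherianSpace U := noetherianSpace_of_isAffineOpen U hU
  have : QuasiSober U := (IsOpen.isOpenEmbedding_subtypeVal U.isOpen).quasiSober
  let T' : Set U := Subtype.val ⁻¹' T
  have hs' : StableUnderSpecialization T'ᶜ := by
    intro a b hab ha hb
    exact ha (hg (hab.map continuous_subtype_val) hb)
  have hg' : StableUnderGeneralization T'ᶜ := by
    intro a b hab ha hb
    exact ha (hs (hab.map continuous_subtype_val) hb)
  have hcl : IsClosed (T'ᶜ) := isClosed_of_stable hs' hg'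
  have hopen : IsOpen T' := by
    rw [← isClosed_compl_iff]
    exact hcl
  refine ⟨Subtype.val '' T', ?_, U.isOpen.isOpenMap_subtype_val _ hopen, ⟨⟨p, hpU⟩, hp, rfl⟩⟩
  rintro _ ⟨q, hq, rfl⟩
  exact hq

/-- Complex points whose underlying points lie in the same connected component of `X` lie in the
same connected component of `X(ℂ)`. -/
theorem mem_connectedComponent_of_pt_mem [LocallyOfFiniteType (X ↘ SC)] (x y : Pts X)
    (h : y.pt ∈ connectedComponent x.pt) : y ∈ connectedComponent x := by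
  have : IsLocallyNoetherian X := isLocallyNoetherian_of_lft
  have : JacobsonSpace X := jacobsonSpace_of_lft
  let T : Set X := {p | (Pts.pt ⁻¹' (closure {p}) : Set (Pts X)) ⊆ connectedComponent x}
  have hpre : ∀ p : X, IsPreconnected (Pts.pt ⁻¹' (closure {p}) : Set (Pts X)) := fun p =>
    isPreconnected_preimage_pt_of_isIrreducible isIrreducible_singleton.closure isClosed_closure
  have hne : ∀ p : X, (Pts.pt ⁻¹' (closure {p}) : Set (Pts X)).Nonempty := by
    intro p
    have h1 := closure_inter_closedPoints (X := X) (Z := closure {p}) isClosed_closure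
    have h2 : (closure {p} ∩ closedPoints X).Nonempty := by
      by_contra hempty
      rw [Set.not_nonempty_iff_eq_empty] at hempty
      rw [hempty, closure_empty] at h1
      exact (Set.singleton_nonempty p).closure.ne_empty h1.symm
    obtain ⟨q, hq1, hq2⟩ := h2
    obtain ⟨z, hz⟩ := exists_pts_of_isClosed_singleton q hq2
    exact ⟨z, by change z.pt ∈ closure ({p} : Set X); rw [hz]; exact hq1⟩
  have hdich : ∀ p, ((Pts.pt ⁻¹' (closure {p}) : Set (Pts X)) ∩ connectedComponent x).Nonempty →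
      p ∈ T := by
    rintro p ⟨z, hz1, hz2⟩
    have := (hpre p).subset_connectedComponent hz1
    rwa [← connectedComponent_eq hz2] at this
  have hmono : ∀ p q : X, p ⤳ q →
      (Pts.pt ⁻¹' (closure {q}) : Set (Pts X)) ⊆ Pts.pt ⁻¹' (closure {p}) := by
    intro p q hpq
    apply Set.preimage_mono
    exact isClosed_closure.closure_subset_iff.2
      (Set.singleton_subset_iff.2 (specializes_iff_mem_closure.1 hpq))
  have hs : StableUnderSpecialization T := fun p q hpq hp => (hmono p q hpq).trans hp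
  have hg : StableUnderGeneralization T := by
    intro q p hpq hq
    obtain ⟨z, hz⟩ := hne q
    exact hdich p ⟨z, hmono p q hpq hz, hq hz⟩
  have hs' : StableUnderSpecialization Tᶜ := fun a b hab ha hb => ha (hg hab hb)
  have hg' : StableUnderGeneralization Tᶜ := fun a b hab ha hb => ha (hs hab hb)
  have hclopen : IsClopen T :=
    ⟨isOpen_compl_iff.1 (isOpen_of_stable hs' hg'), isOpen_of_stable hs hg⟩
  have hxT : x.pt ∈ T := by
    change (Pts.pt ⁻¹' (closure {x.pt}) : Set (Pts X)) ⊆ connectedComponent x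
    rw [(isClosed_singleton_pt x).closure_eq]
    intro z hz
    have : z = x := pt_injective hz
    rw [this]
    exact mem_connectedComponent
  have hyT : y.pt ∈ T := hclopen.connectedComponent_subset hxT h
  exact hyT (subset_closure (Set.mem_singleton _))

/-- Every clopen set of complex points is the set of complex points of a clopen subset. -/
theorem exists_isClopen_preimage_pt_eq [LocallyOfFiniteType (X ↘ SC)] {K : Set (Pts X)}
    (hK : IsClopen K) : ∃ T : Set X, IsClopen T ∧ (Pts.pt ⁻¹' T : Set (Pts X)) = K := by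
  have : IsLocallyNoetherian X := isLocallyNoetherian_of_lft
  have : JacobsonSpace X := jacobsonSpace_of_lft
  let T : Set X := {p | (Pts.pt ⁻¹' (closure {p}) : Set (Pts X)) ⊆ K}
  have hpre : ∀ p : X, IsPreconnected (Pts.pt ⁻¹' (closure {p}) : Set (Pts X)) := fun p =>
    isPreconnected_preimage_pt_of_isIrreducible isIrreducible_singleton.closure isClosed_closure
  have hne : ∀ p : X, (Pts.pt ⁻¹' (closure {p}) : Set (Pts X)).Nonempty := by
    intro p
    have h1 := closure_inter_closedPoints (X := X) (Z := closure {p}) isClosed_closure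
    have h2 : (closure {p} ∩ closedPoints X).Nonempty := by
      by_contra hempty
      rw [Set.not_nonempty_iff_eq_empty] at hempty
      rw [hempty, closure_empty] at h1
      exact (Set.singleton_nonempty p).closure.ne_empty h1.symm
    obtain ⟨q, hq1, hq2⟩ := h2
    obtain ⟨z, hz⟩ := exists_pts_of_isClosed_singleton q hq2
    exact ⟨z, by change z.pt ∈ closure ({p} : Set X); rw [hz]; exact hq1⟩
  have hdich : ∀ p, ((Pts.pt ⁻¹' (closure {p}) : Set (Pts X)) ∩ K).Nonempty → p ∈ T :=
    fun p hp => (hpre p).subset_isClopen hK hp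
  have hmono : ∀ p q : X, p ⤳ q →
      (Pts.pt ⁻¹' (closure {q}) : Set (Pts X)) ⊆ Pts.pt ⁻¹' (closure {p}) := by
    intro p q hpq
    apply Set.preimage_mono
    exact isClosed_closure.closure_subset_iff.2
      (Set.singleton_subset_iff.2 (specializes_iff_mem_closure.1 hpq))
  have hs : StableUnderSpecialization T := fun p q hpq hp => (hmono p q hpq).trans hp
  have hg : StableUnderGeneralization T := by
    intro q p hpq hq
    obtain ⟨z, hz⟩ := hne q
    exact hdich p ⟨z, hmono p q hpq hz, hq hz⟩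
  have hs' : StableUnderSpecialization Tᶜ := fun a b hab ha hb => ha (hg hab hb)
  have hg' : StableUnderGeneralization Tᶜ := fun a b hab ha hb => ha (hs hab hb)
  refine ⟨T, ⟨isOpen_compl_iff.1 (isOpen_of_stable hs' hg'), isOpen_of_stable hs hg⟩, ?_⟩
  ext x
  change (Pts.pt ⁻¹' (closure {x.pt}) : Set (Pts X)) ⊆ K ↔ x ∈ K
  rw [(isClosed_singleton_pt x).closure_eq]
  constructor
  · intro h
    exact h (Set.mem_singleton _)
  · intro hx z hz
    have : z = x := pt_injective hz
    rw [this]
    exact hx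

end Groth.Agent.H21
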