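import Groth.Agent.H21.EtaleRoots
import Mathlib.FieldTheory.Separable
import Mathlib.Analysis.Complex.Polynomial.Basic
import Mathlib.Analysis.Polynomial.CauchyBound
import Mathlib.Analysis.Calculus.Deriv.Slope
import Mathlib.Analysis.Calculus.Deriv.Polynomial
import Groth.Agent.H21.ConnEntire

open Polynomial Topology Filter Finset

namespace Groth.Agent.H21

section General

variable {B : Type*} [TopologicalSpace B]

/-- The locus of roots of a family of polynomials inside a given set. -/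
abbrev RootLocus (P : B → ℂ[X]) (O : Set (B × ℂ)) : Type _ :=
  {q : B × ℂ // (P q.1).IsRoot q.2 ∧ q ∈ O}

/-- The root locus over a subset of the base. -/
abbrev Sheets (P : B → ℂ[X]) (U : Set B) : Type _ := RootLocus P (Prod.fst ⁻¹' U)

variable {P : B → ℂ[X]} {m : ℕ} {O : Set (B × ℂ)}

/-- Local sections of the simple root locus through a given point. -/
theorem IsContFamily.exists_section (h : IsContFamily P m) (hO : IsOpen O)
    (hd : ∀ q ∈ O, (P q.1).IsRoot q.2 → (P q.1).derivative.eval q.2 ≠ 0)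
    (y₀ : RootLocus P O) :
    ∃ (N : Set B) (τ : B → RootLocus P O), IsOpen N ∧ y₀.1.1 ∈ N ∧ ContinuousOn τ N ∧
      (∀ s ∈ N, (τ s).1.1 = s) ∧ τ y₀.1.1 = y₀ := by
  obtain ⟨e, he, hpe⟩ := h.isLocalHomeomorph_fst hO hd y₀
  have hpe' : ∀ y, e y = y.1.1 := fun y => (congrFun hpe y).symm
  refine ⟨e.target, e.symm, e.open_target, ?_, e.continuousOn_symm, ?_, ?_⟩
  · rw [← hpe']
    exact e.map_source he
  · intro s hs
    rw [← hpe']
    exact e.right_inv hs
  · rw [← hpe']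
    exact e.left_inv he

/-- Simple roots: if the derivative does not vanish at any root then the roots are distinct. -/
lemma nodup_roots_of_derivative_ne_zero {p : ℂ[X]} (hp : p ≠ 0)
    (h : ∀ z, p.IsRoot z → p.derivative.eval z ≠ 0) : p.roots.Nodup := by
  classical
  rw [Multiset.nodup_iff_count_le_one]
  intro z
  rw [count_roots]
  by_contra hlt
  rw [not_le] at hlt
  obtain ⟨h1, h2⟩ := (one_lt_rootMultiplicity_iff_isRoot hp).1 hlt
  exact h z h1 h2

/-- Local sections through a point, along which membership in a clopen set is constant. -/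
theorem IsContFamily.exists_section_clopen (h : IsContFamily P m) {U : Set B} (hU : IsOpen U)
    (hd : ∀ s ∈ U, ∀ z, (P s).IsRoot z → (P s).derivative.eval z ≠ 0)
    {M : Set (Sheets P U)} (hM : IsClopen M) (y₀ : Sheets P U) :
    ∃ (N : Set B) (ζ : B → ℂ), IsOpen N ∧ y₀.1.1 ∈ N ∧ ContinuousOn ζ N ∧ ζ y₀.1.1 = y₀.1.2 ∧
      ∀ s ∈ N, ∃ hs : (P s).IsRoot (ζ s) ∧ (s, ζ s) ∈ (Prod.fst ⁻¹' U : Set (B × ℂ)),
        ((⟨(s, ζ s), hs⟩ : Sheets P U) ∈ M ↔ y₀ ∈ M) := by
  obtain ⟨N₁, τ, hN₁, hmem, hτ, hfst, hτ0⟩ := h.exists_section (hU.preimage continuous_fst)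
    (fun q hq hr => hd q.1 hq q.2 hr) y₀
  have key : ∀ s ∈ N₁, ∃ hs : (P s).IsRoot (τ s).1.2 ∧
      (s, (τ s).1.2) ∈ (Prod.fst ⁻¹' U : Set (B × ℂ)),
      (⟨(s, (τ s).1.2), hs⟩ : Sheets P U) = τ s := by
    intro s hs
    have h1 := hfst s hs
    have h2 : (τ s).1 = (s, (τ s).1.2) := Prod.ext h1 rfl
    obtain ⟨hr, hu⟩ := (τ s).2
    rw [h1] at hr
    refine ⟨⟨hr, ?_⟩, Subtype.ext h2.symm⟩
    change s ∈ U
    rw [← h1]
    exact hu
  have hζc : ∀ N ⊆ N₁, ContinuousOn (fun s => (τ s).1.2) N := fun N hN =>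
    (continuous_snd.comp continuous_subtype_val).comp_continuousOn (hτ.mono hN)
  by_cases hy : y₀ ∈ M
  · refine ⟨N₁ ∩ τ ⁻¹' M, fun s => (τ s).1.2, hτ.isOpen_inter_preimage hN₁ hM.isOpen,
      ⟨hmem, ?_⟩, hζc _ Set.inter_subset_left, by change (τ y₀.1.1).1.2 = _; rw [hτ0], ?_⟩
    · change τ y₀.1.1 ∈ M
      rw [hτ0]
      exact hy
    · intro s hs
      obtain ⟨hs', heq⟩ := key s hs.1
      refine ⟨hs', ?_⟩
      rw [heq]
      exact iff_of_true hs.2 hy
  · refine ⟨N₁ ∩ τ ⁻¹' Mᶜ, fun s => (τ s).1.2, hτ.isOpen_inter_preimage hN₁ hM.compl.isOpen,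
      ⟨hmem, ?_⟩, hζc _ Set.inter_subset_left, by change (τ y₀.1.1).1.2 = _; rw [hτ0], ?_⟩
    · change τ y₀.1.1 ∈ Mᶜ
      rw [hτ0]
      exact hy
    · intro s hs
      obtain ⟨hs', heq⟩ := key s hs.1
      refine ⟨hs', ?_⟩
      rw [heq]
      exact iff_of_false hs.2 hy

open Classical in
/-- The roots of `P s` lying in the subset `M` of the root locus. -/
noncomputable def fiberSet (P : B → ℂ[X]) (U : Set B) (M : Set (Sheets P U)) (s : B) : Finset ℂ :=
  (P s).roots.toFinset.filter (fun z =>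
    ∃ h : (P s).IsRoot z ∧ (s, z) ∈ (Prod.fst ⁻¹' U : Set (B × ℂ)), (⟨(s, z), h⟩ : Sheets P U) ∈ M)

/-- The monic polynomial whose roots are the roots of `P s` lying in `M`. -/
noncomputable def fiberPoly (P : B → ℂ[X]) (U : Set B) (M : Set (Sheets P U)) (s : B) : ℂ[X] :=
  ∏ z ∈ fiberSet P U M s, (X - C z)

/-- Local structure of the fibre polynomial of a clopen set of sheets. -/
theorem IsContFamily.fiberPoly_local (h : IsContFamily P m) {U : Set B} (hU : IsOpen U)
    (hd : ∀ s ∈ U, ∀ z, (P s).IsRoot z → (P s).derivative.eval z ≠ 0)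
    {M : Set (Sheets P U)} (hM : IsClopen M) {s₀ : B} (hs₀ : s₀ ∈ U) :
    ∃ ζ : ℂ → B → ℂ,
      (∀ z, (P s₀).IsRoot z → ContinuousAt (ζ z) s₀ ∧ ζ z s₀ = z ∧
        ∀ᶠ s in 𝓝 s₀, (P s).IsRoot (ζ z s)) ∧
      ∀ᶠ s in 𝓝 s₀, fiberPoly P U M s = ∏ z ∈ fiberSet P U M s₀, (X - C (ζ z s)) := by
  classical
  have hP0 : ∀ s, P s ≠ 0 := fun s => (h.monic s).ne_zero
  have hsec : ∀ z : ℂ, ∃ (N : Set B) (ζ : B → ℂ), (P s₀).IsRoot z →
      (IsOpen N ∧ s₀ ∈ N ∧ ContinuousOn ζ N ∧ ζ s₀ = z ∧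
        ∀ s ∈ N, ∃ hs : (P s).IsRoot (ζ s) ∧ (s, ζ s) ∈ (Prod.fst ⁻¹' U : Set (B × ℂ)),
          ((⟨(s, ζ s), hs⟩ : Sheets P U) ∈ M ↔
            ∃ h0 : (P s₀).IsRoot z ∧ (s₀, z) ∈ (Prod.fst ⁻¹' U : Set (B × ℂ)),
              (⟨(s₀, z), h0⟩ : Sheets P U) ∈ M)) := by
    intro z
    by_cases hz : (P s₀).IsRoot z
    · obtain ⟨N, ζ, h1, h2, h3, h4, h5⟩ :=
        h.exists_section_clopen hU hd hM ⟨(s₀, z), hz, hs₀⟩
      refine ⟨N, ζ, fun _ => ⟨h1, h2, h3, h4, fun s hs => ?_⟩⟩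
      obtain ⟨hs', hiff⟩ := h5 s hs
      exact ⟨hs', hiff.trans ⟨fun hm => ⟨⟨hz, hs₀⟩, hm⟩, fun ⟨_, hm⟩ => hm⟩⟩
    · exact ⟨Set.univ, fun _ => 0, fun hz' => absurd hz' hz⟩
  choose N ζ hNζ using hsec
  have hcont : ∀ z, (P s₀).IsRoot z → ContinuousAt (ζ z) s₀ := by
    intro z hz
    obtain ⟨h1, h2, h3, -⟩ := hNζ z hz
    exact h3.continuousAt (h1.mem_nhds h2)
  refine ⟨ζ, ?_, ?_⟩
  · intro z hz
    obtain ⟨h1, h2, h3, h4, h5⟩ := hNζ z hz
    refine ⟨hcont z hz, h4, ?_⟩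
    filter_upwards [h1.mem_nhds h2] with s hs
    obtain ⟨hs', -⟩ := h5 s hs
    exact hs'.1
  · set Z₀ := (P s₀).roots.toFinset with hZ₀
    have hmemZ : ∀ z, z ∈ Z₀ ↔ (P s₀).IsRoot z := by
      intro z
      rw [hZ₀, Multiset.mem_toFinset, mem_roots (hP0 s₀)]
    have e1 : ∀ᶠ s in 𝓝 s₀, ∀ z ∈ Z₀, s ∈ N z := by
      rw [Filter.eventually_all_finset]
      intro z hz
      obtain ⟨h1, h2, -⟩ := hNζ z ((hmemZ z).1 hz)
      exact h1.mem_nhds h2
    have e2 : ∀ᶠ s in 𝓝 s₀, ∀ z ∈ Z₀, ∀ z' ∈ Z₀, z ≠ z' → ζ z s ≠ ζ z' s := by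
      rw [Filter.eventually_all_finset]
      intro z hz
      rw [Filter.eventually_all_finset]
      intro z' hz'
      by_cases hne : z = z'
      · exact Filter.Eventually.of_forall (fun s h => absurd hne h)
      · have c1 := hcont z ((hmemZ z).1 hz)
        have c2 := hcont z' ((hmemZ z').1 hz')
        have v1 : ζ z s₀ = z := (hNζ z ((hmemZ z).1 hz)).2.2.2.1
        have v2 : ζ z' s₀ = z' := (hNζ z' ((hmemZ z').1 hz')).2.2.2.1
        have : ∀ᶠ s in 𝓝 s₀, ζ z s - ζ z' s ≠ 0 :=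
          (c1.sub c2).eventually_ne (by
            change ζ z s₀ - ζ z' s₀ ≠ 0
            rw [v1, v2]; exact sub_ne_zero.2 hne)
        filter_upwards [this] with s hs _
        exact sub_ne_zero.1 hs
    filter_upwards [e1, e2] with s hs1 hs2
    have himg : Z₀.image (fun z => ζ z s) = (P s).roots.toFinset := by
      apply Finset.eq_of_subset_of_card_le
      · intro w hw
        obtain ⟨z, hz, rfl⟩ := Finset.mem_image.1 hw
        rw [Multiset.mem_toFinset, mem_roots (hP0 s)]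
        obtain ⟨-, -, -, -, h5⟩ := hNζ z ((hmemZ z).1 hz)
        obtain ⟨hs', -⟩ := h5 s (hs1 z hz)
        exact hs'.1
      · rw [Finset.card_image_of_injOn]
        · calc (P s).roots.toFinset.card ≤ (P s).roots.card := Multiset.toFinset_card_le _
            _ ≤ (P s).natDegree := card_roots' _
            _ = m := h.natDegree s
            _ = (P s₀).natDegree := (h.natDegree s₀).symm
            _ = (P s₀).roots.card := IsAlgClosed.card_roots_eq_natDegree.symm
            _ = Z₀.card := by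
              rw [hZ₀, Multiset.toFinset_card_of_nodup
                (nodup_roots_of_derivative_ne_zero (hP0 s₀) (hd s₀ hs₀))]
        · intro z hz z' hz' heq
          by_contra hne
          exact hs2 z hz z' hz' hne heq
    have hfib : fiberSet P U M s = (fiberSet P U M s₀).image (fun z => ζ z s) := by
      ext w
      simp only [fiberSet, Finset.mem_filter, Finset.mem_image]
      constructor
      · rintro ⟨hw, hwM⟩
        rw [← himg] at hw
        obtain ⟨z, hz, rfl⟩ := Finset.mem_image.1 hw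
        obtain ⟨-, -, -, -, h5⟩ := hNζ z ((hmemZ z).1 hz)
        obtain ⟨hs', hiff⟩ := h5 s (hs1 z hz)
        refine ⟨z, ⟨hz, ?_⟩, rfl⟩
        obtain ⟨hh, hm⟩ := hwM
        exact hiff.1 hm
      · rintro ⟨z, ⟨hz, hzM⟩, rfl⟩
        obtain ⟨-, -, -, -, h5⟩ := hNζ z ((hmemZ z).1 hz)
        obtain ⟨hs', hiff⟩ := h5 s (hs1 z hz)
        refine ⟨?_, hs', hiff.2 hzM⟩
        rw [← himg]
        exact Finset.mem_image_of_mem _ hz
    unfold fiberPoly
    rw [hfib, Finset.prod_image]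
    intro z hz z' hz' heq
    by_contra hne
    exact hs2 z (Finset.mem_filter.1 hz).1 z' (Finset.mem_filter.1 hz').1 hne heq

lemma isRoot_of_mem_fiberSet {U : Set B} {M : Set (Sheets P U)} {s : B} {z : ℂ}
    (hz : z ∈ fiberSet P U M s) : (P s).IsRoot z := by
  classical
  obtain ⟨h, -⟩ := (Finset.mem_filter.1 hz).2
  exact h.1

/-- An induction principle for coefficients of products of linear factors. -/
lemma coeff_prod_X_sub_C_induction {ι B : Type*} (Pr : (B → ℂ) → Prop)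
    (hconst : ∀ c, Pr (fun _ => c)) (hsub : ∀ f g, Pr f → Pr g → Pr (fun s => f s - g s))
    (hmul : ∀ f g, Pr f → Pr g → Pr (fun s => f s * g s))
    (I : Finset ι) (ζ : ι → B → ℂ) (hζ : ∀ i ∈ I, Pr (ζ i)) :
    ∀ k, Pr (fun s => (∏ i ∈ I, (X - C (ζ i s))).coeff k) := by
  classical
  induction I using Finset.induction_on with
  | empty =>
    intro k
    simp only [Finset.prod_empty, coeff_one]
    exact hconst _
  | insert a I ha ih =>
    intro k
    have ih' := ih (fun i hi => hζ i (Finset.mem_insert_of_mem hi))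
    have hPa := hζ a (Finset.mem_insert_self a I)
    cases k with
    | zero =>
      have : (fun s => (∏ i ∈ insert a I, (X - C (ζ i s))).coeff 0)
          = fun s => (fun _ => (0 : ℂ)) s - ζ a s * (∏ i ∈ I, (X - C (ζ i s))).coeff 0 := by
        funext s
        rw [Finset.prod_insert ha, mul_coeff_zero]
        simp
      rw [this]
      exact hsub _ _ (hconst 0) (hmul _ _ hPa (ih' 0))
    | succ k =>
      have : (fun s => (∏ i ∈ insert a I, (X - C (ζ i s))).coeff (k + 1))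
          = fun s => (∏ i ∈ I, (X - C (ζ i s))).coeff k
              - ζ a s * (∏ i ∈ I, (X - C (ζ i s))).coeff (k + 1) := by
        funext s
        rw [Finset.prod_insert ha, sub_mul, coeff_sub, coeff_X_mul, coeff_C_mul]
      rw [this]
      exact hsub _ _ (ih' k) (hmul _ _ hPa (ih' (k + 1)))

/-- The coefficients of the fibre polynomial of a clopen set of sheets are continuous. -/
theorem IsContFamily.continuousAt_coeff_fiberPoly (h : IsContFamily P m) {U : Set B}
    (hU : IsOpen U) (hd : ∀ s ∈ U, ∀ z, (P s).IsRoot z → (P s).derivative.eval z ≠ 0)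
    {M : Set (Sheets P U)} (hM : IsClopen M) {s₀ : B} (hs₀ : s₀ ∈ U) (k : ℕ) :
    ContinuousAt (fun s => (fiberPoly P U M s).coeff k) s₀ := by
  obtain ⟨ζ, hζ, hev⟩ := h.fiberPoly_local hU hd hM hs₀
  have : ContinuousAt (fun s => (∏ z ∈ fiberSet P U M s₀, (X - C (ζ z s))).coeff k) s₀ :=
    coeff_prod_X_sub_C_induction (fun f => ContinuousAt f s₀) (fun c => continuousAt_const)
      (fun f g hf hg => hf.sub hg) (fun f g hf hg => hf.mul hg) _ ζ
      (fun z hz => (hζ z (isRoot_of_mem_fiberSet hz)).1) k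
  exact this.congr (hev.mono (fun s hs => by simp only [hs]))

lemma norm_coeff_prod_X_sub_C_le (I : Finset ℂ) {R : ℝ} (hR : 0 ≤ R) (hI : ∀ z ∈ I, ‖z‖ ≤ R) :
    ∀ k, ‖(∏ z ∈ I, (X - C z)).coeff k‖ ≤ (1 + R) ^ I.card := by
  classical
  induction I using Finset.induction_on with
  | empty =>
    intro k
    simp only [Finset.prod_empty, coeff_one, Finset.card_empty, pow_zero]
    split_ifs <;> simp
  | insert a I ha ih =>
    intro k
    have ih' := ih (fun z hz => hI z (Finset.mem_insert_of_mem hz))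
    have hna : ‖a‖ ≤ R := hI a (Finset.mem_insert_self a I)
    rw [Finset.card_insert_of_notMem ha, Finset.prod_insert ha, pow_succ]
    cases k with
    | zero =>
      rw [mul_coeff_zero]
      simp only [coeff_sub, coeff_X_zero, coeff_C_zero, zero_sub, neg_mul, norm_neg, norm_mul]
      calc ‖a‖ * ‖(∏ z ∈ I, (X - C z)).coeff 0‖ ≤ R * (1 + R) ^ I.card :=
            mul_le_mul hna (ih' 0) (norm_nonneg _) hR
        _ ≤ (1 + R) ^ I.card * (1 + R) := by
            have : 0 ≤ (1 + R) ^ I.card := by positivity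
            nlinarith
    | succ k =>
      rw [sub_mul, coeff_sub, coeff_X_mul, coeff_C_mul]
      calc ‖(∏ z ∈ I, (X - C z)).coeff k - a * (∏ z ∈ I, (X - C z)).coeff (k + 1)‖
          ≤ ‖(∏ z ∈ I, (X - C z)).coeff k‖ + ‖a * (∏ z ∈ I, (X - C z)).coeff (k + 1)‖ :=
            norm_sub_le _ _
        _ ≤ (1 + R) ^ I.card + R * (1 + R) ^ I.card := by
            rw [norm_mul]
            exact add_le_add (ih' k) (mul_le_mul hna (ih' (k + 1)) (norm_nonneg _) hR)
        _ = (1 + R) ^ I.card * (1 + R) := by ring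

/-- Growth of the coefficients of fibre polynomials in terms of a bound for the roots. -/
lemma IsContFamily.norm_coeff_fiberPoly_le (h : IsContFamily P m) {U : Set B}
    (M : Set (Sheets P U)) (s : B) {R : ℝ} (hR : 0 ≤ R) (hroots : ∀ z, (P s).IsRoot z → ‖z‖ ≤ R)
    (k : ℕ) : ‖(fiberPoly P U M s).coeff k‖ ≤ (1 + R) ^ m := by
  classical
  refine (norm_coeff_prod_X_sub_C_le _ hR
    (fun z hz => hroots z (isRoot_of_mem_fiberSet hz)) k).trans ?_
  apply pow_le_pow_right₀ (by linarith)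
  calc (fiberSet P U M s).card ≤ (P s).roots.toFinset.card :=
        Finset.card_le_card (Finset.filter_subset _ _)
    _ ≤ (P s).roots.card := Multiset.toFinset_card_le _
    _ ≤ (P s).natDegree := card_roots' _
    _ = m := h.natDegree s

end General

section OneVariable

lemma hasDerivAt_mul_of_eq_zero {W g : ℂ → ℂ} {W' s₀ : ℂ} (hW : HasDerivAt W W' s₀)
    (h0 : W s₀ = 0) (hg : ContinuousAt g s₀) :
    HasDerivAt (fun s => W s * g s) (W' * g s₀) s₀ := by
  rw [hasDerivAt_iff_tendsto_slope] at hW ⊢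
  have : slope (fun s => W s * g s) s₀ = fun s => slope W s₀ s * g s := by
    funext s
    simp only [slope, vsub_eq_sub, smul_eq_mul, h0, zero_mul, sub_zero]
    ring
  rw [this]
  exact hW.mul (hg.tendsto.mono_left nhdsWithin_le_nhds)

variable {P : ℂ → ℂ[X]} {m : ℕ}

/-- A continuous root function through a simple root of a holomorphic family is holomorphic. -/
theorem IsContFamily.differentiableAt_root (h : IsContFamily P m) {s₀ : ℂ}
    (hdiff : ∀ j, DifferentiableAt ℂ (fun s => (P s).coeff j) s₀) {ζ : ℂ → ℂ}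
    (hζ : ContinuousAt ζ s₀) (hroot : ∀ᶠ s in 𝓝 s₀, (P s).IsRoot (ζ s))
    (hd : (P s₀).derivative.eval (ζ s₀) ≠ 0) : DifferentiableAt ℂ ζ s₀ := by
  set z₀ := ζ s₀ with hz₀
  have hlt : ∀ y, (P y).natDegree < m + 1 := fun y => by rw [h.natDegree]; omega
  let W : ℂ → ℂ := fun s => (P s).eval z₀
  have hWd : DifferentiableAt ℂ W s₀ := by
    have : W = fun s => ∑ j ∈ range (m + 1), (P s).coeff j * z₀ ^ j := by
      funext s
      exact eval_eq_sum_range' (hlt s) _
    rw [this]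
    exact DifferentiableAt.fun_sum (fun j _ => (hdiff j).mul_const _)
  have hW0 : W s₀ = 0 := hroot.self_of_nhds
  have hdd_def : ∃ dd : ℂ → ℂ, dd = fun s => ddN (m + 1) (P s) (ζ s) z₀ := ⟨_, rfl⟩
  obtain ⟨dd, hdd⟩ := hdd_def
  have hddc : ContinuousAt dd s₀ := by
    have h1 : ContinuousAt (fun s => ((s, ζ s, z₀) : ℂ × ℂ × ℂ)) s₀ :=
      continuousAt_id.prodMk (hζ.prodMk continuousAt_const)
    have h2 : Continuous (fun q : ℂ × ℂ × ℂ => ddN (m + 1) (P q.1) q.2.1 q.2.2) :=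
      h.continuous_ddN
    have h3 := h2.continuousAt.comp h1
    rw [hdd]
    exact h3
  have hdd0 : dd s₀ ≠ 0 := by
    rw [hdd]
    change ddN (m + 1) (P s₀) z₀ z₀ ≠ 0
    rw [ddN_self (hlt s₀)]
    exact hd
  have heq : ζ =ᶠ[𝓝 s₀] fun s => z₀ - W s * (dd s)⁻¹ := by
    filter_upwards [hroot, hddc.eventually_ne hdd0] with s hs hne
    have h1 := eval_sub_eval_eq (hlt s) (ζ s) z₀
    rw [hs.eq_zero, zero_sub] at h1
    have hdds : dd s = ddN (m + 1) (P s) (ζ s) z₀ := by rw [hdd]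
    rw [← hdds] at h1
    have h2 : ζ s - z₀ = (-W s) * (dd s)⁻¹ := by
      rw [eq_mul_inv_iff_mul_eq₀ hne, mul_comm]
      exact h1.symm
    linear_combination h2
  have hder := (hasDerivAt_mul_of_eq_zero hWd.hasDerivAt hW0 (hddc.inv₀ hdd0)).const_sub z₀
  exact hder.differentiableAt.congr_of_eventuallyEq heq

/-- The coefficients of the fibre polynomial of a clopen set of sheets are holomorphic. -/
theorem IsContFamily.differentiableAt_coeff_fiberPoly (h : IsContFamily P m) {U : Set ℂ}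
    (hU : IsOpen U) (hd : ∀ s ∈ U, ∀ z, (P s).IsRoot z → (P s).derivative.eval z ≠ 0)
    {M : Set (Sheets P U)} (hM : IsClopen M) {s₀ : ℂ} (hs₀ : s₀ ∈ U)
    (hdiff : ∀ j, DifferentiableAt ℂ (fun s => (P s).coeff j) s₀) (k : ℕ) :
    DifferentiableAt ℂ (fun s => (fiberPoly P U M s).coeff k) s₀ := by
  obtain ⟨ζ, hζ, hev⟩ := h.fiberPoly_local hU hd hM hs₀
  have hζd : ∀ z ∈ fiberSet P U M s₀, DifferentiableAt ℂ (ζ z) s₀ := by
    intro z hz
    obtain ⟨h1, h2, h3⟩ := hζ z (isRoot_of_mem_fiberSet hz)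
    refine h.differentiableAt_root hdiff h1 h3 ?_
    rw [h2]
    exact hd s₀ hs₀ z (isRoot_of_mem_fiberSet hz)
  have : DifferentiableAt ℂ
      (fun s => (∏ z ∈ fiberSet P U M s₀, (X - C (ζ z s))).coeff k) s₀ :=
    coeff_prod_X_sub_C_induction (fun f => DifferentiableAt ℂ f s₀)
      (fun c => differentiableAt_const c)
      (fun f g hf hg => hf.sub hg) (fun f g hf hg => hf.mul hg) _ ζ hζd k
  exact this.congr_of_eventuallyEq (hev.mono (fun s hs => by simp only [hs]))

lemma norm_eval_le_of_natDegree_le {q : ℂ[X]} {E : ℕ} (hq : q.natDegree ≤ E) (s : ℂ) :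
    ‖q.eval s‖ ≤ (∑ i ∈ range (E + 1), ‖q.coeff i‖) * (1 + ‖s‖) ^ E := by
  rw [eval_eq_sum_range' (Nat.lt_succ_of_le hq), Finset.sum_mul]
  refine (norm_sum_le _ _).trans (Finset.sum_le_sum fun i hi => ?_)
  rw [norm_mul, norm_pow]
  have hi' : i ≤ E := Nat.lt_succ_iff.1 (Finset.mem_range.1 hi)
  have h1 : ‖s‖ ^ i ≤ (1 + ‖s‖) ^ E := by
    calc ‖s‖ ^ i ≤ (1 + ‖s‖) ^ i :=
          pow_le_pow_left₀ (norm_nonneg _) (by linarith [norm_nonneg s]) i
      _ ≤ (1 + ‖s‖) ^ E := pow_le_pow_right₀ (by linarith [norm_nonneg s]) hi'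
  exact mul_le_mul_of_nonneg_left h1 (norm_nonneg _)

open scoped NNReal in
lemma norm_le_of_isRoot_of_coeff_le {q : ℂ[X]} (hq : q.Monic) {K : ℝ} (hK0 : 0 ≤ K)
    (hK : ∀ j < q.natDegree, ‖q.coeff j‖ ≤ K) {z : ℂ} (hz : q.IsRoot z) : ‖z‖ ≤ K + 1 := by
  have h1 := hz.norm_lt_cauchyBound hq.ne_zero
  have h2 : cauchyBound q ≤ K.toNNReal + 1 := by
    unfold cauchyBound
    rw [hq.leadingCoeff, nnnorm_one, div_one]
    gcongr
    refine Finset.sup_le (fun j hj => ?_)
    rw [← NNReal.coe_le_coe, Real.coe_toNNReal K hK0]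
    exact hK j (Finset.mem_range.1 hj)
  have h3 : ((‖z‖₊ : ℝ≥0) : ℝ) ≤ ((K.toNNReal + 1 : ℝ≥0) : ℝ) :=
    NNReal.coe_le_coe.2 (lt_of_lt_of_le h1 h2).le
  rw [NNReal.coe_add, Real.coe_toNNReal K hK0] at h3
  simpa using h3

/-- The coefficients of the fibre polynomials of a clopen set of sheets of a polynomial family
over the complement of a finite set are polynomials of bounded degree. -/
theorem sheets_coeff_polynomial (Q₁ : ℂ[X][X]) (hQ : Q₁.Monic) (E : ℕ)
    (hE : ∀ j, (Q₁.coeff j).natDegree ≤ E) (S : Finset ℂ) {P : ℂ → ℂ[X]}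
    (hP : ∀ s, P s = Q₁.map (evalRingHom s))
    (hsep : ∀ s ∉ S, ∀ z, (P s).IsRoot z → (P s).derivative.eval z ≠ 0)
    (M : Set (Sheets P (↑S : Set ℂ)ᶜ)) (hM : IsClopen M)
    (k : ℕ) :
    ∃ p : ℂ[X], p.natDegree ≤ Q₁.natDegree * E ∧ ∀ s ∉ S,
      (fiberPoly P (↑S : Set ℂ)ᶜ M s).coeff k = p.eval s := by
  set m := Q₁.natDegree with hm
  have hcoeff : ∀ j s, (P s).coeff j = (Q₁.coeff j).eval s := by
    intro j s
    simp only [hP, coeff_map, coe_evalRingHom]
  have hfam : IsContFamily P m :=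
    { monic := fun s => by rw [hP]; exact hQ.map _
      natDegree := fun s => by rw [hP]; exact hQ.natDegree_map _
      cont := fun j => by
        have : (fun s => (P s).coeff j) = fun s => (Q₁.coeff j).eval s := funext (hcoeff j)
        rw [this]
        exact (Q₁.coeff j).continuous }
  have hU : IsOpen ((↑S : Set ℂ)ᶜ) := S.finite_toSet.isClosed.isOpen_compl
  have hd : ∀ s ∈ (↑S : Set ℂ)ᶜ, ∀ z, (P s).IsRoot z → (P s).derivative.eval z ≠ 0 :=
    fun s hs => hsep s (by simpa using hs)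
  set C₁ : ℝ := ∑ j ∈ range m, ∑ i ∈ range (E + 1), ‖(Q₁.coeff j).coeff i‖ with hC₁def
  have hC₁ : 0 ≤ C₁ := by positivity
  apply exists_polynomial_of_growth_off_finset S (C := (C₁ + 2) ^ m) (N := m * E)
  · intro s hs
    refine (hfam.differentiableAt_coeff_fiberPoly hU hd hM hs (fun j => ?_)
      k).differentiableWithinAt
    have : (fun s => (P s).coeff j) = fun s => (Q₁.coeff j).eval s := funext (hcoeff j)
    rw [this]
    exact (Q₁.coeff j).differentiable.differentiableAt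
  · intro s hs
    have hK : ∀ j < (P s).natDegree, ‖(P s).coeff j‖ ≤ C₁ * (1 + ‖s‖) ^ E := by
      intro j hj
      rw [hfam.natDegree s] at hj
      rw [hcoeff]
      refine (norm_eval_le_of_natDegree_le (hE j) s).trans ?_
      apply mul_le_mul_of_nonneg_right _ (by positivity)
      exact Finset.single_le_sum
        (f := fun j => ∑ i ∈ range (E + 1), ‖(Q₁.coeff j).coeff i‖)
        (fun _ _ => by positivity) (Finset.mem_range.2 hj)
    have hroots : ∀ z, (P s).IsRoot z → ‖z‖ ≤ C₁ * (1 + ‖s‖) ^ E + 1 :=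
      fun z hz => norm_le_of_isRoot_of_coeff_le (hfam.monic s) (by positivity) hK hz
    refine (hfam.norm_coeff_fiberPoly_le M s (by positivity) hroots k).trans ?_
    rw [pow_mul', ← mul_pow]
    apply pow_le_pow_left₀ (by positivity)
    have h1 : 1 ≤ (1 + ‖s‖) ^ E := one_le_pow₀ (by linarith [norm_nonneg s])
    nlinarith

end OneVariable

end Groth.Agent.H21
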