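import Groth.Prelude.Def_EtBase
import Mathlib.CategoryTheory.Sites.ConstantSheaf
import Mathlib.CategoryTheory.Sites.LocallyBijective
import Mathlib.AlgebraicGeometry.Morphisms.UniversallyOpen
import Mathlib.AlgebraicGeometry.Morphisms.Flat

/-!
# Element-level API for constant abelian sheaves on the small étale site (helper21)
-/

set_option autoImplicit false
universe u
open CategoryTheory CategoryTheory.Limits AlgebraicGeometry Opposite

namespace Groth.Agent.H21.ConstSec

variable {X : Scheme.{u}}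

/-- sections of an abelian sheaf over `V` -/
abbrev Sec (F : EtCoh.Ab X) (V : X.Etale) : Type (u + 1) := ↑(F.obj.obj (op V))

/-- restriction of sections, as an additive map -/
def res (F : EtCoh.Ab X) {V W : X.Etale} (g : W ⟶ V) : Sec F V →+ Sec F W :=
  (F.obj.map g.op).hom

variable (F : EtCoh.Ab X)

@[simp] lemma res_id (V : X.Etale) (s : Sec F V) : res F (𝟙 V) s = s := by
  simp [res]

lemma res_res {V W Z : X.Etale} (g : W ⟶ V) (h : Z ⟶ W) (s : Sec F V) :
    res F h (res F g s) = res F (h ≫ g) s := by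
  simp [res, op_comp, F.obj.map_comp]

/-- a morphism of sheaves on sections, as an additive map -/
def app {F G : EtCoh.Ab X} (p : F ⟶ G) (V : X.Etale) : Sec F V →+ Sec G V :=
  (p.hom.app (op V)).hom

lemma app_res {F G : EtCoh.Ab X} (p : F ⟶ G) {V W : X.Etale} (g : W ⟶ V) (s : Sec F V) :
    app p W (res F g s) = res G g (app p V s) := by
  have := p.hom.naturality g.op
  exact congrArg (fun k => k.hom s) this

/-- separatedness -/
theorem sec_ext {V : X.Etale} (R : Sieve V) (hR : R ∈ X.smallEtaleTopology V) (s t : Sec F V)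
    (h : ∀ ⦃W : X.Etale⦄ (g : W ⟶ V), R g → res F g s = res F g t) : s = t := by
  have hsep := Presheaf.IsSheaf.isSeparated (J := X.smallEtaleTopology) F.property
  exact hsep V R hR s t (fun W g hg => h g hg)

theorem sec_subsingleton_of_bot_mem {V : X.Etale} (h : (⊥ : Sieve V) ∈ X.smallEtaleTopology V)
    (s t : Sec F V) : s = t :=
  sec_ext F ⊥ h s t (fun _ _ hg => hg.elim)

/-- the constant sheaf on an abelian group -/
noncomputable abbrev cst (X : Scheme.{u}) (M : AddCommGrpCat.{u + 1}) : EtCoh.Ab X :=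
  (constantSheaf X.smallEtaleTopology AddCommGrpCat.{u + 1}).obj M

/-- the constant section with value `m` -/
noncomputable def eta (M : AddCommGrpCat.{u + 1}) (V : X.Etale) : ↑M →+ Sec (cst X M) V :=
  ((toSheafify X.smallEtaleTopology ((Functor.const X.Etaleᵒᵖ).obj M)).app (op V)).hom

lemma res_eta (M : AddCommGrpCat.{u + 1}) {V W : X.Etale} (g : W ⟶ V) (m : ↑M) :
    res (cst X M) g (eta M V m) = eta M W m := by
  have := (toSheafify X.smallEtaleTopology ((Functor.const X.Etaleᵒᵖ).obj M)).naturality g.op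
  have h2 := congrArg (fun k => k.hom m) this
  exact h2.symm

/-- constant sections are locally everything -/
lemma eta_locally_surjective (M : AddCommGrpCat.{u + 1}) {V : X.Etale} (s : Sec (cst X M) V) :
    ∃ R : Sieve V, R ∈ X.smallEtaleTopology V ∧ ∀ ⦃W : X.Etale⦄ (g : W ⟶ V), R g →
      ∃ m : ↑M, eta M W m = res (cst X M) g s := by
  refine ⟨_, Presheaf.imageSieve_mem X.smallEtaleTopology
    (toSheafify X.smallEtaleTopology ((Functor.const X.Etaleᵒᵖ).obj M)) s, ?_⟩
  intro W g hg
  obtain ⟨t, ht⟩ := hg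
  exact ⟨t, ht⟩

/-- two constants with the same constant section are equal, unless the object is covered by the
empty sieve -/
lemma eta_injective_or (M : AddCommGrpCat.{u + 1}) {V : X.Etale} (m m' : ↑M)
    (h : eta M V m = eta M V m') : m = m' ∨ (⊥ : Sieve V) ∈ X.smallEtaleTopology V := by
  have hmem := Presheaf.equalizerSieve_mem X.smallEtaleTopology
    (toSheafify X.smallEtaleTopology ((Functor.const X.Etaleᵒᵖ).obj M))
    (X := op V) m m' h
  by_cases hm : m = m'
  · exact Or.inl hm
  · right
    convert hmem using 1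
    ext W g
    constructor
    · intro hg
      exact hg.elim
    · intro hg
      exact (hm (by simpa [Presheaf.equalizerSieve] using hg)).elim


set_option backward.isDefEq.respectTransparency.types false in
/-- covering sieves of the small étale topology are the jointly surjective ones -/
theorem mem_iff {V : X.Etale} (S : Sieve V) :
    S ∈ X.smallEtaleTopology V ↔
      ∀ x : V.left, ∃ (W : X.Etale) (g : W ⟶ V) (w : W.left), S g ∧ g.left w = x := by
  have eX : X.smallEtaleTopology = (X.smallPretopology (P := EtCoh.etaleMP) (Q := EtCoh.etaleMP)).toGrothendieck :=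
    Scheme.smallGrothendieckTopology_eq_toGrothendieck_smallPretopology X le_rfl
  rw [eX]
  constructor
  · intro h x
    obtain ⟨W, g, w, hg, -, hw⟩ := (Scheme.mem_toGrothendieck_smallPretopology V S).1 h x
    exact ⟨W, g, w, hg, hw⟩
  · intro h
    refine (Scheme.mem_toGrothendieck_smallPretopology V S).2 ?_
    intro x
    obtain ⟨W, g, w, hg, hw⟩ := h x
    exact ⟨W, g, w, hg, inferInstanceAs (Etale g.left), hw⟩

theorem bot_mem_iff {V : X.Etale} :
    (⊥ : Sieve V) ∈ X.smallEtaleTopology V ↔ IsEmpty V.left := by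
  rw [mem_iff]
  constructor
  · intro h
    refine ⟨fun x => ?_⟩
    obtain ⟨W, g, w, hg, -⟩ := h x
    exact hg.elim
  · intro h x
    exact (h.false x).elim

set_option backward.isDefEq.respectTransparency.types false in
/-- fibre products in the small étale site have enough points -/
theorem exists_pullback_point {Z T T' : X.Etale} (g : T ⟶ Z) (g' : T' ⟶ Z) (t : T.left) (t' : T'.left)
    (h : g.left t = g'.left t') :
    ∃ (P : X.Etale) (p : P ⟶ T) (p' : P ⟶ T') (x : P.left),
      p ≫ g = p' ≫ g' ∧ p.left x = t ∧ p'.left x = t' := by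
  obtain ⟨x, hx1, hx2⟩ := Scheme.Pullback.exists_preimage_pullback (f := g.left) (g := g'.left) t t' h
  have w1 : g.left ≫ Z.hom = T.hom := Over.w g.hom
  have w2 : g'.left ≫ Z.hom = T'.hom := Over.w g'.hom
  have e1 : (pullback.fst g.left g'.left ≫ T.hom) = pullback.snd g.left g'.left ≫ T'.hom := by
    rw [← w1, ← w2, ← Category.assoc, ← Category.assoc, pullback.condition]
  let P : X.Etale := Scheme.Etale.mk (pullback.fst g.left g'.left ≫ T.hom)
  let p : P ⟶ T := MorphismProperty.Over.homMk (pullback.fst g.left g'.left) rfl trivial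
  let p' : P ⟶ T' := MorphismProperty.Over.homMk (pullback.snd g.left g'.left) e1.symm trivial
  refine ⟨P, p, p', x, ?_, hx1, hx2⟩
  apply MorphismProperty.Over.Hom.ext
  exact pullback.condition


section Val

variable {M : AddCommGrpCat.{u + 1}}

/-- `s` has value `m` at the point `z` -/
def IsVal {Z : X.Etale} (s : Sec (cst X M) Z) (z : Z.left) (m : ↑M) : Prop :=
  ∃ (T : X.Etale) (g : T ⟶ Z) (t : T.left), g.left t = z ∧ res (cst X M) g s = eta M T m

theorem exists_isVal {Z : X.Etale} (s : Sec (cst X M) Z) (z : Z.left) : ∃ m, IsVal s z m := by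
  obtain ⟨R, hR, h⟩ := eta_locally_surjective M s
  obtain ⟨T, g, t, hg, ht⟩ := (mem_iff R).1 hR z
  obtain ⟨m, hm⟩ := h g hg
  exact ⟨m, T, g, t, ht, hm.symm⟩

theorem IsVal.unique {Z : X.Etale} {s : Sec (cst X M) Z} {z : Z.left} {m m' : ↑M}
    (h : IsVal s z m) (h' : IsVal s z m') : m = m' := by
  obtain ⟨T, g, t, ht, hs⟩ := h
  obtain ⟨T', g', t', ht', hs'⟩ := h'
  obtain ⟨P, p, p', x, hpp, -, -⟩ := exists_pullback_point g g' t t' (ht.trans ht'.symm)
  have e1 : eta M P m = eta M P m' := by
    rw [← res_eta M p m, ← hs, res_res, hpp, ← res_res, hs', res_eta]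
  rcases eta_injective_or M m m' e1 with h | h
  · exact h
  · exact ((bot_mem_iff.1 h).false x).elim

theorem IsVal.exists_open {Z : X.Etale} {s : Sec (cst X M) Z} {z : Z.left} {m : ↑M}
    (h : IsVal s z m) : ∃ O : Z.left.Opens, z ∈ O ∧ ∀ z' ∈ O, IsVal s z' m := by
  obtain ⟨T, g, t, ht, hs⟩ := h
  refine ⟨⟨Set.range g.left, g.left.isOpenMap.isOpen_range⟩, ⟨t, ht⟩, ?_⟩
  rintro z' ⟨t', ht'⟩
  exact ⟨T, g, t', ht', hs⟩

theorem eq_eta_of_forall_isVal {Z : X.Etale} (s : Sec (cst X M) Z) (m : ↑M)
    (h : ∀ z, IsVal s z m) : s = eta M Z m := by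
  let R : Sieve Z :=
    { arrows := fun T g => res (cst X M) g s = eta M T m
      downward_closed := by
        intro T T' g hg k
        show res (cst X M) (k ≫ g) s = eta M T' m
        rw [← res_res, hg, res_eta] }
  have hR : R ∈ X.smallEtaleTopology Z := by
    rw [mem_iff]
    intro z
    obtain ⟨T, g, t, ht, hs⟩ := h z
    exact ⟨T, g, t, hs, ht⟩
  refine sec_ext _ R hR _ _ ?_
  intro W g hg
  rw [res_eta]
  exact hg

theorem isVal_eta {Z : X.Etale} (z : Z.left) (m : ↑M) : IsVal (eta M Z m) z m :=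
  ⟨Z, 𝟙 Z, z, rfl, by rw [res_eta]⟩

theorem IsVal.res {Z Z' : X.Etale} {s : Sec (cst X M) Z} (g : Z' ⟶ Z) (z' : Z'.left) {m : ↑M}
    (h : IsVal s (g.left z') m) : IsVal (res (cst X M) g s) z' m := by
  obtain ⟨T, k, t, ht, hs⟩ := h
  obtain ⟨P, p, p', x, hpp, -, hx⟩ := exists_pullback_point k g t z' ht
  refine ⟨P, p', x, hx, ?_⟩
  rw [res_res, ← hpp, ← res_res, hs, res_eta]


end Val

end Groth.Agent.H21.ConstSec
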