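import Groth.Agent.H21.ConstSec

set_option autoImplicit false
universe u
open CategoryTheory CategoryTheory.Limits AlgebraicGeometry Opposite

namespace Groth.Agent.H21.ConstUnit

open Groth.Agent.H21.ConstSec

/-- the terminal object of the small étale site -/
noncomputable def topIsTerminal (X : Scheme.{u}) : IsTerminal (EtCoh.top X) :=
  MorphismProperty.Over.mkIdTerminal EtCoh.etaleMP X

variable {X Y : Scheme.{u}} (f : X ⟶ Y)

noncomputable def bcTopIsTerminal : IsTerminal ((EtCoh.bc f).obj (EtCoh.top Y)) :=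
  (topIsTerminal Y).isTerminalObj (EtCoh.bc f)

noncomputable def bcTopIso : (EtCoh.bc f).obj (EtCoh.top Y) ≅ EtCoh.top X :=
  (bcTopIsTerminal f).uniqueUpToIso (topIsTerminal X)

/-- global sections -/
noncomputable abbrev Γ (X : Scheme.{u}) : EtCoh.Ab X ⥤ AddCommGrpCat.{u + 1} :=
  (sheafSections X.smallEtaleTopology AddCommGrpCat.{u + 1}).obj (op (EtCoh.top X))

/-- constant sheaf functor -/
noncomputable abbrev Δ (X : Scheme.{u}) : AddCommGrpCat.{u + 1} ⥤ EtCoh.Ab X :=
  constantSheaf X.smallEtaleTopology AddCommGrpCat.{u + 1}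

noncomputable def adjΔ (X : Scheme.{u}) : Δ X ⊣ Γ X :=
  constantSheafAdj _ _ (topIsTerminal X)

/-- `Γ_Y ∘ f_* ≅ Γ_X` -/
noncomputable def isoΓ : EtCoh.push f ⋙ Γ Y ≅ Γ X :=
  NatIso.ofComponents (fun F => F.obj.mapIso (bcTopIso f).symm.op) (by
    intro F G p
    exact (p.hom.naturality _).symm)

noncomputable def adj' : Δ Y ⋙ EtCoh.pull f ⊣ Γ X :=
  ((adjΔ Y).comp (EtCoh.pullPushAdj f)).ofNatIsoRight (isoΓ f)

noncomputable def e : Δ Y ⋙ EtCoh.pull f ≅ Δ X := (adj' f).leftAdjointUniq (adjΔ X)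

noncomputable def u (M : AddCommGrpCat.{u + 1}) : cst Y M ⟶ (EtCoh.push f).obj (cst X M) :=
  (EtCoh.pullPushAdj f).unit.app (cst Y M) ≫ (EtCoh.push f).map ((e f).hom.app M)

theorem isIso_unit_iff (M : AddCommGrpCat.{u + 1}) :
    IsIso ((EtCoh.pullPushAdj f).unit.app (cst Y M)) ↔ IsIso (u f M) := by
  unfold u
  constructor
  · intro h
    infer_instance
  · intro h
    exact IsIso.of_isIso_comp_right _ ((EtCoh.push f).map ((e f).hom.app M))

theorem star (M : AddCommGrpCat.{u + 1}) :
    (adjΔ Y).unit.app M ≫ (Γ Y).map (u f M) ≫ (isoΓ f).hom.app (cst X M) = (adjΔ X).unit.app M := by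
  have h := Adjunction.unit_leftAdjointUniq_hom_app (adj' f) (adjΔ X) M
  rw [← h]
  have hn := (isoΓ f).hom.naturality ((e f).hom.app M)
  simp only [Functor.comp_map] at hn
  simp only [adj', u, Adjunction.ofNatIsoRight_unit, NatTrans.comp_app, Adjunction.comp_unit_app,
    Functor.whiskerLeft_app, Category.assoc, Functor.map_comp]
  congr 2

theorem adjΔ_unit (X : Scheme.{u}) (M : AddCommGrpCat.{u + 1}) (m : ↑M) :
    ((adjΔ X).unit.app M).hom m = eta M (EtCoh.top X) m := by
  simp only [adjΔ, constantSheafAdj, Adjunction.comp_unit_app, constantPresheafAdj_unit_app,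
    sheafificationAdjunction_unit_app, evaluation_obj_map, Category.id_comp]
  rfl

/-- the key formula at the terminal object -/
theorem u_eta_top (M : AddCommGrpCat.{u + 1}) (m : ↑M) :
    app (u f M) (EtCoh.top Y) (eta M (EtCoh.top Y) m) =
      eta M ((EtCoh.bc f).obj (EtCoh.top Y)) m := by
  have h := star f M
  have h2 := congrArg (fun k => k.hom m) h
  simp only [AddCommGrpCat.hom_comp, AddMonoidHom.coe_comp, Function.comp_apply, adjΔ_unit] at h2
  have key : ∀ x : Sec (cst X M) ((EtCoh.bc f).obj (EtCoh.top Y)),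
      res (cst X M) (bcTopIso f).inv x = eta M (EtCoh.top X) m →
      x = eta M ((EtCoh.bc f).obj (EtCoh.top Y)) m := by
    intro x hx
    have h4 := congrArg (res (cst X M) (bcTopIso f).hom) hx
    rw [res_res, Iso.hom_inv_id, res_id, res_eta] at h4
    exact h4
  exact key _ h2

/-- the key formula -/
theorem u_eta (M : AddCommGrpCat.{u + 1}) (W : Y.Etale) (m : ↑M) :
    app (u f M) W (eta M W m) = eta M ((EtCoh.bc f).obj W) m := by
  have h1 := app_res (u f M) ((topIsTerminal Y).from W) (eta M (EtCoh.top Y) m)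
  rw [res_eta, u_eta_top] at h1
  rw [h1]
  exact res_eta M ((EtCoh.bc f).map ((topIsTerminal Y).from W)) m

instance hasSheafCompose_forget (Y : Scheme.{u}) :
    Y.smallEtaleTopology.HasSheafCompose (forget AddCommGrpCat.{u + 1}) := by
  have : PreservesLimitsOfSize.{u, u + 1} (forget AddCommGrpCat.{u + 1}) :=
    preservesLimitsOfSize_of_univLE.{u + 1, u + 1, u, u + 1} _
  infer_instance

/-- criterion for the unit at a constant sheaf to be an isomorphism -/
theorem isIso_u_of (M : AddCommGrpCat.{u + 1})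
    (H1 : ∀ V : Y.Etale, IsEmpty ((EtCoh.bc f).obj V).left → IsEmpty V.left)
    (H2 : ∀ (V : Y.Etale) (s : Sec (cst X M) ((EtCoh.bc f).obj V)) (v : V.left),
      ∃ (W : Y.Etale) (g : W ⟶ V) (w : W.left) (m : ↑M), g.left w = v ∧
        res (cst X M) ((EtCoh.bc f).map g) s = eta M ((EtCoh.bc f).obj W) m) :
    IsIso (u f M) := by
  refine (Sheaf.isLocallyBijective_iff_isIso (u f M)).1 ⟨?_, ?_⟩
  · constructor
    intro V x y hxy
    rw [mem_iff]
    intro v
    obtain ⟨Rx, hRx, hx⟩ := eta_locally_surjective M (V := V.unop) x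
    obtain ⟨Ry, hRy, hy⟩ := eta_locally_surjective M (V := V.unop) y
    have hR := Y.smallEtaleTopology.intersection_covering hRx hRy
    obtain ⟨W, g, w, hg, hw⟩ := (mem_iff _).1 hR v
    obtain ⟨m, hm⟩ := hx g hg.1
    obtain ⟨m', hm'⟩ := hy g hg.2
    refine ⟨W, g, w, ?_, hw⟩
    have e1 : app (u f M) W (res (cst Y M) g x) = app (u f M) W (res (cst Y M) g y) := by
      rw [app_res, app_res]
      exact congrArg _ hxy
    rw [← hm, ← hm', u_eta, u_eta] at e1
    rcases eta_injective_or M m m' e1 with h | h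
    · show res (cst Y M) g x = res (cst Y M) g y
      rw [← hm, ← hm', h]
    · exact ((H1 W (bot_mem_iff.1 h)).false w).elim
  · constructor
    intro V s
    rw [mem_iff]
    intro v
    obtain ⟨W, g, w, m, hw, hs⟩ := H2 V s v
    refine ⟨W, g, w, ⟨eta M W m, ?_⟩, hw⟩
    have := u_eta f M W m
    exact this.trans hs.symm

section Geom

variable {X Y : Scheme.{u}}

/-- over a preconnected étale scheme, every section of a constant sheaf is constant -/
theorem exists_eq_eta_of_preconnected {M : AddCommGrpCat.{u + 1}} (Z : X.Etale)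
    [PreconnectedSpace Z.left] (s : Sec (cst X M) Z) : ∃ m, s = eta M Z m := by
  by_cases hZ : IsEmpty Z.left
  · exact ⟨0, sec_subsingleton_of_bot_mem _ (bot_mem_iff.2 hZ) _ _⟩
  · rw [not_isEmpty_iff] at hZ
    obtain ⟨z₀⟩ := hZ
    obtain ⟨m, hm⟩ := exists_isVal s z₀
    refine ⟨m, eq_eta_of_forall_isVal s m ?_⟩
    have hopen : ∀ m', IsOpen {z | IsVal s z m'} := by
      intro m'
      rw [isOpen_iff_forall_mem_open]
      intro z hz
      obtain ⟨O, hzO, hO⟩ := IsVal.exists_open hz
      exact ⟨O, fun z' hz' => hO z' hz', O.isOpen, hzO⟩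
    have hcl : IsClopen {z | IsVal s z m} := by
      refine ⟨?_, hopen m⟩
      rw [← isOpen_compl_iff]
      have : {z | IsVal s z m}ᶜ = ⋃ m' : {m' : ↑M // m' ≠ m}, {z | IsVal s z m'.1} := by
        ext z
        simp only [Set.mem_compl_iff, Set.mem_ofPred_eq, Set.mem_iUnion]
        constructor
        · intro hz
          obtain ⟨m', hm'⟩ := exists_isVal s z
          exact ⟨⟨m', fun h => hz (h ▸ hm')⟩, hm'⟩
        · rintro ⟨⟨m', hne⟩, hm'⟩ hz
          exact hne (hm'.unique hz)
      rw [this]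
      exact isOpen_iUnion fun m' => hopen m'.1
    have := hcl.eq_univ ⟨z₀, hm⟩
    intro z
    have hz : z ∈ {z | IsVal s z m} := this ▸ Set.mem_univ z
    exact hz

set_option backward.isDefEq.respectTransparency.types false in
/-- geometric criterion: `f` has dense range, and every point of an étale `Y`-scheme has an open
neighbourhood whose base change along `f` is preconnected -/
theorem isIso_unit_of_geom (f : X ⟶ Y) (M : AddCommGrpCat.{u + 1})
    (hd : DenseRange f)
    (hc : ∀ (V : Y.Etale) (v : V.left), ∃ W : V.left.Opens, v ∈ W ∧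
      PreconnectedSpace ↥(pullback (W.ι ≫ V.hom) f)) :
    IsIso ((EtCoh.pullPushAdj f).unit.app (cst Y M)) := by
  rw [isIso_unit_iff]
  apply isIso_u_of
  · intro V hV
    by_contra hne
    rw [not_isEmpty_iff] at hne
    obtain ⟨v⟩ := hne
    have hopen : IsOpen (Set.range V.hom) := V.hom.isOpenMap.isOpen_range
    obtain ⟨_, ⟨v', rfl⟩, ⟨x, hx⟩⟩ := hd.inter_open_nonempty _ hopen ⟨_, v, rfl⟩
    obtain ⟨z, -, -⟩ := Scheme.Pullback.exists_preimage_pullback (f := V.hom) (g := f) v' x hx.symm
    exact hV.false z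
  · intro V s v
    obtain ⟨W, hvW, hW⟩ := hc V v
    let W' : Y.Etale := Scheme.Etale.mk (W.ι ≫ V.hom)
    let g : W' ⟶ V := MorphismProperty.Over.homMk W.ι rfl trivial
    have : PreconnectedSpace ((EtCoh.bc f).obj W').left := hW
    obtain ⟨m, hm⟩ := exists_eq_eta_of_preconnected ((EtCoh.bc f).obj W')
      (res (cst X M) ((EtCoh.bc f).map g) s)
    exact ⟨W', g, ⟨v, hvW⟩, m, rfl, hm⟩


end Geom

end Groth.Agent.H21.ConstUnit
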