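import Groth.Agent.H21.FEtNormal2
import Groth.Agent.H21.EtNbhd

/-!
# Étale schemes with domain stalks over an integral scheme: decomposition into irreducible opens
-/

set_option autoImplicit false
universe u
open CategoryTheory CategoryTheory.Limits AlgebraicGeometry TopologicalSpace

namespace Groth.Agent.H21.EtNormalSplit

open Groth.Agent.H21.FEtNormal

variable {U X : Scheme.{u}}

/-- A point of the generic fibre specializing to `u` is `beta u` (locally quasi-finite version). -/
theorem eq_beta_of_specializes' (g : U ⟶ X) [IsIntegral X] [LocallyQuasiFinite g] [Flat g]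
    (hU : ∀ u : U, IsDomain (U.presheaf.stalk u)) (u t : U) (ht : g t = genericPoint X)
    (htu : t ⤳ u) : t = beta u :=
  (eq_of_specializes_of_mem_fibre g _ (map_beta_eq_genericPoint g hU u) ht
    (beta_specializes_of_specializes u htu)).symm

set_option backward.isDefEq.respectTransparency.types false in
/-- Every point has a neighbourhood meeting the generic fibre in a finite set. -/
theorem exists_nhd_finite_inter_fibre (g : U ⟶ X) [IsIntegral X] [Etale g] (u : U) :
    ∃ N : U.Opens, u ∈ N ∧ ((N : Set U) ∩ g ⁻¹' {genericPoint X}).Finite := by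
  obtain ⟨_, ⟨V, hV0, rfl⟩, hsV, -⟩ :=
    X.isBasis_affineOpens.exists_subset_of_mem_open (Set.mem_univ (g u)) isOpen_univ
  obtain ⟨_, ⟨N, hN0, rfl⟩, hxN, hNV⟩ :=
    U.isBasis_affineOpens.exists_subset_of_mem_open (show u ∈ (g ⁻¹ᵁ V : Set U) from hsV)
      (g ⁻¹ᵁ V).isOpen
  have hV : IsAffineOpen V := hV0
  have hN : IsAffineOpen N := hN0
  have e : N ≤ g ⁻¹ᵁ V := hNV
  refine ⟨N, hxN, ?_⟩
  have : IsAffine (N : Scheme.{u}) := hN
  have : IsAffine (V : Scheme.{u}) := hV
  have hEt : Etale (g.resLE V N e) := by
    refine MorphismProperty.of_postcomp (W := @Etale) (W' := @Etale) (g.resLE V N e) (Scheme.Opens.ι V)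
      inferInstance ?_
    rw [Scheme.Hom.resLE_comp_ι]
    infer_instance
  have hqf : LocallyQuasiFinite (g.resLE V N e) :=
    Groth.Agent.H21.EtNbhd.locallyQuasiFinite_of_unramified' _
  have hηV : genericPoint X ∈ V :=
    ((genericPoint_spec X).mem_open_set_iff V.isOpen).mpr ⟨g u, ⟨Set.mem_univ _, hsV⟩⟩
  have hfin := (g.resLE V N e).finite_preimage_singleton ⟨genericPoint X, hηV⟩
  refine (hfin.image (Scheme.Opens.ι N)).subset ?_
  rintro t ⟨htN, htη⟩
  have htr : t ∈ Set.range (Scheme.Opens.ι N) := by
    rw [Scheme.Opens.range_ι]; exact htN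
  obtain ⟨y, rfl⟩ := htr
  refine ⟨y, ?_, rfl⟩
  simp only [Set.mem_preimage, Set.mem_singleton_iff]
  apply (Scheme.Opens.ι V).injective
  rw [← Scheme.Hom.comp_apply, Scheme.Hom.resLE_comp_ι, Scheme.Hom.comp_apply]
  exact htη

/-- The closures of the points of the generic fibre form a locally finite family. -/
theorem locallyFinite_closure (g : U ⟶ X) [IsIntegral X] [Etale g] :
    LocallyFinite (fun t : {t : U // g t = genericPoint X} => closure ({t.1} : Set U)) := by
  intro u
  obtain ⟨N, huN, hfin⟩ := exists_nhd_finite_inter_fibre g u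
  refine ⟨N, N.isOpen.mem_nhds huN, ?_⟩
  have hinj : Function.Injective (fun t : {t : U // g t = genericPoint X} => t.1) :=
    Subtype.val_injective
  refine Set.Finite.of_finite_image (f := fun t : {t : U // g t = genericPoint X} => t.1)
    (hfin.subset ?_) hinj.injOn
  rintro _ ⟨t, ⟨y, hy1, hy2⟩, rfl⟩
  have hsp : t.1 ⤳ y := specializes_iff_mem_closure.mpr hy1
  exact ⟨hsp.mem_open N.isOpen hy2, t.2⟩

/-- The closure of a point of the generic fibre is open. -/
theorem isOpen_closure_singleton (g : U ⟶ X) [IsIntegral X] [Etale g]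
    (hU : ∀ u : U, IsDomain (U.presheaf.stalk u)) (t : U) (ht : g t = genericPoint X) :
    IsOpen (closure ({t} : Set U)) := by
  have hqf : LocallyQuasiFinite g := Groth.Agent.H21.EtNbhd.locallyQuasiFinite_of_unramified' _
  have hcover : ∀ y, y ∈ closure ({beta y} : Set U) := fun y =>
    specializes_iff_mem_closure.mp (beta_specializes y)
  have hcompl : (closure ({t} : Set U))ᶜ =
      ⋃ t' : {t' : {t : U // g t = genericPoint X} // t'.1 ≠ t}, closure ({t'.1.1} : Set U) := by
    ext y
    simp only [Set.mem_compl_iff, Set.mem_iUnion]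
    constructor
    · intro hy
      refine ⟨⟨⟨beta y, map_beta_eq_genericPoint g hU y⟩, ?_⟩, hcover y⟩
      intro hbt
      exact hy (hbt ▸ hcover y)
    · rintro ⟨⟨⟨t', ht'T⟩, ht'ne⟩, hy⟩ hyt
      have e1 := eq_beta_of_specializes' g hU y t' ht'T (specializes_iff_mem_closure.mpr hy)
      have e2 := eq_beta_of_specializes' g hU y t ht (specializes_iff_mem_closure.mpr hyt)
      exact ht'ne (e1.trans e2.symm)
  rw [← isClosed_compl_iff, hcompl]
  exact ((locallyFinite_closure g).comp_injective Subtype.val_injective).isClosed_iUnion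
    (fun _ => isClosed_closure)

/-- The closures of two distinct points of the generic fibre are disjoint. -/
theorem disjoint_closure_singleton (g : U ⟶ X) [IsIntegral X] [Etale g]
    (hU : ∀ u : U, IsDomain (U.presheaf.stalk u)) {t t' : U} (ht : g t = genericPoint X)
    (ht' : g t' = genericPoint X) (hne : t ≠ t') :
    Disjoint (closure ({t} : Set U)) (closure ({t'} : Set U)) := by
  have hqf : LocallyQuasiFinite g := Groth.Agent.H21.EtNbhd.locallyQuasiFinite_of_unramified' _
  rw [Set.disjoint_left]
  intro y hy hy'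
  have e1 := eq_beta_of_specializes' g hU y t ht (specializes_iff_mem_closure.mpr hy)
  have e2 := eq_beta_of_specializes' g hU y t' ht' (specializes_iff_mem_closure.mpr hy')
  exact hne (e1.trans e2.symm)

/-- The only point of `closure {t}` in the generic fibre is `t`. -/
theorem eq_of_mem_closure_of_mem_fibre (g : U ⟶ X) [IsIntegral X] [Etale g]
    {t y : U} (ht : g t = genericPoint X) (hy : g y = genericPoint X)
    (hyt : y ∈ closure ({t} : Set U)) : y = t := by
  have hqf : LocallyQuasiFinite g := Groth.Agent.H21.EtNbhd.locallyQuasiFinite_of_unramified' _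
  exact (eq_of_specializes_of_mem_fibre g _ ht hy (specializes_iff_mem_closure.mpr hyt)).symm

end Groth.Agent.H21.EtNormalSplit
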