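import Groth.Agent.H21.ConstUnit
import Groth.Agent.H21.EtNormalSplitA
import Groth.Agent.H20.EtaleNormal

set_option autoImplicit false
universe u
open CategoryTheory CategoryTheory.Limits AlgebraicGeometry Opposite

namespace Groth.Agent.H21.ConstUnitGeom

open Groth.Agent.H21.ConstSec Groth.Agent.H21.ConstUnit Groth.Agent.H21.FEtNormal
  Groth.Agent.H21.EtNormalSplit

variable {X Y V : Scheme.{u}}

/-- étale over an integral normal scheme: every point has an open neighbourhood which is the
closure of a point of the generic fibre -/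
theorem exists_irreducible_nhd [IsIntegral Y]
    (hN : ∀ y : Y, IsIntegrallyClosed (Y.presheaf.stalk y)) (g : V ⟶ Y) [Etale g] (v : V) :
    ∃ (W : V.Opens) (t : V), v ∈ W ∧ (W : Set V) = closure {t} ∧ g t = genericPoint Y := by
  have hV : ∀ y : V, IsDomain (V.presheaf.stalk y) := fun y =>
    (Groth.Agent.H20.isDomain_and_isIntegrallyClosed_stalk_of_etale g y
      ⟨inferInstance, hN _⟩).1
  have := hV v
  have ht : g (beta v) = genericPoint Y := map_beta_eq_genericPoint g hV v
  refine ⟨⟨closure {beta v}, isOpen_closure_singleton g hV _ ht⟩, beta v, ?_, rfl, ht⟩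
  exact specializes_iff_mem_closure.mp (beta_specializes v)

/-- base change of a preirreducible open along an open immersion is preconnected -/
theorem preconnected_pullback_of_isOpenImmersion (g : V ⟶ Y) (f : X ⟶ Y) [IsOpenImmersion f]
    (W : V.Opens) (hW : IsPreirreducible (W : Set V)) :
    PreconnectedSpace ↥(pullback (W.ι ≫ g) f) := by
  let j := pullback.fst (W.ι ≫ g) f ≫ W.ι
  have hj : IsOpenImmersion j := inferInstance
  have hr : Set.range j ⊆ (W : Set V) := by
    rintro _ ⟨p, rfl⟩
    show W.ι (pullback.fst (W.ι ≫ g) f p) ∈ W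
    exact (pullback.fst (W.ι ≫ g) f p).2
  have h1 : IsPreirreducible (Set.range j) := hW.open_subset j.isOpenEmbedding.isOpen_range hr
  have h2 : _root_.IsPreconnected (Set.range j) := h1.isPreconnected
  rw [← Set.image_univ, j.isOpenEmbedding.isInducing.isPreconnected_image] at h2
  exact ⟨h2⟩

/-- base change along a preimmersion, when at most one point lies over its range -/
theorem preconnected_pullback_of_isPreimmersion (g : V ⟶ Y) (f : X ⟶ Y) [IsPreimmersion f]
    (W : V.Opens) (t : V) (hW : ∀ w ∈ W, g w ∈ Set.range f → w = t) :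
    PreconnectedSpace ↥(pullback (W.ι ≫ g) f) := by
  let j := pullback.fst (W.ι ≫ g) f ≫ W.ι
  have hj : IsPreimmersion j := inferInstance
  have hsub : Subsingleton ↥(pullback (W.ι ≫ g) f) := by
    refine ⟨fun p q => ?_⟩
    have key : ∀ p : ↥(pullback (W.ι ≫ g) f), j p = t := by
      intro p
      refine hW _ (pullback.fst (W.ι ≫ g) f p).2 ⟨pullback.snd (W.ι ≫ g) f p, ?_⟩
      rw [← Scheme.Hom.comp_apply, ← pullback.condition]
      rfl
    exact j.isEmbedding.injective ((key p).trans (key q).symm)
  infer_instance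

/-- open immersions with nonempty source into a normal integral scheme -/
theorem isIso_unit_of_isOpenImmersion [IsIntegral Y]
    (hN : ∀ y : Y, IsIntegrallyClosed (Y.presheaf.stalk y)) (f : X ⟶ Y) [IsOpenImmersion f]
    [Nonempty X] (M : AddCommGrpCat.{u + 1}) :
    IsIso ((EtCoh.pullPushAdj f).unit.app (cst Y M)) := by
  apply isIso_unit_of_geom f M
  · exact (f.isOpenEmbedding.isOpen_range.dense (Set.range_nonempty _))
  · intro V v
    obtain ⟨W, t, hv, hW, -⟩ := exists_irreducible_nhd hN V.hom v
    refine ⟨W, hv, preconnected_pullback_of_isOpenImmersion V.hom f W ?_⟩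
    rw [hW]
    exact isIrreducible_singleton.closure.isPreirreducible

/-- preimmersions with range the generic point of a normal integral scheme -/
theorem isIso_unit_of_isPreimmersion [IsIntegral Y]
    (hN : ∀ y : Y, IsIntegrallyClosed (Y.presheaf.stalk y)) (f : X ⟶ Y) [IsPreimmersion f]
    (hr : Set.range f = {genericPoint Y}) (M : AddCommGrpCat.{u + 1}) :
    IsIso ((EtCoh.pullPushAdj f).unit.app (cst Y M)) := by
  apply isIso_unit_of_geom f M
  · show Dense (Set.range f)
    rw [hr]
    exact dense_iff_closure_eq.2 (genericPoint_spec Y)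
  · intro V v
    obtain ⟨W, t, hv, hW, ht⟩ := exists_irreducible_nhd hN V.hom v
    refine ⟨W, hv, preconnected_pullback_of_isPreimmersion V.hom f W t ?_⟩
    intro w hw hwf
    rw [hr] at hwf
    exact eq_of_mem_closure_of_mem_fibre (X := Y) (V.hom : V.left ⟶ Y) ht hwf (hW ▸ hw)

end Groth.Agent.H21.ConstUnitGeom
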