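import Mathlib.RingTheory.Spectrum.Prime.Topology
import Mathlib.AlgebraicGeometry.AffineScheme
import Mathlib.AlgebraicGeometry.Stalk

set_option autoImplicit false
universe u
open CategoryTheory CategoryTheory.Limits AlgebraicGeometry Opposite TopologicalSpace

namespace Groth.Agent.H21.QcClosure

/-- the closure of a basic open is the set of specializations of its points -/
theorem exists_specializes_of_mem_closure_basicOpen {A : Type*} [CommRing A] (g : A)
    (p : PrimeSpectrum A) (hp : p ∈ closure (PrimeSpectrum.basicOpen g : Set (PrimeSpectrum A))) :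
    ∃ z ∈ (PrimeSpectrum.basicOpen g : Set (PrimeSpectrum A)), z ⤳ p := by
  rw [← PrimeSpectrum.localization_away_comap_range (Localization.Away g) g,
    PrimeSpectrum.closure_range_comap] at hp
  have le : (⊥ : Ideal (Localization.Away g)).comap (algebraMap A (Localization.Away g)) ≤ p.asIdeal := hp
  obtain ⟨Q, -, hQ, hQp⟩ := Ideal.exists_ideal_comap_le_prime p.asIdeal ⊥ le
  refine ⟨PrimeSpectrum.comap (algebraMap A (Localization.Away g)) ⟨Q, hQ⟩, ?_, ?_⟩
  · rw [← PrimeSpectrum.localization_away_comap_range (Localization.Away g) g]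
    exact ⟨_, rfl⟩
  · rw [← PrimeSpectrum.le_iff_specializes]
    exact hQp

/-- the closure of a quasi-compact open subset of a prime spectrum is the set of specializations
of its points -/
theorem exists_specializes_of_mem_closure {A : Type*} [CommRing A] (Q : Set (PrimeSpectrum A))
    (hQo : IsOpen Q) (hQc : IsCompact Q) (p : PrimeSpectrum A) (hp : p ∈ closure Q) :
    ∃ z ∈ Q, z ⤳ p := by
  obtain ⟨s, hs, rfl⟩ := (isCompact_open_iff_eq_finite_iUnion_of_isTopologicalBasis _
    PrimeSpectrum.isTopologicalBasis_basic_opens PrimeSpectrum.isCompact_basicOpen Q).1 ⟨hQc, hQo⟩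
  rw [hs.closure_biUnion] at hp
  simp only [Set.mem_iUnion] at hp
  obtain ⟨g, hg, hpg⟩ := hp
  obtain ⟨z, hz, hzp⟩ := exists_specializes_of_mem_closure_basicOpen g p hpg
  exact ⟨z, Set.mem_biUnion hg hz, hzp⟩

/-- in a scheme, a point of an affine open lying in the closure of a quasi-compact open subset of
that affine open is a specialization of a point of the subset -/
theorem exists_specializes_of_mem_closure_of_isAffineOpen {V : Scheme.{u}} {V₀ : V.Opens}
    (hV₀ : IsAffineOpen V₀) (Q : Set V) (hQo : IsOpen Q) (hQc : IsCompact Q)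
    (hQV : Q ⊆ (V₀ : Set V)) (v : V) (hv : v ∈ V₀) (hvQ : v ∈ closure Q) :
    ∃ z ∈ Q, z ⤳ v := by
  have e := hV₀.fromSpec.isOpenEmbedding
  have hr : Set.range hV₀.fromSpec = (V₀ : Set V) := hV₀.range_fromSpec
  obtain ⟨p, rfl⟩ : v ∈ Set.range hV₀.fromSpec := hr ▸ hv
  have hQr : Q ⊆ Set.range hV₀.fromSpec := hr ▸ hQV
  have h1 : IsOpen (hV₀.fromSpec ⁻¹' Q) := hQo.preimage e.continuous
  have h2 : IsCompact (hV₀.fromSpec ⁻¹' Q) := (e.isInducing.isCompact_preimage_iff hQr).2 hQc
  have h3 : p ∈ closure (hV₀.fromSpec ⁻¹' Q) := by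
    rw [e.isInducing.closure_eq_preimage_closure_image, Set.image_preimage_eq_of_subset hQr]
    exact hvQ
  obtain ⟨z, hz, hzp⟩ := exists_specializes_of_mem_closure _ h1 h2 p h3
  exact ⟨hV₀.fromSpec z, hz, hzp.map e.continuous⟩

end Groth.Agent.H21.QcClosure
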