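import Groth.Agent.H21.ConstUnitGeom
import Groth.Agent.H21.QcClosure
import Groth.Prelude.Def_Pi1

set_option autoImplicit false
universe u
open CategoryTheory CategoryTheory.Limits AlgebraicGeometry Opposite

namespace Groth.Agent.H21.ConstUnitQc

open Groth.Agent.H21.ConstSec Groth.Agent.H21.ConstUnit Groth.Agent.H21.FEtNormal
  Groth.Agent.H21.QcClosure

section Top

variable {P V : Scheme.{u}} (p₁ : P ⟶ V) [IsOpenImmersion p₁] [QuasiCompact p₁]

/-- a dense quasi-compact open contains the generic point of every local ring which is a domain -/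
theorem beta_mem_range (hD : Dense (Set.range p₁)) (v : V) [IsDomain (V.presheaf.stalk v)] :
    beta v ∈ Set.range p₁ := by
  obtain ⟨_, ⟨V₀, hV₀, rfl⟩, hvV₀, -⟩ :=
    V.isBasis_affineOpens.exists_subset_of_mem_open (Set.mem_univ v) isOpen_univ
  have hV₀' : IsAffineOpen V₀ := hV₀
  have hc : IsCompact (p₁ ⁻¹' (V₀ : Set V)) :=
    QuasiCompact.isCompact_preimage (f := p₁) _ V₀.isOpen hV₀'.isCompact
  have hQc : IsCompact (p₁ '' (p₁ ⁻¹' (V₀ : Set V))) := hc.image p₁.continuous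
  have hQo : IsOpen (p₁ '' (p₁ ⁻¹' (V₀ : Set V))) :=
    p₁.isOpenEmbedding.isOpenMap _ (V₀.isOpen.preimage p₁.continuous)
  have hQV : p₁ '' (p₁ ⁻¹' (V₀ : Set V)) ⊆ (V₀ : Set V) := Set.image_preimage_subset _ _
  have hcl : v ∈ closure (p₁ '' (p₁ ⁻¹' (V₀ : Set V))) := by
    rw [Set.image_preimage_eq_inter_range]
    exact hD.open_subset_closure_inter V₀.isOpen hvV₀
  obtain ⟨z, hz, hzv⟩ := exists_specializes_of_mem_closure_of_isAffineOpen hV₀' _ hQo hQc hQV v hvV₀ hcl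
  have h1 : beta v ⤳ z := beta_specializes_of_specializes v hzv
  exact h1.mem_open p₁.isOpenEmbedding.isOpen_range (Set.image_subset_range _ _ hz)

/-- a clopen subset of a dense quasi-compact open containing the generic point of the local ring at
`v` contains the trace of a neighbourhood of `v` -/
theorem exists_nhd_preimage_subset (v : V) [IsDomain (V.presheaf.stalk v)]
    (S : Set P) (hS : IsClopen S) (ξ' : P) (hξ : p₁ ξ' = beta v) (hξS : ξ' ∈ S) :
    ∃ W : V.Opens, v ∈ W ∧ ∀ z', p₁ z' ∈ W → z' ∈ S := by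
  obtain ⟨_, ⟨V₀, hV₀, rfl⟩, hvV₀, -⟩ :=
    V.isBasis_affineOpens.exists_subset_of_mem_open (Set.mem_univ v) isOpen_univ
  have hV₀' : IsAffineOpen V₀ := hV₀
  have hc : IsCompact (p₁ ⁻¹' (V₀ : Set V)) :=
    QuasiCompact.isCompact_preimage (f := p₁) _ V₀.isOpen hV₀'.isCompact
  have hc' : IsCompact (Sᶜ ∩ p₁ ⁻¹' (V₀ : Set V)) := hc.inter_left hS.compl.isClosed
  have hQc : IsCompact (p₁ '' (Sᶜ ∩ p₁ ⁻¹' (V₀ : Set V))) := hc'.image p₁.continuous
  have hQo : IsOpen (p₁ '' (Sᶜ ∩ p₁ ⁻¹' (V₀ : Set V))) :=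
    p₁.isOpenEmbedding.isOpenMap _ (hS.compl.isOpen.inter (V₀.isOpen.preimage p₁.continuous))
  have hQV : p₁ '' (Sᶜ ∩ p₁ ⁻¹' (V₀ : Set V)) ⊆ (V₀ : Set V) := by
    rintro _ ⟨z, ⟨-, hz⟩, rfl⟩
    exact hz
  have hcl : v ∉ closure (p₁ '' (Sᶜ ∩ p₁ ⁻¹' (V₀ : Set V))) := by
    intro hcl
    obtain ⟨z, hz, hzv⟩ :=
      exists_specializes_of_mem_closure_of_isAffineOpen hV₀' _ hQo hQc hQV v hvV₀ hcl
    have h1 : beta v ⤳ z := beta_specializes_of_specializes v hzv
    obtain ⟨z'', ⟨hz''S, -⟩, hz''⟩ := h1.mem_open hQo hz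
    have : z'' = ξ' := p₁.isOpenEmbedding.injective (hz''.trans hξ.symm)
    exact hz''S (this ▸ hξS)
  refine ⟨V₀ ⊓ ⟨(closure (p₁ '' (Sᶜ ∩ p₁ ⁻¹' (V₀ : Set V))))ᶜ, isClosed_closure.isOpen_compl⟩,
    ⟨hvV₀, hcl⟩, ?_⟩
  rintro z' ⟨hz'V, hz'Q⟩
  by_contra hz'S
  exact hz'Q (subset_closure ⟨z', ⟨hz'S, hz'V⟩, rfl⟩)

end Top

variable {X Y : Scheme.{u}}

theorem isClopen_isVal {M : AddCommGrpCat.{u + 1}} {Z : X.Etale} (s : Sec (cst X M) Z) (m : ↑M) :
    IsClopen {z | IsVal s z m} := by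
  have hopen : ∀ m', IsOpen {z | IsVal s z m'} := by
    intro m'
    rw [isOpen_iff_forall_mem_open]
    intro z hz
    obtain ⟨O, hzO, hO⟩ := IsVal.exists_open hz
    exact ⟨O, fun z' hz' => hO z' hz', O.isOpen, hzO⟩
  refine ⟨?_, hopen m⟩
  rw [← isOpen_compl_iff]
  have : {z | IsVal s z m}ᶜ = ⋃ m' : {m' : ↑M // m' ≠ m}, {z | IsVal s z m'.1} := by
    ext z
    simp only [Set.mem_compl_iff, Set.mem_ofPred_eq, Set.mem_iUnion]
    constructor
    · intro hz
      obtain ⟨m', hm'⟩ := exists_isVal s z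
      exact ⟨⟨m', fun h => hz (h ▸ hm')⟩, hm'⟩
    · rintro ⟨⟨m', hne⟩, hm'⟩ hz
      exact hne (hm'.unique hz)
  rw [this]
  exact isOpen_iUnion fun m' => hopen m'.1

set_option backward.isDefEq.respectTransparency.types false in
/-- normal `Y`, quasi-compact dense open immersion `f` -/
theorem isIso_unit_of_quasiCompact (hY : Pi1.IsNormalScheme Y) (f : X ⟶ Y) [IsOpenImmersion f]
    [QuasiCompact f] (hd : Dense (Set.range f)) (M : AddCommGrpCat.{u + 1}) :
    IsIso ((EtCoh.pullPushAdj f).unit.app (cst Y M)) := by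
  rw [isIso_unit_iff]
  apply isIso_u_of
  · intro V hV
    by_contra hne
    rw [not_isEmpty_iff] at hne
    obtain ⟨v⟩ := hne
    have hopen : IsOpen (Set.range V.hom) := V.hom.isOpenMap.isOpen_range
    obtain ⟨_, ⟨v', rfl⟩, ⟨x, hx⟩⟩ := hd.inter_open_nonempty _ hopen ⟨_, v, rfl⟩
    obtain ⟨z, -, -⟩ := Scheme.Pullback.exists_preimage_pullback (f := V.hom) (g := f) v' x hx.symm
    exact hV.false z
  · intro V s v
    have hV : ∀ y : V.left, IsDomain (V.left.presheaf.stalk y) := fun y =>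
      (Groth.Agent.H20.isDomain_and_isIntegrallyClosed_stalk_of_etale (V.hom : V.left ⟶ Y) y
        (hY _)).1
    have := hV v
    have hp₁ : IsOpenImmersion (pullback.fst (V.hom : V.left ⟶ Y) f) := inferInstance
    have hp₁q : QuasiCompact (pullback.fst (V.hom : V.left ⟶ Y) f) := inferInstance
    have hD : Dense (Set.range (pullback.fst (V.hom : V.left ⟶ Y) f)) := by
      rw [Scheme.Pullback.range_fst]
      exact hd.preimage (V.hom : V.left ⟶ Y).isOpenMap
    obtain ⟨ξ', hξ'⟩ := beta_mem_range (V := V.left) (pullback.fst (V.hom : V.left ⟶ Y) f) hD v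
    obtain ⟨m, hm⟩ := exists_isVal s ξ'
    obtain ⟨W, hvW, hW⟩ := exists_nhd_preimage_subset (V := V.left) (pullback.fst (V.hom : V.left ⟶ Y) f) v
      {z | IsVal s z m} (isClopen_isVal s m) ξ' hξ' hm
    let W' : Y.Etale := Scheme.Etale.mk (W.ι ≫ V.hom)
    let g : W' ⟶ V := MorphismProperty.Over.homMk W.ι rfl trivial
    refine ⟨W', g, ⟨v, hvW⟩, m, rfl, ?_⟩
    apply eq_eta_of_forall_isVal
    intro y
    apply IsVal.res
    apply hW
    have hw := (EtCoh.isPullback_bc_map f g).w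
    have := congrArg (fun k => k y) hw
    simp only [Scheme.Hom.comp_apply] at this
    refine Set.mem_of_eq_of_mem this ?_
    exact (pullback.fst W'.hom f y).2

end Groth.Agent.H21.ConstUnitQc
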