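import Groth.Agent.H21.OverBridge
import Groth.Prelude.Def_PBC
import Mathlib.AlgebraicGeometry.PullbackCarrier

/-!
# Basic API for constructible abelian sheaves on the small étale site (helper21)
-/

set_option autoImplicit false
universe u
open CategoryTheory CategoryTheory.Limits AlgebraicGeometry Opposite

namespace Groth.Agent.H21.Constr

open Groth.Agent.H21.OverBridge

variable {X : Scheme.{u}}

/-- adapted strata indexed by an arbitrary finite type, and adapted to a family of sheaves -/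
def Strata {κ : Type*} (F : κ → EtCoh.Ab X) (S : Set X) : Prop :=
  ∃ (ι : Type) (_ : Finite ι) (T : ι → Scheme.{u}) (g : ∀ i, T i ⟶ X),
    (∀ i, IsImmersion (g i)) ∧
    (∀ i, Topology.IsConstructible ((Subtype.val : S → X) ⁻¹' Set.range (g i))) ∧
    Pairwise (fun i j => Disjoint (Set.range (g i)) (Set.range (g j))) ∧
    (⋃ i, Set.range (g i)) = S ∧
    ∀ i k, EtCoh.IsFiniteLocallyConstant ((EtCoh.pull (g i)).obj (F k))

theorem strata_iff (F : EtCoh.Ab X) (S : Set X) :
    EtPBC.AdaptedStrata F S ↔ Strata (fun _ : Unit => F) S := by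
  constructor
  · rintro ⟨n, T, g, h1, h2, h3, h4, h5⟩
    exact ⟨Fin n, inferInstance, T, g, h1, h2, h3, h4, fun i _ => h5 i⟩
  · rintro ⟨ι, hι, T, g, h1, h2, h3, h4, h5⟩
    obtain ⟨n, ⟨e⟩⟩ := Finite.exists_equiv_fin ι
    refine ⟨n, fun i => T (e.symm i), fun i => g (e.symm i), fun i => h1 _, fun i => h2 _,
      ?_, ?_, fun i => h5 _ ()⟩
    · intro i j hij
      exact h3 (fun h => hij (e.symm.injective h))
    · rw [← h4]
      exact e.symm.surjective.iUnion_comp (fun i => Set.range (g i))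

/-- forget part of a family -/
theorem Strata.mono {κ κ' : Type*} {F : κ → EtCoh.Ab X} {S : Set X} (h : Strata F S)
    (G : κ' → EtCoh.Ab X) (hG : ∀ k', ∃ k, G k' = F k) : Strata G S := by
  obtain ⟨ι, hι, T, g, h1, h2, h3, h4, h5⟩ := h
  refine ⟨ι, hι, T, g, h1, h2, h3, h4, fun i k' => ?_⟩
  obtain ⟨k, hk⟩ := hG k'
  rw [hk]
  exact h5 i k

/-- common refinement of two stratifications -/
theorem Strata.inter {κ κ' : Type*} {F : κ → EtCoh.Ab X} {G : κ' → EtCoh.Ab X} {S : Set X}
    (hF : Strata F S) (hG : Strata G S) : Strata (Sum.elim F G) S := by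
  obtain ⟨ι, hι, T, g, h1, h2, h3, h4, h5⟩ := hF
  obtain ⟨ι', hι', T', g', h1', h2', h3', h4', h5'⟩ := hG
  have hr : ∀ p : ι × ι', Set.range (pullback.fst (g p.1) (g' p.2) ≫ g p.1) =
      Set.range (g p.1) ∩ Set.range (g' p.2) := fun p => Scheme.Pullback.range_fst_comp _ _
  refine ⟨ι × ι', inferInstance, fun p => pullback (g p.1) (g' p.2),
    fun p => pullback.fst (g p.1) (g' p.2) ≫ g p.1, fun p => ?_, fun p => ?_, ?_, ?_, ?_⟩
  · have := h1 p.1
    have := h1' p.2
    infer_instance
  · rw [hr, Set.preimage_inter]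
    exact (h2 p.1).inter (h2' p.2)
  · intro p q hpq
    show Disjoint (Set.range (pullback.fst (g p.1) (g' p.2) ≫ g p.1))
      (Set.range (pullback.fst (g q.1) (g' q.2) ≫ g q.1))
    rw [hr, hr]
    by_cases h : p.1 = q.1
    · have h' : p.2 ≠ q.2 := fun h' => hpq (Prod.ext h h')
      exact (h3' h').mono Set.inter_subset_right Set.inter_subset_right
    · exact (h3 h).mono Set.inter_subset_left Set.inter_subset_left
  · simp_rw [hr]
    ext x
    simp only [Set.mem_iUnion, Set.mem_inter_iff, Prod.exists]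
    constructor
    · rintro ⟨i, j, hi, -⟩
      rw [← h4]
      exact Set.mem_iUnion.2 ⟨i, hi⟩
    · intro hx
      have hx' := hx
      rw [← h4] at hx
      rw [← h4'] at hx'
      obtain ⟨i, hi⟩ := Set.mem_iUnion.1 hx
      obtain ⟨j, hj⟩ := Set.mem_iUnion.1 hx'
      exact ⟨i, j, hi, hj⟩
  · rintro p (k | k')
    · exact isFLC_of_iso ((EtCore.pullComp (pullback.fst (g p.1) (g' p.2)) (g p.1)).symm.app (F k))
        (pull_isFLC _ _ (h5 p.1 k))
    · have w : pullback.snd (g p.1) (g' p.2) ≫ g' p.2 = pullback.fst (g p.1) (g' p.2) ≫ g p.1 :=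
        pullback.condition.symm
      exact isFLC_of_iso ((EtCore.pullComp (pullback.snd (g p.1) (g' p.2)) (g' p.2)).symm.app (G k')
        ≪≫ (EtCore.pullCongr w).app (G k')) (pull_isFLC _ _ (h5' p.2 k'))

end Groth.Agent.H21.Constr
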