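import Groth.Agent.H21.ConstrSub
import Groth.Agent.H4.StalkPull

set_option autoImplicit false
universe u
open CategoryTheory CategoryTheory.Limits AlgebraicGeometry Opposite TopologicalSpace

namespace Groth.Agent.H21.ConstrACC

open Groth.Agent.H21.ConstSec Groth.Agent.H21.ConstUnit Groth.Agent.H21.LocConst
  Groth.Agent.H21.LocConstMap Groth.Agent.H21.AbExt Groth.Agent.H21.GenStalk
  Groth.Agent.H21.OverBridge Groth.Agent.H21.ConstrMain Groth.Agent.H21.ConstrNoeth
  Groth.Agent.H21.ConstrSub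

section Const

variable {Y : Scheme.{u}} {M : AddCommGrpCat.{u + 1}}

lemma locus_mono {A A' : EtCoh.Ab Y} (a : A ⟶ cst Y M) (a' : A' ⟶ cst Y M) (t : A ⟶ A')
    (ht : t ≫ a' = a) (m : ↑M) : locus a m ⊆ locus a' m := by
  rintro y ⟨W, w, s, hw, hs⟩
  refine ⟨W, w, app t W s, hw, ?_⟩
  rw [← hs, ← ht]
  rfl

/-- two nested subsheaves of a constant sheaf with the same lifting loci coincide -/
theorem isIso_of_locus_le {A A' : EtCoh.Ab Y} (a : A ⟶ cst Y M) (a' : A' ⟶ cst Y M)
    [Mono a] [Mono a'] (t : A ⟶ A') (ht : t ≫ a' = a)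
    (h : ∀ m, locus a' m ⊆ locus a m) : IsIso t := by
  have hmono : Mono t := mono_of_mono_fac ht
  have hinj' := injective_app_of_mono a'
  have hepi : Epi t := by
    rw [← Sheaf.isLocallySurjective_iff_epi' (A := AddCommGrpCat.{u+1})]
    constructor
    intro V s
    rw [mem_iff]
    intro v
    obtain ⟨m, V'', g, v'', hv'', hres⟩ := exists_isVal (app a' V s) v
    have hy : (V''.hom : V''.left ⟶ Y) v'' ∈ locus a' m :=
      locus_of_section a' v'' (res A' g s) m (by rw [app_res, hres])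
    obtain ⟨W', w, s', hw, hs'⟩ := h m hy
    obtain ⟨P, p, p', x, hx, hx'⟩ := exists_common W' V'' w v'' hw
    refine ⟨P, p' ≫ g, x, ⟨res A p s', ?_⟩, ?_⟩
    · show app t P (res A p s') = res A' (p' ≫ g) s
      apply hinj' P
      have e1 : app a' P (app t P (res A p s')) = app a P (res A p s') := by
        rw [← ht]; rfl
      rw [e1, app_res, hs', res_eta, ← res_res, app_res, app_res, hres, res_eta]
    · show g.left (p'.left x) = v
      rw [hx', hv'']
  exact isIso_of_mono_of_epi t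

/-- chains of subsheaves of a finite constant sheaf on a Noetherian scheme stabilize -/
theorem const_acc [NoetherianSpace Y] [Finite ↑M] (A : ℕ → EtCoh.Ab Y)
    (a : ∀ k, A k ⟶ cst Y M) [∀ k, Mono (a k)] (t : ∀ k, A k ⟶ A (k + 1))
    (ht : ∀ k, t k ≫ a (k + 1) = a k) :
    ∃ N, ∀ k, N ≤ k → IsIso (t k) := by
  classical
  have := Fintype.ofFinite ↑M
  let D : ↑M → ℕ →o Opens Y := fun m =>
    ⟨fun k => ⟨locus (a k) m, isOpen_locus (a k) m⟩,
      monotone_nat_of_le_succ (fun k => locus_mono (a k) (a (k + 1)) (t k) (ht k) m)⟩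
  have hst : ∀ m, ∃ n, ∀ k, n ≤ k → D m n = D m k := fun m =>
    WellFoundedGT.monotone_chain_condition (D m)
  choose Nm hNm using hst
  refine ⟨Finset.univ.sup Nm, fun k hk => ?_⟩
  refine isIso_of_locus_le (a k) (a (k + 1)) (t k) (ht k) (fun m => ?_)
  have hmk : Nm m ≤ k := (Finset.le_sup (Finset.mem_univ m)).trans hk
  have e1 := hNm m k hmk
  have e2 := hNm m (k + 1) (hmk.trans (Nat.le_succ k))
  have e3 : D m (k + 1) = D m k := e2.symm.trans e1
  have e4 := congrArg (fun O : Opens Y => (O : Set Y)) e3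
  exact e4.le

end Const

section Lift

/-- geometric points lift along immersions -/
theorem exists_lift_of_immersion {T X : Scheme.{u}} (g : T ⟶ X) [IsImmersion g] {Ω : Type u}
    [Field Ω] (ξ : Spec (CommRingCat.of Ω) ⟶ X) (h : ξ default ∈ Set.range g) :
    ∃ ξ' : Spec (CommRingCat.of Ω) ⟶ T, ξ' ≫ g = ξ := by
  let p := pullback.fst ξ g
  have hr : Set.range p = Set.univ := by
    rw [Scheme.Pullback.range_fst]
    ext z
    simp only [Set.mem_preimage, Set.mem_univ, iff_true]
    rw [Subsingleton.elim z default]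
    exact h
  have hci : IsClosedImmersion p :=
    IsClosedImmersion.of_isPreimmersion p (by rw [hr]; exact isClosed_univ)
  have hs : Surjective p := ⟨Set.range_eq_univ.1 hr⟩
  have hiso : IsIso p := isIso_of_isClosedImmersion_of_surjective p
  refine ⟨inv p ≫ pullback.snd ξ g, ?_⟩
  rw [Category.assoc, ← pullback.condition, IsIso.inv_hom_id_assoc]

end Lift

section Zero

open Groth.Agent.H4.Stalks Groth.Agent.H4.StalkPull

variable {X : Scheme.{u}}

theorem isZero_of_sections (Q : EtCoh.Ab X) (h : ∀ (V : X.Etale) (τ : Sec Q V), τ = 0) :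
    IsZero Q := by
  rw [IsZero.iff_id_eq_zero]
  ext V s
  exact (h V.unop _).trans (h V.unop _).symm

/-- a sheaf all of whose canonical geometric stalks vanish is zero -/
theorem isZero_of_stalks (Q : EtCoh.Ab X)
    (h : ∀ s : X, IsZero ((EtCoh.stalk (geomPt s)).obj Q)) : IsZero Q := by
  apply isZero_of_sections
  intro V τ
  apply eq_zero_of_germs Q τ
  intro p
  obtain ⟨x, hx⟩ := Fib.exists_of_point (ξ := geomPt ((V.hom : V.left ⟶ X) p)) V p
    (geomPt_default _).symm
  have hsub := AddCommGrpCat.subsingleton_of_isZero (h ((V.hom : V.left ⟶ X) p))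
  exact ⟨_, inferInstance, inferInstance, geomPt ((V.hom : V.left ⟶ X) p), x, hx,
    hsub.elim _ _⟩

/-- a sheaf whose inverse images along a family of morphisms through which all canonical
geometric points lift vanish is zero -/
theorem isZero_of_pull (Q : EtCoh.Ab X) {β : Type*} (W : β → Scheme.{u}) (h : ∀ b, W b ⟶ X)
    (hlift : ∀ s : X, ∃ (b : β)
      (ξ' : Spec (CommRingCat.of (SeparableClosure (X.residueField s))) ⟶ W b),
      ξ' ≫ h b = geomPt s)
    (hz : ∀ b, IsZero ((EtCoh.pull (h b)).obj Q)) : IsZero Q := by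
  apply isZero_of_stalks
  intro s
  obtain ⟨b, ξ', hξ'⟩ := hlift s
  rw [← hξ']
  exact IsZero.of_iso ((EtCoh.stalk ξ').map_isZero (hz b)) ((stalkPullIso (h b) ξ').app Q)

end Zero

section Test

open Groth.Agent.H4.Stalks Groth.Agent.H4.EtRestr

variable {X : Scheme.{u}}

/-- the ascending chain condition for subsheaves of `F`, in terms of a finite family of
morphisms from Noetherian schemes trivializing `F` through which all geometric points lift -/
theorem acc_of_testFamily (F : EtCoh.Ab X) {β : Type*} [Finite β] (W : β → Scheme.{u})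
    (h : ∀ b, W b ⟶ X) [∀ b, NoetherianSpace (W b)]
    (Mb : β → AddCommGrpCat.{u + 1}) [∀ b, Finite ↑(Mb b)]
    (e : ∀ b, (EtCoh.pull (h b)).obj F ≅ cst (W b) (Mb b))
    (hlift : ∀ s : X, ∃ (b : β)
      (ξ' : Spec (CommRingCat.of (SeparableClosure (X.residueField s))) ⟶ W b),
      ξ' ≫ h b = geomPt s)
    (A : ℕ → EtCoh.Ab X) (a : ∀ k, A k ⟶ F) [∀ k, Mono (a k)] (t : ∀ k, A k ⟶ A (k + 1))
    (ht : ∀ k, t k ≫ a (k + 1) = a k) :
    ∃ N, ∀ k, N ≤ k → IsIso (t k) := by
  classical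
  have := Fintype.ofFinite β
  have hb : ∀ b, ∃ N, ∀ k, N ≤ k → IsIso ((EtCoh.pull (h b)).map (t k)) := by
    intro b
    have hm : ∀ k, Mono ((EtCoh.pull (h b)).map (a k) ≫ (e b).hom) := fun k => mono_comp _ _
    refine const_acc (fun k => (EtCoh.pull (h b)).obj (A k))
      (fun k => (EtCoh.pull (h b)).map (a k) ≫ (e b).hom)
      (fun k => (EtCoh.pull (h b)).map (t k)) (fun k => ?_)
    rw [← Category.assoc, ← Functor.map_comp, ht]
  choose Nb hNb using hb
  refine ⟨Finset.univ.sup Nb, fun k hk => ?_⟩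
  have hmono : Mono (t k) := mono_of_mono_fac (ht k)
  have hz : IsZero (cokernel (t k)) := by
    refine isZero_of_pull _ W h hlift (fun b => ?_)
    have hiso : IsIso ((EtCoh.pull (h b)).map (t k)) :=
      hNb b k ((Finset.le_sup (Finset.mem_univ b)).trans hk)
    exact IsZero.of_iso (isZero_cokernel_of_epi _)
      (PreservesCokernel.iso (EtCoh.pull (h b)) (t k))
  have hepi : Epi (t k) := Preadditive.epi_of_isZero_cokernel _ hz
  exact isIso_of_mono_of_epi _

end Test

section Family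

open Groth.Agent.H4.Stalks

/-- a finite locally constant sheaf on a Noetherian scheme is trivialized by a finite family of
étale morphisms from Noetherian affine schemes -/
theorem exists_finite_triv {T : Scheme.{u}} [IsLocallyNoetherian T] [CompactSpace T]
    (H : EtCoh.Ab T) (hH : EtCoh.IsFiniteLocallyConstant H) :
    ∃ (β : Type u) (_ : Finite β) (W : β → Scheme.{u}) (h : ∀ b, W b ⟶ T),
      (∀ b, Etale (h b)) ∧ (∀ b, NoetherianSpace (W b)) ∧
      (∀ b, ∃ (Mb : Type) (_ : AddCommGroup Mb) (_ : Finite Mb),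
        Nonempty ((EtCoh.pull (h b)).obj H ≅ EtCoh.const (W b) Mb)) ∧
      ∀ t : T, ∃ (b : β) (w : W b), h b w = t := by
  obtain ⟨ι, U, hcov, htriv⟩ := (isFLC_iff _).1 hH
  choose i u hu using hcov
  have hA : ∀ t : T, ∃ A : (U (i t)).left.Opens, IsAffineOpen A ∧ u t ∈ A := by
    intro t
    obtain ⟨A, hA, huA, -⟩ := exists_affine_nbhd (⊤ : (U (i t)).left.Opens) (u t) trivial
    exact ⟨A, hA, huA⟩
  choose A hAaff huA using hA
  let hh : ∀ t : T, (A t).toScheme ⟶ T := fun t => (A t).ι ≫ ((U (i t)).hom : (U (i t)).left ⟶ T)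
  let O : T → Set T := fun t => Set.range (hh t)
  have hO : ∀ t, IsOpen (O t) := fun t => (hh t).isOpenMap.isOpen_range
  have htO : ∀ t, t ∈ O t := fun t => ⟨⟨u t, huA t⟩, hu t⟩
  obtain ⟨S, hS⟩ := isCompact_univ.elim_finite_subcover O hO
    (fun t _ => Set.mem_iUnion.2 ⟨t, htO t⟩)
  refine ⟨↥S, inferInstance, fun b => (A b.1).toScheme, fun b => hh b.1, fun b => inferInstance,
    fun b => ?_, fun b => ?_, fun t => ?_⟩
  · let p : (U (i b.1)).left ⟶ T := (U (i b.1)).hom
    have hLN : IsLocallyNoetherian (U (i b.1)).left :=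
      LocallyOfFiniteType.isLocallyNoetherian p
    have hN : IsNoetherianRing Γ((U (i b.1)).left, A b.1) :=
      IsLocallyNoetherian.component_noetherian ⟨A b.1, hAaff b.1⟩
    exact noetherianSpace_of_isAffineOpen (A b.1) (hAaff b.1)
  · obtain ⟨Mb, i1, i2, ⟨c⟩⟩ := htriv (i b.1)
    refine ⟨Mb, i1, i2, ⟨?_⟩⟩
    exact (EtCore.pullComp (A b.1).ι ((U (i b.1)).hom : (U (i b.1)).left ⟶ T)).app H ≪≫
      (EtCoh.pull (A b.1).ι).mapIso c ≪≫ (EtCore.pullConstIso (A b.1).ι).app _
  · obtain ⟨b, hb, w, hw⟩ := Set.mem_iUnion₂.1 (hS (Set.mem_univ t))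
    exact ⟨⟨b, hb⟩, w, hw⟩

/-- chains of subsheaves of a constructible sheaf on a Noetherian scheme stabilize -/
theorem chain_stabilizes {X : Scheme.{u}} [IsNoetherian X] (F : EtCoh.Ab X)
    (hF : EtPBC.IsConstructible F) (A : ℕ → EtCoh.Ab X) (a : ∀ k, A k ⟶ F) [∀ k, Mono (a k)]
    (t : ∀ k, A k ⟶ A (k + 1)) (ht : ∀ k, t k ≫ a (k + 1) = a k) :
    ∃ N, ∀ k, N ≤ k → IsIso (t k) := by
  obtain ⟨ι, hι, T, g, h1, h2, h3, h4, h5⟩ :=
    (Groth.Agent.H21.Constr.strata_iff F _).1 ((isConstructible_iff_of_qcqs F).1 hF)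
  have hTN : ∀ j, IsLocallyNoetherian (T j) := fun j => by
    have := h1 j
    exact LocallyOfFiniteType.isLocallyNoetherian (g j)
  have hTC : ∀ j, CompactSpace (T j) := fun j => by
    have := h1 j
    have : NoetherianSpace (T j) := (g j).isEmbedding.isInducing.noetherianSpace
    infer_instance
  have hfam := fun j => exists_finite_triv ((EtCoh.pull (g j)).obj F) (h5 j ())
  choose β hβ W h hEt hNS htr hsurj using hfam
  choose Mb iM1 iM2 htr' using htr
  have hfinS : Finite (Σ j, β j) := inferInstance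
  have hNS' : ∀ p : Σ j, β j, NoetherianSpace (W p.1 p.2) := fun p => hNS p.1 p.2
  have hMfin : ∀ p : Σ j, β j, Finite ↑(AddCommGrpCat.of (ULift.{u + 1} (Mb p.1 p.2))) :=
    fun p => inferInstanceAs (Finite (ULift.{u + 1} (Mb p.1 p.2)))
  refine acc_of_testFamily F (β := Σ j, β j) (fun p => W p.1 p.2)
    (fun p => h p.1 p.2 ≫ g p.1) (fun p => AddCommGrpCat.of (ULift.{u + 1} (Mb p.1 p.2)))
    (fun p => (EtCore.pullComp (h p.1 p.2) (g p.1)).app F ≪≫ (htr' p.1 p.2).some) ?_ A a t ht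
  intro s
  have hs : s ∈ ⋃ j, Set.range (g j) := by rw [h4]; trivial
  obtain ⟨j, hj⟩ := Set.mem_iUnion.1 hs
  have := h1 j
  obtain ⟨ξ', hξ'⟩ := exists_lift_of_immersion (g j) (geomPt s) (by rw [geomPt_default]; exact hj)
  obtain ⟨b, w, hw⟩ := hsurj j (ξ' default)
  have := hEt j b
  obtain ⟨x, -⟩ := Fib.exists_of_point (ξ := ξ') (Scheme.Etale.mk (h j b)) w hw
  refine ⟨⟨j, b⟩, x.left, ?_⟩
  have hx : x.left ≫ h j b = ξ' := Over.w x
  show (x.left ≫ h j b) ≫ g j = geomPt s
  exact (congrArg (· ≫ g j) hx).trans hξ'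

/-- ascending chains of subobjects of a constructible sheaf on a Noetherian scheme stabilize -/
theorem subobject_chain_stabilizes {X : Scheme.{u}} [IsNoetherian X] (F : EtCoh.Ab X)
    (hF : EtPBC.IsConstructible F) (c : ℕ →o Subobject F) :
    ∃ N, ∀ m, N ≤ m → c m = c N := by
  let A : ℕ → EtCoh.Ab X := fun k => (c k : EtCoh.Ab X)
  let a : ∀ k, A k ⟶ F := fun k => (c k).arrow
  let t : ∀ k, A k ⟶ A (k + 1) := fun k =>
    Subobject.ofLE (c k) (c (k + 1)) (c.monotone (Nat.le_succ k))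
  have ht : ∀ k, t k ≫ a (k + 1) = a k := fun k => Subobject.ofLE_arrow _
  obtain ⟨N, hN⟩ := chain_stabilizes F hF A a t ht
  refine ⟨N, fun m hm => ?_⟩
  induction m, hm using Nat.le_induction with
  | base => rfl
  | succ m hm ih =>
    rw [← ih]
    have := hN m hm
    refine le_antisymm ?_ (c.monotone (Nat.le_succ m))
    refine Subobject.le_of_comm (inv (t m)) ?_
    rw [IsIso.inv_comp_eq]
    exact (ht m).symm

end Family

end Groth.Agent.H21.ConstrACC
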