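import Groth.Agent.H21.ConstrGen3
import Mathlib.CategoryTheory.Abelian.GrothendieckCategory.Subobject

/-!
# A torsion sheaf on a Noetherian scheme is the filtered union of its constructible subsheaves
(helper21)
-/

set_option autoImplicit false
universe u
open CategoryTheory CategoryTheory.Limits AlgebraicGeometry Opposite TopologicalSpace EtShriek

namespace Groth.Agent.H21.ConstrColim

open Groth.Agent.H21.OverBridge Groth.Agent.H21.Constr Groth.Agent.H21.ConstrSub
  Groth.Agent.H21.QFStrata Groth.Agent.H21.ConstrStalk Groth.Agent.H21.ConstrSupp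
  Groth.Agent.H21.ConstrACC Groth.Agent.H21.ConstrLoc Groth.Agent.H4.Stalks
  Groth.Agent.H21.ConstrGen

variable {X : Scheme.{u}}

/-- the complete lattice of subsheaves (universe pinned) -/
noncomputable instance subCL (F : EtCoh.Ab X) : CompleteLattice (Subobject F) :=
  Subobject.instCompleteLattice.{u + 1}

/-- the support of a subsheaf is contained in the support of the sheaf -/
theorem supp_subset_of_mono {G F : EtCoh.Ab X} (m : G ⟶ F) [Mono m] :
    EtPBC.supp G ⊆ EtPBC.supp F := by
  rintro x ⟨Ω, i1, i2, ξ, hξ, hnz⟩
  refine ⟨Ω, i1, i2, ξ, hξ, fun hz => hnz ?_⟩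
  have : Mono ((EtCoh.stalk ξ).map m) := inferInstance
  exact IsZero.of_mono ((EtCoh.stalk ξ).map m) hz

/-- generators: torsion sections over affine étale objects -/
structure Gen (F : EtCoh.Ab X) : Type (u + 1) where
  V : X.Etale
  aff : IsAffine V.left
  n : ℕ
  pos : 0 < n
  s : EtCoh.sect F V
  hs : n • s = 0

variable {F : EtCoh.Ab X}

/-- the map `j_! ℤ/n → F` of a generator -/
noncomputable def Gen.map (a : Gen F) : EtPBC.extZeroConst a.V (ZMod a.n) ⟶ F :=
  secMap a.V a.n F a.s a.hs

/-- the subsheaf generated by a finite set of generators -/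
noncomputable def sub (A : Finset (Gen F)) : Subobject F :=
  A.sup fun a => imageSubobject a.map

theorem sub_mono : Monotone (sub (F := F)) := fun _ _ h => Finset.sup_mono h

open scoped ZeroObject in
theorem isConstructible_bot : EtPBC.IsConstructible (((⊥ : Subobject F) : EtCoh.Ab X)) :=
  isConstructible_of_isZero _ (IsZero.of_iso (isZero_zero _) Subobject.botCoeIsoZero)

/-- on a Noetherian scheme, the sum of two constructible subsheaves is constructible -/
theorem isConstructible_sup [IsNoetherian X] (m m' : Subobject F)
    (hm : EtPBC.IsConstructible (m : EtCoh.Ab X)) (hm' : EtPBC.IsConstructible (m' : EtCoh.Ab X)) :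
    EtPBC.IsConstructible ((m ⊔ m' : Subobject F) : EtCoh.Ab X) := by
  let d : (m : EtCoh.Ab X) ⊞ (m' : EtCoh.Ab X) ⟶ F := biprod.desc m.arrow m'.arrow
  let M : Subobject F := Subobject.mk (image.ι d)
  have hM : EtPBC.IsConstructible (M : EtCoh.Ab X) := by
    have h1 : EtPBC.IsConstructible ((m : EtCoh.Ab X) ⊞ (m' : EtCoh.Ab X)) :=
      isConstructible_biprod _ _ hm hm'
    have h2 : EtPBC.IsConstructible (image d) := isConstructible_of_epi (factorThruImage d) h1
    exact isConstructible_of_iso (Subobject.underlyingIso (image.ι d)).symm h2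
  have hle1 : m ≤ M := by
    rw [← Subobject.mk_arrow m]
    exact Subobject.mk_le_mk_of_comm (biprod.inl ≫ factorThruImage d) (by simp [d])
  have hle2 : m' ≤ M := by
    rw [← Subobject.mk_arrow m']
    exact Subobject.mk_le_mk_of_comm (biprod.inr ≫ factorThruImage d) (by simp [d])
  have hle3 : M ≤ m ⊔ m' := by
    let F' : MonoFactorisation d :=
      { I := ((m ⊔ m' : Subobject F) : EtCoh.Ab X)
        m := (m ⊔ m').arrow
        e := biprod.desc (Subobject.ofLE m (m ⊔ m') le_sup_left)
          (Subobject.ofLE m' (m ⊔ m') le_sup_right)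
        fac := by
          apply biprod.hom_ext' <;> simp [d] }
    exact Subobject.mk_le_of_comm (image.lift F') (image.lift_fac F')
  have h : M = m ⊔ m' := le_antisymm hle3 (sup_le hle1 hle2)
  exact h ▸ hM

theorem isConstructible_image [IsNoetherian X] (a : Gen F) :
    EtPBC.IsConstructible ((imageSubobject a.map : Subobject F) : EtCoh.Ab X) := by
  have := a.aff
  have : NeZero a.n := ⟨a.pos.ne'⟩
  have h1 : EtPBC.IsConstructible (EtPBC.extZeroConst a.V (ZMod a.n)) :=
    extZeroConst_isConstructible a.V (ZMod a.n)
  exact isConstructible_of_epi (factorThruImageSubobject a.map) h1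

/-- on a Noetherian scheme, finitely generated subsheaves of a sheaf are constructible -/
theorem isConstructible_sub [IsNoetherian X] (A : Finset (Gen F)) :
    EtPBC.IsConstructible ((sub A : Subobject F) : EtCoh.Ab X) := by
  classical
  induction A using Finset.induction_on with
  | empty => exact isConstructible_bot
  | insert a A _ ih =>
    have : sub (insert a A) = imageSubobject a.map ⊔ sub A := Finset.sup_insert
    rw [this]
    exact isConstructible_sup _ _ (isConstructible_image a) ih

/-- the union of the finitely generated subsheaves of a torsion sheaf is everything -/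
theorem iSup_sub (hT : EtCoh.IsTorsion F) : (⨆ A : Finset (Gen F), sub A) = ⊤ := by
  by_contra hne
  set T : Subobject F := ⨆ A : Finset (Gen F), sub A with hTdef
  have hnepi : ¬ Epi T.arrow := by
    intro h
    have : IsIso T.arrow := isIso_of_mono_of_epi _
    exact hne (Subobject.eq_top_of_isIso_arrow T)
  obtain ⟨V, hV, n, hn, s, hns, hbad⟩ := exists_bad_section T.arrow hnepi hT
  let a : Gen F := ⟨V, hV, n, hn, s, hns⟩
  have hle : imageSubobject a.map ≤ T := by
    have h1 : imageSubobject a.map = sub {a} := by
      show _ = Finset.sup {a} _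
      rw [Finset.sup_singleton]
    rw [h1]
    exact le_iSup (fun A : Finset (Gen F) => sub A) {a}
  apply hbad
  refine mem_range_of_secMap_factor V n F s hns T.arrow
    (factorThruImageSubobject a.map ≫ Subobject.ofLE _ _ hle) ?_
  simp [a, Gen.map]

variable (F) in
/-- the functor of finitely generated subsheaves -/
noncomputable def subFunctor : Finset (Gen F) ⥤ MonoOver F :=
  (sub_mono (F := F)).functor ⋙ Subobject.representative

variable (F) in
/-- the cocone of finitely generated subsheaves over `F` -/
noncomputable def subCocone : Cocone (subFunctor F ⋙ MonoOver.forget _) where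
  pt := Over.mk (𝟙 F)
  ι :=
    { app := fun A => Over.homMk ((subFunctor F).obj A).obj.hom (by simp)
      naturality := fun A B f => by
        ext
        simp [MonoOver.forget] }

instance : Mono (subCocone F).pt.hom := by
  show Mono (𝟙 F)
  infer_instance

/-- a torsion sheaf is the filtered colimit of its finitely generated subsheaves -/
noncomputable def isColimitSub (hT : EtCoh.IsTorsion F) :
    IsColimit ((Over.forget _).mapCocone (subCocone F)) := by
  apply IsGrothendieckAbelian.isColimitMapCoconeOfSubobjectMkEqISup.{u + 1}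
  have h1 : Subobject.mk (subCocone F).pt.hom = ⊤ := by
    show Subobject.mk (𝟙 F) = ⊤
    exact (Subobject.top_eq_id F).symm
  rw [h1, ← iSup_sub hT]
  congr 1
  funext A
  show sub A = Subobject.mk (sub A).arrow
  exact (Subobject.mk_arrow _).symm

/-- **A torsion abelian sheaf on a Noetherian scheme is a filtered colimit of constructible
subsheaves.** -/
theorem exists_filtered_sub [IsNoetherian X] (F : EtCoh.Ab X) (hT : EtCoh.IsTorsion F) :
    ∃ (J : Type (u + 1)) (_ : SmallCategory J) (_ : IsFiltered J) (D : J ⥤ EtCoh.Ab X)
      (c : Cocone D) (_ : IsColimit c), Nonempty (c.pt ≅ F) ∧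
      ∀ j, EtPBC.IsConstructible (D.obj j) ∧ EtPBC.supp (D.obj j) ⊆ EtPBC.supp F :=
  ⟨Finset (Gen F), inferInstance, inferInstance, _, _, isColimitSub hT, ⟨Iso.refl _⟩,
    fun A => ⟨isConstructible_sub A,
      (supp_subset_of_mono (Subobject.arrow (sub A)) :
        EtPBC.supp ((sub A : Subobject F) : EtCoh.Ab X) ⊆ EtPBC.supp F)⟩⟩

end Groth.Agent.H21.ConstrColim
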