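import Groth.Agent.H21.QFStrata4
import Groth.Agent.H21.AdicConstr
import Groth.Agent.H21.ConstrACC

/-!
# Generating abelian sheaves by the `j_! ℤ/n`; Noetherian torsion sheaves are constructible
(helper21)
-/

set_option autoImplicit false
universe u
open CategoryTheory CategoryTheory.Limits AlgebraicGeometry Opposite TopologicalSpace EtShriek

namespace Groth.Agent.H21.ConstrGen

open Groth.Agent.H21.OverBridge Groth.Agent.H21.Constr Groth.Agent.H21.ConstrSub
  Groth.Agent.H21.QFStrata

variable {X : Scheme.{u}}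

/-- finite locally constant sheaves are constructible -/
theorem isConstructible_of_isFLC (F : EtCoh.Ab X) (hF : EtCoh.IsFiniteLocallyConstant F) :
    EtPBC.IsConstructible F := by
  intro U hU
  refine (strata_iff _ _).2 ⟨Unit, inferInstance, fun _ => U.toScheme, fun _ => U.ι,
    fun _ => inferInstance, fun _ => ?_, ?_, ?_, fun _ _ => pull_isFLC _ _ hF⟩
  · have : (Subtype.val : ((U : Set X) : Type u) → X) ⁻¹' Set.range U.ι = Set.univ := by
      ext x
      simp only [Scheme.Opens.range_ι, Set.mem_preimage, Set.mem_univ, iff_true]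
      exact x.2
    rw [this]
    exact Topology.IsConstructible.univ
  · intro i j hij
    exact absurd rfl hij
  · ext x
    simp [Scheme.Opens.range_ι]

/-- the zero sheaf is constructible -/
theorem isConstructible_of_isZero (F : EtCoh.Ab X) (hF : IsZero F) :
    EtPBC.IsConstructible F := by
  have e : F ≅ kernel (𝟙 (EtCoh.const X PUnit)) :=
    hF.iso (isZero_kernel_of_mono _)
  exact isConstructible_of_iso e.symm
    (isConstructible_kernel_cokernel (𝟙 (EtCoh.const X PUnit))
      (isConstructible_of_isFLC _ (isFLC_const X PUnit))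
      (isConstructible_of_isFLC _ (isFLC_const X PUnit))).1

/-- binary biproducts of constructible sheaves are constructible -/
theorem isConstructible_biprod (F G : EtCoh.Ab X) (hF : EtPBC.IsConstructible F)
    (hG : EtPBC.IsConstructible G) : EtPBC.IsConstructible (F ⊞ G) := by
  have hS : (ShortComplex.mk (biprod.inl : F ⟶ F ⊞ G) (biprod.snd : F ⊞ G ⟶ G)
      biprod.inl_snd).ShortExact :=
    (ShortComplex.Splitting.ofHasBinaryBiproduct F G).shortExact
  exact Groth.Agent.H21.AdicConstr.isConstructible_ext hS hF hG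


/-! ### maps out of `j_! ℤ/n` -/

section SecMap

variable (V : X.Etale) (n : ℕ) (F : EtCoh.Ab X)

/-- the group homomorphism `ℤ/n → F(V)` attached to an `n`-torsion section -/
noncomputable def zmodHom (s : EtCoh.sect F V) (hs : n • s = 0) :
    AddCommGrpCat.of (ULift.{u + 1} (ZMod n)) ⟶ (secOver V).obj F :=
  AddCommGrpCat.ofHom
    ((ZMod.lift n ⟨zmultiplesHom (EtCoh.sect F V) s, by simpa using hs⟩).comp
      AddEquiv.ulift.toAddMonoidHom)

lemma zmodHom_one (s : EtCoh.sect F V) (hs : n • s = 0) :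
    (zmodHom V n F s hs).hom (ULift.up 1) = s := by
  show (ZMod.lift n ⟨zmultiplesHom (EtCoh.sect F V) s, by simpa using hs⟩)
    (AddEquiv.ulift (ULift.up 1)) = s
  have : (AddEquiv.ulift (ULift.up.{u + 1} (1 : ZMod n)) : ZMod n) = ((1 : ℤ) : ZMod n) := by
    rw [Int.cast_one]
    rfl
  rw [this, ZMod.lift_coe]
  simp

/-- the map `j_! ℤ/n → F` attached to an `n`-torsion section of `F` over `V` -/
noncomputable def secMap (s : EtCoh.sect F V) (hs : n • s = 0) :
    EtPBC.extZeroConst V (ZMod n) ⟶ F :=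
  ((adjOver V).homEquiv _ _).symm (zmodHom V n F s hs)

/-- if `secMap s` factors through `a : G ⟶ F`, then `s` comes from a section of `G` -/
theorem mem_range_of_secMap_factor (s : EtCoh.sect F V) (hs : n • s = 0) {G : EtCoh.Ab X}
    (a : G ⟶ F) (ψ : EtPBC.extZeroConst V (ZMod n) ⟶ G) (h : ψ ≫ a = secMap V n F s hs) :
    ∃ t : EtCoh.sect G V, a.hom.app (op V) t = s := by
  have h1 := (adjOver V).homEquiv_naturality_right ψ a
  rw [h, secMap, Equiv.apply_symm_apply] at h1
  refine ⟨((adjOver V).homEquiv _ _ ψ) (ULift.up 1), ?_⟩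
  have h2 : ((adjOver V).homEquiv _ _ ψ ≫ (secOver V).map a).hom (ULift.up 1) =
      (zmodHom V n F s hs).hom (ULift.up 1) := by rw [h1]
  rw [zmodHom_one] at h2
  exact h2

end SecMap


open Groth.Agent.H4.Stalks in
/-- a non-epimorphic map to a torsion sheaf misses a torsion section over an affine object -/
theorem exists_bad_section {G F : EtCoh.Ab X} (a : G ⟶ F) (ha : ¬ Epi a)
    (hT : EtCoh.IsTorsion F) :
    ∃ (V : X.Etale) (_ : IsAffine V.left) (n : ℕ) (_ : 0 < n) (s : EtCoh.sect F V),
      n • s = 0 ∧ ¬ ∃ t : EtCoh.sect G V, a.hom.app (op V) t = s := by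
  let π := cokernel.π a
  have hπ : π ≠ 0 := fun h => ha (Abelian.epi_of_cokernel_π_eq_zero a h)
  have h1 : ∃ (V : X.Etale) (t : EtCoh.sect F V), π.hom.app (op V) t ≠ 0 := by
    by_contra hcon
    push Not at hcon
    apply hπ
    ext V t
    exact hcon V.unop t
  obtain ⟨V, t, ht⟩ := h1
  have h2 : ∃ p : V.left, ∀ (W : X.Etale) (g : W ⟶ V) (w : W.left), g.left w = p →
      (cokernel a).obj.map g.op (π.hom.app (op V) t) ≠ 0 := by
    by_contra hcon
    push Not at hcon
    exact ht (eq_zero_of_locally_zero _ _ hcon)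
  obtain ⟨p, hp⟩ := h2
  obtain ⟨V', g, ⟨v, hv⟩, hfin⟩ := hT V t p
  obtain ⟨O, hO, hvO, -⟩ :=
    Groth.Agent.H21.ConstrMain.exists_affine_nbhd (⊤ : V'.left.Opens) v trivial
  let V'' : X.Etale := Scheme.Etale.mk (O.ι ≫ (V'.hom : V'.left ⟶ X))
  let h : V'' ⟶ V' := MorphismProperty.Over.homMk O.ι rfl trivial
  have hOaff : IsAffine V''.left := hO
  let s : EtCoh.sect F V'' := F.obj.map (h ≫ g).op t
  have hs : IsOfFinAddOrder s := by
    have : s = (F.obj.map h.op).hom (F.obj.map g.op t) := by
      simp only [s, op_comp, Functor.map_comp]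
      rfl
    rw [this]
    exact AddMonoidHom.isOfFinAddOrder _ hfin
  obtain ⟨n, hn, hns⟩ := hs.exists_nsmul_eq_zero
  refine ⟨V'', hOaff, n, hn, s, hns, ?_⟩
  rintro ⟨u, hu⟩
  have h3 : π.hom.app (op V'') s = 0 := by
    rw [← hu]
    have h5 : (a ≫ π).hom.app (op V'') = 0 := by
      rw [cokernel.condition a]
      rfl
    have h6 := congrArg (fun k => k.hom u) h5
    exact h6
  have h4 : π.hom.app (op V'') s = (cokernel a).obj.map (h ≫ g).op (π.hom.app (op V) t) := by
    have := congrArg (fun k => k t) (congrArg (fun k => k.hom) (π.hom.naturality (h ≫ g).op))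
    exact this
  refine hp V'' (h ≫ g) ⟨v, hvO⟩ ?_ (h4 ▸ h3)
  rw [← hv]
  rfl


open scoped ZeroObject in
/-- **A torsion Noetherian abelian sheaf on a Noetherian scheme is constructible.** -/
theorem isConstructible_of_isNoetherianObject [IsNoetherian X] (F : EtCoh.Ab X)
    (hT : EtCoh.IsTorsion F) [IsNoetherianObject F] : EtPBC.IsConstructible F := by
  let S : Set (Subobject F) := {m | EtPBC.IsConstructible (m : EtCoh.Ab X)}
  have h0 : (Subobject.mk (0 : (0 : EtCoh.Ab X) ⟶ F)) ∈ S :=
    isConstructible_of_isZero _ (IsZero.of_iso (isZero_zero _) (Subobject.underlyingIso _))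
  obtain ⟨m, hmS, hmax⟩ := (wellFounded_gt (α := Subobject F)).has_min S ⟨_, h0⟩
  by_cases hiso : IsIso m.arrow
  · exact isConstructible_of_iso (asIso m.arrow) hmS
  exfalso
  have hne : ¬ Epi m.arrow := fun h => hiso (isIso_of_mono_of_epi _)
  obtain ⟨V, hV, n, hn, s, hns, hbad⟩ := exists_bad_section m.arrow hne hT
  have : NeZero n := ⟨hn.ne'⟩
  let φ := secMap V n F s hns
  let d : (m : EtCoh.Ab X) ⊞ EtPBC.extZeroConst V (ZMod n) ⟶ F := biprod.desc m.arrow φ
  let m' : Subobject F := Subobject.mk (image.ι d)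
  have hV1 : CompactSpace V.left := inferInstance
  have hV2 : QuasiSeparatedSpace V.left := inferInstance
  have hm'S : m' ∈ S := by
    have h1 : EtPBC.IsConstructible ((m : EtCoh.Ab X) ⊞ EtPBC.extZeroConst V (ZMod n)) :=
      isConstructible_biprod _ _ hmS (extZeroConst_isConstructible V (ZMod n))
    have h2 : EtPBC.IsConstructible (image d) := isConstructible_of_epi (factorThruImage d) h1
    exact isConstructible_of_iso (Subobject.underlyingIso (image.ι d)).symm h2
  have hle : m ≤ m' := by
    rw [← Subobject.mk_arrow m]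
    exact Subobject.mk_le_mk_of_comm (biprod.inl ≫ factorThruImage d) (by simp [d])
  have hnle : ¬ m' ≤ m := by
    intro hle'
    apply hbad
    refine mem_range_of_secMap_factor V n F s hns m.arrow
      (biprod.inr ≫ factorThruImage d ≫ Subobject.ofMkLE (image.ι d) m hle') ?_
    simp [d, φ]
  exact hmax m' hm'S (lt_of_le_not_ge hle hnle)

end Groth.Agent.H21.ConstrGen
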