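import Groth.Agent.H21.ConstrSupp

/-!
# Stalks of constructible sheaves: finiteness and independence of the geometric point (helper21)
-/

set_option autoImplicit false
universe u
open CategoryTheory CategoryTheory.Limits AlgebraicGeometry Opposite TopologicalSpace

namespace Groth.Agent.H21.ConstrStalk

open Groth.Agent.H21.OverBridge Groth.Agent.H21.Constr Groth.Agent.H21.ConstrMain
  Groth.Agent.H21.ConstrSupp Groth.Agent.H21.ConstSec Groth.Agent.H21.ConstrACC
  Groth.Agent.H4.Stalks Groth.Agent.H4.StalkPull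

section

variable {W : Scheme.{u}} {Ω : Type u} [Field Ω] [IsSepClosed Ω]

/-- the stalk of a constant sheaf with finite value group is finite -/
theorem finite_stalk_cst (ξ : Spec (CommRingCat.of Ω) ⟶ W) (M : AddCommGrpCat.{u + 1})
    [Finite ↑M] : Finite ↑((EtCoh.stalk ξ).obj (cst W M)) := by
  obtain ⟨x₀, -⟩ := Fib.exists_of_point (ξ := ξ) (EtCoh.top W) (ξ default) rfl
  have hsub : ∀ x : Fib ξ (EtCoh.top W), x = x₀ := by
    intro x
    apply Over.OverMorphism.ext
    have h1 := Over.w x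
    have h2 := Over.w x₀
    dsimp at h1 h2
    rw [Category.comp_id] at h1 h2
    rw [h1, h2]
  let f : ↑M → ↑((EtCoh.stalk ξ).obj (cst W M)) := fun m =>
    germ (cst W M) x₀ (eta M (EtCoh.top W) m)
  refine Finite.of_surjective f ?_
  intro τ
  obtain ⟨U, y, r, rfl⟩ := germ_surjective (cst W M) τ
  obtain ⟨m, V'', g, v'', hv'', hres⟩ := exists_isVal r y.pt
  obtain ⟨y', hy', -⟩ := Fib.exists_lift g y v'' hv''
  refine ⟨m, ?_⟩
  have h1 := germ_res (cst W M) g y' r
  rw [hy'] at h1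
  rw [← h1]
  have h2 : (cst W M).obj.map g.op r = eta M V'' m := hres
  rw [h2]
  let t : V'' ⟶ EtCoh.top W := (EtCore.topIsTerminal W).from V''
  have h3 : eta M V'' m = (cst W M).obj.map t.op (eta M (EtCoh.top W) m) :=
    (res_eta M t m).symm
  rw [h3, germ_res, hsub ((Scheme.pointSmallEtale ξ).fiber.map t y')]

/-- finiteness of the stalk at a geometric point under a trivializing étale neighbourhood -/
theorem finite_stalk_of_triv {T : Scheme.{u}} (H : EtCoh.Ab T) (V : T.Etale) (v : V.left)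
    (M : Type) [AddCommGroup M] [Finite M]
    (c : (EtCoh.pull (V.hom : V.left ⟶ T)).obj H ≅ EtCoh.const V.left M)
    (ξ' : Spec (CommRingCat.of Ω) ⟶ T) (hξ' : (V.hom : V.left ⟶ T) v = ξ' default) :
    Finite ↑((EtCoh.stalk ξ').obj H) := by
  obtain ⟨ξ'', hx⟩ : ∃ ξ'' : Spec (CommRingCat.of Ω) ⟶ V.left,
      ξ'' ≫ (V.hom : V.left ⟶ T) = ξ' := by
    obtain ⟨x, -⟩ := Fib.exists_of_point (ξ := ξ') V v hξ'
    exact ⟨x.left, Over.w x⟩
  subst hx
  have e : (EtCoh.stalk (ξ'' ≫ (V.hom : V.left ⟶ T))).obj H ≅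
      (EtCoh.stalk ξ'').obj (cst V.left (AddCommGrpCat.of (ULift.{u + 1} M))) :=
    (stalkPullIso (V.hom : V.left ⟶ T) ξ'').app H ≪≫ (EtCoh.stalk ξ'').mapIso c
  have : Finite ↑(AddCommGrpCat.of (ULift.{u + 1} M)) := inferInstanceAs (Finite (ULift.{u + 1} M))
  have := finite_stalk_cst ξ'' (AddCommGrpCat.of (ULift.{u + 1} M))
  exact Finite.of_equiv _ e.addCommGroupIsoToAddEquiv.symm.toEquiv

/-- stalks of finite locally constant sheaves are finite -/
theorem finite_stalk_of_isFLC {T : Scheme.{u}} (H : EtCoh.Ab T)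
    (hH : EtCoh.IsFiniteLocallyConstant H) (ξ' : Spec (CommRingCat.of Ω) ⟶ T) :
    Finite ↑((EtCoh.stalk ξ').obj H) := by
  obtain ⟨ι, U, hcov, htriv⟩ := (isFLC_iff _).1 hH
  obtain ⟨k, v, hv⟩ := hcov (ξ' default)
  obtain ⟨M, i1, i2, ⟨c⟩⟩ := htriv k
  exact finite_stalk_of_triv H (U k) v M c ξ' hv

/-- vanishing of the stalk of a finite locally constant sheaf does not depend on the
geometric point over a given point -/
theorem not_mem_supp_of_isFLC {T : Scheme.{u}} (H : EtCoh.Ab T)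
    (hH : EtCoh.IsFiniteLocallyConstant H) (ξ' : Spec (CommRingCat.of Ω) ⟶ T)
    (h0 : IsZero ((EtCoh.stalk ξ').obj H)) : ξ' default ∉ EtPBC.supp H := by
  obtain ⟨ι, U, hcov, htriv⟩ := (isFLC_iff _).1 hH
  obtain ⟨k, v, hv⟩ := hcov (ξ' default)
  obtain ⟨M, i1, i2, ⟨c⟩⟩ := htriv k
  have hM : Subsingleton M := (isZero_stalk_iff_of_triv H (U k) v M c ξ' hv).1 h0
  rintro ⟨Ω', j1, j2, ξ, hξ, hnz⟩
  have hd := default_of_range ξ hξ
  exact hnz ((isZero_stalk_iff_of_triv H (U k) v M c ξ (hv.trans hd.symm)).2 hM)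

end

variable {X : Scheme.{u}} {Ω : Type u} [Field Ω] [IsSepClosed Ω]

/-- a stratum of a constructible sheaf through a given point -/
theorem exists_stratum (F : EtCoh.Ab X) (hF : EtPBC.IsConstructible F) (x : X) :
    ∃ (T : Scheme.{u}) (g : T ⟶ X), IsImmersion g ∧ x ∈ Set.range g ∧
      EtCoh.IsFiniteLocallyConstant ((EtCoh.pull g).obj F) := by
  obtain ⟨U, hU, hxU, -⟩ := exists_affine_nbhd (⊤ : X.Opens) x trivial
  obtain ⟨ι, hι, T, g, h1, h2, h3, h4, h5⟩ := (strata_iff F U).1 (hF U hU)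
  have hxu : x ∈ ⋃ i, Set.range (g i) := by rw [h4]; exact hxU
  obtain ⟨i, hi⟩ := Set.mem_iUnion.1 hxu
  exact ⟨T i, g i, h1 i, hi, h5 i ()⟩

/-- stalks of constructible sheaves are finite -/
theorem finite_stalk_of_isConstructible (F : EtCoh.Ab X) (hF : EtPBC.IsConstructible F)
    (ξ : Spec (CommRingCat.of Ω) ⟶ X) : Finite ↑((EtCoh.stalk ξ).obj F) := by
  obtain ⟨T, g, hg, hx, hflc⟩ := exists_stratum F hF (ξ default)
  obtain ⟨ξ', hξ'⟩ := exists_lift_of_immersion g ξ hx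
  subst hξ'
  have : Finite ↑((EtCoh.pull g ⋙ EtCoh.stalk ξ').obj F) := finite_stalk_of_isFLC _ hflc ξ'
  exact Finite.of_equiv _ ((stalkPullIso g ξ').app F).addCommGroupIsoToAddEquiv.symm.toEquiv

/-- vanishing of the stalk of a constructible sheaf does not depend on the geometric point over
a given point -/
theorem not_mem_supp_of_isZero_stalk (F : EtCoh.Ab X) (hF : EtPBC.IsConstructible F)
    (ξ : Spec (CommRingCat.of Ω) ⟶ X) (h0 : IsZero ((EtCoh.stalk ξ).obj F)) :
    ξ default ∉ EtPBC.supp F := by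
  obtain ⟨T, g, hg, hx, hflc⟩ := exists_stratum F hF (ξ default)
  obtain ⟨ξ', hξ'⟩ := exists_lift_of_immersion g ξ hx
  subst hξ'
  have h1 : IsZero ((EtCoh.stalk ξ').obj ((EtCoh.pull g).obj F)) :=
    IsZero.of_iso h0 ((stalkPullIso g ξ').app F).symm
  have h2 := not_mem_supp_of_isFLC _ hflc ξ' h1
  intro h3
  have h4 : (ξ' ≫ g) default ∈ EtPBC.supp F ∩ Set.range g := ⟨h3, hx⟩
  rw [supp_inter_range] at h4
  obtain ⟨t, ht, hgt⟩ := h4
  have : t = ξ' default := g.isEmbedding.injective hgt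
  exact h2 (this ▸ ht)

end Groth.Agent.H21.ConstrStalk
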