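import Groth.Agent.H21.ConstrGen
import Groth.Agent.H21.ConstrStalk

/-!
# Presentations of constructible sheaves by the `j_! ℤ/n` (helper21)
-/

set_option autoImplicit false
universe u
open CategoryTheory CategoryTheory.Limits AlgebraicGeometry Opposite TopologicalSpace EtShriek

namespace Groth.Agent.H21.ConstrGen

open Groth.Agent.H21.OverBridge Groth.Agent.H21.Constr Groth.Agent.H21.ConstrSub
  Groth.Agent.H21.QFStrata

variable {X : Scheme.{u}}

/-! ### finite biproducts of constructible sheaves -/

/-- constructibility as an object property -/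
def constrProp (X : Scheme.{u}) : ObjectProperty (EtCoh.Ab X) := fun F => EtPBC.IsConstructible F

instance : (constrProp X).IsClosedUnderIsomorphisms :=
  ⟨fun e h => isConstructible_of_iso e h⟩

open scoped ZeroObject in
instance : (constrProp X).ContainsZero :=
  ⟨⟨0, isZero_zero _, isConstructible_of_isZero _ (isZero_zero _)⟩⟩

instance : (constrProp X).IsClosedUnderBinaryProducts where
  limitsOfShape_le := by
    rintro Z ⟨p⟩
    let A := p.diag.obj ⟨WalkingPair.left⟩
    let B := p.diag.obj ⟨WalkingPair.right⟩
    let e : Z ≅ A ⊞ B :=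
      IsLimit.conePointUniqueUpToIso p.isLimit (limit.isLimit p.diag) ≪≫
        HasLimit.isoOfNatIso (diagramIsoPair p.diag) ≪≫ (biprod.isoProd A B).symm
    exact isConstructible_of_iso e.symm
      (isConstructible_biprod A B (p.prop_diag_obj _) (p.prop_diag_obj _))

instance : (constrProp X).IsClosedUnderFiniteProducts :=
  ObjectProperty.IsClosedUnderFiniteProducts.mk'

/-- finite biproducts of constructible sheaves are constructible -/
theorem isConstructible_biproduct {ι : Type} [Finite ι] (f : ι → EtCoh.Ab X)
    (h : ∀ i, EtPBC.IsConstructible (f i)) : EtPBC.IsConstructible (⨁ f) :=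
  (constrProp X).prop_of_isLimit_fan (biproduct.isLimit f) h

/-! ### sheaves killed by `n` -/

/-- evaluation of morphisms of sheaves on sections, as an additive map -/
def secHom (F G : EtCoh.Ab X) (U : X.Etale) :
    (F ⟶ G) →+ (EtCoh.sect F U →+ EtCoh.sect G U) where
  toFun a := (a.hom.app (op U)).hom
  map_zero' := rfl
  map_add' _ _ := rfl

theorem killedBy_iff (n : ℕ) (F : EtCoh.Ab X) : EtCoh.KilledBy n F ↔ n • 𝟙 F = 0 := by
  have key : ∀ (U : X.Etale) (s : EtCoh.sect F U),
      ((n • 𝟙 F : F ⟶ F).hom.app (op U)).hom s = n • s := by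
    intro U s
    have h1 : secHom F F U (n • 𝟙 F) = n • secHom F F U (𝟙 F) := map_nsmul _ _ _
    have h2 := congrArg (fun k => k s) h1
    simpa [secHom] using h2
  constructor
  · intro h
    ext U s
    induction U using Opposite.rec with
    | op U =>
      refine (key U s).trans ((h U s).trans ?_)
      rfl
  · intro h U s
    rw [← key U s, h]
    rfl

theorem killedBy_of_mono {n : ℕ} {F G : EtCoh.Ab X} (a : G ⟶ F) [Mono a]
    (h : EtCoh.KilledBy n F) : EtCoh.KilledBy n G := by
  rw [killedBy_iff] at h ⊢
  rw [← cancel_mono a, Preadditive.nsmul_comp, Category.id_comp, zero_comp,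
    ← Category.comp_id a, ← Preadditive.comp_nsmul, h, comp_zero]

theorem killedBy_biproduct {n : ℕ} {ι : Type} [Finite ι] (f : ι → EtCoh.Ab X)
    (h : ∀ i, EtCoh.KilledBy n (f i)) : EtCoh.KilledBy n (⨁ f) := by
  rw [killedBy_iff]
  apply biproduct.hom_ext'
  intro i
  rw [Preadditive.comp_nsmul, Category.comp_id, comp_zero, ← Category.id_comp (biproduct.ι f i),
    ← Preadditive.nsmul_comp, (killedBy_iff n (f i)).1 (h i), zero_comp]

theorem killedBy_extZeroConst (V : X.Etale) (n : ℕ) :
    EtCoh.KilledBy n (EtPBC.extZeroConst V (ZMod n)) := by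
  rw [killedBy_iff]
  have hR : (secOver V).Additive := { map_add := fun {F G} {a b} => rfl }
  have : (constantSheaf (X.smallEtaleTopology.over V) AddCommGrpCat.{u + 1} ⋙
      EtPBC.extZero V).Additive := (adjOver V).left_adjoint_additive
  have h1 : n • 𝟙 (AddCommGrpCat.of (ULift.{u + 1} (ZMod n))) = 0 := by
    apply AddCommGrpCat.homAddEquiv.injective
    rw [map_nsmul, map_zero]
    ext x
    rw [AddMonoidHom.smul_apply]
    show n • x.down = 0
    simp [nsmul_eq_mul]
  have h2 := congrArg (constantSheaf (X.smallEtaleTopology.over V) AddCommGrpCat.{u + 1} ⋙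
      EtPBC.extZero V).map h1
  rw [Functor.map_nsmul, CategoryTheory.Functor.map_id, Functor.map_zero] at h2
  exact h2

end Groth.Agent.H21.ConstrGen
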