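import Groth.Agent.H21.ConstrGen2

/-!
# Generation of constructible sheaves by finitely many sections (helper21)
-/

set_option autoImplicit false
universe u
open CategoryTheory CategoryTheory.Limits AlgebraicGeometry Opposite TopologicalSpace EtShriek

namespace Groth.Agent.H21.ConstrGen

open Groth.Agent.H21.OverBridge Groth.Agent.H21.Constr Groth.Agent.H21.ConstrSub
  Groth.Agent.H21.QFStrata Groth.Agent.H21.ConstrStalk Groth.Agent.H21.ConstrSupp
  Groth.Agent.H21.ConstrACC Groth.Agent.H21.ConstrLoc Groth.Agent.H4.Stalks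

variable {X : Scheme.{u}}

/-! ### the canonical section of `j_! ℤ/n` -/

/-- the canonical section `1` of `j_! ℤ/n` over `V` -/
noncomputable def unitSec (V : X.Etale) (n : ℕ) :
    EtCoh.sect (EtPBC.extZeroConst V (ZMod n)) V :=
  ((adjOver V).unit.app (AddCommGrpCat.of (ULift.{u + 1} (ZMod n)))).hom (ULift.up 1)

theorem secMap_unitSec (V : X.Etale) (n : ℕ) (F : EtCoh.Ab X) (s : EtCoh.sect F V)
    (hs : n • s = 0) : (secMap V n F s hs).hom.app (op V) (unitSec V n) = s := by
  have h1 : (adjOver V).homEquiv _ _ (secMap V n F s hs) = zmodHom V n F s hs := by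
    rw [secMap, Equiv.apply_symm_apply]
  rw [Adjunction.homEquiv_unit] at h1
  have h2 : ((adjOver V).unit.app _ ≫ (secOver V).map (secMap V n F s hs)).hom (ULift.up 1) =
      (zmodHom V n F s hs).hom (ULift.up 1) := by rw [h1]
  rw [zmodHom_one] at h2
  exact h2

/-! ### stalkwise surjectivity -/

section Stalk

variable {Ω : Type u} [Field Ω] [IsSepClosed Ω]

theorem stalk_surj_iff {F G : EtCoh.Ab X} (φ : F ⟶ G) (ξ : Spec (CommRingCat.of Ω) ⟶ X) :
    Function.Surjective ((EtCoh.stalk ξ).map φ) ↔
      IsZero ((EtCoh.stalk ξ).obj (cokernel φ)) := by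
  rw [← AddCommGrpCat.epi_iff_surjective,
    (PreservesCokernel.iso (EtCoh.stalk ξ) φ).isZero_iff]
  constructor
  · intro h
    exact isZero_cokernel_of_epi _
  · intro h
    exact Preadditive.epi_of_isZero_cokernel _ h

end Stalk

theorem epi_of_stalk_surj {F G : EtCoh.Ab X} (φ : F ⟶ G)
    (h : ∀ s : X, Function.Surjective ((EtCoh.stalk (geomPt s)).map φ)) : Epi φ := by
  apply Preadditive.epi_of_isZero_cokernel
  apply isZero_of_stalks
  intro s
  exact (stalk_surj_iff φ (geomPt s)).1 (h s)

/-! ### families of sections -/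

/-- a finite family of torsion sections of `F` over affine étale `X`-schemes -/
structure Fam (n : ℕ) (F : EtCoh.Ab X) where
  ι : Type
  fin : Finite ι
  U : ι → X.Etale
  aff : ∀ i, IsAffine (U i).left
  s : ∀ i, EtCoh.sect F (U i)
  hs : ∀ i, n • s i = 0

attribute [instance] Fam.fin

variable {n : ℕ} {F : EtCoh.Ab X}

/-- the source `⨁ j_! ℤ/n` of the map attached to a family -/
noncomputable abbrev Fam.src (A : Fam n F) : EtCoh.Ab X :=
  ⨁ fun i => EtPBC.extZeroConst (A.U i) (ZMod n)

/-- the map `⨁ j_! ℤ/n → F` attached to a family -/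
noncomputable def Fam.ψ (A : Fam n F) : A.src ⟶ F :=
  biproduct.desc fun i => secMap (A.U i) n F (A.s i) (A.hs i)

theorem Fam.isConstructible_src [CompactSpace X] [QuasiSeparatedSpace X] [NeZero n]
    (A : Fam n F) : EtPBC.IsConstructible A.src := by
  refine isConstructible_biproduct _ fun i => ?_
  have := A.aff i
  exact extZeroConst_isConstructible (A.U i) (ZMod n)

theorem Fam.killedBy_src (A : Fam n F) : EtCoh.KilledBy n A.src :=
  killedBy_biproduct _ fun i => killedBy_extZeroConst (A.U i) n

/-- every member of the family is in the image of `ψ` -/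
theorem Fam.mem_range (A : Fam n F) (i : A.ι) :
    ∃ t : EtCoh.sect A.src (A.U i), A.ψ.hom.app (op (A.U i)) t = A.s i := by
  refine ⟨(biproduct.ι (fun i => EtPBC.extZeroConst (A.U i) (ZMod n)) i).hom.app (op (A.U i))
    (unitSec (A.U i) n), ?_⟩
  have h1 : biproduct.ι (fun i => EtPBC.extZeroConst (A.U i) (ZMod n)) i ≫ A.ψ =
      secMap (A.U i) n F (A.s i) (A.hs i) := biproduct.ι_desc _ _
  have h2 := secMap_unitSec (A.U i) n F (A.s i) (A.hs i)
  rw [← h1] at h2
  exact h2

/-- the union of a finite family of families -/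
noncomputable def Fam.sigma {κ : Type} [Finite κ] (A : κ → Fam n F) : Fam n F where
  ι := Σ k, (A k).ι
  fin := inferInstance
  U := fun p => (A p.1).U p.2
  aff := fun p => (A p.1).aff p.2
  s := fun p => (A p.1).s p.2
  hs := fun p => (A p.1).hs p.2

/-- the inclusion of the source of a member into the source of the union -/
noncomputable def Fam.sigmaIncl {κ : Type} [Finite κ] (A : κ → Fam n F) (k : κ) :
    (A k).src ⟶ (Fam.sigma A).src :=
  biproduct.desc fun i =>
    biproduct.ι (fun p : Σ k, (A k).ι => EtPBC.extZeroConst ((A p.1).U p.2) (ZMod n)) ⟨k, i⟩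

theorem Fam.sigmaIncl_ψ {κ : Type} [Finite κ] (A : κ → Fam n F) (k : κ) :
    Fam.sigmaIncl A k ≫ (Fam.sigma A).ψ = (A k).ψ := by
  apply biproduct.hom_ext'
  intro i
  simp only [Fam.sigmaIncl, Fam.ψ, biproduct.ι_desc_assoc, biproduct.ι_desc]
  exact biproduct.ι_desc (f := fun p : Σ k, (A k).ι => EtPBC.extZeroConst ((A p.1).U p.2) (ZMod n))
    (fun p : Σ k, (A k).ι => secMap ((A p.1).U p.2) n F ((A p.1).s p.2) ((A p.1).hs p.2)) ⟨k, i⟩


/-- sections generating the stalk at a point, over affine étale neighbourhoods -/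
theorem exists_affine_germ {Ω : Type u} [Field Ω] [IsSepClosed Ω]
    (ξ : Spec (CommRingCat.of Ω) ⟶ X) (τ : (EtCoh.stalk ξ).obj F) :
    ∃ (U : X.Etale) (_ : IsAffine U.left) (y : Fib ξ U) (s : EtCoh.sect F U),
      germ F y s = τ := by
  obtain ⟨U, y, r, rfl⟩ := germ_surjective F τ
  obtain ⟨O, hO, hyO, -⟩ :=
    Groth.Agent.H21.ConstrMain.exists_affine_nbhd (⊤ : U.left.Opens) y.pt trivial
  let U' : X.Etale := Scheme.Etale.mk (O.ι ≫ (U.hom : U.left ⟶ X))
  let h : U' ⟶ U := MorphismProperty.Over.homMk O.ι rfl trivial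
  have hOaff : IsAffine U'.left := hO
  obtain ⟨y', hy', -⟩ := Fib.exists_lift h y ⟨y.pt, hyO⟩ rfl
  refine ⟨U', hOaff, y', F.obj.map h.op r, ?_⟩
  rw [germ_res, hy']

/-- **local generation**: near any point a constructible sheaf killed by `n` is generated by
finitely many sections over affine étale schemes -/
theorem exists_fam_local [CompactSpace X] [QuasiSeparatedSpace X] [NeZero n]
    (hF : EtPBC.IsConstructible F) (hFn : EtCoh.KilledBy n F) (x : X) :
    ∃ A : Fam n F, x ∉ EtPBC.supp (cokernel A.ψ) := by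
  have hfin := finite_stalk_of_isConstructible F hF (geomPt x)
  obtain ⟨b, ⟨e⟩⟩ := Finite.exists_equiv_fin ↑((EtCoh.stalk (geomPt x)).obj F)
  choose U hU y s hs using fun τ => exists_affine_germ (F := F) (geomPt x) τ
  let A : Fam n F :=
    { ι := Fin b
      fin := inferInstance
      U := fun i => U (e.symm i)
      aff := fun i => hU (e.symm i)
      s := fun i => s (e.symm i)
      hs := fun i => hFn _ _ }
  refine ⟨A, ?_⟩
  have hsurj : Function.Surjective ((EtCoh.stalk (geomPt x)).map A.ψ) := by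
    intro τ
    obtain ⟨t, ht⟩ := A.mem_range (e τ)
    refine ⟨germ A.src (y (e.symm (e τ))) t, ?_⟩
    rw [germ_map, ht]
    show germ F (y (e.symm (e τ))) (s (e.symm (e τ))) = τ
    rw [hs, Equiv.symm_apply_apply]
  have hz := (stalk_surj_iff A.ψ (geomPt x)).1 hsurj
  have hc : EtPBC.IsConstructible (cokernel A.ψ) :=
    (isConstructible_kernel_cokernel A.ψ A.isConstructible_src hF).2
  have := not_mem_supp_of_isZero_stalk _ hc (geomPt x) hz
  rwa [geomPt_default] at this

/-- the stalk at the canonical geometric point vanishes outside the support -/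
theorem isZero_stalk_of_not_mem_supp (G : EtCoh.Ab X) (x : X) (hx : x ∉ EtPBC.supp G) :
    IsZero ((EtCoh.stalk (geomPt x)).obj G) := by
  by_contra hnz
  refine hx ⟨_, inferInstance, inferInstance, geomPt x, ?_, hnz⟩
  rw [range_geom, geomPt_default]

/-- **global generation**: a constructible sheaf killed by `n` on a qcqs scheme is a quotient
of a finite direct sum of sheaves `j_! ℤ/n` with affine étale `j`. -/
theorem exists_fam_epi [CompactSpace X] [QuasiSeparatedSpace X] [NeZero n]
    (hF : EtPBC.IsConstructible F) (hFn : EtCoh.KilledBy n F) :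
    ∃ A : Fam n F, Epi A.ψ := by
  choose A hA using fun x => exists_fam_local hF hFn x
  let R : X → Set X := fun x => (EtPBC.supp (cokernel (A x).ψ))ᶜ
  have hR : ∀ x, Topology.IsConstructible (R x) := fun x =>
    ((isLocallyConstructible_supp _
      (isConstructible_kernel_cokernel (A x).ψ (A x).isConstructible_src hF).2).isConstructible).compl
  have hcov : (⋃ x, R x) = Set.univ :=
    Set.eq_univ_of_forall fun x => Set.mem_iUnion.2 ⟨x, hA x⟩
  obtain ⟨t, ht⟩ := exists_finite_subcover_of_isConstructible R hR hcov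
  let A' : Fin t.card → Fam n F := fun k => A (t.equivFin.symm k).1
  refine ⟨Fam.sigma A', epi_of_stalk_surj _ fun s => ?_⟩
  have hs : s ∈ ⋃ x ∈ t, R x := by rw [ht]; trivial
  obtain ⟨x, hxt, hsx⟩ := Set.mem_iUnion₂.1 hs
  let k : Fin t.card := t.equivFin ⟨x, hxt⟩
  have hk : A' k = A x := by
    show A (t.equivFin.symm (t.equivFin ⟨x, hxt⟩)).1 = A x
    rw [Equiv.symm_apply_apply]
  have h1 : Function.Surjective ((EtCoh.stalk (geomPt s)).map (A' k).ψ) := by
    rw [hk]
    exact (stalk_surj_iff _ _).2 (isZero_stalk_of_not_mem_supp _ s hsx)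
  rw [← Fam.sigmaIncl_ψ A' k, Functor.map_comp] at h1
  exact Function.Surjective.of_comp (g := (EtCoh.stalk (geomPt s)).map (Fam.sigmaIncl A' k)) h1

end Groth.Agent.H21.ConstrGen
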