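import Groth.Agent.H21.ConstrGen3

/-!
# Presentation of constructible sheaves of `ℤ/n`-modules (helper21)
-/

set_option autoImplicit false
universe u
open CategoryTheory CategoryTheory.Limits AlgebraicGeometry Opposite TopologicalSpace EtShriek

namespace Groth.Agent.H21.ConstrGen

open Groth.Agent.H21.ConstrSub

variable {X : Scheme.{u}} {n : ℕ} {F : EtCoh.Ab X}

/-- reindexing the source of a family by `Fin` -/
noncomputable def Fam.finIso (A : Fam n F) {a : ℕ} (e : A.ι ≃ Fin a) :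
    (⨁ fun j : Fin a => EtPBC.extZeroConst (A.U (e.symm j)) (ZMod n)) ≅ A.src :=
  biproduct.whiskerEquiv (f := fun j : Fin a => EtPBC.extZeroConst (A.U (e.symm j)) (ZMod n))
    (g := fun i : A.ι => EtPBC.extZeroConst (A.U i) (ZMod n)) e.symm fun _ => Iso.refl _

/-- **presentation**: a constructible sheaf killed by `n` is the cokernel of a map between
finite direct sums of sheaves `j_! ℤ/n` -/
theorem exists_presentation [CompactSpace X] [QuasiSeparatedSpace X] (hn : 0 < n)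
    (hF : EtPBC.IsConstructible F) (hFn : EtCoh.KilledBy n F) :
    ∃ (a b : ℕ) (V : Fin a → X.Etale) (U : Fin b → X.Etale) (_ : ∀ j, IsAffine (V j).left)
      (_ : ∀ i, IsAffine (U i).left)
      (φ : (⨁ fun j => EtPBC.extZeroConst (V j) (ZMod n)) ⟶
        ⨁ fun i => EtPBC.extZeroConst (U i) (ZMod n)),
      Nonempty (F ≅ cokernel φ) := by
  have : NeZero n := ⟨hn.ne'⟩
  obtain ⟨A, hA⟩ := exists_fam_epi hF hFn
  have hK : EtPBC.IsConstructible (kernel A.ψ) :=
    (isConstructible_kernel_cokernel A.ψ A.isConstructible_src hF).1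
  have hKn : EtCoh.KilledBy n (kernel A.ψ) := killedBy_of_mono (kernel.ι A.ψ) A.killedBy_src
  obtain ⟨B, hB⟩ := exists_fam_epi hK hKn
  obtain ⟨a, ⟨eB⟩⟩ := Finite.exists_equiv_fin B.ι
  obtain ⟨b, ⟨eA⟩⟩ := Finite.exists_equiv_fin A.ι
  let φ' : B.src ⟶ A.src := B.ψ ≫ kernel.ι A.ψ
  let φ := (B.finIso eB).hom ≫ φ' ≫ (A.finIso eA).inv
  refine ⟨a, b, fun j => B.U (eB.symm j), fun i => A.U (eA.symm i), fun j => B.aff _,
    fun i => A.aff _, φ, ⟨?_⟩⟩
  have e1 : cokernel φ ≅ cokernel φ' :=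
    cokernel.mapIso φ φ' (B.finIso eB) (A.finIso eA) (by simp [φ])
  have e2 : cokernel φ' ≅ cokernel (kernel.ι A.ψ) := cokernelEpiComp B.ψ (kernel.ι A.ψ)
  have hcolim := Abelian.epiIsCokernelOfKernel _ (kernelIsKernel A.ψ)
  have e3 : cokernel (kernel.ι A.ψ) ≅ F :=
    (colimit.isColimit (parallelPair (kernel.ι A.ψ) 0)).coconePointUniqueUpToIso hcolim
  exact (e1 ≪≫ e2 ≪≫ e3).symm

end Groth.Agent.H21.ConstrGen
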