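import Groth.Agent.H21.ConstrGen4

/-!
# Constructible sheaves on qcqs schemes are killed by a positive integer; characterization of
constructible sheaves by presentations (helper21)
-/

set_option autoImplicit false
universe u
open CategoryTheory CategoryTheory.Limits AlgebraicGeometry Opposite TopologicalSpace EtShriek

namespace Groth.Agent.H21.ConstrGen

open Groth.Agent.H21.OverBridge Groth.Agent.H21.Constr Groth.Agent.H21.ConstrSub
  Groth.Agent.H21.QFStrata Groth.Agent.H21.ConstrStalk Groth.Agent.H21.ConstrSupp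
  Groth.Agent.H21.ConstrACC Groth.Agent.H21.ConstrLoc Groth.Agent.H21.ConstrMain
  Groth.Agent.H21.ConstSec Groth.Agent.H4.Stalks Groth.Agent.H4.StalkPull

section

variable {Ω : Type u} [Field Ω] [IsSepClosed Ω]

/-- the stalk of a trivialized sheaf is killed by the order of the value group -/
theorem nsmul_stalk_of_triv {T : Scheme.{u}} (H : EtCoh.Ab T) (V : T.Etale) (v : V.left)
    (M : Type) [AddCommGroup M] [Finite M]
    (c : (EtCoh.pull (V.hom : V.left ⟶ T)).obj H ≅ EtCoh.const V.left M)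
    (ξ' : Spec (CommRingCat.of Ω) ⟶ T) (hξ' : (V.hom : V.left ⟶ T) v = ξ' default)
    (N : ℕ) (hN : Nat.card M ∣ N) :
    N • 𝟙 ((EtCoh.stalk ξ').obj H) = 0 := by
  obtain ⟨ξ'', hx⟩ : ∃ ξ'' : Spec (CommRingCat.of Ω) ⟶ V.left,
      ξ'' ≫ (V.hom : V.left ⟶ T) = ξ' := by
    obtain ⟨x, -⟩ := Fib.exists_of_point (ξ := ξ') V v hξ'
    exact ⟨x.left, Over.w x⟩
  subst hx
  let e : (EtCoh.stalk (ξ'' ≫ (V.hom : V.left ⟶ T))).obj H ≅
      (EtCoh.stalk ξ'').obj (cst V.left (AddCommGrpCat.of (ULift.{u + 1} M))) :=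
    (stalkPullIso (V.hom : V.left ⟶ T) ξ'').app H ≪≫ (EtCoh.stalk ξ'').mapIso c
  have h1 : N • 𝟙 (AddCommGrpCat.of (ULift.{u + 1} M)) = 0 := by
    apply AddCommGrpCat.homAddEquiv.injective
    rw [map_nsmul, map_zero]
    ext x
    rw [AddMonoidHom.smul_apply]
    show N • x.down = 0
    obtain ⟨k, rfl⟩ := hN
    rw [mul_nsmul', card_nsmul_eq_zero']
  have hR : (EtCore.gsec V.left).Additive := { map_add := fun {F G} {a b} => rfl }
  have hadd : (constantSheaf V.left.smallEtaleTopology AddCommGrpCat.{u + 1}).Additive :=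
    (EtCore.constAdj V.left).left_adjoint_additive
  have h2 : N • 𝟙 ((EtCoh.stalk ξ'').obj (cst V.left (AddCommGrpCat.of (ULift.{u + 1} M)))) = 0 := by
    have := congrArg (constantSheaf V.left.smallEtaleTopology AddCommGrpCat.{u + 1} ⋙
      EtCoh.stalk ξ'').map h1
    rw [Functor.map_nsmul, CategoryTheory.Functor.map_id, Functor.map_zero] at this
    exact this
  rw [← cancel_mono e.hom, Preadditive.nsmul_comp, Category.id_comp, zero_comp,
    ← Category.comp_id e.hom, ← Preadditive.comp_nsmul, h2, comp_zero]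


end

/-- the stalks of a finite locally constant sheaf on a quasi-compact scheme are killed by a
common positive integer -/
theorem exists_nsmul_stalk_of_isFLC {T : Scheme.{u}} [CompactSpace T] (H : EtCoh.Ab T)
    (hH : EtCoh.IsFiniteLocallyConstant H) :
    ∃ N : ℕ, 0 < N ∧ ∀ (Ω : Type u) [Field Ω] [IsSepClosed Ω]
      (ξ' : Spec (CommRingCat.of Ω) ⟶ T), N • 𝟙 ((EtCoh.stalk ξ').obj H) = 0 := by
  obtain ⟨ι, U, hcov, htriv⟩ := (isFLC_iff _).1 hH
  choose M i1 i2 c using htriv
  let O : ι → Set T := fun k => Set.range ((U k).hom : (U k).left ⟶ T)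
  have hO : ∀ k, IsOpen (O k) := fun k => by
    have : Etale ((U k).hom : (U k).left ⟶ T) := (U k).prop
    exact ((U k).hom : (U k).left ⟶ T).isOpenMap.isOpen_range
  have hcovO : (Set.univ : Set T) ⊆ ⋃ k, O k := by
    intro t _
    obtain ⟨k, v, hv⟩ := hcov t
    exact Set.mem_iUnion.2 ⟨k, v, hv⟩
  obtain ⟨t, ht⟩ := isCompact_univ.elim_finite_subcover O hO hcovO
  have := i2
  refine ⟨∏ k ∈ t, Nat.card (M k), Finset.prod_pos fun k _ => Nat.card_pos, ?_⟩
  intro Ω _ _ ξ'
  have h1 := ht (Set.mem_univ (ξ' default))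
  obtain ⟨k, hkt, v, hv⟩ := Set.mem_iUnion₂.1 h1
  exact nsmul_stalk_of_triv H (U k) v (M k) (c k).some ξ' hv _ (Finset.dvd_prod_of_mem _ hkt)

variable {X : Scheme.{u}}

/-- sheaves whose stalks are killed by `N` are killed by `N` -/
theorem killedBy_of_stalks (F : EtCoh.Ab X) (N : ℕ)
    (h : ∀ s : X, N • 𝟙 ((EtCoh.stalk (geomPt s)).obj F) = 0) : EtCoh.KilledBy N F := by
  intro V s
  apply eq_zero_of_germs F
  intro p
  obtain ⟨x, hx⟩ := Fib.exists_of_point (ξ := geomPt ((V.hom : V.left ⟶ X) p)) V p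
    (geomPt_default _).symm
  refine ⟨_, inferInstance, inferInstance, geomPt ((V.hom : V.left ⟶ X) p), x, hx, ?_⟩
  rw [map_nsmul]
  have h1 := h ((V.hom : V.left ⟶ X) p)
  have h2 := congrArg (fun k => (AddCommGrpCat.homAddEquiv k) (germ F x s)) h1
  simpa [map_nsmul] using h2

/-- **a constructible sheaf on a qcqs scheme is killed by a positive integer** -/
theorem exists_killedBy [CompactSpace X] [QuasiSeparatedSpace X] (F : EtCoh.Ab X)
    (hF : EtPBC.IsConstructible F) : ∃ N : ℕ, 0 < N ∧ EtCoh.KilledBy N F := by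
  obtain ⟨ι, hι, T, g, h1, h2, h3, h4, h5⟩ :=
    (strata_iff F _).1 ((isConstructible_iff_of_qcqs F).1 hF)
  have := Fintype.ofFinite ι
  have hTc : ∀ i, CompactSpace (T i) := fun i => by
    have := h1 i
    have hc : Topology.IsConstructible (Set.range (g i)) := by
      have := (h2 i).image_of_isOpenEmbedding isOpen_univ.isOpenEmbedding_subtypeVal
        (by simp)
      simpa using this
    have hK : IsCompact (Set.range (g i)) := isCompact_of_isConstructible hc
    rw [← Set.image_univ, ← (g i).isEmbedding.isInducing.isCompact_iff] at hK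
    exact isCompact_univ_iff.1 hK
  choose N hNpos hN using fun i => exists_nsmul_stalk_of_isFLC _ (h5 i ())
  refine ⟨∏ i, N i, Finset.prod_pos fun i _ => hNpos i, killedBy_of_stalks F _ fun s => ?_⟩
  have hs : s ∈ ⋃ i, Set.range (g i) := by rw [h4]; trivial
  obtain ⟨i, hi⟩ := Set.mem_iUnion.1 hs
  have := h1 i
  obtain ⟨ξ', hξ'⟩ := exists_lift_of_immersion (g i) (geomPt s) (by rw [geomPt_default]; exact hi)
  have e := (stalkPullIso (g i) ξ').app F
  rw [hξ'] at e
  have h6 : N i • 𝟙 ((EtCoh.pull (g i) ⋙ EtCoh.stalk ξ').obj F) = 0 := hN i _ ξ'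
  have h7 : N i • 𝟙 ((EtCoh.stalk (geomPt s)).obj F) = 0 := by
    rw [← cancel_mono e.hom, Preadditive.nsmul_comp, Category.id_comp, zero_comp,
      ← Category.comp_id e.hom, ← Preadditive.comp_nsmul, h6, comp_zero]
  obtain ⟨k, hk⟩ := Finset.dvd_prod_of_mem N (Finset.mem_univ i)
  rw [hk, mul_nsmul, h7, smul_zero]


/-- **characterization of constructible sheaves by presentations** -/
theorem isConstructible_iff_presentation [CompactSpace X] [QuasiSeparatedSpace X]
    (F : EtCoh.Ab X) :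
    EtPBC.IsConstructible F ↔
      ∃ (a b : ℕ) (U : Fin a → X.Etale) (V : Fin b → X.Etale) (n : Fin a → ℕ) (m : Fin b → ℕ),
        (∀ i, 0 < n i ∧ IsAffine (U i).left) ∧ (∀ j, 0 < m j ∧ IsAffine (V j).left) ∧
        ∃ φ : (⨁ fun j => EtPBC.extZeroConst (V j) (ZMod (m j))) ⟶
            (⨁ fun i => EtPBC.extZeroConst (U i) (ZMod (n i))),
          Nonempty (F ≅ cokernel φ) := by
  constructor
  · intro hF
    obtain ⟨N, hN, hFN⟩ := exists_killedBy F hF
    obtain ⟨a, b, V, U, hV, hU, φ, hφ⟩ := exists_presentation hN hF hFN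
    exact ⟨b, a, U, V, fun _ => N, fun _ => N, fun i => ⟨hN, hU i⟩, fun j => ⟨hN, hV j⟩, φ, hφ⟩
  · rintro ⟨a, b, U, V, n, m, hU, hV, φ, ⟨e⟩⟩
    have h1 : EtPBC.IsConstructible (⨁ fun j => EtPBC.extZeroConst (V j) (ZMod (m j))) := by
      refine isConstructible_biproduct _ fun j => ?_
      have := (hV j).2
      have : NeZero (m j) := ⟨(hV j).1.ne'⟩
      exact extZeroConst_isConstructible (V j) (ZMod (m j))
    have h2 : EtPBC.IsConstructible (⨁ fun i => EtPBC.extZeroConst (U i) (ZMod (n i))) := by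
      refine isConstructible_biproduct _ fun i => ?_
      have := (hU i).2
      have : NeZero (n i) := ⟨(hU i).1.ne'⟩
      exact extZeroConst_isConstructible (U i) (ZMod (n i))
    exact isConstructible_of_iso e.symm (isConstructible_kernel_cokernel φ h1 h2).2

end Groth.Agent.H21.ConstrGen
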