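import Groth.Agent.H21.Constr
import Mathlib.AlgebraicGeometry.IdealSheaf.Subscheme

/-!
# Gluing and restricting stratifications adapted to étale sheaves (helper21)
-/

set_option autoImplicit false
universe u
open CategoryTheory CategoryTheory.Limits AlgebraicGeometry Opposite TopologicalSpace

namespace Groth.Agent.H21.ConstrGlue

open Groth.Agent.H21.OverBridge Groth.Agent.H21.Constr

section Top

variable {α : Type*} [TopologicalSpace α]

/-- a compact open subset of `α` contained in the open `S` is a compact open subset of `S` -/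
theorem isCompact_preimage_val (S W : Opens α) (hW : W ≤ S) (hc : IsCompact (W : Set α)) :
    IsCompact ((Subtype.val : ↥S → α) ⁻¹' (W : Set α)) := by
  refine (Topology.IsInducing.subtypeVal.isCompact_preimage_iff ?_).2 hc
  rw [Subtype.range_val]
  exact hW

theorem isConstructible_preimage_val_opens (S W : Opens α) [QuasiSeparatedSpace ↥S] (hW : W ≤ S)
    (hc : IsCompact (W : Set α)) :
    Topology.IsConstructible ((Subtype.val : ↥S → α) ⁻¹' (W : Set α)) :=
  (isCompact_preimage_val S W hW hc).isConstructible (W.isOpen.preimage continuous_subtype_val)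

/-- constructibility in a compact open `W` of a quasi-separated open `S` implies
constructibility in `S` -/
theorem isConstructible_of_le (S W : Opens α) [QuasiSeparatedSpace ↥S] (hW : W ≤ S)
    (hc : IsCompact (W : Set α)) (R : Set α) (hR : R ⊆ W)
    (h : Topology.IsConstructible ((Subtype.val : ↥W → α) ⁻¹' R)) :
    Topology.IsConstructible ((Subtype.val : ↥S → α) ⁻¹' R) := by
  have hj := Opens.isOpenEmbedding_of_le hW
  have hr : Set.range (Set.inclusion (SetLike.coe_subset_coe.2 hW)) =
      (Subtype.val : ↥S → α) ⁻¹' (W : Set α) := Set.range_inclusion _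
  refine (Topology.isConstructible_preimage_iff_of_isOpenEmbedding hj ?_ ?_).1 ?_
  · rw [hr]
    exact (isCompact_preimage_val S W hW hc).isRetrocompact
      (W.isOpen.preimage continuous_subtype_val)
  · rw [hr]
    exact Set.preimage_mono hR
  · exact h

end Top

variable {X : Scheme.{u}}

/-- cutting an immersion down to a closed subset -/
theorem exists_cut {T : Scheme.{u}} (g : T ⟶ X) [IsImmersion g] (Z : Set X) (hZ : IsClosed Z) :
    ∃ (T' : Scheme.{u}) (c' : T' ⟶ T), IsClosedImmersion c' ∧
      Set.range (c' ≫ g) = Set.range g ∩ Z := by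
  let C : Closeds T := ⟨g ⁻¹' Z, hZ.preimage g.continuous⟩
  let I := Scheme.IdealSheafData.vanishingIdeal C
  refine ⟨I.subscheme, I.subschemeι, inferInstance, ?_⟩
  rw [Scheme.Hom.comp_base, TopCat.coe_comp, Set.range_comp, Scheme.IdealSheafData.range_subschemeι,
    Scheme.IdealSheafData.coe_support_vanishingIdeal]
  exact Set.image_preimage_eq_range_inter

/-- **Gluing of stratifications.** If an open `S` (quasi-separated as a space) is covered by
finitely many compact opens `W k`, each carrying a stratification adapted to the family `F`,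
then `S` carries one. -/
theorem Strata.glue {κ : Type*} {F : κ → EtCoh.Ab X} (S : X.Opens) [QuasiSeparatedSpace ↥S]
    {n : ℕ} (W : Fin n → X.Opens) (hW : ∀ k, W k ≤ S) (hc : ∀ k, IsCompact (W k : Set X))
    (hcov : (S : Set X) ⊆ ⋃ k, (W k : Set X)) (h : ∀ k, Strata F (W k : Set X)) :
    Strata F (S : Set X) := by
  choose ι hι T g h1 h2 h3 h4 h5 using h
  -- the closed sets
  let Z : Fin n → Set X := fun k => (⋃ l : Fin n, ⋃ (_ : l < k), (W l : Set X))ᶜ
  have hZ : ∀ k, IsClosed (Z k) := fun k =>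
    (isOpen_iUnion fun l => isOpen_iUnion fun _ => (W l).isOpen).isClosed_compl
  have hrW : ∀ k i, Set.range (g k i) ⊆ (W k : Set X) := fun k i => by
    rw [← h4 k]
    exact Set.subset_iUnion (fun i => Set.range (g k i)) i
  have key : ∀ p : Σ k, ι k, ∃ (T' : Scheme.{u}) (c' : T' ⟶ T p.1 p.2), IsClosedImmersion c' ∧
      Set.range (c' ≫ g p.1 p.2) = Set.range (g p.1 p.2) ∩ Z p.1 := fun p => by
    have := h1 p.1 p.2
    exact exists_cut (g p.1 p.2) (Z p.1) (hZ p.1)
  choose T' c' hc' hr using key
  have : ∀ k, Finite (ι k) := hι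
  refine ⟨Σ k, ι k, inferInstance, T', fun p => c' p ≫ g p.1 p.2, fun p => ?_, fun p => ?_, ?_, ?_,
    fun p k => ?_⟩
  · have := h1 p.1 p.2
    have := hc' p
    infer_instance
  · rw [hr, Set.preimage_inter]
    refine (isConstructible_of_le S (W p.1) (hW p.1) (hc p.1) _ (hrW p.1 p.2) (h2 p.1 p.2)).inter ?_
    show Topology.IsConstructible ((Subtype.val : ↥S → X) ⁻¹'
      (⋃ l : Fin n, ⋃ (_ : l < p.1), (W l : Set X))ᶜ)
    rw [Set.preimage_compl]
    refine Topology.IsConstructible.compl ?_
    rw [Set.preimage_iUnion₂]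
    exact Topology.IsConstructible.biUnion (Set.toFinite _)
      (fun l _ => isConstructible_preimage_val_opens S (W l) (hW l) (hc l))
  · rintro ⟨k, i⟩ ⟨k', i'⟩ hne
    show Disjoint (Set.range (c' ⟨k, i⟩ ≫ g k i)) (Set.range (c' ⟨k', i'⟩ ≫ g k' i'))
    rw [hr, hr]
    rcases lt_trichotomy k k' with hlt | heq | hgt
    · refine Set.disjoint_left.2 fun x hx hx' => hx'.2 ?_
      exact Set.mem_iUnion₂.2 ⟨k, hlt, hrW k i hx.1⟩
    · subst heq
      have hii : i ≠ i' := fun e => hne (by rw [e])
      exact (h3 k hii).mono Set.inter_subset_left Set.inter_subset_left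
    · refine Set.disjoint_left.2 fun x hx hx' => hx.2 ?_
      exact Set.mem_iUnion₂.2 ⟨k', hgt, hrW k' i' hx'.1⟩
  · simp_rw [hr]
    apply Set.Subset.antisymm
    · intro x hx
      obtain ⟨p, hp⟩ := Set.mem_iUnion.1 hx
      exact hW p.1 (hrW p.1 p.2 hp.1)
    · intro x hx
      have hex : ∃ m : ℕ, ∃ hm : m < n, x ∈ (W ⟨m, hm⟩ : Set X) := by
        obtain ⟨k, hk⟩ := Set.mem_iUnion.1 (hcov hx)
        exact ⟨k.1, k.2, hk⟩
      classical
      obtain ⟨hm, hxm⟩ := Nat.find_spec hex
      set k : Fin n := ⟨Nat.find hex, hm⟩ with hk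
      have hmin : ∀ l : Fin n, l < k → x ∉ (W l : Set X) := fun l hl hxl =>
        Nat.find_min hex (show l.1 < Nat.find hex from hl) ⟨l.2, hxl⟩
      have hxk : x ∈ ⋃ i, Set.range (g k i) := by rw [h4 k]; exact hxm
      obtain ⟨i, hi⟩ := Set.mem_iUnion.1 hxk
      refine Set.mem_iUnion.2 ⟨⟨k, i⟩, hi, ?_⟩
      intro hx'
      obtain ⟨l, hl, hxl⟩ := Set.mem_iUnion₂.1 hx'
      exact hmin l hl hxl
  · exact isFLC_of_iso ((EtCore.pullComp (c' p) (g p.1 p.2)).symm.app (F k))
      (pull_isFLC _ _ (h5 p.1 p.2 k))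

end Groth.Agent.H21.ConstrGlue
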