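import Groth.Agent.H21.ConstrSupp
import Mathlib.Topology.Spectral.ConstructibleTopology

set_option autoImplicit false
universe u
open CategoryTheory CategoryTheory.Limits AlgebraicGeometry Opposite TopologicalSpace
open scoped Topology

namespace Groth.Agent.H21.ConstrLoc

open Groth.Agent.H21.OverBridge Groth.Agent.H21.Constr Groth.Agent.H21.ConstrGlue
  Groth.Agent.H21.ConstrOps Groth.Agent.H21.ConstrMain Groth.Agent.H21.ConstrSupp

section Top

variable {α β : Type*} [TopologicalSpace α] [TopologicalSpace β]

/-- a compact subset of an open set of a prespectral space lies in a compact open subset of it -/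
theorem exists_compact_open_between [PrespectralSpace α] {K O : Set α} (hK : IsCompact K)
    (hO : IsOpen O) (hKO : K ⊆ O) :
    ∃ U : Set α, IsOpen U ∧ IsCompact U ∧ K ⊆ U ∧ U ⊆ O := by
  have hbasis := PrespectralSpace.isTopologicalBasis (X := α)
  have hcov : ∀ y ∈ K, ∃ U : Set α, (IsOpen U ∧ IsCompact U) ∧ y ∈ U ∧ U ⊆ O := by
    intro y hy
    obtain ⟨U, hU, hyU, hUO⟩ := hbasis.exists_subset_of_mem_open (hKO hy) hO
    exact ⟨U, hU, hyU, hUO⟩
  choose! U hU hyU hUO using hcov
  obtain ⟨t, ht, htfin, htcov⟩ := hK.elim_finite_subcover_image (b := K) (c := U)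
    (fun y hy => (hU y hy).1) (fun y hy => Set.mem_biUnion hy (hyU y hy))
  exact ⟨⋃ y ∈ t, U y, isOpen_biUnion fun y hy => (hU y (ht hy)).1,
    htfin.isCompact_biUnion fun y hy => (hU y (ht hy)).2, htcov,
    Set.iUnion₂_subset fun y hy => hUO y (ht hy)⟩

/-- the image of a constructible set under an embedding with constructible range between
quasi-compact quasi-separated prespectral spaces is constructible -/
theorem isConstructible_image_of_isEmbedding [CompactSpace α] [QuasiSeparatedSpace α]
    [PrespectralSpace α] [CompactSpace β] [QuasiSeparatedSpace β] [PrespectralSpace β]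
    (g : β → α) (hg : Topology.IsEmbedding g) (hR : Topology.IsConstructible (Set.range g))
    {s : Set β} (hs : Topology.IsConstructible s) : Topology.IsConstructible (g '' s) := by
  -- images of compact opens
  have hco : ∀ B : Set β, IsOpen B → IsCompact B → Topology.IsConstructible (g '' B) := by
    intro B hBo hBc
    obtain ⟨O, hO, hOB⟩ := hg.isInducing.isOpen_iff.1 hBo
    have e1 : g '' B = Set.range g ∩ O := by
      rw [← hOB, Set.image_preimage_eq_range_inter]
    have hsub : g '' B ⊆ O := by rw [e1]; exact Set.inter_subset_right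
    obtain ⟨K, hKo, hKc, hBK, hKO⟩ :=
      exists_compact_open_between (hBc.image hg.continuous) hO hsub
    have e2 : g '' B = Set.range g ∩ K := by
      apply Set.Subset.antisymm
      · intro y hy
        exact ⟨by rw [e1] at hy; exact hy.1, hBK hy⟩
      · rw [e1]
        exact Set.inter_subset_inter_right _ hKO
    rw [e2]
    exact hR.inter (hKc.isConstructible hKo)
  let ι := {U : Set β // IsOpen U ∧ IsCompact U}
  have : Nonempty ι := ⟨⟨∅, isOpen_empty, isCompact_empty⟩⟩
  let b : ι → Set β := Subtype.val
  have hb : IsTopologicalBasis (Set.range b) := by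
    have := PrespectralSpace.isTopologicalBasis (X := β)
    convert this
    ext U
    simp [b, ι]
  refine Topology.IsConstructible.induction_of_isTopologicalBasis
    (P := fun s _ => Topology.IsConstructible (g '' s)) b hb (fun i => i.2.2) ?_ ?_ s hs
  · intro i t ht
    rw [Set.image_sdiff hg.injective, Set.image_iUnion₂]
    exact (hco _ i.2.1 i.2.2).sdiff
      (Topology.IsConstructible.biUnion ht fun j _ => hco _ j.2.1 j.2.2)
  · intro s _ t _ hs ht
    rw [Set.image_union]
    exact hs.union ht

end Top

section CT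

variable {α : Type*} [TopologicalSpace α]

/-- constructible sets are open and closed in the constructible topology -/
theorem isOpen_constructibleTopology_of_isConstructible [CompactSpace α] {s : Set α}
    (hs : Topology.IsConstructible s) :
    IsOpen[constructibleTopology α] s ∧ IsOpen[constructibleTopology α] sᶜ := by
  induction hs using Topology.IsConstructible.empty_union_induction with
  | open_retrocompact U hUopen hUcomp =>
    have hUc : IsCompact U := hUcomp.isCompact
    refine ⟨hUc.isOpen_constructibleTopology_of_isOpen hUopen, ?_⟩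
    exact IsCompact.isOpen_constructibleTopology_of_isClosed (by rwa [compl_compl])
      hUopen.isClosed_compl
  | union s hs t ht hs' ht' =>
    refine ⟨@IsOpen.union _ _ _ (constructibleTopology α) hs'.1 ht'.1, ?_⟩
    rw [Set.compl_union]
    exact @IsOpen.inter _ (constructibleTopology α) _ _ hs'.2 ht'.2
  | compl s hs hs' =>
    refine ⟨hs'.2, ?_⟩
    rw [compl_compl]
    exact hs'.1

/-- a cover of a spectral space by constructible sets has a finite subcover -/
theorem exists_finite_subcover_of_isConstructible [CompactSpace α] [QuasiSober α]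
    [PrespectralSpace α] [QuasiSeparatedSpace α] {ι : Type*} (R : ι → Set α)
    (hR : ∀ i, Topology.IsConstructible (R i)) (hcov : (⋃ i, R i) = Set.univ) :
    ∃ t : Finset ι, (⋃ i ∈ t, R i) = Set.univ := by
  let R' : ι → Set (WithConstructibleTopology α) := fun i => WithTopology.ofTopology ⁻¹' R i
  have hopen : ∀ i, IsOpen (R' i) := fun i => by
    rw [WithConstructibleTopology.isOpen_iff]
    exact (isOpen_constructibleTopology_of_isConstructible (hR i)).1
  have hcov' : (Set.univ : Set (WithConstructibleTopology α)) ⊆ ⋃ i, R' i := by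
    intro x _
    have : WithTopology.ofTopology x ∈ ⋃ i, R i := by rw [hcov]; trivial
    obtain ⟨i, hi⟩ := Set.mem_iUnion.1 this
    exact Set.mem_iUnion.2 ⟨i, hi⟩
  obtain ⟨t, ht⟩ := isCompact_univ.elim_finite_subcover R' hopen hcov'
  refine ⟨t, Set.eq_univ_of_forall fun x => ?_⟩
  have := ht (Set.mem_univ (WithTopology.toTopology _ x))
  obtain ⟨i, hi, hx⟩ := Set.mem_iUnion₂.1 this
  exact Set.mem_iUnion₂.2 ⟨i, hi, hx⟩

end CT

variable {X : Scheme.{u}}

/-- finite stratifications of a subset by constructible locally closed pieces (constructible in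
the ambient scheme) along which `F` is finite locally constant -/
def CStrata (F : EtCoh.Ab X) (S : Set X) : Prop :=
  ∃ (ι : Type) (_ : Finite ι) (T : ι → Scheme.{u}) (g : ∀ i, T i ⟶ X),
    (∀ i, IsImmersion (g i)) ∧ (∀ i, Topology.IsConstructible (Set.range (g i))) ∧
    Pairwise (fun i j => Disjoint (Set.range (g i)) (Set.range (g j))) ∧
    (⋃ i, Set.range (g i)) = S ∧
    ∀ i, EtCoh.IsFiniteLocallyConstant ((EtCoh.pull (g i)).obj F)

variable {F : EtCoh.Ab X}

theorem CStrata.empty : CStrata F (∅ : Set X) :=
  ⟨PEmpty, inferInstance, fun i => i.elim, fun i => i.elim, fun i => i.elim, fun i => i.elim,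
    fun i => i.elim, Set.iUnion_of_empty _, fun i => i.elim⟩

theorem CStrata.congr {S S' : Set X} (h : CStrata F S) (e : S = S') : CStrata F S' := e ▸ h

theorem CStrata.union_disjoint {S S' : Set X} (h : CStrata F S) (h' : CStrata F S')
    (hd : Disjoint S S') : CStrata F (S ∪ S') := by
  obtain ⟨ι, hι, T, g, h1, h2, h3, h4, h5⟩ := h
  obtain ⟨ι', hι', T', g', h1', h2', h3', h4', h5'⟩ := h'
  have hsub : ∀ i, Set.range (g i) ⊆ S := fun i => by
    rw [← h4]; exact Set.subset_iUnion (fun i => Set.range (g i)) i
  have hsub' : ∀ i, Set.range (g' i) ⊆ S' := fun i => by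
    rw [← h4']; exact Set.subset_iUnion (fun i => Set.range (g' i)) i
  refine ⟨ι ⊕ ι', inferInstance, Sum.elim T T', fun o => Sum.rec g g' o, fun o => ?_, fun o => ?_,
    ?_, ?_, fun o => ?_⟩
  · cases o with
    | inl i => exact h1 i
    | inr i => exact h1' i
  · cases o with
    | inl i => exact h2 i
    | inr i => exact h2' i
  · intro o o' hoo
    cases o with
    | inl i =>
      cases o' with
      | inl j => exact h3 (fun e => hoo (by rw [e]))
      | inr j => exact hd.mono (hsub i) (hsub' j)
    | inr i =>
      cases o' with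
      | inl j => exact (hd.mono (hsub j) (hsub' i)).symm
      | inr j => exact h3' (fun e => hoo (by rw [e]))
  · rw [Set.iUnion_sum, ← h4, ← h4']
    rfl
  · cases o with
    | inl i => exact h5 i
    | inr i => exact h5' i

/-- cutting a stratification by a constructible closed set -/
theorem CStrata.inter_closed {S : Set X} (h : CStrata F S) (Z : Set X) (hZ : IsClosed Z)
    (hZc : Topology.IsConstructible Z) : CStrata F (S ∩ Z) := by
  obtain ⟨ι, hι, T, g, h1, h2, h3, h4, h5⟩ := h
  have key : ∀ i, ∃ (T' : Scheme.{u}) (c' : T' ⟶ T i), IsClosedImmersion c' ∧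
      Set.range (c' ≫ g i) = Set.range (g i) ∩ Z := fun i => by
    have := h1 i
    exact exists_cut (g i) Z hZ
  choose T' c' hc' hr using key
  refine ⟨ι, hι, T', fun i => c' i ≫ g i, fun i => ?_, fun i => ?_, ?_, ?_, fun i => ?_⟩
  · have := h1 i
    have := hc' i
    infer_instance
  · rw [hr]
    exact (h2 i).inter hZc
  · intro i j hij
    rw [hr, hr]
    exact (h3 hij).mono Set.inter_subset_left Set.inter_subset_left
  · simp_rw [hr]
    rw [← Set.iUnion_inter, h4]
  · exact isFLC_of_iso ((EtCore.pullComp (c' i) (g i)).symm.app F) (pull_isFLC _ _ (h5 i))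

/-- cutting a stratification by a constructible open set -/
theorem CStrata.inter_open {S : Set X} (h : CStrata F S) (O : X.Opens)
    (hOc : Topology.IsConstructible (O : Set X)) : CStrata F (S ∩ (O : Set X)) := by
  obtain ⟨ι, hι, T, g, h1, h2, h3, h4, h5⟩ := h
  have hr : ∀ i, Set.range (((g i) ⁻¹ᵁ O).ι ≫ g i) = Set.range (g i) ∩ (O : Set X) := by
    intro i
    rw [Scheme.Hom.comp_base, TopCat.coe_comp, Set.range_comp, Scheme.Opens.range_ι]
    show (g i) '' ((g i) ⁻¹' (O : Set X)) = _
    rw [Set.image_preimage_eq_range_inter]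
  refine ⟨ι, hι, fun i => ((g i) ⁻¹ᵁ O).toScheme, fun i => ((g i) ⁻¹ᵁ O).ι ≫ g i, fun i => ?_,
    fun i => ?_, ?_, ?_, fun i => ?_⟩
  · have := h1 i
    infer_instance
  · rw [hr]
    exact (h2 i).inter hOc
  · intro i j hij
    rw [hr, hr]
    exact (h3 hij).mono Set.inter_subset_left Set.inter_subset_left
  · simp_rw [hr]
    rw [← Set.iUnion_inter, h4]
  · exact isFLC_of_iso ((EtCore.pullComp ((g i) ⁻¹ᵁ O).ι (g i)).symm.app F)
      (pull_isFLC _ _ (h5 i))

/-- removing a constructible locally closed set (written as compact open ∩ closed) -/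
theorem CStrata.sdiff {S : Set X} (h : CStrata F S) (O : X.Opens)
    (hOc : Topology.IsConstructible (O : Set X)) (Z : Set X) (hZ : IsClosed Z)
    (hR : Topology.IsConstructible ((O : Set X) ∩ Z)) :
    CStrata F (S \ ((O : Set X) ∩ Z)) := by
  let O' : X.Opens := O ⊓ ⟨Zᶜ, hZ.isOpen_compl⟩
  have hO' : (O' : Set X) = (O : Set X) \ ((O : Set X) ∩ Z) := by
    ext x
    simp only [O', Opens.coe_inf, Opens.coe_mk, Set.mem_inter_iff, Set.mem_compl_iff,
      Set.mem_sdiff, SetLike.mem_coe]
    tauto
  have hO'c : Topology.IsConstructible (O' : Set X) := by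
    rw [hO']
    exact hOc.sdiff hR
  have h1 := h.inter_closed (O : Set X)ᶜ O.isOpen.isClosed_compl hOc.compl
  have h2 := h.inter_open O' hO'c
  refine (h1.union_disjoint h2 ?_).congr ?_
  · refine Set.disjoint_left.2 fun x hx hx' => ?_
    rw [hO'] at hx'
    exact hx.2 hx'.2.1
  · rw [hO']
    ext x
    simp only [Set.mem_union, Set.mem_inter_iff, Set.mem_compl_iff, Set.mem_sdiff,
      SetLike.mem_coe]
    tauto

/-- a constructible locally closed subset of a qcqs scheme is the intersection of a compact
open and a closed subset -/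
theorem exists_compact_open_inter_closed [CompactSpace X] [QuasiSeparatedSpace X]
    {T : Scheme.{u}} (g : T ⟶ X) [IsImmersion g]
    (hc : Topology.IsConstructible (Set.range g)) :
    ∃ O : X.Opens, IsCompact (O : Set X) ∧ ∃ Z : Set X, IsClosed Z ∧
      Set.range g = (O : Set X) ∩ Z := by
  obtain ⟨U, Z, hU, hZ, hr⟩ := g.isLocallyClosed_range
  have hK : IsCompact (Set.range g) := isCompact_of_isConstructible hc
  obtain ⟨O, hOo, hOc, hKO, hOU⟩ := exists_compact_open_between hK hU
    (by rw [hr]; exact Set.inter_subset_left)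
  refine ⟨⟨O, hOo⟩, hOc, Z, hZ, ?_⟩
  apply Set.Subset.antisymm
  · intro x hx
    exact ⟨hKO hx, by rw [hr] at hx; exact hx.2⟩
  · rw [hr]
    exact Set.inter_subset_inter_left _ hOU

/-- the union of two stratified subsets is stratified -/
theorem CStrata.union [CompactSpace X] [QuasiSeparatedSpace X] {S P : Set X}
    (h : CStrata F S) (h' : CStrata F P) : CStrata F (S ∪ P) := by
  have h0 := h
  obtain ⟨ι, hι, T, g, h1, h2, h3, h4, h5⟩ := h
  classical
  have := Fintype.ofFinite ι
  have key : ∀ s : Finset ι, CStrata F (P \ ⋃ i ∈ s, Set.range (g i)) := by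
    intro s
    induction s using Finset.induction_on with
    | empty => simpa using h'
    | insert a s ha ih =>
      have := h1 a
      obtain ⟨O, hOc, Z, hZ, hr⟩ := exists_compact_open_inter_closed (g a) (h2 a)
      have h6 := ih.sdiff O (hOc.isConstructible O.isOpen) Z hZ (hr ▸ h2 a)
      refine h6.congr ?_
      rw [← hr]
      ext x
      simp only [Set.mem_sdiff, Set.mem_iUnion, Finset.mem_insert, exists_prop, not_exists,
        not_and]
      constructor
      · rintro ⟨⟨hxP, hxs⟩, hxa⟩
        refine ⟨hxP, fun i hi => ?_⟩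
        rcases hi with rfl | hi
        · exact hxa
        · exact hxs i hi
      · rintro ⟨hxP, hx⟩
        exact ⟨⟨hxP, fun i hi => hx i (Or.inr hi)⟩, hx a (Or.inl rfl)⟩
  have hP := key Finset.univ
  have hPS : (P \ ⋃ i ∈ (Finset.univ : Finset ι), Set.range (g i)) = P \ S := by
    rw [← h4]
    simp
  rw [hPS] at hP
  exact (h0.union_disjoint hP Set.disjoint_sdiff_right).congr Set.union_sdiff_self

/-- finite unions of stratified subsets are stratified -/
theorem CStrata.iUnion [CompactSpace X] [QuasiSeparatedSpace X] {κ : Type*} [Finite κ]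
    (S : κ → Set X) (h : ∀ k, CStrata F (S k)) : CStrata F (⋃ k, S k) := by
  classical
  have := Fintype.ofFinite κ
  have key : ∀ s : Finset κ, CStrata F (⋃ k ∈ s, S k) := by
    intro s
    induction s using Finset.induction_on with
    | empty => simpa using CStrata.empty
    | insert a s ha ih =>
      rw [Finset.set_biUnion_insert]
      exact (h a).union ih
  simpa using key Finset.univ

/-- a sheaf constructible along an immersion with constructible image is stratified on the
image -/
theorem CStrata.of_immersion [CompactSpace X] [QuasiSeparatedSpace X] {T : Scheme.{u}}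
    (g : T ⟶ X) [IsImmersion g] (hc : Topology.IsConstructible (Set.range g))
    (hF : EtPBC.IsConstructible ((EtCoh.pull g).obj F)) : CStrata F (Set.range g) := by
  have hTc : CompactSpace T := by
    refine ⟨?_⟩
    rw [g.isEmbedding.isCompact_iff, Set.image_univ]
    exact isCompact_of_isConstructible hc
  have hTq : QuasiSeparatedSpace T := quasiSeparatedSpace_of_quasiSeparated g
  obtain ⟨ι, hι, T', c, h1, h2, h3, h4, h5⟩ :=
    (strata_iff _ _).1 ((isConstructible_iff_of_qcqs _).1 hF)
  have hrc : ∀ k, Topology.IsConstructible (Set.range (c k)) := by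
    intro k
    have hoe : Topology.IsOpenEmbedding (Subtype.val : ↥(Set.univ : Set T) → T) :=
      isOpen_univ.isOpenEmbedding_subtypeVal
    have hrange : Set.range (Subtype.val : ↥(Set.univ : Set T) → T) = Set.univ := by simp
    refine (Topology.isConstructible_preimage_iff_of_isOpenEmbedding hoe ?_ ?_).1 (h2 k)
    · rw [hrange]
      exact fun U hU _ => by simpa using hU
    · rw [hrange]
      exact Set.subset_univ _
  have hr : ∀ k, Set.range (c k ≫ g) = g '' Set.range (c k) := by
    intro k
    rw [Scheme.Hom.comp_base, TopCat.coe_comp, Set.range_comp]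
  refine ⟨ι, hι, T', fun k => c k ≫ g, fun k => ?_, fun k => ?_, ?_, ?_, fun k => ?_⟩
  · have := h1 k
    infer_instance
  · rw [hr]
    exact isConstructible_image_of_isEmbedding g g.isEmbedding hc (hrc k)
  · intro k k' hkk
    rw [hr, hr]
    exact (Set.disjoint_image_iff g.isEmbedding.injective).2 (h3 hkk)
  · simp_rw [hr]
    rw [← Set.image_iUnion, h4, Set.image_univ]
  · exact isFLC_of_iso ((EtCore.pullComp (c k) g).symm.app F) (h5 k ())

theorem CStrata.adaptedStrata (h : CStrata F (Set.univ : Set X)) :
    EtPBC.AdaptedStrata F (Set.univ : Set X) := by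
  obtain ⟨ι, hι, T, g, h1, h2, h3, h4, h5⟩ := h
  refine (strata_iff _ _).2 ⟨ι, hι, T, g, h1, fun i => ?_, h3, h4, fun i _ => h5 i⟩
  exact (h2 i).preimage_of_isOpenEmbedding isOpen_univ.isOpenEmbedding_subtypeVal

/-- constructibility can be checked on a cover by constructible locally closed subschemes -/
theorem isConstructible_of_immersions (X : Scheme.{u}) [CompactSpace X] [QuasiSeparatedSpace X]
    (F : EtCoh.Ab X) {ι : Type*} (T : ι → Scheme.{u}) (g : ∀ i, T i ⟶ X)
    [∀ i, IsImmersion (g i)]
    (hc : ∀ i, Topology.IsConstructible (Set.range (g i)))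
    (hcov : (⋃ i, Set.range (g i)) = Set.univ)
    (h : ∀ i, EtPBC.IsConstructible ((EtCoh.pull (g i)).obj F)) :
    EtPBC.IsConstructible F := by
  obtain ⟨t, ht⟩ := exists_finite_subcover_of_isConstructible (fun i => Set.range (g i)) hc hcov
  have h1 : CStrata F (⋃ i : ↥t, Set.range (g i.1)) :=
    CStrata.iUnion (fun i : ↥t => Set.range (g i.1))
      (fun i => CStrata.of_immersion (g i.1) (hc i.1) (h i.1))
  have h2 : (⋃ i : ↥t, Set.range (g i.1)) = Set.univ := by
    rw [← ht]
    ext x
    simp only [Set.mem_iUnion, Set.mem_range, Subtype.exists]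
  rw [h2] at h1
  exact (isConstructible_iff_of_qcqs F).2 h1.adaptedStrata

end Groth.Agent.H21.ConstrLoc
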