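import Groth.Agent.H21.ConstrOps
import Mathlib.AlgebraicGeometry.Morphisms.QuasiSeparated

/-!
# Constructible abelian sheaves: inverse images, locality, global stratifications (helper21)
-/

set_option autoImplicit false
universe u
open CategoryTheory CategoryTheory.Limits AlgebraicGeometry Opposite TopologicalSpace

namespace Groth.Agent.H21.ConstrMain

open Groth.Agent.H21.OverBridge Groth.Agent.H21.Constr Groth.Agent.H21.ConstrGlue
  Groth.Agent.H21.ConstrOps

variable {X : Scheme.{u}}

theorem quasiSeparatedSpace_of_isAffineOpen {U : X.Opens} (hU : IsAffineOpen U) :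
    QuasiSeparatedSpace ↥U :=
  (isQuasiSeparated_iff_quasiSeparatedSpace (U : Set X) U.isOpen).1 hU.isQuasiSeparated

/-- a morphism restricted to affine opens is spectral -/
theorem spectral_of_affine {X' : Scheme.{u}} (f : X' ⟶ X) {S : X.Opens} (hS : IsAffineOpen S)
    {S' : X'.Opens} (hS' : IsAffineOpen S') (hle : S' ≤ f ⁻¹ᵁ S) (s : Set ↥S) (hs : IsOpen s)
    (hs' : IsRetrocompact s) :
    IsRetrocompact ((fun x : ↥S' => (⟨f x.1, hle x.2⟩ : ↥S)) ⁻¹' s) := by
  have : IsAffine (S : Scheme.{u}) := hS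
  have : IsAffine (S' : Scheme.{u}) := hS'
  have hqc : QuasiCompact (f.resLE S S' hle) := inferInstance
  have hfun : (fun x : ↥S' => (⟨f x.1, hle x.2⟩ : ↥S)) = ⇑(f.resLE S S' hle) := by
    funext x
    exact Subtype.ext (Scheme.Hom.coe_resLE_apply f hle x).symm
  rw [hfun]
  have hcs : CompactSpace ↥S := inferInstanceAs (CompactSpace (S : Scheme.{u}))
  have hc : IsCompact s := hs'.isCompact
  have hqs : QuasiSeparatedSpace ↥S' := quasiSeparatedSpace_of_isAffineOpen hS'
  exact ((f.resLE S S' hle).isCompact_preimage (U := ⟨s, hs⟩) hc).isRetrocompact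
    (hs.preimage (f.resLE S S' hle).continuous)

theorem exists_affine_nbhd (U : X.Opens) (x : X) (hx : x ∈ U) :
    ∃ W : X.Opens, IsAffineOpen W ∧ x ∈ W ∧ W ≤ U := by
  obtain ⟨_, ⟨W, hW, rfl⟩, hxW, hsub⟩ :=
    X.isBasis_affineOpens.exists_subset_of_mem_open hx U.isOpen
  exact ⟨W, hW, hxW, hsub⟩

/-- the inverse image of a constructible sheaf is constructible -/
theorem pull_isConstructible {X' : Scheme.{u}} (f : X' ⟶ X) (F : EtCoh.Ab X)
    (hF : EtPBC.IsConstructible F) : EtPBC.IsConstructible ((EtCoh.pull f).obj F) := by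
  intro U' hU'
  refine (strata_iff _ _).2 ?_
  have hqs : QuasiSeparatedSpace ↥U' := quasiSeparatedSpace_of_isAffineOpen hU'
  obtain ⟨n, W, hW, hcov⟩ := exists_fin_cover U' hU'.isCompact
    (fun W => IsCompact (W : Set X') ∧ Strata (fun _ : Unit => (EtCoh.pull f).obj F) (W : Set X'))
    (fun x hx => by
      obtain ⟨V, hV, hxV, -⟩ := exists_affine_nbhd (⊤ : X.Opens) (f x) trivial
      obtain ⟨W', hW', hxW', hle⟩ := exists_affine_nbhd (U' ⊓ f ⁻¹ᵁ V) x ⟨hx, hxV⟩
      have hle' : W' ≤ f ⁻¹ᵁ V := hle.trans inf_le_right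
      exact ⟨W', hxW', hle.trans inf_le_left, hW'.isCompact,
        Strata.pullback f W' hle' (spectral_of_affine f hV hW' hle')
          ((strata_iff F V).1 (hF V hV))⟩)
  exact Strata.glue U' W (fun k => (hW k).1) (fun k => (hW k).2.1) hcov (fun k => (hW k).2.2)

/-- constructibility is local for the Zariski topology -/
theorem isConstructible_of_openCover (F : EtCoh.Ab X) {ι : Type*} (U : ι → X.Opens)
    (hU : ⨆ i, U i = ⊤) (h : ∀ i, EtPBC.IsConstructible ((EtCoh.pull (U i).ι).obj F)) :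
    EtPBC.IsConstructible F := by
  intro V hV
  refine (strata_iff _ _).2 ?_
  have hqs : QuasiSeparatedSpace ↥V := quasiSeparatedSpace_of_isAffineOpen hV
  obtain ⟨n, W, hW, hcov⟩ := exists_fin_cover V hV.isCompact
    (fun W => IsCompact (W : Set X) ∧ Strata (fun _ : Unit => F) (W : Set X))
    (fun x hx => by
      have hx' : x ∈ ⨆ i, U i := by rw [hU]; trivial
      obtain ⟨i, hi⟩ := Opens.mem_iSup.1 hx'
      obtain ⟨W, hW, hxW, hle⟩ := exists_affine_nbhd (V ⊓ U i) x ⟨hx, hi⟩
      have hle' : W ≤ (U i).ι.opensRange := by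
        rw [Scheme.Opens.opensRange_ι]
        exact hle.trans inf_le_right
      have hW' : IsAffineOpen ((U i).ι ⁻¹ᵁ W) := hW.preimage_of_isOpenImmersion (U i).ι hle'
      have hs := Strata.ofOpenImmersion (F := fun _ : Unit => F) (U i).ι ((U i).ι ⁻¹ᵁ W)
        ((strata_iff _ _).1 (h i _ hW'))
      rw [Scheme.Hom.image_preimage_eq_opensRange_inf, inf_eq_right.2 hle'] at hs
      exact ⟨W, hxW, hle.trans inf_le_left, hW.isCompact, hs⟩)
  exact Strata.glue V W (fun k => (hW k).1) (fun k => (hW k).2.1) hcov (fun k => (hW k).2.2)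

/-- on a quasi-compact quasi-separated scheme, constructible = admits a global stratification -/
theorem isConstructible_iff_of_qcqs [CompactSpace X] [QuasiSeparatedSpace X] (F : EtCoh.Ab X) :
    EtPBC.IsConstructible F ↔ EtPBC.AdaptedStrata F (Set.univ : Set X) := by
  have hqs : QuasiSeparatedSpace ↥(⊤ : X.Opens) :=
    (isQuasiSeparated_iff_quasiSeparatedSpace ((⊤ : X.Opens) : Set X) (⊤ : X.Opens).isOpen).1
      isQuasiSeparated_univ
  constructor
  · intro hF
    refine (strata_iff _ _).2 ?_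
    obtain ⟨n, W, hW, hcov⟩ := exists_fin_cover (⊤ : X.Opens) isCompact_univ
      (fun W => IsCompact (W : Set X) ∧ Strata (fun _ : Unit => F) (W : Set X))
      (fun x _ => by
        obtain ⟨W, hW, hxW, hle⟩ := exists_affine_nbhd (⊤ : X.Opens) x trivial
        exact ⟨W, hxW, hle, hW.isCompact, (strata_iff F W).1 (hF W hW)⟩)
    exact Strata.glue (⊤ : X.Opens) W (fun k => (hW k).1) (fun k => (hW k).2.1) hcov
      (fun k => (hW k).2.2)
  · intro h U hU
    refine (strata_iff _ _).2 ?_
    exact Strata.restrictOpen (S := (⊤ : X.Opens)) ((strata_iff _ _).1 h) U le_top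

end Groth.Agent.H21.ConstrMain
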