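import Groth.Agent.H21.ConstrMain
import Mathlib.AlgebraicGeometry.Noetherian
import Mathlib.Topology.NoetherianSpace

/-!
# Constructible sheaves on (locally) Noetherian schemes: generic local constancy (helper21)
-/

set_option autoImplicit false
universe u
open CategoryTheory CategoryTheory.Limits AlgebraicGeometry Opposite TopologicalSpace

namespace Groth.Agent.H21.ConstrNoeth

open Groth.Agent.H21.OverBridge Groth.Agent.H21.Constr Groth.Agent.H21.ConstrGlue
  Groth.Agent.H21.ConstrOps Groth.Agent.H21.ConstrMain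

variable {Y : Scheme.{u}}

/-- stratifications without the constructibility condition -/
def NStrata {κ : Type*} (F : κ → EtCoh.Ab Y) (S : Set Y) : Prop :=
  ∃ (ι : Type) (_ : Finite ι) (T : ι → Scheme.{u}) (g : ∀ i, T i ⟶ Y),
    (∀ i, IsImmersion (g i)) ∧
    Pairwise (fun i j => Disjoint (Set.range (g i)) (Set.range (g j))) ∧
    (⋃ i, Set.range (g i)) = S ∧
    ∀ i k, EtCoh.IsFiniteLocallyConstant ((EtCoh.pull (g i)).obj (F k))

/-- in a Noetherian space every locally closed set is constructible -/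
theorem isConstructible_of_isLocallyClosed {α : Type*} [TopologicalSpace α] [NoetherianSpace α]
    {s : Set α} (hs : IsLocallyClosed s) : Topology.IsConstructible s := by
  obtain ⟨U, Z, hU, hZ, rfl⟩ := hs
  have hop : ∀ W : Set α, IsOpen W → Topology.IsConstructible W := fun W hW =>
    IsRetrocompact.isConstructible hW (fun V _ _ => NoetherianSpace.isCompact _)
  exact (hop U hU).inter (hop Zᶜ hZ.isOpen_compl).of_compl

theorem NStrata.toStrata [NoetherianSpace Y] {κ : Type*} {F : κ → EtCoh.Ab Y} {S : Set Y}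
    (h : NStrata F S) : Strata F S := by
  obtain ⟨ι, hι, T, g, h1, h3, h4, h5⟩ := h
  refine ⟨ι, hι, T, g, h1, fun i => ?_, h3, h4, h5⟩
  have := h1 i
  have : NoetherianSpace ↥S := Topology.IsInducing.subtypeVal.noetherianSpace
  exact isConstructible_of_isLocallyClosed
    ((g i).isLocallyClosed_range.preimage continuous_subtype_val)

/-- **Noetherian induction.** If `F` is generically finite locally constant along the closure
of every point, every closed subset has a stratification adapted to `F`. -/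
theorem nstrata_of_generic [NoetherianSpace Y] {κ : Type*} (F : κ → EtCoh.Ab Y)
    (H : ∀ y : Y, ∃ (V : Y.Opens) (T : Scheme.{u}) (g : T ⟶ Y), IsImmersion g ∧ y ∈ V ∧
      Set.range g = (V : Set Y) ∩ closure {y} ∧
      ∀ k, EtCoh.IsFiniteLocallyConstant ((EtCoh.pull g).obj (F k)))
    (Z : Closeds Y) : NStrata F (Z : Set Y) := by
  refine wellFounded_lt.induction (C := fun Z : Closeds Y => NStrata F (Z : Set Y)) Z ?_
  intro Z ih
  by_cases hZ : (Z : Set Y) = ∅
  · refine ⟨PEmpty, inferInstance, fun i => i.elim, fun i => i.elim, fun i => i.elim,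
      fun i => i.elim, ?_, fun i => i.elim⟩
    rw [hZ]
    exact Set.iUnion_of_empty _
  obtain ⟨S, hSf, hSc, hSi, hSU⟩ :=
    NoetherianSpace.exists_finite_set_isClosed_irreducible Z.isClosed
  have hSne : S.Nonempty := by
    by_contra hS
    rw [Set.not_nonempty_iff_eq_empty] at hS
    rw [hS, Set.sUnion_empty] at hSU
    exact hZ hSU
  obtain ⟨t₁, ht₁, hmax⟩ := hSf.exists_maximal hSne
  obtain ⟨x, hx⟩ := QuasiSober.sober (hSi t₁ ht₁) (hSc t₁ ht₁)
  have hxt : x ∈ t₁ := hx.mem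
  -- the union of the other components
  let Z₂ : Set Y := ⋃₀ (S \ {t₁})
  have hZ₂c : IsClosed Z₂ := by
    show IsClosed (⋃₀ (S \ {t₁}))
    rw [Set.sUnion_eq_biUnion]
    exact hSf.sdiff.isClosed_biUnion fun t ht => hSc t ht.1
  have hxZ₂ : x ∉ Z₂ := by
    rintro ⟨t, ⟨htS, htne⟩, hxt'⟩
    have hle : t₁ ⊆ t := by
      rw [← hx.def]
      exact (hSc t htS).closure_subset_iff.2 (Set.singleton_subset_iff.2 hxt')
    exact htne (Set.mem_singleton_iff.2 (Set.Subset.antisymm (hmax htS hle) hle))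
  have hZeq : (Z : Set Y) = t₁ ∪ Z₂ := by
    rw [hSU]
    ext y
    constructor
    · rintro ⟨t, htS, hyt⟩
      by_cases h : t = t₁
      · exact Or.inl (h ▸ hyt)
      · exact Or.inr ⟨t, ⟨htS, h⟩, hyt⟩
    · rintro (hy | ⟨t, ⟨htS, -⟩, hyt⟩)
      · exact ⟨t₁, ht₁, hy⟩
      · exact ⟨t, htS, hyt⟩
  obtain ⟨V, T, g, hg, hxV, hrg, hflc⟩ := H x
  -- shrink `V`
  let V' : Y.Opens := V ⊓ ⟨Z₂ᶜ, hZ₂c.isOpen_compl⟩
  have hxV' : x ∈ V' := ⟨hxV, hxZ₂⟩
  -- the smaller closed set
  let Z' : Closeds Y := ⟨(Z : Set Y) ∩ (V' : Set Y)ᶜ, Z.isClosed.inter V'.isOpen.isClosed_compl⟩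
  have hxZ : x ∈ (Z : Set Y) := by rw [hZeq]; exact Or.inl hxt
  have hlt : Z' < Z := by
    refine lt_of_le_of_ne (fun y hy => hy.1) fun h => ?_
    have : x ∈ (Z' : Set Y) := by rw [h]; exact hxZ
    exact this.2 hxV'
  obtain ⟨ι, hι, T', g', h1, h3, h4, h5⟩ := ih Z' hlt
  -- the new piece
  have hrnew : Set.range ((g ⁻¹ᵁ V').ι ≫ g) = (Z : Set Y) ∩ (V' : Set Y) := by
    rw [Scheme.Hom.comp_base, TopCat.coe_comp, Set.range_comp, Scheme.Opens.range_ι]
    show g '' (g ⁻¹' (V' : Set Y)) = _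
    rw [Set.image_preimage_eq_range_inter, hrg, hx.def, hZeq]
    ext y
    constructor
    · rintro ⟨⟨-, hy1⟩, hy2⟩
      exact ⟨Or.inl hy1, hy2⟩
    · rintro ⟨hy1 | hy1, hy2⟩
      · exact ⟨⟨hy2.1, hy1⟩, hy2⟩
      · exact absurd hy1 hy2.2
  refine ⟨Option ι, inferInstance, fun o => o.elim (g ⁻¹ᵁ V').toScheme T',
    fun o => Option.rec ((g ⁻¹ᵁ V').ι ≫ g) g' o, fun o => ?_, ?_, ?_, fun o k => ?_⟩
  · cases o with
    | none => exact inferInstanceAs (IsImmersion ((g ⁻¹ᵁ V').ι ≫ g))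
    | some i => exact h1 i
  · intro o o' hoo
    have hd : ∀ i, Disjoint (Set.range ((g ⁻¹ᵁ V').ι ≫ g)) (Set.range (g' i)) := fun i => by
      rw [hrnew]
      refine Set.disjoint_left.2 fun y hy hy' => ?_
      have : y ∈ (Z' : Set Y) := by rw [← h4]; exact Set.mem_iUnion.2 ⟨i, hy'⟩
      exact this.2 hy.2
    cases o with
    | none =>
      cases o' with
      | none => exact absurd rfl hoo
      | some i' => exact hd i'
    | some i =>
      cases o' with
      | none => exact (hd i).symm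
      | some i' => exact h3 (fun h => hoo (by rw [h]))
  · apply Set.Subset.antisymm
    · intro y hy
      obtain ⟨o, ho⟩ := Set.mem_iUnion.1 hy
      cases o with
      | none =>
        have : y ∈ (Z : Set Y) ∩ (V' : Set Y) := by rw [← hrnew]; exact ho
        exact this.1
      | some i =>
        have : y ∈ (Z' : Set Y) := by rw [← h4]; exact Set.mem_iUnion.2 ⟨i, ho⟩
        exact this.1
    · intro y hy
      by_cases hyV : y ∈ (V' : Set Y)
      · refine Set.mem_iUnion.2 ⟨none, ?_⟩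
        show y ∈ Set.range ((g ⁻¹ᵁ V').ι ≫ g)
        rw [hrnew]
        exact ⟨hy, hyV⟩
      · have : y ∈ (Z' : Set Y) := ⟨hy, hyV⟩
        rw [← h4] at this
        obtain ⟨i, hi⟩ := Set.mem_iUnion.1 this
        exact Set.mem_iUnion.2 ⟨some i, hi⟩
  · cases o with
    | none =>
      exact isFLC_of_iso ((EtCore.pullComp (g ⁻¹ᵁ V').ι g).symm.app (F k))
        (pull_isFLC _ _ (hflc k))
    | some i => exact h5 i k

variable {X : Scheme.{u}}

/-- constructible sheaves are generically finite locally constant along the closure of any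
point -/
theorem generic_of_isConstructible (F : EtCoh.Ab X) (hF : EtPBC.IsConstructible F) (x : X) :
    ∃ (V : X.Opens) (T : Scheme.{u}) (g : T ⟶ X), IsImmersion g ∧ x ∈ V ∧
      Set.range g = (V : Set X) ∩ closure {x} ∧
      EtCoh.IsFiniteLocallyConstant ((EtCoh.pull g).obj F) := by
  obtain ⟨U, hU, hxU, -⟩ := exists_affine_nbhd (⊤ : X.Opens) x trivial
  obtain ⟨ι, hι, T, g, h1, h2, h3, h4, h5⟩ := (strata_iff F U).1 (hF U hU)
  have hxu : x ∈ ⋃ i, Set.range (g i) := by rw [h4]; exact hxU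
  obtain ⟨i, hi⟩ := Set.mem_iUnion.1 hxu
  have := h1 i
  obtain ⟨O, C, hO, hC, hOC⟩ := (g i).isLocallyClosed_range
  have hxOC : x ∈ O ∩ C := hOC ▸ hi
  let V : X.Opens := ⟨O, hO⟩ ⊓ U
  have hcl : closure {x} ⊆ C := hC.closure_subset_iff.2 (Set.singleton_subset_iff.2 hxOC.2)
  obtain ⟨T', c', hc', hr⟩ := exists_cut (((g i) ⁻¹ᵁ V).ι ≫ g i) (closure {x}) isClosed_closure
  refine ⟨V, T', c' ≫ ((g i) ⁻¹ᵁ V).ι ≫ g i, inferInstance, ⟨hxOC.1, hxU⟩, ?_, ?_⟩
  · rw [hr, Scheme.Hom.comp_base, TopCat.coe_comp, Set.range_comp, Scheme.Opens.range_ι]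
    show (g i) '' ((g i) ⁻¹' (V : Set X)) ∩ closure {x} = _
    rw [Set.image_preimage_eq_range_inter, hOC]
    ext y
    constructor
    · rintro ⟨⟨-, hy⟩, hy'⟩
      exact ⟨hy, hy'⟩
    · rintro ⟨hy, hy'⟩
      exact ⟨⟨⟨hy.1, hcl hy'⟩, hy⟩, hy'⟩
  · exact isFLC_of_iso ((EtCore.pullComp (c' ≫ ((g i) ⁻¹ᵁ V).ι) (g i)).symm.app F ≪≫
      (EtCore.pullCongr (Category.assoc _ _ _)).app F) (pull_isFLC _ _ (h5 i ()))

/-- on a locally Noetherian scheme, generic local constancy along closures of points implies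
constructibility -/
theorem isConstructible_of_generic [IsLocallyNoetherian X] (F : EtCoh.Ab X)
    (H : ∀ x : X, ∃ (V : X.Opens) (T : Scheme.{u}) (g : T ⟶ X), IsImmersion g ∧ x ∈ V ∧
      Set.range g = (V : Set X) ∩ closure {x} ∧
      EtCoh.IsFiniteLocallyConstant ((EtCoh.pull g).obj F)) :
    EtPBC.IsConstructible F := by
  intro U hU
  refine (strata_iff _ _).2 ?_
  have hN : IsNoetherianRing Γ(X, U) := IsLocallyNoetherian.component_noetherian ⟨U, hU⟩
  have hNS : NoetherianSpace ↥(U : Scheme.{u}) := noetherianSpace_of_isAffineOpen U hU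
  have HY : ∀ y : ↥(U : Scheme.{u}), ∃ (V : (U : Scheme.{u}).Opens) (T : Scheme.{u})
      (g : T ⟶ (U : Scheme.{u})), IsImmersion g ∧ y ∈ V ∧
      Set.range g = (V : Set ↥(U : Scheme.{u})) ∩ closure {y} ∧
      ∀ _ : Unit, EtCoh.IsFiniteLocallyConstant
        ((EtCoh.pull g).obj ((EtCoh.pull U.ι).obj F)) := by
    intro y
    obtain ⟨V, T, g, hg, hxV, hr, hflc⟩ := H (U.ι y)
    refine ⟨U.ι ⁻¹ᵁ V, Limits.pullback g U.ι, pullback.snd g U.ι, inferInstance, hxV, ?_,
      fun _ => ?_⟩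
    · rw [Scheme.Pullback.range_snd, hr, Set.preimage_inter]
      congr 1
      have hind : Topology.IsInducing U.ι := U.ι.isOpenEmbedding.isInducing
      rw [hind.closure_eq_preimage_closure_image, Set.image_singleton]
    · have w : pullback.snd g U.ι ≫ U.ι = pullback.fst g U.ι ≫ g := pullback.condition.symm
      exact isFLC_of_iso ((EtCore.pullComp (pullback.fst g U.ι) g).symm.app F ≪≫
        (EtCore.pullCongr w.symm).app F ≪≫ (EtCore.pullComp (pullback.snd g U.ι) U.ι).app F)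
        (pull_isFLC _ _ hflc)
  have h1 := (nstrata_of_generic (fun _ : Unit => (EtCoh.pull U.ι).obj F) HY ⊤).toStrata
  have h2 := Strata.ofOpenImmersion (F := fun _ : Unit => F) U.ι (⊤ : (U : Scheme.{u}).Opens) h1
  rw [Scheme.Opens.ι_image_top] at h2
  exact h2

end Groth.Agent.H21.ConstrNoeth
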