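import Groth.Agent.H21.ConstrGlue

/-!
# Restriction, transport and inverse image of stratifications (helper21)
-/

set_option autoImplicit false
universe u
open CategoryTheory CategoryTheory.Limits AlgebraicGeometry Opposite TopologicalSpace

namespace Groth.Agent.H21.ConstrOps

open Groth.Agent.H21.OverBridge Groth.Agent.H21.Constr Groth.Agent.H21.ConstrGlue

variable {X : Scheme.{u}}

/-- restriction of a stratification to a smaller open -/
theorem Strata.restrictOpen {κ : Type*} {F : κ → EtCoh.Ab X} {S : X.Opens}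
    (h : Strata F (S : Set X)) (W : X.Opens) (hW : W ≤ S) : Strata F (W : Set X) := by
  obtain ⟨ι, hι, T, g, h1, h2, h3, h4, h5⟩ := h
  have hr : ∀ i, Set.range (((g i) ⁻¹ᵁ W).ι ≫ g i) = Set.range (g i) ∩ (W : Set X) := fun i => by
    rw [Scheme.Hom.comp_base, TopCat.coe_comp, Set.range_comp, Scheme.Opens.range_ι]
    exact Set.image_preimage_eq_range_inter
  refine ⟨ι, hι, fun i => ((g i) ⁻¹ᵁ W).toScheme, fun i => ((g i) ⁻¹ᵁ W).ι ≫ g i, fun i => ?_,
    fun i => ?_, ?_, ?_, fun i k => ?_⟩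
  · have := h1 i
    infer_instance
  · rw [hr]
    have hj := Opens.isOpenEmbedding_of_le hW
    have := (h2 i).preimage_of_isOpenEmbedding hj
    convert this using 1
    ext x
    simp only [Set.mem_preimage, Set.mem_inter_iff]
    exact ⟨fun hx => hx.1, fun hx => ⟨hx, x.2⟩⟩
  · intro i j hij
    show Disjoint (Set.range (((g i) ⁻¹ᵁ W).ι ≫ g i)) (Set.range (((g j) ⁻¹ᵁ W).ι ≫ g j))
    rw [hr, hr]
    exact (h3 hij).mono Set.inter_subset_left Set.inter_subset_left
  · simp_rw [hr]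
    rw [← Set.iUnion_inter, h4]
    exact Set.inter_eq_right.2 hW
  · exact isFLC_of_iso ((EtCore.pullComp ((g i) ⁻¹ᵁ W).ι (g i)).symm.app (F k))
      (pull_isFLC _ _ (h5 i k))

/-- transport of a stratification along an open immersion -/
theorem Strata.ofOpenImmersion {κ : Type*} {F : κ → EtCoh.Ab X} {U : Scheme.{u}} (j : U ⟶ X)
    [IsOpenImmersion j] (S' : U.Opens)
    (h : Strata (fun k => (EtCoh.pull j).obj (F k)) (S' : Set U)) :
    Strata F ((j ''ᵁ S' : X.Opens) : Set X) := by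
  obtain ⟨ι, hι, T, g, h1, h2, h3, h4, h5⟩ := h
  have hr : ∀ i, Set.range (g i ≫ j) = j '' Set.range (g i) := fun i => by
    rw [Scheme.Hom.comp_base, TopCat.coe_comp, Set.range_comp]
  have hinj : Function.Injective j := j.isOpenEmbedding.injective
  refine ⟨ι, hι, T, fun i => g i ≫ j, fun i => ?_, fun i => ?_, ?_, ?_, fun i k => ?_⟩
  · have := h1 i
    infer_instance
  · rw [hr]
    -- the homeomorphism-like open embedding `S' → j '' S'`
    let ψ : ↥S' → ↥(j ''ᵁ S') := fun x => ⟨j x.1, ⟨x.1, x.2, rfl⟩⟩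
    have hψ : Topology.IsOpenEmbedding ψ := by
      have h1 : Topology.IsOpenEmbedding ((Subtype.val : ↥(j ''ᵁ S') → X) ∘ ψ) :=
        j.isOpenEmbedding.comp S'.isOpen.isOpenEmbedding_subtypeVal
      exact (Topology.IsOpenEmbedding.of_comp_iff ψ
        (j ''ᵁ S').isOpen.isOpenEmbedding_subtypeVal).1 h1
    have hsurj : Function.Surjective ψ := by
      rintro ⟨_, x, hx, rfl⟩
      exact ⟨⟨x, hx⟩, rfl⟩
    refine (Topology.isConstructible_preimage_iff_of_isOpenEmbedding hψ ?_ ?_).1 ?_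
    · rw [hsurj.range_eq]
      exact IsRetrocompact.univ
    · rw [hsurj.range_eq]
      exact Set.subset_univ _
    · have e : ψ ⁻¹' ((Subtype.val : ↥(j ''ᵁ S') → X) ⁻¹' (j '' Set.range (g i))) =
          (Subtype.val : ↥S' → U) ⁻¹' Set.range (g i) := by
        ext x
        simp only [Set.mem_preimage, ψ]
        exact hinj.mem_set_image
      exact (congrArg Topology.IsConstructible e).mpr (h2 i)
  · intro i i' hii
    show Disjoint (Set.range (g i ≫ j)) (Set.range (g i' ≫ j))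
    rw [hr, hr]
    exact (Set.disjoint_image_iff hinj).2 (h3 hii)
  · simp_rw [hr]
    rw [← Set.image_iUnion, h4]
    rfl
  · exact isFLC_of_iso ((EtCore.pullComp (g i) j).symm.app (F k)) (h5 i k)

/-- inverse image of a stratification, along a map which is spectral on the given opens -/
theorem Strata.pullback {κ : Type*} {F : κ → EtCoh.Ab X} {X' : Scheme.{u}} (f : X' ⟶ X)
    {S : X.Opens} (S' : X'.Opens) (hle : S' ≤ f ⁻¹ᵁ S)
    (hq : ∀ s : Set ↥S, IsOpen s → IsRetrocompact s →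
      IsRetrocompact ((fun x : ↥S' => (⟨f x.1, hle x.2⟩ : ↥S)) ⁻¹' s))
    (h : Strata F (S : Set X)) : Strata (fun k => (EtCoh.pull f).obj (F k)) (S' : Set X') := by
  obtain ⟨ι, hι, T, g, h1, h2, h3, h4, h5⟩ := h
  have hr : ∀ i, Set.range (pullback.snd (g i) (S'.ι ≫ f) ≫ S'.ι) =
      (S' : Set X') ∩ f ⁻¹' Set.range (g i) := fun i => by
    rw [Scheme.Hom.comp_base, TopCat.coe_comp, Set.range_comp, Scheme.Pullback.range_snd]
    ext x
    constructor
    · rintro ⟨y, hy, rfl⟩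
      refine ⟨y.2, ?_⟩
      have : (S'.ι ≫ f) y = f (S'.ι y) := Scheme.Hom.comp_apply _ _ _
      rw [Set.mem_preimage, this] at hy
      exact hy
    · rintro ⟨hx, hfx⟩
      refine ⟨⟨x, hx⟩, ?_, rfl⟩
      have : (S'.ι ≫ f) ⟨x, hx⟩ = f x := Scheme.Hom.comp_apply _ _ _
      rw [Set.mem_preimage, this]
      exact hfx
  refine ⟨ι, hι, fun i => Limits.pullback (g i) (S'.ι ≫ f),
    fun i => pullback.snd (g i) (S'.ι ≫ f) ≫ S'.ι, fun i => ?_, fun i => ?_, ?_, ?_, fun i k => ?_⟩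
  · have := h1 i
    infer_instance
  · rw [hr]
    have hcont : Continuous (fun x : ↥S' => (⟨f x.1, hle x.2⟩ : ↥S)) :=
      (f.continuous.comp continuous_subtype_val).subtype_mk _
    have e : (Subtype.val : ↥S' → X') ⁻¹' ((S' : Set X') ∩ f ⁻¹' Set.range (g i)) =
        (fun x : ↥S' => (⟨f x.1, hle x.2⟩ : ↥S)) ⁻¹'
          ((Subtype.val : ↥S → X) ⁻¹' Set.range (g i)) := by
      ext x
      simp only [Set.mem_preimage, Set.mem_inter_iff]
      exact ⟨fun hx => hx.2, fun hx => ⟨x.2, hx⟩⟩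
    exact (congrArg Topology.IsConstructible e).mpr ((h2 i).preimage hcont hq)
  · intro i i' hii
    show Disjoint (Set.range (pullback.snd (g i) (S'.ι ≫ f) ≫ S'.ι))
      (Set.range (pullback.snd (g i') (S'.ι ≫ f) ≫ S'.ι))
    rw [hr, hr]
    exact ((h3 hii).preimage f).mono Set.inter_subset_right Set.inter_subset_right
  · simp_rw [hr]
    rw [← Set.inter_iUnion, ← Set.preimage_iUnion, h4]
    exact Set.inter_eq_left.2 hle
  · have w : (pullback.snd (g i) (S'.ι ≫ f) ≫ S'.ι) ≫ f = pullback.fst (g i) (S'.ι ≫ f) ≫ g i := by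
      rw [Category.assoc]
      exact pullback.condition.symm
    exact isFLC_of_iso ((EtCore.pullComp (pullback.fst (g i) (S'.ι ≫ f)) (g i)).symm.app (F k) ≪≫
      (EtCore.pullCongr w.symm).app (F k) ≪≫
      (EtCore.pullComp (pullback.snd (g i) (S'.ι ≫ f) ≫ S'.ι) f).app (F k))
      (pull_isFLC _ _ (h5 i k))

/-- extracting a finite subcover, indexed by `Fin n` -/
theorem exists_fin_cover (U : X.Opens) (hU : IsCompact (U : Set X)) (P : X.Opens → Prop)
    (h : ∀ x ∈ U, ∃ W : X.Opens, x ∈ W ∧ W ≤ U ∧ P W) :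
    ∃ (n : ℕ) (W : Fin n → X.Opens), (∀ k, W k ≤ U ∧ P (W k)) ∧
      (U : Set X) ⊆ ⋃ k, (W k : Set X) := by
  choose W hxW hWU hPW using h
  obtain ⟨t, ht⟩ := hU.elim_finite_subcover (fun x : ↥U => ((W x.1 x.2 : X.Opens) : Set X))
    (fun x => (W x.1 x.2).isOpen) (fun x hx => Set.mem_iUnion.2 ⟨⟨x, hx⟩, hxW x hx⟩)
  obtain ⟨n, ⟨e⟩⟩ := Finite.exists_equiv_fin ↥t
  let W' : ↥t → X.Opens := fun z => W z.1.1 z.1.2
  refine ⟨n, fun k => W' (e.symm k), fun k => ⟨hWU _ _, hPW _ _⟩, ?_⟩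
  intro x hx
  obtain ⟨y, hy, hxy⟩ := Set.mem_iUnion₂.1 (ht hx)
  refine Set.mem_iUnion.2 ⟨e ⟨y, hy⟩, ?_⟩
  show x ∈ ((W' (e.symm (e ⟨y, hy⟩)) : X.Opens) : Set X)
  rw [Equiv.symm_apply_apply]
  exact hxy

end Groth.Agent.H21.ConstrOps
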