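import Groth.Agent.H21.ConstrACC
import Mathlib.Topology.Spectral.Prespectral

set_option autoImplicit false
universe u
open CategoryTheory CategoryTheory.Limits AlgebraicGeometry Opposite TopologicalSpace

namespace Groth.Agent.H21.ConstrSupp

open Groth.Agent.H21.ConstSec Groth.Agent.H21.ConstUnit Groth.Agent.H21.LocConst
  Groth.Agent.H21.OverBridge Groth.Agent.H21.ConstrMain Groth.Agent.H21.ConstrNoeth
  Groth.Agent.H21.ConstrSub Groth.Agent.H21.ConstrACC

section Top

variable {α β : Type*} [TopologicalSpace α] [TopologicalSpace β]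

/-- constructible subsets of a quasi-compact quasi-separated prespectral space are compact -/
theorem isCompact_of_isConstructible [CompactSpace α] [QuasiSeparatedSpace α] [PrespectralSpace α]
    {s : Set α} (hs : Topology.IsConstructible s) : IsCompact s := by
  let ι := {U : Set α // IsOpen U ∧ IsCompact U}
  have : Nonempty ι := ⟨⟨∅, isOpen_empty, isCompact_empty⟩⟩
  let b : ι → Set α := Subtype.val
  have hb : IsTopologicalBasis (Set.range b) := by
    have := PrespectralSpace.isTopologicalBasis (X := α)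
    convert this
    ext U
    simp [b, ι]
  refine Topology.IsConstructible.induction_of_isTopologicalBasis
    (P := fun s _ => IsCompact s) b hb (fun i => i.2.2) ?_ ?_ s hs
  · intro i t ht
    have hcl : IsClosed (⋃ j ∈ t, b j)ᶜ :=
      (isOpen_biUnion fun j _ => j.2.1).isClosed_compl
    exact i.2.2.inter_right hcl
  · intro s _ t _ hs ht
    exact hs.union ht

/-- the image of a clopen subset under an embedding with constructible range is constructible -/
theorem isConstructible_image_of_isClopen [CompactSpace α] [QuasiSeparatedSpace α]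
    [PrespectralSpace α] (g : β → α) (hg : Topology.IsEmbedding g)
    (hR : Topology.IsConstructible (Set.range g)) (C : Set β) (hC : IsClopen C) :
    Topology.IsConstructible (g '' C) := by
  obtain ⟨O, hO, hOC⟩ := hg.isInducing.isOpen_iff.1 hC.isOpen
  obtain ⟨O', hO', hOC'⟩ := hg.isInducing.isOpen_iff.1 hC.compl.isOpen
  have e1 : g '' C = Set.range g ∩ O := by
    rw [← hOC, Set.image_preimage_eq_range_inter]
  have e2 : g '' C = Set.range g ∩ O'ᶜ := by
    ext y
    constructor
    · rintro ⟨c, hc, rfl⟩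
      refine ⟨⟨c, rfl⟩, fun h => ?_⟩
      have : c ∈ g ⁻¹' O' := h
      rw [hOC'] at this
      exact this hc
    · rintro ⟨⟨c, rfl⟩, h⟩
      refine ⟨c, ?_, rfl⟩
      by_contra hc
      have : c ∈ g ⁻¹' O' := by rw [hOC']; exact hc
      exact h this
  have hcomp : IsCompact (g '' C) := by
    rw [e2]
    exact (isCompact_of_isConstructible hR).inter_right hO'.isClosed_compl
  -- cover by compact opens inside O
  have hsub : g '' C ⊆ O := by rw [e1]; exact Set.inter_subset_right
  have hbasis := PrespectralSpace.isTopologicalBasis (X := α)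
  have hcov : ∀ y ∈ g '' C, ∃ U : Set α, (IsOpen U ∧ IsCompact U) ∧ y ∈ U ∧ U ⊆ O := by
    intro y hy
    obtain ⟨U, hU, hyU, hUO⟩ := hbasis.exists_subset_of_mem_open (hsub hy) hO
    exact ⟨U, hU, hyU, hUO⟩
  choose! U hU hyU hUO using hcov
  obtain ⟨t, ht, htfin, htcov⟩ := hcomp.elim_finite_subcover_image (b := g '' C) (c := U)
    (fun y hy => (hU y hy).1) (fun y hy => Set.mem_biUnion hy (hyU y hy))
  let K : Set α := ⋃ y ∈ t, U y
  have hKo : IsOpen K := isOpen_biUnion fun y hy => (hU y (ht hy)).1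
  have hKc : IsCompact K := htfin.isCompact_biUnion fun y hy => (hU y (ht hy)).2
  have hKO : K ⊆ O := Set.iUnion₂_subset fun y hy => hUO y (ht hy)
  have e3 : g '' C = Set.range g ∩ K := by
    apply Set.Subset.antisymm
    · intro y hy
      exact ⟨by rw [e1] at hy; exact hy.1, htcov hy⟩
    · rw [e1]
      exact Set.inter_subset_inter_right _ hKO
  rw [e3]
  exact hR.inter (hKc.isConstructible hKo)

end Top

section Stalk

open Groth.Agent.H4.Stalks Groth.Agent.H4.StalkPull

variable {W : Scheme.{u}} {Ω : Type u} [Field Ω] [IsSepClosed Ω]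

/-- the stalk of a constant sheaf vanishes iff the value group is trivial -/
theorem isZero_stalk_cst_iff (ξ : Spec (CommRingCat.of Ω) ⟶ W) (M : AddCommGrpCat.{u + 1}) :
    IsZero ((EtCoh.stalk ξ).obj (cst W M)) ↔ Subsingleton ↑M := by
  constructor
  · intro hz
    have hsub := AddCommGrpCat.subsingleton_of_isZero hz
    refine ⟨fun m m' => ?_⟩
    obtain ⟨x₀, -⟩ := Fib.exists_of_point (ξ := ξ) (EtCoh.top W) (ξ default) rfl
    have h0 : germ (cst W M) x₀ (eta M (EtCoh.top W) (m - m')) = 0 := hsub.elim _ _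
    obtain ⟨V, g, v, -, hs⟩ := (germ_eq_zero_iff' (cst W M) x₀ _).1 h0
    have h1 : eta M V (m - m') = eta M V 0 := by
      rw [map_zero, ← hs]
      exact (res_eta M g (m - m')).symm
    rcases eta_injective_or M _ _ h1 with h | h
    · exact sub_eq_zero.1 h
    · exact ((bot_mem_iff.1 h).false v).elim
  · intro hM
    have hsub : Subsingleton ↑((EtCoh.stalk ξ).obj (cst W M)) := by
      refine ⟨fun τ τ' => ?_⟩
      have key : ∀ τ : ↑((EtCoh.stalk ξ).obj (cst W M)), τ = 0 := by
        intro τ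
        obtain ⟨U, y, r, rfl⟩ := germ_surjective (cst W M) τ
        obtain ⟨m, V'', g, v'', hv'', hres⟩ := exists_isVal r y.pt
        obtain ⟨y', hy', -⟩ := Fib.exists_lift g y v'' hv''
        have h1 := germ_res (cst W M) g y' r
        rw [hy'] at h1
        rw [← h1]
        have h2 : (cst W M).obj.map g.op r = 0 := by
          have : res (cst W M) g r = eta M V'' m := hres
          rw [Subsingleton.elim m 0, map_zero] at this
          exact this
        rw [h2, map_zero]
      rw [key τ, key τ']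
    exact AddCommGrpCat.isZero_of_subsingleton _

/-- the stalk of a sheaf at a geometric point lying under a trivializing étale neighbourhood
vanishes iff the value group is trivial -/
theorem isZero_stalk_iff_of_triv {T : Scheme.{u}} (H : EtCoh.Ab T) (V : T.Etale) (v : V.left)
    (M : Type) [AddCommGroup M]
    (c : (EtCoh.pull (V.hom : V.left ⟶ T)).obj H ≅ EtCoh.const V.left M)
    (ξ' : Spec (CommRingCat.of Ω) ⟶ T) (hξ' : (V.hom : V.left ⟶ T) v = ξ' default) :
    IsZero ((EtCoh.stalk ξ').obj H) ↔ Subsingleton M := by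
  obtain ⟨ξ'', hx⟩ : ∃ ξ'' : Spec (CommRingCat.of Ω) ⟶ V.left,
      ξ'' ≫ (V.hom : V.left ⟶ T) = ξ' := by
    obtain ⟨x, -⟩ := Fib.exists_of_point (ξ := ξ') V v hξ'
    exact ⟨x.left, Over.w x⟩
  subst hx
  have e : (EtCoh.stalk (ξ'' ≫ (V.hom : V.left ⟶ T))).obj H ≅
      (EtCoh.stalk ξ'').obj (cst V.left (AddCommGrpCat.of (ULift.{u + 1} M))) :=
    (stalkPullIso (V.hom : V.left ⟶ T) ξ'').app H ≪≫ (EtCoh.stalk ξ'').mapIso c
  refine e.isZero_iff.trans ((isZero_stalk_cst_iff ξ'' _).trans ?_)
  constructor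
  · intro h
    exact ⟨fun a b => congrArg ULift.down (h.elim (ULift.up.{u + 1} a) (ULift.up.{u + 1} b))⟩
  · intro h
    exact ⟨fun a b => ULift.ext _ _ (h.elim _ _)⟩

omit [IsSepClosed Ω] in
lemma range_geom {X : Scheme.{u}} (ξ : Spec (CommRingCat.of Ω) ⟶ X) :
    Set.range ξ = {ξ default} := by
  ext y
  constructor
  · rintro ⟨z, rfl⟩
    rw [Subsingleton.elim z default]
    rfl
  · rintro rfl
    exact ⟨default, rfl⟩

omit [IsSepClosed Ω] in
lemma default_of_range {X : Scheme.{u}} (ξ : Spec (CommRingCat.of Ω) ⟶ X) {x : X}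
    (h : Set.range ξ = {x}) : ξ default = x := by
  have : ξ default ∈ Set.range ξ := ⟨default, rfl⟩
  rw [h] at this
  exact this

/-- the support of an inverse image along an immersion -/
theorem supp_inter_range {T X : Scheme.{u}} (g : T ⟶ X) [IsImmersion g] (F : EtCoh.Ab X) :
    EtPBC.supp F ∩ Set.range g = g '' EtPBC.supp ((EtCoh.pull g).obj F) := by
  ext x
  constructor
  · rintro ⟨⟨Ω', i1, i2, ξ, hξ, hnz⟩, ⟨t, rfl⟩⟩
    have hd := default_of_range ξ hξ
    obtain ⟨ξ', hξ'⟩ := exists_lift_of_immersion g ξ (by rw [hd]; exact ⟨t, rfl⟩)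
    subst hξ'
    refine ⟨t, ⟨Ω', i1, i2, ξ', ?_, ?_⟩, rfl⟩
    · rw [range_geom]
      congr 1
      apply g.isEmbedding.injective
      exact hd
    · intro hz
      exact hnz (((stalkPullIso g ξ').app F).isZero_iff.2 hz)
  · rintro ⟨t, ⟨Ω', i1, i2, ξ', hξ', hnz⟩, rfl⟩
    refine ⟨⟨Ω', i1, i2, ξ' ≫ g, ?_, ?_⟩, ⟨t, rfl⟩⟩
    · rw [range_geom]
      congr 1
      have hd := default_of_range ξ' hξ'
      show g (ξ' default) = g t
      rw [hd]
    · intro hz
      exact hnz (((stalkPullIso g ξ').app F).isZero_iff.1 hz)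

/-- the support of a finite locally constant sheaf is open and closed -/
theorem isClopen_supp_of_isFLC {T : Scheme.{u}} (H : EtCoh.Ab T)
    (hH : EtCoh.IsFiniteLocallyConstant H) : IsClopen (EtPBC.supp H) := by
  obtain ⟨ι, U, hcov, htriv⟩ := (isFLC_iff _).1 hH
  -- (a1)
  have a1 : ∀ (V : T.Etale) (v : V.left) (M : Type) [AddCommGroup M]
      (_ : (EtCoh.pull (V.hom : V.left ⟶ T)).obj H ≅ EtCoh.const V.left M),
      ¬ Subsingleton M → (V.hom : V.left ⟶ T) v ∈ EtPBC.supp H := by
    intro V v M _ c hM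
    refine ⟨_, inferInstance, inferInstance, geomPt ((V.hom : V.left ⟶ T) v), ?_, ?_⟩
    · rw [range_geom, geomPt_default]
    · intro hz
      exact hM ((isZero_stalk_iff_of_triv H V v M c _ (geomPt_default _).symm).1 hz)
  have a2 : ∀ (V : T.Etale) (v : V.left) (M : Type) [AddCommGroup M]
      (_ : (EtCoh.pull (V.hom : V.left ⟶ T)).obj H ≅ EtCoh.const V.left M),
      (V.hom : V.left ⟶ T) v ∈ EtPBC.supp H → ¬ Subsingleton M := by
    rintro V v M _ c ⟨Ω', i1, i2, ξ, hξ, hnz⟩ hM
    exact hnz ((isZero_stalk_iff_of_triv H V v M c ξ (default_of_range ξ hξ).symm).2 hM)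
  constructor
  · rw [← isOpen_compl_iff, isOpen_iff_forall_mem_open]
    intro t ht
    obtain ⟨i, v, hv⟩ := hcov t
    obtain ⟨M, i1, i2, ⟨c⟩⟩ := htriv i
    have hM : Subsingleton M := by
      by_contra hM
      exact ht (hv ▸ a1 (U i) v M c hM)
    refine ⟨Set.range ((U i).hom : (U i).left ⟶ T), ?_,
      ((U i).hom : (U i).left ⟶ T).isOpenMap.isOpen_range, ⟨v, hv⟩⟩
    rintro _ ⟨v', rfl⟩ hv'
    exact a2 (U i) v' M c hv' hM
  · rw [isOpen_iff_forall_mem_open]
    intro t ht
    obtain ⟨i, v, hv⟩ := hcov t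
    obtain ⟨M, i1, i2, ⟨c⟩⟩ := htriv i
    have hM : ¬ Subsingleton M := a2 (U i) v M c (hv ▸ ht)
    refine ⟨Set.range ((U i).hom : (U i).left ⟶ T), ?_,
      ((U i).hom : (U i).left ⟶ T).isOpenMap.isOpen_range, ⟨v, hv⟩⟩
    rintro _ ⟨v', rfl⟩
    exact a1 (U i) v' M c hM

end Stalk

section Main

open Groth.Agent.H21.Constr

variable {X : Scheme.{u}}

/-- the support of a sheaf with an adapted stratification of a quasi-compact quasi-separated
open is constructible there -/
theorem isConstructible_preimage_supp (F : EtCoh.Ab X) (S : X.Opens) [CompactSpace ↥S]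
    [QuasiSeparatedSpace ↥S] (h : Strata (fun _ : Unit => F) (S : Set X)) :
    Topology.IsConstructible ((Subtype.val : ↥S → X) ⁻¹' EtPBC.supp F) := by
  obtain ⟨ι, hι, T, g, h1, h2, h3, h4, h5⟩ := h
  have hPS : PrespectralSpace ↥S := inferInstanceAs (PrespectralSpace ↥(S.toScheme))
  have hmem : ∀ i (t : T i), g i t ∈ (S : Set X) := by
    intro i t
    rw [← h4]
    exact Set.mem_iUnion.2 ⟨i, t, rfl⟩
  let g' : ∀ i, T i → ↥S := fun i t => ⟨g i t, hmem i t⟩
  have hg' : ∀ i, Topology.IsEmbedding (g' i) := fun i => by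
    have := h1 i
    exact (g i).isEmbedding.codRestrict _ _
  have hrange : ∀ i, Set.range (g' i) = (Subtype.val : ↥S → X) ⁻¹' Set.range (g i) := by
    intro i
    ext y
    constructor
    · rintro ⟨t, rfl⟩
      exact ⟨t, rfl⟩
    · rintro ⟨t, ht⟩
      exact ⟨t, Subtype.ext ht⟩
  have key : (Subtype.val : ↥S → X) ⁻¹' EtPBC.supp F =
      ⋃ i, g' i '' EtPBC.supp ((EtCoh.pull (g i)).obj F) := by
    ext y
    simp only [Set.mem_preimage, Set.mem_iUnion]
    constructor
    · intro hy
      have hyS : y.1 ∈ ⋃ i, Set.range (g i) := by rw [h4]; exact y.2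
      obtain ⟨i, hi⟩ := Set.mem_iUnion.1 hyS
      have := h1 i
      have h6 : y.1 ∈ (g i) '' EtPBC.supp ((EtCoh.pull (g i)).obj F) := by
        rw [← supp_inter_range]
        exact ⟨hy, hi⟩
      obtain ⟨t, ht, hty⟩ := h6
      exact ⟨i, t, ht, Subtype.ext hty⟩
    · rintro ⟨i, t, ht, rfl⟩
      have := h1 i
      have h6 : g i t ∈ EtPBC.supp F ∩ Set.range (g i) := by
        rw [supp_inter_range]
        exact ⟨t, ht, rfl⟩
      exact h6.1
  rw [key]
  refine Topology.IsConstructible.iUnion (fun i => ?_)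
  refine isConstructible_image_of_isClopen (g' i) (hg' i) ?_ _
    (isClopen_supp_of_isFLC _ (h5 i ()))
  rw [hrange]
  exact h2 i

/-- the support of a constructible sheaf is locally constructible -/
theorem isLocallyConstructible_supp (F : EtCoh.Ab X) (hF : EtPBC.IsConstructible F) :
    Topology.IsLocallyConstructible (EtPBC.supp F) := by
  intro x
  obtain ⟨U, hU, hxU, -⟩ := exists_affine_nbhd (⊤ : X.Opens) x trivial
  have hqs : QuasiSeparatedSpace ↥U := quasiSeparatedSpace_of_isAffineOpen hU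
  have hc : CompactSpace ↥U := isCompact_iff_compactSpace.1 hU.isCompact
  exact ⟨U, U.isOpen.mem_nhds hxU, U.isOpen,
    isConstructible_preimage_supp F U ((strata_iff F U).1 (hF U hU))⟩

open Groth.Agent.H4.Stalks in
/-- the locus where a map of constructible sheaves is surjective on stalks is the complement
of the support of the cokernel -/
theorem surj_locus_eq {F G : EtCoh.Ab X} (φ : F ⟶ G) :
    {x : X | ∀ (Ω : Type u) [Field Ω] [IsSepClosed Ω]
      (ξ : Spec (CommRingCat.of Ω) ⟶ X), Set.range ξ = {x} →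
        Function.Surjective ((EtCoh.stalk ξ).map φ)} = (EtPBC.supp (cokernel φ))ᶜ := by
  have key : ∀ (Ω : Type u) [Field Ω] [IsSepClosed Ω] (ξ : Spec (CommRingCat.of Ω) ⟶ X),
      Function.Surjective ((EtCoh.stalk ξ).map φ) ↔
        IsZero ((EtCoh.stalk ξ).obj (cokernel φ)) := by
    intro Ω _ _ ξ
    rw [← AddCommGrpCat.epi_iff_surjective,
      (PreservesCokernel.iso (EtCoh.stalk ξ) φ).isZero_iff]
    constructor
    · intro h
      exact isZero_cokernel_of_epi _
    · intro h
      exact Preadditive.epi_of_isZero_cokernel _ h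
  ext x
  simp only [Set.mem_ofPred_eq, Set.mem_compl_iff]
  constructor
  · rintro h ⟨Ω, i1, i2, ξ, hξ, hnz⟩
    exact hnz ((key Ω ξ).1 (h Ω ξ hξ))
  · intro h Ω _ _ ξ hξ
    rw [key]
    by_contra hnz
    exact h ⟨Ω, inferInstance, inferInstance, ξ, hξ, hnz⟩

/-- the surjectivity locus of a map of constructible sheaves on a quasi-compact
quasi-separated scheme is constructible -/
theorem isConstructible_surj_locus [CompactSpace X] [QuasiSeparatedSpace X] {F G : EtCoh.Ab X}
    (φ : F ⟶ G) (hF : EtPBC.IsConstructible F) (hG : EtPBC.IsConstructible G) :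
    Topology.IsConstructible {x : X | ∀ (Ω : Type u) [Field Ω] [IsSepClosed Ω]
      (ξ : Spec (CommRingCat.of Ω) ⟶ X), Set.range ξ = {x} →
        Function.Surjective ((EtCoh.stalk ξ).map φ)} := by
  rw [surj_locus_eq]
  exact ((isLocallyConstructible_supp _
    (isConstructible_kernel_cokernel φ hF hG).2).isConstructible).compl

end Main

end Groth.Agent.H21.ConstrSupp
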