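import Groth.Agent.H60.ConstrDense
import Groth.Agent.H21.ConstrGen5
import Groth.Agent.H4.StalkPull

/-!
# Constructibility descends along surjective morphisms of qcqs schemes (helper21)
-/

set_option autoImplicit false
universe u
open CategoryTheory CategoryTheory.Limits AlgebraicGeometry Opposite TopologicalSpace

namespace Groth.Agent.H21.ConstrSurj

open Groth.Agent.H21.ConstrSub Groth.Agent.H21.ConstrMain Groth.Agent.H21.ConstrGen
  Groth.Agent.H21.ConstrACC Groth.Agent.H4.StalkPull Groth.Agent.H60.ConstrCompact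

variable {X Y : Scheme.{u}} (f : X ⟶ Y)

/-- sections of a zero sheaf vanish -/
theorem sec_eq_zero_of_isZero {G : EtCoh.Ab X} (h : IsZero G) (V : X.Etale)
    (t : EtCoh.sect G V) : t = 0 := by
  have h1 : 𝟙 G = 0 := h.eq_of_src _ _
  have h2 : (𝟙 G : G ⟶ G).hom.app (op V) t = (0 : G ⟶ G).hom.app (op V) t := by rw [h1]
  exact h2

/-- the inverse image along a surjective morphism detects zero objects -/
theorem isZero_of_isZero_pull [Surjective f] (C : EtCoh.Ab Y)
    (h : IsZero ((EtCoh.pull f).obj C)) : IsZero C := by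
  apply isZero_of_sections
  intro V τ
  apply unit_injective_of_surjective f C V
  rw [map_zero]
  exact sec_eq_zero_of_isZero h ((EtCoh.bc f).obj V) _

/-- torsion exponents descend along surjective morphisms -/
theorem killedBy_of_pull [Surjective f] (N : ℕ) (F : EtCoh.Ab Y)
    (h : EtCoh.KilledBy N ((EtCoh.pull f).obj F)) : EtCoh.KilledBy N F := by
  intro V s
  apply unit_injective_of_surjective f F V
  rw [map_zero, map_nsmul]
  exact h ((EtCoh.bc f).obj V) _

theorem isTorsion_of_killedBy {N : ℕ} (hN : 0 < N) (F : EtCoh.Ab Y) (h : EtCoh.KilledBy N F) :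
    EtCoh.IsTorsion F := by
  intro U s x
  refine ⟨U, 𝟙 U, ⟨x, rfl⟩, ?_⟩
  rw [isOfFinAddOrder_iff_nsmul_eq_zero]
  exact ⟨N, hN, h U _⟩


/-- a sheaf on `Y` whose inverse image along a surjective morphism `X → Y` of qcqs schemes is
constructible is a quotient of a constructible sheaf -/
theorem exists_epi_of_pull [CompactSpace X] [QuasiSeparatedSpace X] [CompactSpace Y]
    [QuasiSeparatedSpace Y] [Surjective f] (G : EtCoh.Ab Y)
    (hG : EtPBC.IsConstructible ((EtCoh.pull f).obj G)) :
    ∃ (D : EtCoh.Ab Y) (π : D ⟶ G), EtPBC.IsConstructible D ∧ Epi π := by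
  obtain ⟨N, hN, hk⟩ := exists_killedBy _ hG
  have hT : EtCoh.IsTorsion G := isTorsion_of_killedBy hN G (killedBy_of_pull f N G hk)
  obtain ⟨J, i1, i2, D, c, hc, hD, ⟨e⟩⟩ := Groth.Agent.H60.ConstrDense.main Y G hT
  let P := EtCoh.pull f
  have : PreservesColimitsOfSize.{u + 1, u + 1} P :=
    (EtCoh.pullPushAdj f).leftAdjoint_preservesColimits
  have hc' : IsColimit (P.mapCocone c) := isColimitOfPreserves P hc
  have hpt : EtPBC.IsConstructible (P.obj c.pt) :=
    isConstructible_of_iso (P.mapIso e.symm) hG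
  have hcpt : Cpt J (P.obj c.pt) :=
    Groth.Agent.H60.ConstrCompact2.cpt_of_isConstructible X _ hpt J
  obtain ⟨i, s, hs⟩ := hcpt.surj hc' (𝟙 _)
  have hs' : s ≫ P.map (c.ι.app i) = 𝟙 _ := hs
  have hepi : Epi (P.map (c.ι.app i)) := epi_of_epi_fac hs'
  have hz : IsZero (P.obj (cokernel (c.ι.app i))) :=
    (isZero_cokernel_of_epi (P.map (c.ι.app i))).of_iso (PreservesCokernel.iso P (c.ι.app i))
  have hz' : IsZero (cokernel (c.ι.app i)) := isZero_of_isZero_pull f _ hz
  have hepi' : Epi (c.ι.app i) := Preadditive.epi_of_isZero_cokernel _ hz'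
  exact ⟨D.obj i, c.ι.app i ≫ e.hom, hD i, epi_comp _ _⟩

/-- **constructibility descends along surjective morphisms of qcqs schemes** -/
theorem isConstructible_of_pull [CompactSpace X] [QuasiSeparatedSpace X] [CompactSpace Y]
    [QuasiSeparatedSpace Y] [Surjective f] (F : EtCoh.Ab Y)
    (hF : EtPBC.IsConstructible ((EtCoh.pull f).obj F)) : EtPBC.IsConstructible F := by
  let P := EtCoh.pull f
  obtain ⟨D, π, hD, hπ⟩ := exists_epi_of_pull f F hF
  have hK : EtPBC.IsConstructible (P.obj (kernel π)) :=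
    isConstructible_of_iso (PreservesKernel.iso P π).symm
      (isConstructible_kernel_cokernel (P.map π) (pull_isConstructible f D hD) hF).1
  obtain ⟨D', π', hD', hπ'⟩ := exists_epi_of_pull f (kernel π) hK
  have e1 : cokernel (kernel.ι π) ≅ F :=
    IsColimit.coconePointUniqueUpToIso (cokernelIsCokernel (kernel.ι π))
      (Abelian.epiIsCokernelOfKernel (KernelFork.ofι (kernel.ι π) (kernel.condition π))
        (kernelIsKernel π))
  have e2 : cokernel (π' ≫ kernel.ι π) ≅ cokernel (kernel.ι π) := cokernelEpiComp π' (kernel.ι π)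
  exact isConstructible_of_iso (e2 ≪≫ e1)
    (isConstructible_kernel_cokernel (π' ≫ kernel.ι π) hD' hD).2

end Groth.Agent.H21.ConstrSurj
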