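import Groth.Agent.H21.ConstrSurj
import Groth.Agent.H21.ConstrLoc

/-!
# Constructibility descends along surjective morphisms locally of finite presentation (helper21)
-/

set_option autoImplicit false
universe u
open CategoryTheory CategoryTheory.Limits AlgebraicGeometry Opposite TopologicalSpace

namespace Groth.Agent.H21.ConstrSurj

open Groth.Agent.H21.ConstrSub Groth.Agent.H21.ConstrMain Groth.Agent.H21.ConstrGen
  Groth.Agent.H21.ConstrLoc

/-- **constructibility descends along surjective morphisms locally of finite presentation** -/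
theorem isConstructible_of_pull_lfp {X Y : Scheme.{u}} (f : X ⟶ Y) [Surjective f]
    [LocallyOfFinitePresentation f] (F : EtCoh.Ab Y)
    (hF : EtPBC.IsConstructible ((EtCoh.pull f).obj F)) : EtPBC.IsConstructible F := by
  refine isConstructible_of_openCover F (fun V : Y.affineOpens => V.1)
    (iSup_affineOpens_eq_top Y) fun V => ?_
  have hVaff : IsAffine (V.1 : Scheme.{u}) := V.2
  let fV : pullback f V.1.ι ⟶ V.1 := pullback.snd f V.1.ι
  let gV : pullback f V.1.ι ⟶ X := pullback.fst f V.1.ι
  have hsurj : Surjective fV := inferInstance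
  let 𝒰 := (pullback f V.1.ι).affineCover
  let R : 𝒰.I₀ → Set (V.1 : Scheme.{u}) := fun i => Set.range (𝒰.f i ≫ fV)
  have hR : ∀ i, Topology.IsConstructible (R i) := fun i => by
    have h := (𝒰.f i ≫ fV).isConstructible_image (s := Set.univ) Topology.IsConstructible.univ
    rwa [Set.image_univ] at h
  have hcov : (⋃ i, R i) = Set.univ := by
    refine Set.eq_univ_of_forall fun v => ?_
    obtain ⟨p, hp⟩ := hsurj.surj v
    obtain ⟨i, q, hq⟩ := 𝒰.exists_eq p
    refine Set.mem_iUnion.2 ⟨i, q, ?_⟩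
    rw [Scheme.Hom.comp_apply, hq, hp]
  obtain ⟨t, ht⟩ := exists_finite_subcover_of_isConstructible R hR hcov
  let g : t → Scheme.{u} := fun i => 𝒰.X i.1
  have hg : ∀ i, IsAffine (g i) := fun i => inferInstanceAs (IsAffine (𝒰.X i.1))
  let h : (∐ g) ⟶ V.1 := Sigma.desc fun i => 𝒰.f i.1 ≫ fV
  let h' : (∐ g) ⟶ X := Sigma.desc fun i => 𝒰.f i.1 ≫ gV
  have hw : h ≫ V.1.ι = h' ≫ f := by
    apply Sigma.hom_ext
    intro i
    simp only [h, h', colimit.ι_desc_assoc, Cofan.mk_ι_app, Category.assoc]
    rw [pullback.condition]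
  have hhsurj : Surjective h := by
    refine ⟨fun v => ?_⟩
    have hv : v ∈ ⋃ i ∈ t, R i := by rw [ht]; trivial
    obtain ⟨i, hit, q, hq⟩ := Set.mem_iUnion₂.1 hv
    refine ⟨(Sigma.ι g ⟨i, hit⟩) q, ?_⟩
    rw [← Scheme.Hom.comp_apply, Sigma.ι_desc]
    exact hq
  have hc : EtPBC.IsConstructible ((EtCoh.pull h).obj ((EtCoh.pull V.1.ι).obj F)) := by
    have h1 := pull_isConstructible h' _ hF
    exact isConstructible_of_iso
      ((EtCore.pullComp h' f).symm.app F ≪≫ (EtCore.pullCongr hw.symm).app F ≪≫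
        (EtCore.pullComp h V.1.ι).app F) h1
  exact isConstructible_of_pull h _ hc

end Groth.Agent.H21.ConstrSurj
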