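import Mathlib.RingTheory.Ideal.GoingUp
import Mathlib.FieldTheory.IsAlgClosed.Basic
import Mathlib.Analysis.Complex.Polynomial.Basic
import Mathlib.FieldTheory.Minpoly.IsIntegrallyClosed
import Mathlib.RingTheory.Ideal.Quotient.Basic

open Polynomial

namespace Groth.Agent.H21

/-- Lifting complex points along an integral ring map. -/
theorem exists_ringHom_lift {B A : Type*} [CommRing B] [CommRing A] [Algebra B A]
    [Algebra.IsIntegral B A] (χ : B →+* ℂ) (hχ : Function.Surjective χ)
    (hker : RingHom.ker (algebraMap B A) ≤ RingHom.ker χ) :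
    ∃ φ : A →+* ℂ, ∀ b, φ (algebraMap B A b) = χ b := by
  have hmax : (RingHom.ker χ).IsMaximal := RingHom.ker_isMaximal_of_surjective χ hχ
  obtain ⟨M, hM, hMn⟩ := Ideal.exists_ideal_over_maximal_of_isIntegral (S := A) (RingHom.ker χ) hker
  let _ : Field (A ⧸ M) := Ideal.Quotient.field M
  let θ : B →+* (A ⧸ M) := (Ideal.Quotient.mk M).comp (algebraMap B A)
  have hθ : ∀ b, b ∈ RingHom.ker χ → b ∈ RingHom.ker θ := by
    intro b hb
    rw [← hMn] at hb
    rw [RingHom.mem_ker]
    exact Ideal.Quotient.eq_zero_iff_mem.2 hb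
  let q : ℂ →+* (A ⧸ M) := RingHom.liftOfSurjective χ hχ ⟨θ, hθ⟩
  have hq : ∀ b, q (χ b) = θ b := fun b => RingHom.liftOfSurjective_comp_apply χ hχ ⟨θ, hθ⟩ b
  have hqint : q.IsIntegral := by
    intro k
    obtain ⟨a, rfl⟩ := Ideal.Quotient.mk_surjective k
    obtain ⟨p, hp, hpa⟩ := Algebra.IsIntegral.isIntegral (R := B) a
    refine ⟨p.map χ, hp.map χ, ?_⟩
    rw [Polynomial.eval₂_map]
    have h1 : q.comp χ = θ := RingHom.ext hq
    rw [h1]
    have h2 := Polynomial.hom_eval₂ p (algebraMap B A) (Ideal.Quotient.mk M) a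
    rw [hpa, map_zero] at h2
    exact h2.symm
  have hbij : Function.Bijective q := IsAlgClosed.ringHom_bijective_of_isIntegral q hqint
  let e : ℂ ≃+* (A ⧸ M) := RingEquiv.ofBijective q hbij
  refine ⟨(e.symm : (A ⧸ M) →+* ℂ).comp (Ideal.Quotient.mk M), ?_⟩
  intro b
  change e.symm (θ b) = χ b
  rw [← hq b]
  exact e.symm_apply_apply (χ b)

/-- Over an integrally closed base, every root of a specialisation of the minimal polynomial of an
element is the value of that element at a complex point over the given point of the base. -/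
theorem exists_ringHom_of_root {R A : Type*} [CommRing R] [IsDomain R] [IsIntegrallyClosed R]
    [CommRing A] [IsDomain A] [Algebra R A] [Module.IsTorsionFree R A] [Algebra.IsIntegral R A]
    (g : A) (ψ : R →+* ℂ) (hψ : Function.Surjective ψ) (μ : ℂ)
    (hμ : ((minpoly R g).map ψ).IsRoot μ) :
    ∃ φ : A →+* ℂ, (∀ r, φ (algebraMap R A r) = ψ r) ∧ φ g = μ := by
  let _ : Algebra R[X] A := (Polynomial.aeval g : R[X] →ₐ[R] A).toRingHom.toAlgebra
  have hmap : ∀ p : R[X], algebraMap R[X] A p = Polynomial.aeval g p := fun _ => rfl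
  have : IsScalarTower R R[X] A := IsScalarTower.of_algebraMap_eq (fun r => by
    rw [hmap, Polynomial.algebraMap_apply, Polynomial.aeval_C]
    rfl)
  have : Algebra.IsIntegral R[X] A := Algebra.IsIntegral.tower_top (R := R)
  let χ : R[X] →+* ℂ := Polynomial.eval₂RingHom ψ μ
  have hχ : Function.Surjective χ := by
    intro c
    obtain ⟨r, rfl⟩ := hψ c
    exact ⟨Polynomial.C r, by simp [χ]⟩
  have hker : RingHom.ker (algebraMap R[X] A) ≤ RingHom.ker χ := by
    have h1 : RingHom.ker (algebraMap R[X] A) = Ideal.span {minpoly R g} :=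
      minpoly.ker_eval (Algebra.IsIntegral.isIntegral g)
    rw [h1, Ideal.span_le]
    intro p hp
    rw [Set.mem_singleton_iff] at hp
    subst hp
    change χ (minpoly R g) = 0
    simp only [χ, Polynomial.coe_eval₂RingHom]
    rw [← Polynomial.eval_map]
    exact hμ
  obtain ⟨φ, hφ⟩ := exists_ringHom_lift χ hχ hker
  refine ⟨φ, ?_, ?_⟩
  · intro r
    have := hφ (Polynomial.C r)
    rw [hmap, Polynomial.aeval_C] at this
    rw [this]
    simp [χ]
  · have := hφ Polynomial.X
    rw [hmap, Polynomial.aeval_X] at this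
    rw [this]
    simp [χ]

end Groth.Agent.H21
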