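import Groth.Agent.H21.DensRoots
import Groth.Agent.H21.DensLift
import Mathlib.RingTheory.Polynomial.UniqueFactorization
import Mathlib.RingTheory.Polynomial.RationalRoot
import Mathlib.RingTheory.NoetherNormalization
import Mathlib.Algebra.MvPolynomial.Funext
import Mathlib.Topology.Separation.Basic
import Mathlib.Topology.Perfect

open Polynomial Topology Filter

namespace Groth.Agent.H21

/-- A generic complex number `z` such that the linear form `ρ ↦ ∑ zⁱ ρᵢ` separates `ρ₀` from the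
other points of a finite set. -/
theorem exists_generic_z {k : ℕ} (S : Finset (Fin k → ℂ)) (ρ₀ : Fin k → ℂ) :
    ∃ z : ℂ, ∀ ρ ∈ S, ρ ≠ ρ₀ →
      ∑ i : Fin k, z ^ (i : ℕ) * ρ i ≠ ∑ i : Fin k, z ^ (i : ℕ) * ρ₀ i := by
  classical
  let poly : (Fin k → ℂ) → ℂ[X] := fun ρ => ∑ i : Fin k, Polynomial.monomial (i : ℕ) (ρ i - ρ₀ i)
  have hpoly : ∀ ρ, ρ ≠ ρ₀ → poly ρ ≠ 0 := by
    intro ρ hρ h0
    apply hρ
    funext i₀
    have h1 : (poly ρ).coeff (i₀ : ℕ) = ρ i₀ - ρ₀ i₀ := by
      simp only [poly, Polynomial.finsetSum_coeff, Polynomial.coeff_monomial]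
      rw [Finset.sum_eq_single i₀]
      · simp
      · intro j _ hj
        rw [if_neg]
        exact fun h => hj (Fin.ext h)
      · intro h; exact absurd (Finset.mem_univ _) h
    rw [h0, Polynomial.coeff_zero] at h1
    exact (sub_eq_zero.1 h1.symm)
  let bad : Finset ℂ := S.biUnion (fun ρ => (poly ρ).roots.toFinset)
  obtain ⟨z, hz⟩ := Infinite.exists_notMem_finset bad
  refine ⟨z, fun ρ hρS hρ heq => hz ?_⟩
  rw [Finset.mem_biUnion]
  refine ⟨ρ, hρS, ?_⟩
  rw [Multiset.mem_toFinset, Polynomial.mem_roots (hpoly ρ hρ), Polynomial.IsRoot.def]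
  simp only [poly, Polynomial.eval_finsetSum, Polynomial.eval_monomial]
  have : ∑ i : Fin k, (ρ i - ρ₀ i) * z ^ (i : ℕ)
      = ∑ i : Fin k, z ^ (i : ℕ) * ρ i - ∑ i : Fin k, z ^ (i : ℕ) * ρ₀ i := by
    rw [← Finset.sum_sub_distrib]
    apply Finset.sum_congr rfl
    intro i _
    ring
  rw [this, heq, sub_self]

/-- The non-vanishing locus of a nonzero polynomial is dense in `ℂ^d`. -/
theorem dense_eval_ne_zero {d : ℕ} (p : MvPolynomial (Fin d) ℂ) (hp : p ≠ 0) :
    Dense {t : Fin d → ℂ | MvPolynomial.eval t p ≠ 0} := by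
  have hcompl : {t : Fin d → ℂ | MvPolynomial.eval t p ≠ 0} = {t | MvPolynomial.eval t p = 0}ᶜ := by
    ext t; simp
  rw [hcompl, ← interior_eq_empty_iff_dense_compl, Set.eq_empty_iff_forall_notMem]
  intro t₁ ht₁
  apply hp
  have hZ : {t : Fin d → ℂ | MvPolynomial.eval t p = 0} ∈ 𝓝 t₁ := mem_interior_iff_mem_nhds.1 ht₁
  apply MvPolynomial.funext
  intro t
  rw [map_zero]
  -- the line through `t₁` and `t`
  let v : Fin d → ℂ := t - t₁
  let ℓ : ℂ → (Fin d → ℂ) := fun s => t₁ + s • v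
  have hℓ : Continuous ℓ := continuous_const.add (continuous_id.smul continuous_const)
  have hℓ0 : ℓ 0 = t₁ := by simp [ℓ]
  have hpre : ℓ ⁻¹' {t : Fin d → ℂ | MvPolynomial.eval t p = 0} ∈ 𝓝 (0 : ℂ) := by
    apply hℓ.continuousAt
    rw [hℓ0]
    exact hZ
  let q : ℂ[X] := MvPolynomial.aeval (fun j => Polynomial.C (t₁ j) + Polynomial.X * Polynomial.C (v j)) p
  have hq : ∀ s : ℂ, q.eval s = MvPolynomial.eval (ℓ s) p := by
    intro s
    have : (Polynomial.evalRingHom s).comp
        (MvPolynomial.aeval (fun j => Polynomial.C (t₁ j) + Polynomial.X * Polynomial.C (v j))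
          : MvPolynomial (Fin d) ℂ →ₐ[ℂ] ℂ[X]).toRingHom = MvPolynomial.eval (ℓ s) := by
      apply MvPolynomial.ringHom_ext
      · intro c
        simp
      · intro j
        simp only [AlgHom.toRingHom_eq_coe, RingHom.coe_comp, RingHom.coe_coe, Function.comp_apply,
          MvPolynomial.aeval_X, coe_evalRingHom, eval_add, eval_C, eval_mul, eval_X,
          MvPolynomial.eval_X, ℓ, Pi.add_apply, Pi.smul_apply, smul_eq_mul]
    exact congrArg (fun φ => φ p) this
  have hinf : {s : ℂ | q.IsRoot s}.Infinite := by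
    apply Set.Infinite.mono _ (infinite_of_mem_nhds (0 : ℂ) hpre)
    intro s hs
    change q.eval s = 0
    rw [hq]
    exact hs
  have hq0 : q = 0 := Polynomial.eq_zero_of_infinite_isRoot q hinf
  have h2 := hq 1
  rw [hq0, Polynomial.eval_zero] at h2
  have h1 : ℓ 1 = t := by simp [ℓ, v]
  rw [← h1]
  exact h2.symm

end Groth.Agent.H21
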