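import Groth.Agent.H21.DensAux

open Polynomial Topology Filter

namespace Groth.Agent.H21

set_option linter.unusedSectionVars false

section

variable {d : ℕ} {A : Type*} [CommRing A] [IsDomain A] [Algebra (MvPolynomial (Fin d) ℂ) A]
  [Module.IsTorsionFree (MvPolynomial (Fin d) ℂ) A]
  [Algebra.IsIntegral (MvPolynomial (Fin d) ℂ) A]

local notation "R" => MvPolynomial (Fin d) ℂ

lemma isRoot_specPoly_minpoly (φ : A →+* ℂ) (t : Fin d → ℂ)
    (hφ : ∀ r : R, φ (algebraMap R A r) = MvPolynomial.eval t r) (g : A) :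
    (specPoly (minpoly R g) t).IsRoot (φ g) := by
  unfold specPoly
  rw [Polynomial.IsRoot.def, Polynomial.eval_map]
  have h := Polynomial.hom_eval₂ (minpoly R g) (algebraMap R A) φ g
  have h2 : φ.comp (algebraMap R A) = MvPolynomial.eval t := RingHom.ext hφ
  rw [h2] at h
  rw [← h]
  have h3 : Polynomial.eval₂ (algebraMap R A) g (minpoly R g) = 0 := minpoly.aeval R g
  rw [h3, map_zero]

lemma minpoly_monic' (g : A) : (minpoly R g).Monic :=
  minpoly.monic (Algebra.IsIntegral.isIntegral g)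

lemma minpoly_coeff_zero_ne_zero' (h : A) (hh : h ≠ 0) : (minpoly R h).coeff 0 ≠ 0 := by
  intro h0
  have hint : IsIntegral R h := Algebra.IsIntegral.isIntegral h
  obtain ⟨Q, hQ⟩ := Polynomial.X_dvd_iff.2 h0
  have hP0 : minpoly R h ≠ 0 := minpoly.ne_zero hint
  have hQ0 : Q ≠ 0 := by
    rintro rfl
    rw [mul_zero] at hQ
    exact hP0 hQ
  have h1 : Polynomial.aeval h (minpoly R h) = 0 := minpoly.aeval R h
  rw [hQ, map_mul, Polynomial.aeval_X] at h1
  have h2 : Polynomial.aeval h Q = 0 := (mul_eq_zero.1 h1).resolve_left hh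
  have h3 : minpoly R h ∣ Q := minpoly.isIntegrallyClosed_dvd hint h2
  have h4 := Polynomial.natDegree_le_of_dvd h3 hQ0
  rw [hQ, Polynomial.natDegree_X_mul hQ0] at h4
  omega

lemma eval_coeff_zero_eq_zero (φ : A →+* ℂ) (t : Fin d → ℂ)
    (hφ : ∀ r : R, φ (algebraMap R A r) = MvPolynomial.eval t r) (h : A) (h0 : φ h = 0) :
    MvPolynomial.eval t ((minpoly R h).coeff 0) = 0 := by
  have h1 := isRoot_specPoly_minpoly φ t hφ h
  rw [h0, Polynomial.IsRoot.def, ← Polynomial.coeff_zero_eq_eval_zero, specPoly_coeff] at h1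
  exact h1

/-- Openness of a finite map onto affine space at a given point, in the weak form needed for the
density theorem: complex points near a given one exist over a dense set of nearby base points. -/
theorem exists_ringHom_near (φ₀ : A →+* ℂ) (t₀ : Fin d → ℂ)
    (hφ₀ : ∀ r : R, φ₀ (algebraMap R A r) = MvPolynomial.eval t₀ r)
    (h : A) (hh : h ≠ 0) {k : ℕ} (a : Fin k → A) {ε : ℝ} (hε : 0 < ε) :
    ∃ (φ : A →+* ℂ) (t : Fin d → ℂ), (∀ r : R, φ (algebraMap R A r) = MvPolynomial.eval t r) ∧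
      φ h ≠ 0 ∧ ∀ i, ‖φ (a i) - φ₀ (a i)‖ < ε := by
  classical
  -- roots at the base point
  let ρ₀ : Fin k → ℂ := fun i => φ₀ (a i)
  let Roots : Fin k → Finset ℂ := fun i => (specPoly (minpoly R (a i)) t₀).roots.toFinset
  let 𝓡 : Finset (Fin k → ℂ) := Fintype.piFinset Roots
  obtain ⟨z, hz⟩ := exists_generic_z 𝓡 ρ₀
  let L : (Fin k → ℂ) → ℂ := fun ρ => ∑ i : Fin k, z ^ (i : ℕ) * ρ i
  let g : A := ∑ i : Fin k, algebraMap R A (MvPolynomial.C (z ^ (i : ℕ))) * a i
  have hLg : ∀ (φ : A →+* ℂ) (t : Fin d → ℂ),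
      (∀ r : R, φ (algebraMap R A r) = MvPolynomial.eval t r) → φ g = L (fun i => φ (a i)) := by
    intro φ t hφ
    simp only [g, L, map_sum, map_mul, hφ, MvPolynomial.eval_C]
  let C : ℝ := ∑ i : Fin k, ‖z‖ ^ (i : ℕ)
  have hC : 0 ≤ C := Finset.sum_nonneg (fun i _ => by positivity)
  -- choose a small tolerance
  have hev : ∀ᶠ e in 𝓝[>] (0 : ℝ), e ≤ ε ∧ ∀ ρ ∈ 𝓡, ρ ≠ ρ₀ → (C + 1) * e < ‖L ρ - L ρ₀‖ := by
    apply Filter.Eventually.and
    · exact nhdsWithin_le_nhds (eventually_le_nhds hε)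
    · rw [Filter.eventually_all_finset]
      intro ρ hρ
      by_cases hρ0 : ρ = ρ₀
      · exact Filter.Eventually.of_forall (fun e h => absurd hρ0 h)
      · have hpos : 0 < ‖L ρ - L ρ₀‖ := norm_pos_iff.2 (sub_ne_zero.2 (hz ρ hρ hρ0))
        have hcont : ContinuousAt (fun e : ℝ => (C + 1) * e) 0 :=
          (continuous_const.mul continuous_id).continuousAt
        have := hcont.eventually_lt (continuousAt_const (y := ‖L ρ - L ρ₀‖)) (by simpa using hpos)
        exact nhdsWithin_le_nhds (this.mono (fun e he _ => he))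
  obtain ⟨e, ⟨hee, heρ⟩, he0⟩ := (hev.and self_mem_nhdsWithin).exists
  have he0' : (0 : ℝ) < e := he0
  -- events near t₀
  have hroot0 : (specPoly (minpoly R g) t₀).IsRoot (φ₀ g) := isRoot_specPoly_minpoly φ₀ t₀ hφ₀ g
  have hE1 := eventually_exists_root_near (minpoly R g) (minpoly_monic' g) t₀ (φ₀ g) hroot0 he0'
  have hE2 : ∀ᶠ t in 𝓝 t₀, ∀ i : Fin k, ∀ μ, (specPoly (minpoly R (a i)) t).IsRoot μ →
      ∃ ρ, (specPoly (minpoly R (a i)) t₀).IsRoot ρ ∧ ‖μ - ρ‖ < e := by
    rw [Filter.eventually_all]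
    intro i
    exact eventually_forall_root_near (minpoly R (a i)) (minpoly_monic' (a i)) t₀ he0'
  -- pick a base point in the dense set
  have hdense := dense_eval_ne_zero ((minpoly R h).coeff 0) (minpoly_coeff_zero_ne_zero' h hh)
  obtain ⟨t, htne, ht1, ht2⟩ := hdense.inter_nhds_nonempty (hE1.and hE2)
  obtain ⟨lam, hlam, hlamdist⟩ := ht1
  obtain ⟨φ, hφ, hφg⟩ := exists_ringHom_of_root g (MvPolynomial.eval t)
    (fun c => ⟨MvPolynomial.C c, MvPolynomial.eval_C c⟩) lam hlam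
  refine ⟨φ, t, hφ, ?_, ?_⟩
  · intro h0
    exact htne (eval_coeff_zero_eq_zero φ t hφ h h0)
  · -- the values of φ on the aᵢ are close to roots at t₀
    have hclose : ∀ i, ∃ ρ, (specPoly (minpoly R (a i)) t₀).IsRoot ρ ∧ ‖φ (a i) - ρ‖ < e :=
      fun i => ht2 i (φ (a i)) (isRoot_specPoly_minpoly φ t hφ (a i))
    choose ρ hρroot hρdist using hclose
    have hρmem : ρ ∈ 𝓡 := by
      rw [Fintype.mem_piFinset]
      intro i
      rw [Multiset.mem_toFinset, Polynomial.mem_roots (specPoly_monic (minpoly_monic' (a i)) t₀).ne_zero]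
      exact hρroot i
    have hρeq : ρ = ρ₀ := by
      by_contra hne
      have hlt := heρ ρ hρmem hne
      have h1 : ‖L ρ - L (fun i => φ (a i))‖ ≤ C * e := by
        have : L ρ - L (fun i => φ (a i)) = ∑ i : Fin k, z ^ (i : ℕ) * (ρ i - φ (a i)) := by
          simp only [L, ← Finset.sum_sub_distrib, mul_sub]
        rw [this]
        refine (norm_sum_le _ _).trans ?_
        simp only [C, Finset.sum_mul]
        apply Finset.sum_le_sum
        intro i _
        rw [norm_mul, norm_pow]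
        gcongr
        rw [norm_sub_rev]
        exact (hρdist i).le
      have h2 : ‖L (fun i => φ (a i)) - L ρ₀‖ < e := by
        rw [← hLg φ t hφ, ← hLg φ₀ t₀ hφ₀, hφg, norm_sub_rev]
        exact hlamdist
      have h3 : ‖L ρ - L ρ₀‖ ≤ ‖L ρ - L (fun i => φ (a i))‖ + ‖L (fun i => φ (a i)) - L ρ₀‖ := by
        have : L ρ - L ρ₀ = (L ρ - L (fun i => φ (a i))) + (L (fun i => φ (a i)) - L ρ₀) := by ring
        rw [this]
        exact norm_add_le _ _
      nlinarith
    intro i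
    have := hρdist i
    rw [hρeq] at this
    exact lt_of_lt_of_le this hee

end

/-- **Density, algebraic core.** For a finitely generated `ℂ`-algebra `A` which is a domain, a
nonzero `h ∈ A` and a complex point `φ₀`, there are complex points `φ` with `φ h ≠ 0` which are
arbitrarily close to `φ₀` on any finite set of elements of `A`. -/
theorem exists_algHom_near {A : Type*} [CommRing A] [IsDomain A] [Algebra ℂ A]
    [Algebra.FiniteType ℂ A] (φ₀ : A →ₐ[ℂ] ℂ) (h : A) (hh : h ≠ 0) {k : ℕ} (a : Fin k → A)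
    {ε : ℝ} (hε : 0 < ε) :
    ∃ φ : A →ₐ[ℂ] ℂ, φ h ≠ 0 ∧ ∀ i, ‖φ (a i) - φ₀ (a i)‖ < ε := by
  obtain ⟨d, ι, hinj, hint⟩ := exists_integral_inj_algHom_of_fg ℂ A
  let _ : Algebra (MvPolynomial (Fin d) ℂ) A := ι.toRingHom.toAlgebra
  have hmap : ∀ r : MvPolynomial (Fin d) ℂ, algebraMap (MvPolynomial (Fin d) ℂ) A r = ι r :=
    fun _ => rfl
  have : IsScalarTower ℂ (MvPolynomial (Fin d) ℂ) A :=
    IsScalarTower.of_algebraMap_eq (fun c => by rw [hmap]; exact (ι.commutes c).symm)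
  have : Algebra.IsIntegral (MvPolynomial (Fin d) ℂ) A := ⟨hint⟩
  have : Module.IsTorsionFree (MvPolynomial (Fin d) ℂ) A :=
    Module.isTorsionFree_iff_algebraMap_injective.mpr hinj
  let t₀ : Fin d → ℂ := fun j => φ₀ (ι (MvPolynomial.X j))
  have hφ₀ : ∀ r : MvPolynomial (Fin d) ℂ,
      (φ₀ : A →+* ℂ) (algebraMap (MvPolynomial (Fin d) ℂ) A r) = MvPolynomial.eval t₀ r := by
    have : (φ₀ : A →+* ℂ).comp (ι : MvPolynomial (Fin d) ℂ →+* A) = MvPolynomial.eval t₀ := by
      apply MvPolynomial.ringHom_ext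
      · intro c
        simp only [RingHom.coe_comp, RingHom.coe_coe, Function.comp_apply, MvPolynomial.eval_C]
        rw [← MvPolynomial.algebraMap_eq, ι.commutes, φ₀.commutes]
        rfl
      · intro j
        simp [t₀]
    intro r
    exact congrArg (fun ψ => ψ r) this
  obtain ⟨φ, t, hφ, hφh, hφa⟩ := exists_ringHom_near (φ₀ : A →+* ℂ) t₀ hφ₀ h hh a hε
  refine ⟨⟨φ, ?_⟩, hφh, hφa⟩
  intro c
  have h1 : algebraMap ℂ A c = algebraMap (MvPolynomial (Fin d) ℂ) A (MvPolynomial.C c) := by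
    rw [hmap, ← MvPolynomial.algebraMap_eq, ι.commutes]
  change φ (algebraMap ℂ A c) = c
  rw [h1, hφ, MvPolynomial.eval_C]

end Groth.Agent.H21
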