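import Mathlib.Analysis.Complex.Polynomial.Basic
import Mathlib.Analysis.Polynomial.CauchyBound
import Mathlib.Algebra.Polynomial.Splits
import Mathlib.Algebra.Order.BigOperators.Group.Multiset
import Mathlib.Topology.Algebra.MvPolynomial
import Mathlib.Topology.Algebra.Polynomial

open Polynomial Topology Filter

namespace Groth.Agent.H21

/-- For a monic complex polynomial of positive degree and any `μ`, some root `ρ` satisfies
`‖μ - ρ‖ ^ deg ≤ ‖Q(μ)‖`. -/
theorem exists_root_pow_le (Q : ℂ[X]) (hQ : Q.Monic) (hdeg : 0 < Q.natDegree) (μ : ℂ) :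
    ∃ ρ, Q.IsRoot ρ ∧ ‖μ - ρ‖ ^ Q.natDegree ≤ ‖Q.eval μ‖ := by
  have hs : Q.Splits := IsAlgClosed.splits Q
  have hcard : Q.roots.card = Q.natDegree := hs.natDegree_eq_card_roots.symm
  have hne : Q.roots.toFinset.Nonempty := by
    rw [Multiset.toFinset_nonempty]
    intro h
    rw [h, Multiset.card_zero] at hcard
    omega
  obtain ⟨ρ, hρ, hmin⟩ := Q.roots.toFinset.exists_min_image (fun r => ‖μ - r‖₊) hne
  rw [Multiset.mem_toFinset] at hρ
  refine ⟨ρ, (mem_roots hQ.ne_zero).1 hρ, ?_⟩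
  rw [hs.eval_eq_prod_roots_of_monic hQ μ]
  have h1 : ‖μ - ρ‖₊ ^ (Q.roots.map (fun r => ‖μ - r‖₊)).card
      ≤ (Q.roots.map (fun r => ‖μ - r‖₊)).prod := by
    apply Multiset.pow_card_le_prod
    intro x hx
    obtain ⟨r, hr, rfl⟩ := Multiset.mem_map.1 hx
    exact hmin r (Multiset.mem_toFinset.2 hr)
  rw [Multiset.card_map, hcard] at h1
  have h2 : ‖(Q.roots.map (fun r => μ - r)).prod‖₊ = (Q.roots.map (fun r => ‖μ - r‖₊)).prod := by
    have := map_multiset_prod (nnnormHom : ℂ →*₀ NNReal) (Q.roots.map (fun r => μ - r))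
    rw [Multiset.map_map] at this
    exact this
  have h3 : ‖μ - ρ‖₊ ^ Q.natDegree ≤ ‖(Q.roots.map (fun r => μ - r)).prod‖₊ := by
    rw [h2]; exact h1
  exact_mod_cast h3

/-- Specialise the coefficients of a polynomial over a polynomial ring at a point. -/
noncomputable def specPoly {d : ℕ} (P : (MvPolynomial (Fin d) ℂ)[X]) (t : Fin d → ℂ) : ℂ[X] :=
  P.map (MvPolynomial.eval t)

lemma specPoly_monic {d : ℕ} {P : (MvPolynomial (Fin d) ℂ)[X]} (hP : P.Monic) (t : Fin d → ℂ) :
    (specPoly P t).Monic := hP.map _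

lemma specPoly_natDegree {d : ℕ} {P : (MvPolynomial (Fin d) ℂ)[X]} (hP : P.Monic)
    (t : Fin d → ℂ) : (specPoly P t).natDegree = P.natDegree := hP.natDegree_map _

lemma specPoly_coeff {d : ℕ} (P : (MvPolynomial (Fin d) ℂ)[X]) (t : Fin d → ℂ) (j : ℕ) :
    (specPoly P t).coeff j = MvPolynomial.eval t (P.coeff j) := Polynomial.coeff_map _ _

lemma specPoly_eval {d : ℕ} (P : (MvPolynomial (Fin d) ℂ)[X]) (t : Fin d → ℂ) (μ : ℂ) :
    (specPoly P t).eval μ = MvPolynomial.eval t (P.eval (MvPolynomial.C μ)) := by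
  unfold specPoly
  rw [Polynomial.eval_map]
  have := Polynomial.hom_eval₂ P (RingHom.id _) (MvPolynomial.eval t) (MvPolynomial.C μ)
  rw [RingHom.comp_id, MvPolynomial.eval_C] at this
  rw [← this]
  rfl

lemma natDegree_pos_of_isRoot {d : ℕ} {P : (MvPolynomial (Fin d) ℂ)[X]} (hP : P.Monic)
    {t : Fin d → ℂ} {μ : ℂ} (h : (specPoly P t).IsRoot μ) : 0 < P.natDegree := by
  rw [← specPoly_natDegree hP t]
  by_contra h0
  have h1 : (specPoly P t).natDegree = 0 := by omega
  have h2 : specPoly P t = 1 := (specPoly_monic hP t).natDegree_eq_zero.1 h1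
  rw [h2] at h
  simp at h

/-- A root of the specialisation at `t₀` is approximated by roots of nearby specialisations. -/
theorem eventually_exists_root_near {d : ℕ} (P : (MvPolynomial (Fin d) ℂ)[X]) (hP : P.Monic)
    (t₀ : Fin d → ℂ) (μ₀ : ℂ) (h0 : (specPoly P t₀).IsRoot μ₀) {ε : ℝ} (hε : 0 < ε) :
    ∀ᶠ t in 𝓝 t₀, ∃ ρ, (specPoly P t).IsRoot ρ ∧ ‖μ₀ - ρ‖ < ε := by
  have hm : 0 < P.natDegree := natDegree_pos_of_isRoot hP h0
  have hcont : Continuous (fun t : Fin d → ℂ => ‖(specPoly P t).eval μ₀‖) := by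
    simp only [specPoly_eval]
    exact (MvPolynomial.continuous_eval _).norm
  have hzero : ‖(specPoly P t₀).eval μ₀‖ = 0 := by
    rw [norm_eq_zero]; exact h0
  have hev : ∀ᶠ t in 𝓝 t₀, ‖(specPoly P t).eval μ₀‖ < ε ^ P.natDegree := by
    apply hcont.continuousAt.eventually_lt continuousAt_const
    rw [hzero]
    positivity
  filter_upwards [hev] with t ht
  obtain ⟨ρ, hρ, hle⟩ := exists_root_pow_le (specPoly P t) (specPoly_monic hP t)
    (by rw [specPoly_natDegree hP t]; exact hm) μ₀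
  rw [specPoly_natDegree hP t] at hle
  refine ⟨ρ, hρ, ?_⟩
  exact lt_of_pow_lt_pow_left₀ _ hε.le (lt_of_le_of_lt hle ht)

/-- Roots of nearby specialisations are close to roots of the specialisation at `t₀`. -/
theorem eventually_forall_root_near {d : ℕ} (P : (MvPolynomial (Fin d) ℂ)[X]) (hP : P.Monic)
    (t₀ : Fin d → ℂ) {ε : ℝ} (hε : 0 < ε) :
    ∀ᶠ t in 𝓝 t₀, ∀ μ, (specPoly P t).IsRoot μ →
      ∃ ρ, (specPoly P t₀).IsRoot ρ ∧ ‖μ - ρ‖ < ε := by
  by_cases hm : P.natDegree = 0
  · have h1 : P = 1 := hP.natDegree_eq_zero.1 hm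
    filter_upwards with t μ hμ
    exfalso
    rw [specPoly, h1] at hμ
    simp at hμ
  have hm' : 0 < P.natDegree := Nat.pos_of_ne_zero hm
  let B₀ : ℝ := ∑ j ∈ Finset.range P.natDegree, (‖MvPolynomial.eval t₀ (P.coeff j)‖ + 1) + 1
  have hB₀ : 0 ≤ B₀ := by
    have : 0 ≤ ∑ j ∈ Finset.range P.natDegree, (‖MvPolynomial.eval t₀ (P.coeff j)‖ + 1) :=
      Finset.sum_nonneg (fun j _ => by positivity)
    linarith
  have hev1 : ∀ᶠ t in 𝓝 t₀, ∀ j ∈ Finset.range P.natDegree,
      ‖MvPolynomial.eval t (P.coeff j)‖ < ‖MvPolynomial.eval t₀ (P.coeff j)‖ + 1 := by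
    rw [Filter.eventually_all_finset]
    intro j _
    apply ((MvPolynomial.continuous_eval _).norm.continuousAt).eventually_lt continuousAt_const
    linarith
  let G : (Fin d → ℂ) → ℝ := fun t => ∑ j ∈ Finset.range P.natDegree,
    ‖MvPolynomial.eval t₀ (P.coeff j) - MvPolynomial.eval t (P.coeff j)‖ * B₀ ^ j
  have hG : Continuous G := continuous_finsetSum _ (fun j _ =>
    ((continuous_const.sub (MvPolynomial.continuous_eval _)).norm).mul continuous_const)
  have hG0 : G t₀ = 0 := by simp [G]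
  have hev2 : ∀ᶠ t in 𝓝 t₀, G t < ε ^ P.natDegree := by
    apply hG.continuousAt.eventually_lt continuousAt_const
    rw [hG0]
    positivity
  filter_upwards [hev1, hev2] with t h1 h2 μ hμ
  -- bound on the root
  have hμB : ‖μ‖ ≤ B₀ := by
    have hne : specPoly P t ≠ 0 := (specPoly_monic hP t).ne_zero
    have hc := hμ.norm_lt_cauchyBound hne
    have hcb : (cauchyBound (specPoly P t) : ℝ) ≤ B₀ := by
      unfold cauchyBound
      rw [(specPoly_monic hP t).leadingCoeff, nnnorm_one, div_one, specPoly_natDegree hP t]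
      push_cast
      have hsup : ((Finset.range P.natDegree).sup (fun j => ‖(specPoly P t).coeff j‖₊) : NNReal)
          ≤ ∑ j ∈ Finset.range P.natDegree, ‖(specPoly P t).coeff j‖₊ := by
        apply Finset.sup_le
        intro j hj
        exact Finset.single_le_sum (f := fun j => ‖(specPoly P t).coeff j‖₊)
          (fun _ _ => zero_le) hj
      have hsup' : (((Finset.range P.natDegree).sup (fun j => ‖(specPoly P t).coeff j‖₊) : NNReal) : ℝ)
          ≤ ∑ j ∈ Finset.range P.natDegree, ‖(specPoly P t).coeff j‖ := by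
        have := NNReal.coe_le_coe.2 hsup
        push_cast at this
        exact this
      have hsum : ∑ j ∈ Finset.range P.natDegree, ‖(specPoly P t).coeff j‖
          ≤ ∑ j ∈ Finset.range P.natDegree, (‖MvPolynomial.eval t₀ (P.coeff j)‖ + 1) := by
        apply Finset.sum_le_sum
        intro j hj
        rw [specPoly_coeff]
        exact (h1 j hj).le
      linarith
    have : (‖μ‖₊ : ℝ) < cauchyBound (specPoly P t) := NNReal.coe_lt_coe.2 hc
    exact (this.le.trans hcb)
  obtain ⟨ρ, hρ, hle⟩ := exists_root_pow_le (specPoly P t₀) (specPoly_monic hP t₀)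
    (by rw [specPoly_natDegree hP]; exact hm') μ
  rw [specPoly_natDegree hP t₀] at hle
  refine ⟨ρ, hρ, ?_⟩
  have hdiff : ‖(specPoly P t₀).eval μ‖ ≤ G t := by
    have e1 : (specPoly P t₀).eval μ = (specPoly P t₀).eval μ - (specPoly P t).eval μ := by
      rw [hμ.eq_zero, sub_zero]
    rw [e1, eval_eq_sum_range, eval_eq_sum_range, specPoly_natDegree hP, specPoly_natDegree hP,
      Finset.sum_range_succ, Finset.sum_range_succ]
    have c1 : (specPoly P t₀).coeff P.natDegree = 1 := by
      have := (specPoly_monic hP t₀).coeff_natDegree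
      rwa [specPoly_natDegree hP] at this
    have c2 : (specPoly P t).coeff P.natDegree = 1 := by
      have := (specPoly_monic hP t).coeff_natDegree
      rwa [specPoly_natDegree hP] at this
    rw [c1, c2]
    have e2 : (∑ x ∈ Finset.range P.natDegree, (specPoly P t₀).coeff x * μ ^ x + 1 * μ ^ P.natDegree)
        - (∑ x ∈ Finset.range P.natDegree, (specPoly P t).coeff x * μ ^ x + 1 * μ ^ P.natDegree)
        = ∑ x ∈ Finset.range P.natDegree,
          ((specPoly P t₀).coeff x - (specPoly P t).coeff x) * μ ^ x := by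
      rw [add_sub_add_right_eq_sub, ← Finset.sum_sub_distrib]
      apply Finset.sum_congr rfl
      intro x _
      ring
    rw [e2]
    refine (norm_sum_le _ _).trans ?_
    apply Finset.sum_le_sum
    intro j _
    rw [norm_mul, norm_pow, specPoly_coeff, specPoly_coeff]
    gcongr
  exact lt_of_pow_lt_pow_left₀ _ hε.le (lt_of_le_of_lt (hle.trans hdiff) h2)

end Groth.Agent.H21
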