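import Groth.Agent.H21.ConnAlgTop
import Mathlib.RingTheory.Jacobson.Ring
import Mathlib.RingTheory.Ideal.GoingUp
import Mathlib.FieldTheory.Minpoly.Finite
import Mathlib.Topology.Algebra.Polynomial
import Mathlib.Analysis.SpecialFunctions.Pow.Real

open Polynomial Topology Filter

set_option linter.unusedSectionVars false

namespace Groth.Agent.H21

/-- Nullstellensatz: a maximal ideal of an algebra of finite type over `ℂ` is the kernel of a
complex point. -/
theorem exists_algHom_of_isMaximal (A : Type*) [CommRing A] [Algebra ℂ A]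
    [Algebra.FiniteType ℂ A] (𝔮 : Ideal A) [h𝔮 : 𝔮.IsMaximal] :
    ∃ χ : A →ₐ[ℂ] ℂ, ∀ f ∈ 𝔮, χ f = 0 := by
  let _ : Field (A ⧸ 𝔮) := Ideal.Quotient.field 𝔮
  have hft : Algebra.FiniteType ℂ (A ⧸ 𝔮) :=
    Algebra.FiniteType.of_surjective (Ideal.Quotient.mkₐ ℂ 𝔮) (Ideal.Quotient.mkₐ_surjective ℂ 𝔮)
  have hfin : Module.Finite ℂ (A ⧸ 𝔮) := finite_of_finite_type_of_isJacobsonRing ℂ (A ⧸ 𝔮)
  have hbij : Function.Bijective (algebraMap ℂ (A ⧸ 𝔮)) :=
    IsAlgClosed.algebraMap_bijective_of_isIntegral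
  let e : ℂ ≃ₐ[ℂ] (A ⧸ 𝔮) := AlgEquiv.ofBijective (Algebra.ofId ℂ (A ⧸ 𝔮)) hbij
  refine ⟨(e.symm : (A ⧸ 𝔮) →ₐ[ℂ] ℂ).comp (Ideal.Quotient.mkₐ ℂ 𝔮), fun f hf => ?_⟩
  change e.symm (Ideal.Quotient.mk 𝔮 f) = 0
  rw [Ideal.Quotient.eq_zero_iff_mem.2 hf, map_zero]

/-- Growth of polynomial functions in several variables. -/
lemma norm_eval_mvPolynomial_le {n : ℕ} (p : MvPolynomial (Fin n) ℂ) (t : Fin n → ℂ) :
    ‖MvPolynomial.eval t p‖ ≤ (∑ d ∈ p.support, ‖p.coeff d‖) * (1 + ‖t‖) ^ p.totalDegree := by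
  rw [MvPolynomial.eval_eq', Finset.sum_mul]
  refine (norm_sum_le _ _).trans (Finset.sum_le_sum fun d hd => ?_)
  rw [norm_mul]
  apply mul_le_mul_of_nonneg_left _ (norm_nonneg _)
  rw [norm_prod]
  have h1 : ∀ i, ‖t i ^ d i‖ ≤ (1 + ‖t‖) ^ d i := by
    intro i
    rw [norm_pow]
    exact pow_le_pow_left₀ (norm_nonneg _) ((norm_le_pi_norm t i).trans (by linarith)) _
  calc ∏ i, ‖t i ^ d i‖ ≤ ∏ i, (1 + ‖t‖) ^ d i :=
        Finset.prod_le_prod (fun i _ => norm_nonneg _) (fun i _ => h1 i)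
    _ = (1 + ‖t‖) ^ (∑ i, d i) := by rw [Finset.prod_pow_eq_pow_sum]
    _ ≤ (1 + ‖t‖) ^ p.totalDegree := by
        apply pow_le_pow_right₀ (by linarith [norm_nonneg t])
        have := MvPolynomial.le_totalDegree hd
        rwa [Finsupp.sum_fintype _ _ (fun _ => rfl)] at this

/-- A polynomial which is constant along all lines parallel to the coordinate axes is constant. -/
lemma mvPolynomial_eq_C_of_update {n : ℕ} (b : MvPolynomial (Fin n) ℂ)
    (h : ∀ (a : Fin n → ℂ) (i : Fin n) (s : ℂ),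
      MvPolynomial.eval (Function.update a i s) b = MvPolynomial.eval a b) :
    b = MvPolynomial.C (MvPolynomial.eval 0 b) := by
  classical
  have key : ∀ (t : Fin n → ℂ) (S : Finset (Fin n)),
      MvPolynomial.eval (fun i => if i ∈ S then t i else 0) b = MvPolynomial.eval 0 b := by
    intro t S
    induction S using Finset.induction_on with
    | empty =>
      congr 1
    | insert i S hi ih =>
      rw [← ih, ← h (fun j => if j ∈ S then t j else 0) i (t i)]
      congr 2
      funext j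
      by_cases hj : j = i
      · subst hj
        simp
      · simp [Finset.mem_insert, hj]
  apply MvPolynomial.funext
  intro t
  rw [MvPolynomial.eval_C, ← key t Finset.univ]
  congr 2
  funext i
  simp

section LyingOver

variable {n : ℕ} {A : Type*} [CommRing A] [IsDomain A] [Algebra ℂ A] [Algebra.FiniteType ℂ A]
  [Algebra (MvPolynomial (Fin n) ℂ) A] [IsScalarTower ℂ (MvPolynomial (Fin n) ℂ) A]
  [Module.Finite (MvPolynomial (Fin n) ℂ) A] [FaithfulSMul (MvPolynomial (Fin n) ℂ) A]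

/-- Every root of a specialisation of the minimal polynomial of an element is the value of the
element at some complex point over the given base point. -/
theorem exists_algHom_of_isRoot_minpoly (a : A) (t : Fin n → ℂ) (z : ℂ)
    (hz : (specPoly (minpoly (MvPolynomial (Fin n) ℂ) a) t).IsRoot z) :
    ∃ χ : A →ₐ[ℂ] ℂ, basePt χ = t ∧ χ a = z := by
  have hint : IsIntegral (MvPolynomial (Fin n) ℂ) a := Algebra.IsIntegral.isIntegral a
  let φ₀ : (MvPolynomial (Fin n) ℂ)[X] →+* ℂ := Polynomial.eval₂RingHom (MvPolynomial.eval t) z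
  have hφ₀ : ∀ G, φ₀ G = (specPoly G t).eval z := fun G => (Polynomial.eval_map _ _).symm
  have hsurj : Function.Surjective φ₀ :=
    fun c => ⟨Polynomial.C (MvPolynomial.C c), by simp [φ₀]⟩
  have hmax : (RingHom.ker φ₀).IsMaximal := RingHom.ker_isMaximal_of_surjective φ₀ hsurj
  let alg : Algebra (MvPolynomial (Fin n) ℂ)[X] A :=
    (Polynomial.aeval a : (MvPolynomial (Fin n) ℂ)[X] →ₐ[MvPolynomial (Fin n) ℂ] A).toRingHom.toAlgebra
  have halg : ∀ G : (MvPolynomial (Fin n) ℂ)[X],
      algebraMap (MvPolynomial (Fin n) ℂ)[X] A G = Polynomial.aeval a G := fun G => rfl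
  have htower : IsScalarTower (MvPolynomial (Fin n) ℂ) (MvPolynomial (Fin n) ℂ)[X] A :=
    IsScalarTower.of_algebraMap_eq (by
      intro r
      rw [halg, Polynomial.algebraMap_apply, Algebra.algebraMap_self_apply, Polynomial.aeval_C])
  have hintegral : Algebra.IsIntegral (MvPolynomial (Fin n) ℂ)[X] A :=
    Algebra.IsIntegral.tower_top (R := MvPolynomial (Fin n) ℂ)
  have hker : RingHom.ker (algebraMap (MvPolynomial (Fin n) ℂ)[X] A) ≤ RingHom.ker φ₀ := by
    intro G hG
    rw [RingHom.mem_ker] at hG ⊢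
    rw [halg] at hG
    obtain ⟨H, rfl⟩ := minpoly.isIntegrallyClosed_dvd hint hG
    rw [map_mul, hφ₀ (minpoly (MvPolynomial (Fin n) ℂ) a), hz.eq_zero, zero_mul]
  obtain ⟨𝔮, h𝔮max, h𝔮⟩ := Ideal.exists_ideal_over_maximal_of_isIntegral (RingHom.ker φ₀) hker
  obtain ⟨χ, hχ⟩ := exists_algHom_of_isMaximal A 𝔮
  have hχG : ∀ G : (MvPolynomial (Fin n) ℂ)[X], φ₀ G = 0 → χ (Polynomial.aeval a G) = 0 := by
    intro G hG
    apply hχ
    have : G ∈ 𝔮.comap (algebraMap (MvPolynomial (Fin n) ℂ)[X] A) := by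
      rw [h𝔮]
      exact hG
    exact this
  have hconst : ∀ c : ℂ, χ (algebraMap (MvPolynomial (Fin n) ℂ) A (MvPolynomial.C c)) = c := by
    intro c
    rw [← MvPolynomial.algebraMap_eq, ← IsScalarTower.algebraMap_apply ℂ (MvPolynomial (Fin n) ℂ) A,
      AlgHom.commutes]
    rfl
  refine ⟨χ, ?_, ?_⟩
  · funext i
    have := hχG (Polynomial.C (MvPolynomial.X i - MvPolynomial.C (t i))) (by simp [φ₀])
    rw [Polynomial.aeval_C, map_sub, map_sub, sub_eq_zero, hconst] at this
    exact this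
  · have := hχG (Polynomial.X - Polynomial.C (MvPolynomial.C z)) (by simp [φ₀])
    rw [map_sub, Polynomial.aeval_X, Polynomial.aeval_C, map_sub, sub_eq_zero, hconst] at this
    exact this

end LyingOver

lemma norm_update_le {n : ℕ} (a : Fin n → ℂ) (i : Fin n) (s : ℂ) :
    ‖Function.update a i s‖ ≤ ‖a‖ + ‖s‖ := by
  rw [pi_norm_le_iff_of_nonneg (by positivity)]
  intro j
  by_cases hj : j = i
  · subst hj
    rw [Function.update_self]
    linarith [norm_nonneg a]
  · rw [Function.update_of_ne hj]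
    linarith [norm_le_pi_norm a j, norm_nonneg s]

/-- An element of a domain of finite type over `ℂ` which has `k`-th roots for all `k` is
constant. -/
theorem exists_eq_algebraMap_of_divisible (A : Type*) [CommRing A] [IsDomain A] [Algebra ℂ A]
    [Algebra.FiniteType ℂ A] (u : A) (hdiv : ∀ k : ℕ, 0 < k → ∃ v : A, v ^ k = u) :
    ∃ c : ℂ, u = algebraMap ℂ A c := by
  classical
  obtain ⟨n, g, hginj, hgfin⟩ := exists_finite_inj_algHom_of_fg ℂ A
  let _ : Algebra (MvPolynomial (Fin n) ℂ) A := g.toRingHom.toAlgebra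
  have : IsScalarTower ℂ (MvPolynomial (Fin n) ℂ) A :=
    IsScalarTower.of_algebraMap_eq' g.comp_algebraMap.symm
  have : Module.Finite (MvPolynomial (Fin n) ℂ) A := hgfin
  have : FaithfulSMul (MvPolynomial (Fin n) ℂ) A :=
    (faithfulSMul_iff_algebraMap_injective _ _).2 hginj
  set d := (⊤ : Submodule (MvPolynomial (Fin n) ℂ) A).spanFinrank with hd
  have hdeg : ∀ a : A, (minpoly (MvPolynomial (Fin n) ℂ) a).natDegree ≤ d :=
    fun a => minpoly.natDegree_le_spanFinrank (MvPolynomial (Fin n) ℂ) a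
  have hintegral : ∀ a : A, IsIntegral (MvPolynomial (Fin n) ℂ) a :=
    fun a => Algebra.IsIntegral.isIntegral a
  -- the value bound for `u`
  set Qu := minpoly (MvPolynomial (Fin n) ℂ) u with hQu
  have hQum : Qu.Monic := minpoly.monic (hintegral u)
  set E := (Finset.range Qu.natDegree).sup (fun j => (Qu.coeff j).totalDegree) with hE
  set C₀ : ℝ := (∑ j ∈ Finset.range Qu.natDegree, ∑ e ∈ (Qu.coeff j).support,
    ‖(Qu.coeff j).coeff e‖) + 1 with hC₀
  have hC₀1 : 1 ≤ C₀ := by
    rw [hC₀]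
    have : 0 ≤ ∑ j ∈ Finset.range Qu.natDegree, ∑ e ∈ (Qu.coeff j).support,
        ‖(Qu.coeff j).coeff e‖ := by positivity
    linarith
  have hbound : ∀ χ : A →ₐ[ℂ] ℂ, ‖χ u‖ ≤ C₀ * (1 + ‖basePt (n := n) χ‖) ^ E := by
    intro χ
    have hroot : (specPoly Qu (basePt (n := n) χ)).IsRoot (χ u) := by
      rw [IsRoot.def, ← algHom_aeval (n := n) u χ Qu, hQu, minpoly.aeval, map_zero]
    have h1 : 1 ≤ (1 + ‖basePt (n := n) χ‖) ^ E := one_le_pow₀ (by linarith [norm_nonneg (basePt (n := n) χ)])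
    have hK : ∀ j < (specPoly Qu (basePt (n := n) χ)).natDegree, ‖(specPoly Qu (basePt (n := n) χ)).coeff j‖
        ≤ (C₀ - 1) * (1 + ‖basePt (n := n) χ‖) ^ E := by
      intro j hj
      rw [specPoly_natDegree hQum] at hj
      rw [specPoly_coeff, hC₀, add_sub_cancel_right, Finset.sum_mul]
      refine le_trans ?_ (Finset.single_le_sum (f := fun j => (∑ e ∈ (Qu.coeff j).support,
        ‖(Qu.coeff j).coeff e‖) * (1 + ‖basePt (n := n) χ‖) ^ E) (fun _ _ => by positivity)
        (Finset.mem_range.2 hj))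
      refine (norm_eval_mvPolynomial_le _ _).trans ?_
      apply mul_le_mul_of_nonneg_left _ (by positivity)
      apply pow_le_pow_right₀ (by linarith [norm_nonneg (basePt (n := n) χ)])
      exact Finset.le_sup (f := fun j => (Qu.coeff j).totalDegree) (Finset.mem_range.2 hj)
    have h2 := norm_le_of_isRoot_of_coeff_le (specPoly_monic hQum _)
      (mul_nonneg (by linarith) (by positivity)) hK hroot
    nlinarith
  -- a root of large order
  set k := E * d + 1 with hk
  obtain ⟨v, hv⟩ := hdiv k (by omega)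
  set Qv := minpoly (MvPolynomial (Fin n) ℂ) v with hQv
  have hQvm : Qv.Monic := minpoly.monic (hintegral v)
  have hmd : Qv.natDegree ≤ d := hdeg v
  -- bound for the coefficients of `Qv`
  have hcoeff : ∀ (j : ℕ) (t : Fin n → ℂ), ‖MvPolynomial.eval t (Qv.coeff j)‖ ^ k
      ≤ (C₀ ^ d * (2 ^ d) ^ k) * (1 + ‖t‖) ^ (E * d) := by
    intro j t
    set Bd : ℝ := C₀ * (1 + ‖t‖) ^ E with hBd
    have hBd1 : 1 ≤ Bd := by
      have h1 : 1 ≤ (1 + ‖t‖) ^ E := one_le_pow₀ (by linarith [norm_nonneg t])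
      nlinarith
    have hBd0 : 0 ≤ Bd := by linarith
    set B : ℝ := Bd ^ ((k : ℝ)⁻¹) with hB
    have hB0 : 0 ≤ B := Real.rpow_nonneg hBd0 _
    have hBk : B ^ k = Bd := Real.rpow_inv_natCast_pow hBd0 (by omega)
    have hroots : ∀ z ∈ (Qv.map (MvPolynomial.eval t)).roots, ‖z‖ ≤ B := by
      intro z hz
      have hz' : (specPoly Qv t).IsRoot z := (mem_roots (specPoly_monic hQvm t).ne_zero).1 hz
      obtain ⟨χ, hχt, hχv⟩ := exists_algHom_of_isRoot_minpoly v t z hz'
      have h1 : ‖z‖ ^ k ≤ Bd := by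
        rw [← norm_pow, ← hχv, ← map_pow, hv, hBd, ← hχt]
        exact hbound χ
      rw [← hBk] at h1
      exact le_of_pow_le_pow_left₀ (by omega) hB0 h1
    have h2 := coeff_le_of_roots_le (f := MvPolynomial.eval t) j hQvm (IsAlgClosed.splits _) hroots
    have h3 : MvPolynomial.eval t (Qv.coeff j) = (Qv.map (MvPolynomial.eval t)).coeff j :=
      (Polynomial.coeff_map _ _).symm
    rw [h3]
    calc ‖(Qv.map (MvPolynomial.eval t)).coeff j‖ ^ k
        ≤ (B ^ (Qv.natDegree - j) * (Qv.natDegree.choose j)) ^ k :=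
          pow_le_pow_left₀ (norm_nonneg _) h2 k
      _ = Bd ^ (Qv.natDegree - j) * ((Qv.natDegree.choose j : ℝ)) ^ k := by
          rw [mul_pow, ← pow_mul, mul_comm (Qv.natDegree - j) k, pow_mul, hBk]
      _ ≤ Bd ^ d * ((2 : ℝ) ^ d) ^ k := by
          apply mul_le_mul
          · exact pow_le_pow_right₀ hBd1 ((Nat.sub_le _ _).trans hmd)
          · apply pow_le_pow_left₀ (by positivity)
            have h4 : (Qv.natDegree.choose j : ℝ) ≤ 2 ^ Qv.natDegree := by
              exact_mod_cast Nat.choose_le_two_pow _ _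
            exact h4.trans (pow_le_pow_right₀ (by norm_num) hmd)
          · positivity
          · positivity
      _ = (C₀ ^ d * (2 ^ d) ^ k) * (1 + ‖t‖) ^ (E * d) := by
          rw [hBd, mul_pow, ← pow_mul]
          ring
  -- the coefficients of `Qv` are constant
  have hconst : ∀ j, Qv.coeff j = MvPolynomial.C (MvPolynomial.eval 0 (Qv.coeff j)) := by
    intro j
    apply mvPolynomial_eq_C_of_update
    intro a i s
    set p := lineHom a i (Qv.coeff j) with hp
    have hpe : ∀ s, p.eval s = MvPolynomial.eval (Function.update a i s) (Qv.coeff j) :=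
      fun s => eval_lineHom a i s _
    have hgrowth : ∀ s : ℂ, ‖(p ^ k).eval s‖
        ≤ ((C₀ ^ d * (2 ^ d) ^ k) * (1 + ‖a‖) ^ (E * d)) * (1 + ‖s‖) ^ (E * d) := by
      intro s
      rw [eval_pow, norm_pow, hpe]
      refine (hcoeff j _).trans ?_
      have h5 : (1 + ‖Function.update a i s‖) ^ (E * d)
          ≤ ((1 + ‖a‖) * (1 + ‖s‖)) ^ (E * d) := by
        apply pow_le_pow_left₀ (by positivity)
        have := norm_update_le a i s
        nlinarith [norm_nonneg a, norm_nonneg s]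
      rw [mul_pow] at h5
      calc C₀ ^ d * (2 ^ d) ^ k * (1 + ‖Function.update a i s‖) ^ (E * d)
          ≤ C₀ ^ d * (2 ^ d) ^ k * ((1 + ‖a‖) ^ (E * d) * (1 + ‖s‖) ^ (E * d)) :=
            mul_le_mul_of_nonneg_left h5 (by positivity)
        _ = _ := by ring
    obtain ⟨q, hq, hqe⟩ := exists_polynomial_of_growth (f := fun s => (p ^ k).eval s)
      (p ^ k).differentiable hgrowth
    have hpq : p ^ k = q := Polynomial.funext hqe
    have hdegp : p.natDegree = 0 := by
      have h1 : (p ^ k).natDegree = k * p.natDegree := natDegree_pow p k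
      rw [hpq] at h1
      by_contra hne
      have h2 : 1 ≤ p.natDegree := Nat.one_le_iff_ne_zero.2 hne
      have h3 : k ≤ k * p.natDegree := Nat.le_mul_of_pos_right k h2
      omega
    have hpc : p = Polynomial.C (p.coeff 0) := eq_C_of_natDegree_eq_zero hdegp
    rw [← hpe s, ← Function.update_eq_self i a, ← hpe (a i), hpc, eval_C, eval_C]
  -- conclusion
  set q : ℂ[X] := Qv.map (MvPolynomial.eval 0) with hq
  have hqm : q.Monic := hQvm.map _
  have hQq : Qv = q.map (algebraMap ℂ (MvPolynomial (Fin n) ℂ)) := by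
    refine Polynomial.ext (fun j => ?_)
    rw [coeff_map, hq, coeff_map, MvPolynomial.algebraMap_eq]
    exact hconst j
  have hqv : Polynomial.aeval v q = 0 := by
    rw [← Polynomial.aeval_map_algebraMap (MvPolynomial (Fin n) ℂ), ← hQq, hQv, minpoly.aeval]
  have hsplit := (IsAlgClosed.splits q).eq_prod_roots_of_monic hqm
  rw [hsplit, map_multiset_prod, Multiset.prod_eq_zero_iff, Multiset.map_map] at hqv
  obtain ⟨r, -, hr⟩ := Multiset.mem_map.1 hqv
  simp only [Function.comp_apply, map_sub, Polynomial.aeval_X, Polynomial.aeval_C] at hr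
  refine ⟨r ^ k, ?_⟩
  rw [map_pow, ← hv]
  congr 1
  exact sub_eq_zero.1 hr

end Groth.Agent.H21
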