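import Groth.Prelude.Def_AnFib
import Mathlib.AlgebraicGeometry.PullbackCarrier
import Mathlib.AlgebraicGeometry.Morphisms.Smooth
import Mathlib.AlgebraicGeometry.Morphisms.Etale
import Mathlib.AlgebraicGeometry.Morphisms.Finite
import Mathlib.AlgebraicGeometry.Morphisms.ClosedImmersion
import Mathlib.AlgebraicGeometry.Morphisms.OpenImmersion
import Mathlib.AlgebraicGeometry.ResidueField
import Mathlib.FieldTheory.IsAlgClosed.AlgebraicClosure

/-!
# Base change of elementary fibrations
-/

set_option autoImplicit false
universe u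

open CategoryTheory CategoryTheory.Limits AlgebraicGeometry

namespace Groth.Agent.H21.ElemFib

/-- In a pullback square the range of `snd` is the preimage of the range of `f`. -/
theorem range_snd_of_isPullback {P X Y Z : Scheme.{u}} {fst : P ⟶ X} {snd : P ⟶ Y}
    {f : X ⟶ Z} {g : Y ⟶ Z} (h : IsPullback fst snd f g) :
    Set.range snd.base = g.base ⁻¹' Set.range f.base := by
  have := Scheme.image_preimage_eq_of_isPullback h Set.univ
  simpa [Set.image_univ] using this

/-- A preirreducible set is contained in the closure of its intersection with any open set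
meeting it. -/
theorem subset_closure_inter_of_isPreirreducible {α : Type*} [TopologicalSpace α] {T W : Set α}
    (hT : IsPreirreducible T) (hW : IsOpen W) (hne : (T ∩ W).Nonempty) :
    T ⊆ closure (W ∩ T) := by
  intro z hz
  rw [mem_closure_iff]
  intro N hN hzN
  obtain ⟨w, hwT, hwN, hwW⟩ := hT N W hN hW ⟨z, hz, hzN⟩ hne
  exact ⟨w, hwN, hwW, hwT⟩

theorem terminal_comp {S S' : Scheme.{u}} (g : S' ⟶ S) :
    g ≫ specULiftZIsTerminal.from S = specULiftZIsTerminal.from S' :=
  specULiftZIsTerminal.hom_ext _ _

/-- The map `P^n_{S'} ⟶ P^n_S` induced by `g : S' ⟶ S` (on the underlying pullbacks). -/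
noncomputable def projMap' (n : ℕ) {S S' : Scheme.{u}} (g : S' ⟶ S) :
    pullback (CohB1.ProjSpace.toSpec n (ULift.{u} ℤ)) (specULiftZIsTerminal.from S') ⟶
      pullback (CohB1.ProjSpace.toSpec n (ULift.{u} ℤ)) (specULiftZIsTerminal.from S) :=
  pullback.lift (pullback.fst _ _) (pullback.snd _ _ ≫ g)
    (by
      have h := pullback.condition (f := CohB1.ProjSpace.toSpec n (ULift.{u} ℤ))
        (g := specULiftZIsTerminal.from S')
      rw [Category.assoc, terminal_comp g]
      exact h)

theorem isPullback_projMap' (n : ℕ) {S S' : Scheme.{u}} (g : S' ⟶ S) :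
    IsPullback (projMap' n g)
      (pullback.snd (CohB1.ProjSpace.toSpec n (ULift.{u} ℤ)) (specULiftZIsTerminal.from S'))
      (pullback.snd (CohB1.ProjSpace.toSpec n (ULift.{u} ℤ)) (specULiftZIsTerminal.from S)) g := by
  refine IsPullback.of_right ?_ (pullback.lift_snd _ _ _)
    (IsPullback.of_hasPullback (CohB1.ProjSpace.toSpec n (ULift.{u} ℤ))
      (specULiftZIsTerminal.from S))
  have h1 : projMap' n g ≫ pullback.fst (CohB1.ProjSpace.toSpec n (ULift.{u} ℤ))
      (specULiftZIsTerminal.from S) = pullback.fst _ _ := pullback.lift_fst _ _ _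
  rw [h1, terminal_comp g]
  exact IsPullback.of_hasPullback _ _

/-- The map `P^n_{S'} ⟶ P^n_S` induced by `g : S' ⟶ S`. -/
noncomputable def projMap (n : ℕ) {S S' : Scheme.{u}} (g : S' ⟶ S) :
    CohB1.ProjSpaceOver n S' ⟶ CohB1.ProjSpaceOver n S :=
  projMap' n g

theorem isPullback_projMap (n : ℕ) {S S' : Scheme.{u}} (g : S' ⟶ S) :
    IsPullback (projMap n g) (CohB1.ProjSpaceOver.toBase n S')
      (CohB1.ProjSpaceOver.toBase n S) g :=
  isPullback_projMap' n g

/-- Strong projectivity is stable under base change. -/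
theorem isStronglyProjective_pullback_snd {X S S' : Scheme.{u}} (f : X ⟶ S) (g : S' ⟶ S)
    (hf : An.IsStronglyProjective f) : An.IsStronglyProjective (pullback.snd f g) := by
  obtain ⟨n, c, hc, hcf⟩ := hf
  have hP := isPullback_projMap n g
  have hcond : (pullback.fst f g ≫ c) ≫ CohB1.ProjSpaceOver.toBase n S = pullback.snd f g ≫ g := by
    rw [Category.assoc, hcf, pullback.condition]
  refine ⟨n, hP.lift (pullback.fst f g ≫ c) (pullback.snd f g) hcond, ?_, hP.lift_snd _ _ _⟩
  have hpb : IsPullback (hP.lift (pullback.fst f g ≫ c) (pullback.snd f g) hcond)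
      (pullback.fst f g) (projMap n g) c := by
    refine IsPullback.of_right ?_ (hP.lift_fst _ _ _) hP.flip
    rw [hP.lift_snd, hcf]
    exact (IsPullback.of_hasPullback f g).flip
  exact MorphismProperty.of_isPullback (P := @IsClosedImmersion) hpb.flip hc

/-- The geometric fibres of a base change are geometric fibres of the original morphism. -/
theorem geomFibre_pullback_snd {Xb S S' : Scheme.{u}} (fb : Xb ⟶ S) (g : S' ⟶ S)
    (h : ∀ (Ω : Type u) [Field Ω] [IsAlgClosed Ω] (σ : Spec (CommRingCat.of Ω) ⟶ S),
      IrreducibleSpace ↥(pullback fb σ) ∧ topologicalKrullDim ↥(pullback fb σ) = 1)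
    (Ω : Type u) [Field Ω] [IsAlgClosed Ω] (σ : Spec (CommRingCat.of Ω) ⟶ S') :
    IrreducibleSpace ↥(pullback (pullback.snd fb g) σ) ∧
      topologicalKrullDim ↥(pullback (pullback.snd fb g) σ) = 1 := by
  obtain ⟨h1, h2⟩ := h Ω (σ ≫ g)
  let e : ↥(pullback (pullback.snd fb g) σ) ≃ₜ ↥(pullback fb (σ ≫ g)) :=
    Scheme.homeoOfIso (pullbackLeftPullbackSndIso fb g σ)
  constructor
  · have hne : Nonempty ↥(pullback (pullback.snd fb g) σ) := ⟨e.symm h1.toNonempty.some⟩
    have hpre : PreirreducibleSpace ↥(pullback (pullback.snd fb g) σ) := by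
      constructor
      have := (h1.toPreirreducibleSpace.isPreirreducible_univ).preimage
        (f := e) e.isOpenEmbedding
      simpa using this
    exact { toPreirreducibleSpace := hpre, toNonempty := hne }
  · rw [← h2]
    exact IsHomeomorph.topologicalKrullDim_eq e e.isHomeomorph

/-- The topological fibre of a morphism with irreducible geometric fibres is irreducible. -/
theorem isIrreducible_fibre {Xb S : Scheme.{u}} (fb : Xb ⟶ S)
    (h : ∀ (Ω : Type u) [Field Ω] [IsAlgClosed Ω] (σ : Spec (CommRingCat.of Ω) ⟶ S),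
      IrreducibleSpace ↥(pullback fb σ) ∧ topologicalKrullDim ↥(pullback fb σ) = 1)
    (s : S) : IsIrreducible (fb.base ⁻¹' {s}) := by
  let Ω := AlgebraicClosure (S.residueField s)
  let σ : Spec (CommRingCat.of Ω) ⟶ S :=
    Spec.map (CommRingCat.ofHom (algebraMap (S.residueField s) Ω)) ≫ S.fromSpecResidueField s
  obtain ⟨h1, -⟩ := h Ω σ
  have hrange : Set.range σ.base = {s} := by
    ext t
    simp only [Set.mem_range, Set.mem_singleton_iff]
    constructor
    · rintro ⟨z, rfl⟩
      simp only [σ, Scheme.Hom.comp_base, TopCat.hom_comp, ContinuousMap.comp_apply]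
      exact Scheme.fromSpecResidueField_apply _ _
    · rintro rfl
      have : Nonempty (Spec (CommRingCat.of Ω)) := inferInstance
      obtain ⟨z⟩ := this
      refine ⟨z, ?_⟩
      simp only [σ, Scheme.Hom.comp_base, TopCat.hom_comp, ContinuousMap.comp_apply]
      exact Scheme.fromSpecResidueField_apply _ _
  have hr : Set.range (pullback.fst fb σ).base = fb.base ⁻¹' {s} := by
    rw [← hrange]
    exact Scheme.Pullback.range_fst fb σ
  rw [← hr, ← Set.image_univ]
  exact (IrreducibleSpace.isIrreducible_univ _).image _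
    (pullback.fst fb σ).base.hom.continuous.continuousOn

/-- **Base change of an elementary fibration is an elementary fibration.** -/
theorem isElementaryFibration_pullback_snd {X S S' : Scheme.{u}} (f : X ⟶ S) (g : S' ⟶ S)
    (hf : An.IsElementaryFibration f) : An.IsElementaryFibration (pullback.snd f g) := by
  obtain ⟨Xb, Y, j, fb, i, hjf, hj, hi, hrange, hdense, hsm, hproj, hgeom, hfin, het, hsurj⟩ := hf
  -- the compactification and the divisor after base change
  have hcondj : (pullback.fst f g ≫ j) ≫ fb = pullback.snd f g ≫ g := by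
    rw [Category.assoc, hjf, pullback.condition]
  have hcondi : (pullback.fst (i ≫ fb) g ≫ i) ≫ fb = pullback.snd (i ≫ fb) g ≫ g := by
    rw [Category.assoc, pullback.condition]
  let j' : pullback f g ⟶ pullback fb g := pullback.lift (pullback.fst f g ≫ j) (pullback.snd f g) hcondj
  let i' : pullback (i ≫ fb) g ⟶ pullback fb g :=
    pullback.lift (pullback.fst (i ≫ fb) g ≫ i) (pullback.snd (i ≫ fb) g) hcondi
  have hj'snd : j' ≫ pullback.snd fb g = pullback.snd f g := pullback.lift_snd _ _ _
  have hi'snd : i' ≫ pullback.snd fb g = pullback.snd (i ≫ fb) g := pullback.lift_snd _ _ _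
  have hpbj : IsPullback j' (pullback.fst f g) (pullback.fst fb g) j := by
    refine IsPullback.of_right ?_ (pullback.lift_fst _ _ _) (IsPullback.of_hasPullback fb g).flip
    rw [hj'snd, hjf]
    exact (IsPullback.of_hasPullback f g).flip
  have hpbi : IsPullback i' (pullback.fst (i ≫ fb) g) (pullback.fst fb g) i := by
    refine IsPullback.of_right ?_ (pullback.lift_fst _ _ _) (IsPullback.of_hasPullback fb g).flip
    rw [hi'snd]
    exact (IsPullback.of_hasPullback (i ≫ fb) g).flip
  have hj' : IsOpenImmersion j' := MorphismProperty.of_isPullback (P := @IsOpenImmersion) hpbj.flip hj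
  have hi' : IsClosedImmersion i' :=
    MorphismProperty.of_isPullback (P := @IsClosedImmersion) hpbi.flip hi
  have hrj : Set.range j'.base = (pullback.fst fb g).base ⁻¹' Set.range j.base :=
    range_snd_of_isPullback hpbj.flip
  have hri : Set.range i'.base = (pullback.fst fb g).base ⁻¹' Set.range i.base :=
    range_snd_of_isPullback hpbi.flip
  have hgeom' := geomFibre_pullback_snd fb g hgeom
  refine ⟨pullback fb g, pullback (i ≫ fb) g, j', pullback.snd fb g, i', hj'snd, hj', hi', ?_, ?_,
    inferInstance, isStronglyProjective_pullback_snd fb g hproj, hgeom', ?_, ?_, ?_⟩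
  · rw [hrj, hri, hrange, Set.preimage_compl]
  · intro s'
    have hirr := isIrreducible_fibre (pullback.snd fb g) hgeom' s'
    refine subset_closure_inter_of_isPreirreducible hirr.isPreirreducible
      j'.isOpenEmbedding.isOpen_range ?_
    obtain ⟨z', hz'⟩ := hirr.nonempty
    have hz'' : (pullback.snd fb g).base z' = s' := hz'
    have hfz : fb.base ((pullback.fst fb g).base z') = g.base s' := by
      rw [← hz'', ← Scheme.Hom.comp_apply, ← Scheme.Hom.comp_apply, pullback.condition]
    have hmem := hdense (g.base s') hfz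
    obtain ⟨w, ⟨hwj, hws⟩⟩ : (Set.range j.base ∩ fb.base ⁻¹' {g.base s'}).Nonempty := by
      by_contra hemp
      rw [Set.not_nonempty_iff_eq_empty] at hemp
      rw [hemp, closure_empty] at hmem
      exact hmem
    have hws' : fb.base w = g.base s' := hws
    obtain ⟨z, hz1, hz2⟩ := Scheme.Pullback.exists_preimage_pullback (f := fb) (g := g) w s' hws'
    refine ⟨z, hz2, ?_⟩
    rw [hrj]
    change (pullback.fst fb g).base z ∈ Set.range j.base
    rw [hz1]
    exact hwj
  · rw [hi'snd]
    have := hfin
    infer_instance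
  · rw [hi'snd]
    have := het
    infer_instance
  · rw [hi'snd]
    have : Surjective (i ≫ fb) := ⟨hsurj⟩
    exact (inferInstance : Surjective (pullback.snd (i ≫ fb) g)).surj

end Groth.Agent.H21.ElemFib
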