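import Groth.Agent.H21.AnFiber
import Groth.Agent.H21.AnSurj
import Groth.Prelude.Def_AnEps
import Mathlib.CategoryTheory.Sites.CoverPreserving

open AlgebraicGeometry CategoryTheory Limits TopologicalSpace Opposite An Topology

namespace Groth.Agent.H21

noncomputable section

/-- Continuous lifting to the complex points of a fibre product. -/
theorem exists_lift_fibre {X' Y' S' : Scheme.{0}} [X'.Over SC] [Y'.Over SC] [S'.Over SC]
    (f : X' ⟶ S') (g : Y' ⟶ S') [f.IsOver SC] [g.IsOver SC]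
    {W : Type*} [TopologicalSpace W] (a : W → Pts X') (b : W → Pts Y')
    (ha : Continuous a) (hb : Continuous b) (hab : ∀ w, Pts.map f (a w) = Pts.map g (b w)) :
    ∃ c : W → Pts (pullback f g), Continuous c ∧
      (∀ w, Pts.map (pullback.fst f g) (c w) = a w) ∧
      (∀ w, Pts.map (pullback.snd f g) (c w) = b w) := by
  let Φ := (isHomeomorph_fibre f g).homeomorph
  refine ⟨fun w => Φ.symm ⟨(a w, b w), hab w⟩,
    Φ.symm.continuous.comp (Continuous.subtype_mk (ha.prodMk hb) _), ?_, ?_⟩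
  · intro w
    have := congrArg (fun q => q.1.1) (Φ.apply_symm_apply ⟨(a w, b w), hab w⟩)
    exact this
  · intro w
    have := congrArg (fun q => q.1.2) (Φ.apply_symm_apply ⟨(a w, b w), hab w⟩)
    exact this

variable (X : Scheme.{0}) [X.Over SC] [LocallyOfFiniteType (X ↘ SC)]

instance lft_etale_left (U : X.Etale) : LocallyOfFiniteType (U.left ↘ SC) :=
  inferInstanceAs (LocallyOfFiniteType (U.hom ≫ X ↘ SC))

variable [Fact EtaleLH]

set_option backward.isDefEq.respectTransparency.types false in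
theorem coverPreserving_eps :
    CoverPreserving X.smallEtaleTopology (Cl.topology (Pts X)) (eps X) := by
  constructor
  intro U S hS a
  have hS' : S ∈ (X.smallPretopology @Etale @Etale).toGrothendieck U := by
    rw [← Scheme.smallGrothendieckTopology_eq_toGrothendieck_smallPretopology X le_rfl]
    exact hS
  have hS'' := (Scheme.mem_toGrothendieck_smallPretopology
    (P := @Etale) (Q := @Etale) (S := X) U S).1 hS'
  obtain ⟨V, f, v, hSf, -, hv⟩ := hS'' (Pts.pt (X := U.left) a)
  obtain ⟨b, hb⟩ := exists_map_eq_of_mem_fiber f.left (X := V.left) (Y := U.left) a v hv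
  have hlh : IsLocalHomeomorph (Pts.map f.left) := (Fact.out : EtaleLH) V.left U.left f.left
  obtain ⟨e, hbe, he⟩ := hlh b
  refine ⟨Cl.restrictOpen ((eps X).obj V) e.source e.open_source,
    Cl.restrictOpenι ((eps X).obj V) e.source e.open_source ≫ (eps X).map f, ?_, ?_, ?_⟩
  · exact ⟨V, f, Cl.restrictOpenι ((eps X).obj V) e.source e.open_source, hSf, rfl⟩
  · change IsOpenEmbedding (Pts.map f.left ∘ Subtype.val)
    rw [he]
    exact e.isOpenEmbedding_restrict
  · exact ⟨⟨b, hbe⟩, hb⟩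

set_option backward.isDefEq.respectTransparency.types false in
theorem compatiblePreserving_eps :
    CompatiblePreserving.{1} (Cl.topology (Pts X)) (eps X) := by
  constructor
  intro ℱ Z T x hx Y₁ Y₂ W f₁ f₂ g₁ g₂ hg₁ hg₂ e
  let P : X.Etale := Scheme.Etale.mk (pullback.fst g₁.left g₂.left ≫ Y₁.hom)
  let pr₁ : P ⟶ Y₁ := MorphismProperty.Over.homMk (pullback.fst g₁.left g₂.left) rfl
  let pr₂ : P ⟶ Y₂ := MorphismProperty.Over.homMk (pullback.snd g₁.left g₂.left) (by
    change pullback.snd g₁.left g₂.left ≫ Y₂.hom = pullback.fst g₁.left g₂.left ≫ Y₁.hom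
    have h1 : g₁.left ≫ Z.hom = Y₁.hom := Over.w g₁.hom
    have h2 : g₂.left ≫ Z.hom = Y₂.hom := Over.w g₂.hom
    rw [← h1, ← h2, ← Category.assoc, ← Category.assoc, pullback.condition])
  have hpr : pr₁ ≫ g₁ = pr₂ ≫ g₂ := by
    apply MorphismProperty.Over.Hom.ext
    exact pullback.condition
  have hab : ∀ w, Pts.map g₁.left (f₁.toFun w) = Pts.map g₂.left (f₂.toFun w) := fun w =>
    congrArg (fun φ => φ.toFun w) e
  obtain ⟨c, hc, hc1, hc2⟩ := exists_lift_fibre g₁.left g₂.left f₁.toFun f₂.toFun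
    f₁.continuous f₂.continuous hab
  have hover : @CategoryTheory.over _ _ (pullback g₁.left g₂.left) SC
      (pullbackOver g₁.left g₂.left) = @CategoryTheory.over _ _ P.left SC (etaleOverLeft X P) :=
    (Category.assoc _ _ _).symm
  let κ := Pts.cast (pullbackOver g₁.left g₂.left) (etaleOverLeft X P) hover
  let h : W ⟶ (eps X).obj P := ⟨fun w => κ (c w), κ.continuous.comp hc, fun w => by
    rw [← f₁.over w, ← hc1 w]
    apply Subtype.ext
    change (c w).1 ≫ (pullback.fst g₁.left g₂.left ≫ Y₁.hom)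
      = ((c w).1 ≫ pullback.fst g₁.left g₂.left) ≫ Y₁.hom
    rw [Category.assoc]⟩
  have h1 : h ≫ (eps X).map pr₁ = f₁ := by
    apply Cl.hom_ext
    funext w
    rw [← hc1 w]
    rfl
  have h2 : h ≫ (eps X).map pr₂ = f₂ := by
    apply Cl.hom_ext
    funext w
    rw [← hc2 w]
    rfl
  have key := hx pr₁ pr₂ hg₁ hg₂ hpr
  calc ℱ.obj.map f₁.op (x g₁ hg₁)
      = ℱ.obj.map (h ≫ (eps X).map pr₁).op (x g₁ hg₁) := by rw [h1]
    _ = ℱ.obj.map h.op (ℱ.obj.map ((eps X).map pr₁).op (x g₁ hg₁)) := by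
        rw [op_comp, Functor.map_comp_apply]
    _ = ℱ.obj.map h.op (ℱ.obj.map ((eps X).map pr₂).op (x g₂ hg₂)) := congrArg _ key
    _ = ℱ.obj.map (h ≫ (eps X).map pr₂).op (x g₂ hg₂) := by
        rw [op_comp, Functor.map_comp_apply]
    _ = ℱ.obj.map f₂.op (x g₂ hg₂) := by rw [h2]

theorem epsCont : EpsCont X :=
  Functor.isContinuous_of_coverPreserving (compatiblePreserving_eps X) (coverPreserving_eps X)

end

end Groth.Agent.H21
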