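import Groth.Agent.H21.EpsCont
import Groth.Prelude.Def_EtCore
import Mathlib.CategoryTheory.Functor.Flat
import Mathlib.CategoryTheory.Limits.Constructions.LimitsOfProductsAndEqualizers

open AlgebraicGeometry CategoryTheory Limits TopologicalSpace Opposite An Topology

namespace Groth.Agent.H21

noncomputable section

variable (X : Scheme.{0})

section pb

variable {X} {U V Z : X.Etale} (f : U ⟶ Z) (g : V ⟶ Z)

/-- An explicit fibre product in the small étale site. -/
def etalePullback : X.Etale := Scheme.Etale.mk (pullback.fst f.left g.left ≫ U.hom)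

set_option backward.isDefEq.respectTransparency.types false in
def etalePullbackFst : etalePullback f g ⟶ U :=
  MorphismProperty.Over.homMk (pullback.fst f.left g.left) rfl

set_option backward.isDefEq.respectTransparency.types false in
def etalePullbackSnd : etalePullback f g ⟶ V :=
  MorphismProperty.Over.homMk (pullback.snd f.left g.left) (by
    change pullback.snd f.left g.left ≫ V.hom = pullback.fst f.left g.left ≫ U.hom
    have h1 : f.left ≫ Z.hom = U.hom := Over.w f.hom
    have h2 : g.left ≫ Z.hom = V.hom := Over.w g.hom
    rw [← h1, ← h2, ← Category.assoc, ← Category.assoc, pullback.condition])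

set_option backward.isDefEq.respectTransparency.types false in
lemma etalePullback_condition :
    etalePullbackFst f g ≫ f = etalePullbackSnd f g ≫ g := by
  apply MorphismProperty.Over.Hom.ext
  exact pullback.condition

set_option backward.isDefEq.respectTransparency.types false in
theorem isPullback_etalePullback :
    IsPullback (etalePullbackFst f g) (etalePullbackSnd f g) f g := by
  refine IsPullback.of_isLimit' ⟨etalePullback_condition f g⟩ ?_
  refine PullbackCone.IsLimit.mk _
    (fun s => MorphismProperty.Over.homMk (pullback.lift s.fst.left s.snd.left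
      (congrArg (fun φ => φ.left) s.condition)) ?_) ?_ ?_ ?_
  · change pullback.lift s.fst.left s.snd.left _ ≫ (pullback.fst f.left g.left ≫ U.hom) = s.pt.hom
    rw [← Category.assoc, pullback.lift_fst]
    exact Over.w s.fst.hom
  · intro s
    apply MorphismProperty.Over.Hom.ext
    exact pullback.lift_fst _ _ _
  · intro s
    apply MorphismProperty.Over.Hom.ext
    exact pullback.lift_snd _ _ _
  · intro s m h1 h2
    apply MorphismProperty.Over.Hom.ext
    apply pullback.hom_ext
    · refine Eq.trans ?_ (pullback.lift_fst _ _ _).symm
      exact congrArg (fun φ => φ.left) h1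
    · refine Eq.trans ?_ (pullback.lift_snd _ _ _).symm
      exact congrArg (fun φ => φ.left) h2

end pb

section eps

variable [X.Over SC] [LocallyOfFiniteType (X ↘ SC)] [Fact EtaleLH]
  {U V Z : X.Etale} (f : U ⟶ Z) (g : V ⟶ Z)

set_option backward.isDefEq.respectTransparency.types false in
/-- Existence of lifts to the complex points of the explicit fibre product. -/
theorem exists_lift_eps (W : Cl (Pts X)) (f₁ : W ⟶ (eps X).obj U) (f₂ : W ⟶ (eps X).obj V)
    (e : f₁ ≫ (eps X).map f = f₂ ≫ (eps X).map g) :
    ∃ h : W ⟶ (eps X).obj (etalePullback f g),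
      h ≫ (eps X).map (etalePullbackFst f g) = f₁ ∧
      h ≫ (eps X).map (etalePullbackSnd f g) = f₂ := by
  have hab : ∀ w, Pts.map f.left (f₁.toFun w) = Pts.map g.left (f₂.toFun w) := fun w =>
    congrArg (fun φ => φ.toFun w) e
  obtain ⟨c, hc, hc1, hc2⟩ := exists_lift_fibre f.left g.left f₁.toFun f₂.toFun
    f₁.continuous f₂.continuous hab
  have hover : @CategoryTheory.over _ _ (pullback f.left g.left) SC
      (pullbackOver f.left g.left) =
      @CategoryTheory.over _ _ (etalePullback f g).left SC
        (etaleOverLeft X (etalePullback f g)) :=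
    (Category.assoc _ _ _).symm
  let κ := Pts.cast (pullbackOver f.left g.left) (etaleOverLeft X (etalePullback f g)) hover
  let h : W ⟶ (eps X).obj (etalePullback f g) :=
    ⟨fun w => κ (c w), κ.continuous.comp hc, fun w => by
      rw [← f₁.over w, ← hc1 w]
      apply Subtype.ext
      change (c w).1 ≫ (pullback.fst f.left g.left ≫ U.hom)
        = ((c w).1 ≫ pullback.fst f.left g.left) ≫ U.hom
      rw [Category.assoc]⟩
  refine ⟨h, ?_, ?_⟩
  · apply Cl.hom_ext
    funext w
    rw [← hc1 w]
    rfl
  · apply Cl.hom_ext
    funext w
    rw [← hc2 w]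
    rfl

set_option backward.isDefEq.respectTransparency.types false in
theorem lift_eps_unique (W : Cl (Pts X)) (h h' : W ⟶ (eps X).obj (etalePullback f g))
    (h1 : h ≫ (eps X).map (etalePullbackFst f g) = h' ≫ (eps X).map (etalePullbackFst f g))
    (h2 : h ≫ (eps X).map (etalePullbackSnd f g) = h' ≫ (eps X).map (etalePullbackSnd f g)) :
    h = h' := by
  apply Cl.hom_ext
  funext w
  apply Subtype.ext
  apply pullback.hom_ext
  · exact congrArg (fun φ => (φ.toFun w).1) h1
  · exact congrArg (fun φ => (φ.toFun w).1) h2

set_option backward.isDefEq.respectTransparency.types false in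
theorem isPullback_eps :
    IsPullback ((eps X).map (etalePullbackFst f g)) ((eps X).map (etalePullbackSnd f g))
      ((eps X).map f) ((eps X).map g) := by
  have w : (eps X).map (etalePullbackFst f g) ≫ (eps X).map f
      = (eps X).map (etalePullbackSnd f g) ≫ (eps X).map g := by
    rw [← Functor.map_comp, ← Functor.map_comp, etalePullback_condition]
  refine IsPullback.of_isLimit' ⟨w⟩ ?_
  refine PullbackCone.IsLimit.mk _
    (fun s => (exists_lift_eps X f g s.pt s.fst s.snd s.condition).choose) ?_ ?_ ?_
  · intro s
    exact (exists_lift_eps X f g s.pt s.fst s.snd s.condition).choose_spec.1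
  · intro s
    exact (exists_lift_eps X f g s.pt s.fst s.snd s.condition).choose_spec.2
  · intro s m h1 h2
    apply lift_eps_unique X f g
    · rw [h1, (exists_lift_eps X f g s.pt s.fst s.snd s.condition).choose_spec.1]
    · rw [h2, (exists_lift_eps X f g s.pt s.fst s.snd s.condition).choose_spec.2]

end eps

section flat

variable [X.Over SC] [LocallyOfFiniteType (X ↘ SC)] [Fact EtaleLH]

instance preservesPullbacks_eps : PreservesLimitsOfShape WalkingCospan (eps X) := by
  constructor
  intro K
  have : PreservesLimit (cospan (K.map WalkingCospan.Hom.inl) (K.map WalkingCospan.Hom.inr))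
      (eps X) :=
    preservesLimit_of_preserves_limit_cone (isPullback_etalePullback _ _).isLimit
      ((isLimitMapConePullbackConeEquiv (eps X) (etalePullback_condition _ _)).symm
        (isPullback_eps X _ _).isLimit)
  exact preservesLimit_of_iso_diagram (eps X) (diagramIsoCospan K).symm

instance preservesTerminal_eps : PreservesLimitsOfShape (Discrete.{0} PEmpty) (eps X) := by
  have : PreservesLimit (Functor.empty.{0} X.Etale) (eps X) :=
    preservesLimit_of_preserves_limit_cone (EtCore.topIsTerminal X)
      ((isLimitMapConeEmptyConeEquiv (eps X) (EtCoh.top X)).symm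
        (IsTerminal.ofIso (Cl.selfIsTerminal (Pts X)) (epsTopIso X).symm))
  exact preservesLimitsOfShape_pempty_of_preservesTerminal (eps X)

instance preservesFiniteLimits_eps : PreservesFiniteLimits (eps X) :=
  preservesFiniteLimits_of_preservesTerminal_and_pullbacks (eps X)

instance representablyFlat_eps : RepresentablyFlat (eps X) :=
  flat_of_preservesFiniteLimits (eps X)

end flat

end

end Groth.Agent.H21
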