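import Groth.Agent.H21.ConnSch
import Groth.Agent.H21.AnSep
import Groth.Agent.H21.AnInj
import Groth.Agent.H21.EtaleLH
import Groth.Agent.H21.EpsCont
import Mathlib.AlgebraicGeometry.Morphisms.FlatMono
import Mathlib.AlgebraicGeometry.Morphisms.FormallyUnramified
import Mathlib.AlgebraicGeometry.Morphisms.Etale
import Mathlib.AlgebraicGeometry.Morphisms.IsIso

open AlgebraicGeometry CategoryTheory TopologicalSpace Opposite An Topology Limits

set_option linter.unusedSectionVars false

namespace Groth.Agent.H21

noncomputable section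

variable {X Y : Scheme.{0}} [X.Over SC] [Y.Over SC]

/-- An étale morphism inducing a bijection on complex points is an isomorphism. -/
theorem isIso_of_etale_of_bijective_map (f : X ⟶ Y) [f.IsOver SC] [LocallyOfFiniteType (Y ↘ SC)]
    [Etale f] (hf : Function.Bijective (Pts.map f)) : IsIso f := by
  have hX : LocallyOfFiniteType (X ↘ SC) := by
    rw [← comp_over f SC]
    infer_instance
  have := lft_pullback f f
  have := isLocallyNoetherian_of_lft (X := X)
  have := isLocallyNoetherian_of_lft (X := Y)
  have := isLocallyNoetherian_of_lft (X := pullback f f)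
  have hΔs : Function.Surjective (pullback.diagonal f).base :=
    surjective_of_surjective_map _ (surjective_map_diagonal_of_injective_map f hf.1)
  have hΔiso : IsIso (pullback.diagonal f) :=
    (isIso_iff_isOpenImmersion_and_surjective _).2 ⟨inferInstance, ⟨hΔs⟩⟩
  have hmono : Mono f := (pullback.isIso_diagonal_iff f).1 hΔiso
  have hopen : IsOpenImmersion f := IsOpenImmersion.of_flat_of_mono f
  have hsurj : Function.Surjective f.base := surjective_of_surjective_map f hf.2
  exact (isIso_iff_isOpenImmersion_and_surjective _).2 ⟨hopen, ⟨hsurj⟩⟩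

/-- A continuous map of complex points between étale schemes over a base, with separated target,
is induced by a morphism. -/
theorem exists_hom_of_continuous_lift {S U V : Scheme.{0}} [S.Over SC] [U.Over SC] [V.Over SC]
    [LocallyOfFiniteType (S ↘ SC)] (u : U ⟶ S) (v : V ⟶ S) [u.IsOver SC] [v.IsOver SC]
    [Etale u] [Etale v] [IsSeparated v] (φ : Pts U → Pts V) (hφ : Continuous φ)
    (hφv : ∀ a, Pts.map v (φ a) = Pts.map u a) :
    ∃ g : U ⟶ V, g ≫ v = u ∧ ∀ a : Pts U, a.1 ≫ g = (φ a).1 := by
  have hU : LocallyOfFiniteType (U ↘ SC) := by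
    rw [← comp_over u SC]
    infer_instance
  have hV : LocallyOfFiniteType (V ↘ SC) := by
    rw [← comp_over v SC]
    infer_instance
  have hW : LocallyOfFiniteType (pullback u v ↘ SC) := lft_pullback u v
  obtain ⟨c, hc, hc1, hc2⟩ := exists_lift_fibre u v (fun a => a) φ continuous_id hφ
    (fun a => (hφv a).symm)
  have hlh : IsLocalHomeomorph (Pts.map (pullback.fst u v)) := isLocalHomeomorph_map_of_etale _
  have hclh : IsLocalHomeomorph c := by
    refine IsLocalHomeomorph.of_comp (g := Pts.map (pullback.fst u v)) ?_ hlh hc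
    have : Pts.map (pullback.fst u v) ∘ c = id := funext hc1
    rw [this]
    exact (Homeomorph.refl _).isLocalHomeomorph
  have hΓopen : IsOpen (Set.range c) := hclh.isOpenMap.isOpen_range
  have hΓeq : Set.range c
      = {w | Pts.map (pullback.snd u v) w = φ (Pts.map (pullback.fst u v) w)} := by
    ext w
    constructor
    · rintro ⟨a, rfl⟩
      change Pts.map (pullback.snd u v) (c a) = φ (Pts.map (pullback.fst u v) (c a))
      rw [hc2, hc1]
    · intro hw
      refine ⟨Pts.map (pullback.fst u v) w, ?_⟩
      apply injective_fibMap u v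
      exact Prod.ext (hc1 _) ((hc2 _).trans hw.symm)
  have hsep : IsSeparatedMap (Pts.map v) := (isSeparated_iff_isSeparatedMap v).1 inferInstance
  have hΓclosed : IsClosed (Set.range c) := by
    rw [hΓeq]
    apply hsep.isClosed_eqLocus (Pts.continuous_map _) (hφ.comp (Pts.continuous_map _))
    funext w
    change Pts.map v (Pts.map (pullback.snd u v) w)
      = Pts.map v (φ (Pts.map (pullback.fst u v) w))
    rw [hφv, ← Pts.map_pullback_condition]
  obtain ⟨T, hT, hTeq⟩ := exists_isClopen_preimage_pt_eq (X := pullback u v)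
    (K := Set.range c) ⟨hΓclosed, hΓopen⟩
  let W' : (pullback u v).Opens := ⟨T, hT.isOpen⟩
  have hrange : Set.range (Pts.map W'.ι) = Set.range c := by
    rw [range_map_ι]
    exact hTeq
  let h : (W' : Scheme.{0}) ⟶ U := W'.ι ≫ pullback.fst u v
  have hmap : ∀ w', Pts.map h w' = Pts.map (pullback.fst u v) (Pts.map W'.ι w') :=
    fun w' => Pts.map_comp _ _ w'
  have hbij : Function.Bijective (Pts.map h) := by
    constructor
    · intro w₁ w₂ h12
      rw [hmap, hmap] at h12
      apply injective_map_of_mono W'.ι
      obtain ⟨a₁, ha₁⟩ : Pts.map W'.ι w₁ ∈ Set.range c := by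
        rw [← hrange]
        exact ⟨w₁, rfl⟩
      obtain ⟨a₂, ha₂⟩ : Pts.map W'.ι w₂ ∈ Set.range c := by
        rw [← hrange]
        exact ⟨w₂, rfl⟩
      rw [← ha₁, ← ha₂, hc1, hc1] at h12
      rw [← ha₁, ← ha₂, h12]
    · intro a
      obtain ⟨w', hw'⟩ : c a ∈ Set.range (Pts.map W'.ι) := by
        rw [hrange]
        exact ⟨a, rfl⟩
      refine ⟨w', ?_⟩
      rw [hmap, hw', hc1]
  have hiso : IsIso h := isIso_of_etale_of_bijective_map h hbij
  refine ⟨inv h ≫ W'.ι ≫ pullback.snd u v, ?_, ?_⟩
  · rw [Category.assoc, Category.assoc, ← pullback.condition]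
    rw [← Category.assoc W'.ι, IsIso.inv_hom_id_assoc]
  · intro a
    obtain ⟨w', hw'⟩ : c a ∈ Set.range (Pts.map W'.ι) := by
      rw [hrange]
      exact ⟨a, rfl⟩
    have h1 : Pts.map h w' = a := by rw [hmap, hw', hc1]
    have h2 : a.1 = w'.1 ≫ h := (congrArg Subtype.val h1).symm
    have h3 : w'.1 ≫ W'.ι = (c a).1 := congrArg Subtype.val hw'
    have h4 : (c a).1 ≫ pullback.snd u v = (φ a).1 := congrArg Subtype.val (hc2 a)
    rw [h2, Category.assoc, IsIso.hom_inv_id_assoc, ← Category.assoc, h3, h4]

/-- Two morphisms into an étale scheme over a base which agree on complex points are equal. -/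
theorem hom_ext_of_map_eq {S U V : Scheme.{0}} [U.Over SC] [LocallyOfFiniteType (U ↘ SC)]
    (v : V ⟶ S) [Etale v] (g k : U ⟶ V) (hgk : g ≫ v = k ≫ v)
    (h : ∀ a : Pts U, a.1 ≫ g = a.1 ≫ k) : g = k := by
  have : JacobsonSpace U := jacobsonSpace_of_lft
  let l : U ⟶ pullback v v := pullback.lift g k hgk
  let e := pullback.snd (pullback.diagonal v) l
  have he : IsOpenImmersion e := inferInstance
  have hsurj : Function.Surjective e.base := by
    rw [← Set.range_eq_univ]
    by_contra hne
    have hcl : IsClosed (Set.range e.base)ᶜ := e.isOpenEmbedding.isOpen_range.isClosed_compl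
    have h1 := closure_inter_closedPoints (X := U) hcl
    have h2 : ((Set.range e.base)ᶜ ∩ closedPoints U).Nonempty := by
      by_contra hempty
      rw [Set.not_nonempty_iff_eq_empty] at hempty
      rw [hempty, closure_empty] at h1
      apply hne
      rw [← Set.compl_empty_iff]
      exact h1.symm
    obtain ⟨q, hq1, hq2⟩ := h2
    obtain ⟨a, rfl⟩ := exists_pts_of_isClosed_singleton q hq2
    apply hq1
    let ℓ : SC ⟶ pullback (pullback.diagonal v) l := pullback.lift (a.1 ≫ g) a.1 (by
      apply pullback.hom_ext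
      · rw [Category.assoc, pullback.diagonal_fst, Category.comp_id, Category.assoc,
          pullback.lift_fst]
      · rw [Category.assoc, pullback.diagonal_snd, Category.comp_id, Category.assoc,
          pullback.lift_snd, h a])
    refine ⟨ℓ cpt, ?_⟩
    change e (ℓ cpt) = a.1 cpt
    rw [← Scheme.Hom.comp_apply, pullback.lift_snd]
  have hiso : IsIso e := (isIso_iff_isOpenImmersion_and_surjective _).2 ⟨he, ⟨hsurj⟩⟩
  have hcond : pullback.fst (pullback.diagonal v) l ≫ pullback.diagonal v = e ≫ l :=
    pullback.condition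
  have hl : l = inv e ≫ pullback.fst (pullback.diagonal v) l ≫ pullback.diagonal v := by
    rw [hcond, IsIso.inv_hom_id_assoc]
  have hg : g = l ≫ pullback.fst v v := (pullback.lift_fst _ _ _).symm
  have hk : k = l ≫ pullback.snd v v := (pullback.lift_snd _ _ _).symm
  rw [hg, hk, hl]
  simp only [Category.assoc, pullback.diagonal_fst, pullback.diagonal_snd]

end

end Groth.Agent.H21
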