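import Groth.Agent.H4.ClosedLift
import Groth.Agent.H47.EtaleLift

/-!
# Global lifting of an affine étale scheme over a closed subscheme of an affine scheme
-/

set_option autoImplicit false
open CategoryTheory CategoryTheory.Limits AlgebraicGeometry Opposite TensorProduct
universe u

namespace Groth.Agent.H21.EtAffineLift

/-- Lifting an étale algebra along a surjection `C → B`. -/
theorem exists_alg_lift {C B A : Type u} [CommRing C] [CommRing B] [CommRing A]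
    [Algebra C B] [Algebra B A] [Algebra C A] [IsScalarTower C B A]
    (hρ : Function.Surjective (algebraMap C B)) [Algebra.Etale B A] :
    ∃ (A' : Type u) (_ : CommRing A') (_ : Algebra C A') (_ : Algebra.Etale C A')
      (l : A' →ₐ[C] A) (e : B ⊗[C] A' ≃ₐ[B] A), ∀ r, l r = e (1 ⊗ₜ r) := by
  classical
  have hρ' : Function.Surjective (Algebra.ofId C B) := hρ
  let I : Ideal C := RingHom.ker (Algebra.ofId C B)
  let ψ : (C ⧸ I) ≃ₐ[C] B := Ideal.quotientKerAlgEquivOfSurjective hρ'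
  let algQA : Algebra (C ⧸ I) A := ((algebraMap B A).comp (ψ : (C ⧸ I) →+* B)).toAlgebra
  have halg : ∀ q : C ⧸ I, algebraMap (C ⧸ I) A q = algebraMap B A (ψ q) := fun q => rfl
  have tower : IsScalarTower C (C ⧸ I) A := IsScalarTower.of_algebraMap_eq (fun c => by
    rw [halg, ψ.commutes, ← IsScalarTower.algebraMap_apply])
  have : Algebra.Etale (C ⧸ I) A := by
    rw [← RingHom.etale_algebraMap]
    exact RingHom.Etale.respectsIso.2 _ ψ.toRingEquiv (RingHom.etale_algebraMap.mpr inferInstance)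
  obtain ⟨S, _, _, hS, ⟨eS⟩⟩ := Groth.Agent.H47.exists_etale_lift_quotient C I A
  let T : B ⊗[C] S ≃ₐ[C] (C ⧸ I) ⊗[C] S :=
    Algebra.TensorProduct.congr ψ.symm (AlgEquiv.refl : S ≃ₐ[C] S)
  let e₀ : B ⊗[C] S ≃ₐ[C] A := T.trans (eS.restrictScalars C)
  have he₀ : ∀ (b : B) (s : S), e₀ (b ⊗ₜ s) = eS (ψ.symm b ⊗ₜ s) := fun b s => by
    simp [e₀, T]
  let e : B ⊗[C] S ≃ₐ[B] A := AlgEquiv.ofRingEquiv (f := e₀.toRingEquiv) (fun b => by
    change e₀ (algebraMap B (B ⊗[C] S) b) = _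
    rw [Algebra.TensorProduct.algebraMap_apply, he₀]
    have : (ψ.symm (algebraMap B B b) ⊗ₜ[C] (1 : S) : (C ⧸ I) ⊗[C] S) =
        algebraMap (C ⧸ I) ((C ⧸ I) ⊗[C] S) (ψ.symm b) := by
      rw [Algebra.TensorProduct.algebraMap_apply]; rfl
    rw [this, eS.commutes, halg, AlgEquiv.apply_symm_apply])
  let l : S →ₐ[C] A := (eS.restrictScalars C).toAlgHom.comp Algebra.TensorProduct.includeRight
  refine ⟨S, inferInstance, inferInstance, hS, l, e, ?_⟩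
  intro r
  change eS ((1 : C ⧸ I) ⊗ₜ r) = e₀ (1 ⊗ₜ r)
  rw [he₀, map_one]

set_option maxHeartbeats 800000 in
/-- An affine étale scheme over a closed subscheme `Z` of an affine scheme `X` is the base change
of an affine étale `X`-scheme. -/
theorem exists_lift_affine {V Z X : Scheme.{u}} [IsAffine X] (i : Z ⟶ X) [IsClosedImmersion i]
    (φ : V ⟶ Z) [Etale φ] [IsAffine V] :
    ∃ (U : Scheme.{u}) (g : U ⟶ X) (_ : Etale g) (_ : IsAffine U) (b : V ⟶ U),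
      IsPullback b φ g i := by
  have hX₀ : IsAffineOpen (⊤ : X.Opens) := isAffineOpen_top X
  have hZ₀ : IsAffineOpen (i ⁻¹ᵁ ⊤) := hX₀.preimage i
  have hW₀ : IsAffineOpen (⊤ : V.Opens) := isAffineOpen_top V
  have hle : (⊤ : V.Opens) ≤ φ ⁻¹ᵁ (i ⁻¹ᵁ ⊤) := fun _ _ => trivial
  have hρ : Function.Surjective (i.app ⊤) := i.app_surjective ⊤ hX₀
  have hσ : (φ.appLE (i ⁻¹ᵁ ⊤) ⊤ hle).hom.Etale :=
    HasRingHomProperty.appLE (P := @Etale) φ inferInstance ⟨_, hZ₀⟩ ⟨⊤, hW₀⟩ hle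
  algebraize [(i.app ⊤).hom, (φ.appLE (i ⁻¹ᵁ ⊤) ⊤ hle).hom]
  let algCA : Algebra Γ(X, ⊤) Γ(V, ⊤) :=
    ((algebraMap Γ(Z, i ⁻¹ᵁ ⊤) Γ(V, ⊤)).comp (algebraMap Γ(X, ⊤) Γ(Z, i ⁻¹ᵁ ⊤))).toAlgebra
  have tower2 : IsScalarTower Γ(X, ⊤) Γ(Z, i ⁻¹ᵁ ⊤) Γ(V, ⊤) :=
    IsScalarTower.of_algebraMap_eq' rfl
  obtain ⟨A', _, _, hA', l, e, he⟩ :=
    exists_alg_lift (C := Γ(X, ⊤)) (B := Γ(Z, i ⁻¹ᵁ ⊤)) (A := Γ(V, ⊤)) hρ
  have sq1 := Groth.Agent.H4.ClosedLift.isPullback_of_equiv l e he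
  have sq2 := Groth.Agent.H4.ClosedLift.isPullback_fromSpec i hX₀ hZ₀
  have sq := (sq1.flip.paste_horiz sq2.flip).flip
  have hcomm : Spec.map (CommRingCat.ofHom (algebraMap Γ(Z, i ⁻¹ᵁ ⊤) Γ(V, ⊤))) ≫
      hZ₀.fromSpec = hW₀.fromSpec ≫ φ :=
    IsAffineOpen.SpecMap_appLE_fromSpec φ hZ₀ hW₀ hle
  rw [hcomm] at sq
  have hp : Etale (Spec.map (CommRingCat.ofHom (algebraMap Γ(X, ⊤) A')) ≫ hX₀.fromSpec) := by
    have : Etale (Spec.map (CommRingCat.ofHom (algebraMap Γ(X, ⊤) A'))) := by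
      rw [HasRingHomProperty.Spec_iff (P := @Etale)]
      exact RingHom.etale_algebraMap.mpr inferInstance
    infer_instance
  have hiso : IsIso hW₀.fromSpec := by
    rw [IsAffineOpen.fromSpec_top]; infer_instance
  refine ⟨_, _, hp, inferInstance, inv hW₀.fromSpec ≫ Spec.map (CommRingCat.ofHom l.toRingHom), ?_⟩
  refine sq.of_iso (asIso hW₀.fromSpec) (Iso.refl _) (Iso.refl _) (Iso.refl _) ?_ ?_ ?_ ?_
  · simp
  · simp
  · simp
  · simp

end Groth.Agent.H21.EtAffineLift
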