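import Mathlib.AlgebraicGeometry.PullbackCarrier
import Mathlib.AlgebraicGeometry.Morphisms.Etale
import Mathlib.AlgebraicGeometry.Morphisms.FormallyUnramified
import Mathlib.AlgebraicGeometry.Morphisms.FlatMono
import Mathlib.AlgebraicGeometry.Morphisms.UniversallyOpen
import Mathlib.AlgebraicGeometry.Morphisms.Separated
import Mathlib.AlgebraicGeometry.FunctionField
import Mathlib.FieldTheory.IsSepClosed

/-!
# An étale separated scheme with a single generic point over an integral scheme with separably
closed function field is an open subscheme
-/

set_option autoImplicit false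
universe u
open CategoryTheory CategoryTheory.Limits AlgebraicGeometry TopologicalSpace

namespace Groth.Agent.H21.EtNormalSplit

/-- transport of separable closedness along a ring isomorphism -/
theorem isSepClosed_of_ringEquiv {k k' : Type*} [Field k] [Field k'] (e : k ≃+* k')
    [IsSepClosed k] : IsSepClosed k' := by
  refine ⟨fun p hp => ?_⟩
  have h1 : (p.map e.symm.toRingHom).Separable := hp.map
  have h2 := IsSepClosed.splits_domain (f := e.toRingHom) (p.map e.symm.toRingHom) h1
  rw [Polynomial.map_map] at h2
  have : e.toRingHom.comp e.symm.toRingHom = RingHom.id k' := by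
    ext x; simp
  rwa [this, Polynomial.map_id] at h2

variable {X : Scheme.{u}}

/-- the residue field at the generic point is separably closed if the function field is -/
theorem isSepClosed_residueField [IsIntegral X] [IsSepClosed X.functionField] (x : X)
    (hx : x = genericPoint X) : IsSepClosed (X.residueField x) := by
  subst hx
  have hbij : Function.Bijective (IsLocalRing.residue (X.presheaf.stalk (genericPoint X))) := by
    refine ⟨?_, IsLocalRing.residue_surjective⟩
    exact RingHom.injective (IsLocalRing.residue X.functionField)
  exact isSepClosed_of_ringEquiv (k := X.functionField) (RingEquiv.ofBijective _ hbij)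

/-- the residue field extension of an étale morphism at a point over the generic point is
trivial -/
theorem bijective_residueFieldMap {W : Scheme.{u}} (j : W ⟶ X) [Etale j] [IsIntegral X]
    [IsSepClosed X.functionField] (w : W) (hw : j w = genericPoint X) :
    Function.Bijective (j.residueFieldMap w).hom := by
  let _ := (j.residueFieldMap w).hom.toAlgebra
  have h1 : IsSepClosed (X.residueField (j w)) := isSepClosed_residueField _ hw
  have h2 : Algebra.IsSeparable (X.residueField (j w)) (W.residueField w) := inferInstance
  exact IsSepClosed.algebraMap_bijective _ _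

open Scheme.Pullback in
set_option backward.isDefEq.respectTransparency.types false in
/-- two points of a fibre product with the same projections coincide, if the residue field
extension of the first factor is trivial -/
theorem eq_of_fst_eq_of_snd_eq {A B S : Scheme.{u}} (f : A ⟶ S) (g : B ⟶ S)
    (t₁ t₂ : ↑(pullback f g))
    (h1 : pullback.fst f g t₁ = pullback.fst f g t₂)
    (h2 : pullback.snd f g t₁ = pullback.snd f g t₂)
    (hbij : Function.Bijective (f.residueFieldMap (pullback.fst f g t₂)).hom) : t₁ = t₂ := by
  apply carrierEquiv.injective
  rw [carrierEquiv_eq_iff]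
  have hT : (carrierEquiv t₁).1 = (carrierEquiv t₂).1 := Triplet.ext h1 h2
  refine ⟨hT, ?_⟩
  have hiso1 : IsIso (f.residueFieldMap (Triplet.ofPoint t₂).x) :=
    (ConcreteCategory.isIso_iff_bijective _).mpr hbij
  have hiso : IsIso ((S.residueFieldCongr (Triplet.ofPoint t₂).hx).inv ≫
      f.residueFieldMap (Triplet.ofPoint t₂).x) := inferInstance
  have hinr : IsIso (Triplet.ofPoint t₂).tensorInr :=
    inferInstanceAs (IsIso (pushout.inr _ _))
  have hsub : Subsingleton ↑(Spec (Triplet.ofPoint t₂).tensor) := by
    have hinj : Function.Injective (Spec.map (Triplet.ofPoint t₂).tensorInr) :=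
      (Scheme.homeoOfIso (asIso (Spec.map (Triplet.ofPoint t₂).tensorInr))).injective
    have : Subsingleton ↑(Spec (B.residueField (Triplet.ofPoint t₂).y)) :=
      inferInstanceAs (Subsingleton (PrimeSpectrum (B.residueField (Triplet.ofPoint t₂).y)))
    exact hinj.subsingleton
  exact hsub.elim _ _

/-- An étale separated morphism to an integral scheme with separably closed function field, with
exactly one point over the generic point, is an open immersion. -/
theorem isOpenImmersion_of_unique_generic {W : Scheme.{u}} (j : W ⟶ X) [Etale j] [IsSeparated j]
    [IsIntegral X] [IsSepClosed X.functionField] (ξ : W) (hξ : j ξ = genericPoint X)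
    (huniq : ∀ y : W, j y = genericPoint X → y = ξ) : IsOpenImmersion j := by
  have hΔopen : IsOpenImmersion (pullback.diagonal j) := inferInstance
  have hΔclosed : IsClosedImmersion (pullback.diagonal j) := inferInstance
  have hsurj : Function.Surjective (pullback.diagonal j) := by
    intro w
    -- generize `w` to a point over the generic point
    have hflat : Flat (pullback.fst j j ≫ j) := inferInstance
    have hgen := Flat.generalizingMap (pullback.fst j j ≫ j)
    have hsp : genericPoint X ⤳ (pullback.fst j j ≫ j) w :=
      (genericPoint_spec X).specializes (Set.mem_univ _)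
    obtain ⟨w', hw'w, hw'⟩ := hgen hsp
    have h1 : pullback.fst j j w' = ξ := by
      apply huniq
      rw [← Scheme.Hom.comp_apply]; exact hw'
    have h2 : pullback.snd j j w' = ξ := by
      apply huniq
      rw [← Scheme.Hom.comp_apply, ← pullback.condition]; exact hw'
    have h3 : pullback.fst j j (pullback.diagonal j ξ) = ξ := by
      rw [← Scheme.Hom.comp_apply, pullback.diagonal_fst]; rfl
    have h4 : pullback.snd j j (pullback.diagonal j ξ) = ξ := by
      rw [← Scheme.Hom.comp_apply, pullback.diagonal_snd]; rfl
    have hbij : Function.Bijective
        (j.residueFieldMap (pullback.fst j j (pullback.diagonal j ξ))).hom :=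
      bijective_residueFieldMap j _ (by rw [h3]; exact hξ)
    have hw'eq : w' = pullback.diagonal j ξ :=
      eq_of_fst_eq_of_snd_eq j j w' _ (h1.trans h3.symm) (h2.trans h4.symm) hbij
    have hcl : IsClosed (Set.range (pullback.diagonal j)) :=
      (pullback.diagonal j).isClosedEmbedding.isClosed_range
    exact hw'w.mem_closed hcl (hw'eq ▸ ⟨ξ, rfl⟩)
  have hiso : IsIso (pullback.diagonal j) := by
    rw [isIso_iff_isOpenImmersion_and_epi_base]
    refine ⟨hΔopen, ?_⟩
    rw [TopCat.epi_iff_surjective]
    exact hsurj
  have hmono : Mono j := (pullback.isIso_diagonal_iff j).mp hiso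
  exact IsOpenImmersion.of_flat_of_mono j

end Groth.Agent.H21.EtNormalSplit
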