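import Groth.Agent.H21.EtNormalSplitA
import Groth.Agent.H21.EtNormalSplitB
import Groth.Agent.H20.EtaleNormal

/-!
# Finite splitting of quasi-compact separated étale schemes over a normal base with separably
closed function field, and base change of a splitting.
-/

set_option autoImplicit false
open CategoryTheory CategoryTheory.Limits AlgebraicGeometry Opposite
universe u

namespace Groth.Agent.H21.EtNormalSplit

/-- Over an integral normal scheme whose function field is separably closed, a separated étale
scheme is covered by pairwise disjoint nonempty opens each mapping by an open immersion to the base. -/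
theorem exists_split {U X : Scheme.{u}} [IsIntegral X]
    (hN : ∀ x : X, IsIntegrallyClosed (X.presheaf.stalk x))
    [IsSepClosed X.functionField] (g : U ⟶ X) [AlgebraicGeometry.Etale g] [IsSeparated g] :
    ∃ (ι : Type u) (C : ι → U.Opens), (∀ t, IsOpenImmersion ((C t).ι ≫ g)) ∧
      (⨆ t, C t = ⊤) ∧ Pairwise (Function.onFun Disjoint C) ∧ ∀ t, ((C t : Set U)).Nonempty := by
  have hU : ∀ u : U, IsDomain (U.presheaf.stalk u) := fun u =>
    (Groth.Agent.H20.isDomain_and_isIntegrallyClosed_stalk_of_etale g u
      ⟨inferInstance, hN _⟩).1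
  let C : {t : U // g t = genericPoint X} → U.Opens := fun t =>
    ⟨closure ({t.1} : Set U),
      Groth.Agent.H21.EtNormalSplit.isOpen_closure_singleton g hU t.1 t.2⟩
  have hjopen : ∀ t : {t : U // g t = genericPoint X}, IsOpenImmersion ((C t).ι ≫ g) := by
    intro t
    have hmem : t.1 ∈ C t := subset_closure rfl
    have hr : t.1 ∈ Set.range (C t).ι := by rw [Scheme.Opens.range_ι]; exact hmem
    obtain ⟨ξ, hξ⟩ := hr
    refine Groth.Agent.H21.EtNormalSplit.isOpenImmersion_of_unique_generic ((C t).ι ≫ g) ξ ?_ ?_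
    · rw [Scheme.Hom.comp_apply, hξ]; exact t.2
    · intro y hy
      apply (C t).ι.injective
      rw [hξ]
      have hy' : g ((C t).ι y) = genericPoint X := by
        rw [← Scheme.Hom.comp_apply]; exact hy
      have hyC : (C t).ι y ∈ closure ({t.1} : Set U) := by
        have : (C t).ι y ∈ Set.range (C t).ι := ⟨y, rfl⟩
        rw [Scheme.Opens.range_ι] at this
        exact this
      exact Groth.Agent.H21.EtNormalSplit.eq_of_mem_closure_of_mem_fibre g t.2 hy' hyC
  refine ⟨{t : U // g t = genericPoint X}, C, hjopen, ?_, ?_, ?_⟩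
  · rw [eq_top_iff]
    intro u _
    rw [TopologicalSpace.Opens.mem_iSup]
    refine ⟨⟨Groth.Agent.H21.FEtNormal.beta u,
      Groth.Agent.H21.FEtNormal.map_beta_eq_genericPoint g hU u⟩, ?_⟩
    exact specializes_iff_mem_closure.mp (Groth.Agent.H21.FEtNormal.beta_specializes u)
  · intro t t' hne
    simp only [Function.onFun]
    rw [disjoint_iff]
    ext y
    simp only [TopologicalSpace.Opens.coe_inf, TopologicalSpace.Opens.coe_bot,
      Set.mem_inter_iff, Set.mem_empty_iff_false, iff_false, not_and]
    intro hy hy'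
    have hd := Groth.Agent.H21.EtNormalSplit.disjoint_closure_singleton g hU t.2 t'.2
      (fun h => hne (Subtype.ext h))
    exact Set.disjoint_left.mp hd hy hy'
  · intro t
    exact ⟨t.1, subset_closure rfl⟩

/-- A pairwise disjoint cover of a compact space by nonempty open sets is finite. -/
theorem finite_of_disjoint_cover {T : Type*} [TopologicalSpace T] [CompactSpace T] {ι : Type*}
    (C : ι → TopologicalSpace.Opens T) (hcov : ⨆ t, C t = ⊤)
    (hdisj : Pairwise (Function.onFun Disjoint C)) (hne : ∀ t, ((C t : Set T)).Nonempty) :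
    Finite ι := by
  classical
  have hcov' : (Set.univ : Set T) ⊆ ⋃ t, (C t : Set T) := by
    intro x _
    have : x ∈ (⨆ t, C t : TopologicalSpace.Opens T) := by rw [hcov]; trivial
    rw [TopologicalSpace.Opens.mem_iSup] at this
    obtain ⟨t, ht⟩ := this
    exact Set.mem_iUnion.mpr ⟨t, ht⟩
  obtain ⟨s, hs⟩ := isCompact_univ.elim_finite_subcover (fun t => (C t : Set T))
    (fun t => (C t).2) hcov'
  have hall : ∀ t, t ∈ s := by
    intro t
    obtain ⟨x, hx⟩ := hne t
    have hx' := hs (Set.mem_univ x)
    simp only [Set.mem_iUnion] at hx'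
    obtain ⟨t', ht', hxt'⟩ := hx'
    by_contra hts
    have hne' : t ≠ t' := fun h => hts (h ▸ ht')
    have hd := hdisj hne'
    simp only [Function.onFun] at hd
    rw [disjoint_iff] at hd
    have : x ∈ (C t ⊓ C t' : TopologicalSpace.Opens T) := ⟨hx, hxt'⟩
    rw [hd] at this
    exact this
  haveI : Fintype ι := ⟨s, hall⟩
  exact Finite.of_fintype ι

/-- Base change of a splitting: if `V = Z ×_X U` and `U` is covered by pairwise disjoint opens
each mapping by an open immersion to `X`, then `V` is a disjoint union of opens of `Z`. -/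
theorem split_of_isPullback {V Z U X : Scheme.{u}} {b : V ⟶ U} {φ : V ⟶ Z} {g : U ⟶ X}
    {i : Z ⟶ X} (sq : IsPullback b φ g i) {ι : Type u} (C : ι → U.Opens)
    (hC : ∀ t, IsOpenImmersion ((C t).ι ≫ g)) (hcov : ⨆ t, C t = ⊤)
    (hdisj : Pairwise (Function.onFun Disjoint C)) :
    ∃ (W : ι → Z.Opens) (e : (∐ fun k => (W k : Scheme.{u})) ≅ V),
      ∀ k, Sigma.ι (fun k => (W k : Scheme.{u})) k ≫ e.hom ≫ φ = (W k).ι := by
  let D : ι → V.Opens := fun t => b ⁻¹ᵁ (C t)
  have hjopen : ∀ t, IsOpenImmersion ((D t).ι ≫ φ) := by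
    intro t
    have sq1 := (isPullback_morphismRestrict b (C t)).paste_vert sq
    exact MorphismProperty.of_isPullback (P := @IsOpenImmersion) sq1 (hC t)
  let ψ : ∀ t, (((D t).ι ≫ φ).opensRange : Scheme.{u}) ⟶ V := fun t =>
    ((D t).ι ≫ φ).isoOpensRange.inv ≫ (D t).ι
  have hψopen : ∀ t, IsOpenImmersion (ψ t) := fun t => inferInstance
  have hψrange : ∀ t, (ψ t).opensRange = D t := by
    intro t
    simp only [ψ]
    rw [Scheme.Hom.opensRange_comp_of_isIso, Scheme.Opens.opensRange_ι]
  have hcov' : ⨆ t, (ψ t).opensRange = ⊤ := by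
    rw [eq_top_iff]
    intro v _
    rw [TopologicalSpace.Opens.mem_iSup]
    have : b v ∈ (⨆ t, C t : U.Opens) := by rw [hcov]; trivial
    rw [TopologicalSpace.Opens.mem_iSup] at this
    obtain ⟨t, ht⟩ := this
    refine ⟨t, ?_⟩
    rw [hψrange]
    exact ht
  have hdisj' : Pairwise (Function.onFun Disjoint (fun t => (ψ t).opensRange)) := by
    intro t t' hne
    simp only [Function.onFun]
    rw [hψrange, hψrange, disjoint_iff]
    ext y
    simp only [TopologicalSpace.Opens.coe_inf, TopologicalSpace.Opens.coe_bot,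
      Set.mem_inter_iff, Set.mem_empty_iff_false, iff_false, not_and]
    intro hy hy'
    have hd := hdisj hne
    simp only [Function.onFun] at hd
    rw [disjoint_iff] at hd
    have : b y ∈ (C t ⊓ C t' : U.Opens) := ⟨hy, hy'⟩
    rw [hd] at this
    exact this
  have hcolim := nonempty_isColimit_cofanMk_of ψ hcov' hdisj'
  have hiso : IsIso (Sigma.desc ψ) := by
    have := (Cofan.nonempty_isColimit_iff_isIso_sigmaDesc (Cofan.mk V ψ)).mp hcolim
    simpa using this
  refine ⟨fun t => ((D t).ι ≫ φ).opensRange, asIso (Sigma.desc ψ), ?_⟩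
  intro t
  simp only [asIso_hom]
  rw [Sigma.ι_desc_assoc]
  simp only [ψ]
  rw [Category.assoc, Scheme.Hom.isoOpensRange_inv_comp]

end Groth.Agent.H21.EtNormalSplit
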