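import Groth.Agent.H21.DensRoots
import Mathlib.Algebra.Ring.GeomSum
import Mathlib.Algebra.Polynomial.Derivative
import Mathlib.Topology.IsLocalHomeomorph

open Polynomial Topology Filter Finset

namespace Groth.Agent.H21

section Algebra

variable {K : Type*} [CommRing K]

/-- The divided difference of a polynomial, truncated at degree `N`. -/
noncomputable def ddN (N : ℕ) (p : K[X]) (a a' : K) : K :=
  ∑ j ∈ range N, p.coeff j * ∑ i ∈ range j, a ^ i * a' ^ (j - 1 - i)

lemma eval_sub_eval_eq {N : ℕ} {p : K[X]} (hN : p.natDegree < N) (a a' : K) :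
    p.eval a - p.eval a' = ddN N p a a' * (a - a') := by
  rw [eval_eq_sum_range' hN, eval_eq_sum_range' hN, ← Finset.sum_sub_distrib, ddN, Finset.sum_mul]
  apply Finset.sum_congr rfl
  intro j _
  rw [mul_assoc, geom_sum₂_mul, mul_sub]

lemma ddN_self {N : ℕ} {p : K[X]} (hN : p.natDegree < N) (a : K) :
    ddN N p a a = p.derivative.eval a := by
  rw [derivative_eval, Polynomial.sum_over_range' p (by intro n; simp) N hN, ddN]
  apply Finset.sum_congr rfl
  intro j _
  have : ∑ i ∈ range j, a ^ i * a ^ (j - 1 - i) = (j : K) * a ^ (j - 1) := by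
    have h : ∀ i ∈ range j, a ^ i * a ^ (j - 1 - i) = a ^ (j - 1) := by
      intro i hi
      rw [Finset.mem_range] at hi
      rw [← pow_add]
      congr 1
      omega
    rw [Finset.sum_congr rfl h, Finset.sum_const, Finset.card_range, nsmul_eq_mul]
  rw [this, mul_assoc]

end Algebra

section Topology

variable {B : Type*} [TopologicalSpace B] (P : B → ℂ[X]) (m : ℕ)

/-- A continuous family of monic complex polynomials of fixed degree. -/
structure IsContFamily : Prop where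
  monic : ∀ y, (P y).Monic
  natDegree : ∀ y, (P y).natDegree = m
  cont : ∀ j, Continuous (fun y => (P y).coeff j)

variable {P m}

lemma IsContFamily.continuous_eval (h : IsContFamily P m) :
    Continuous (fun q : B × ℂ => (P q.1).eval q.2) := by
  have : (fun q : B × ℂ => (P q.1).eval q.2)
      = fun q : B × ℂ => ∑ j ∈ range (m + 1), (P q.1).coeff j * q.2 ^ j := by
    funext q
    exact eval_eq_sum_range' (by rw [h.natDegree]; omega) _
  rw [this]
  exact continuous_finsetSum _ (fun j _ =>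
    ((h.cont j).comp continuous_fst).mul (continuous_snd.pow j))

lemma IsContFamily.continuous_ddN (h : IsContFamily P m) :
    Continuous (fun q : B × ℂ × ℂ => ddN (m + 1) (P q.1) q.2.1 q.2.2) := by
  unfold ddN
  exact continuous_finsetSum _ (fun j _ => ((h.cont j).comp continuous_fst).mul
    (continuous_finsetSum _ (fun i _ =>
      ((continuous_fst.comp continuous_snd).pow i).mul
        ((continuous_snd.comp continuous_snd).pow (j - 1 - i)))))

/-- Roots of nearby members of the family approximate a given root. -/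
theorem IsContFamily.eventually_exists_root_near (h : IsContFamily P m) {y₀ : B} {a₀ : ℂ}
    (h0 : (P y₀).IsRoot a₀) {ε : ℝ} (hε : 0 < ε) :
    ∀ᶠ y in 𝓝 y₀, ∃ ρ, (P y).IsRoot ρ ∧ ‖a₀ - ρ‖ < ε := by
  have hm : 0 < m := by
    rw [← h.natDegree y₀]
    by_contra h0'
    have h1 : (P y₀).natDegree = 0 := by omega
    have h2 : P y₀ = 1 := (h.monic y₀).natDegree_eq_zero.1 h1
    rw [h2] at h0
    simp at h0
  have hcont : Continuous (fun y : B => ‖(P y).eval a₀‖) :=
    (h.continuous_eval.comp (Continuous.prodMk continuous_id continuous_const)).norm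
  have hzero : ‖(P y₀).eval a₀‖ = 0 := by
    rw [norm_eq_zero]; exact h0
  have hev : ∀ᶠ y in 𝓝 y₀, ‖(P y).eval a₀‖ < ε ^ m := by
    apply hcont.continuousAt.eventually_lt continuousAt_const
    rw [hzero]
    positivity
  filter_upwards [hev] with y hy
  obtain ⟨ρ, hρ, hle⟩ := exists_root_pow_le (P y) (h.monic y)
    (by rw [h.natDegree y]; exact hm) a₀
  rw [h.natDegree y] at hle
  exact ⟨ρ, hρ, lt_of_pow_lt_pow_left₀ _ hε.le (lt_of_le_of_lt hle hy)⟩

/-- Near a simple root, roots of members of the family are unique. -/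
theorem IsContFamily.exists_nhds_injective (h : IsContFamily P m) {y₀ : B} {a₀ : ℂ}
    (hd : (P y₀).derivative.eval a₀ ≠ 0) :
    ∃ N ∈ 𝓝 y₀, ∃ δ > 0, ∀ y ∈ N, ∀ a a' : ℂ, ‖a - a₀‖ < δ → ‖a' - a₀‖ < δ →
      (P y).IsRoot a → (P y).IsRoot a' → a = a' := by
  have hlt : ∀ y, (P y).natDegree < m + 1 := fun y => by rw [h.natDegree]; omega
  have hne : ddN (m + 1) (P y₀) a₀ a₀ ≠ 0 := by rw [ddN_self (hlt y₀)]; exact hd
  have hopen : {q : B × ℂ × ℂ | ddN (m + 1) (P q.1) q.2.1 q.2.2 ≠ 0} ∈ 𝓝 (y₀, a₀, a₀) :=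
    (h.continuous_ddN.continuousAt (x := (y₀, a₀, a₀))).eventually_ne hne
  rw [nhds_prod_eq, Filter.mem_prod_iff] at hopen
  obtain ⟨N, hN, M, hM, hNM⟩ := hopen
  rw [nhds_prod_eq, Filter.mem_prod_iff] at hM
  obtain ⟨M₁, hM₁, M₂, hM₂, hM12⟩ := hM
  obtain ⟨δ₁, hδ₁, hb₁⟩ := Metric.mem_nhds_iff.1 hM₁
  obtain ⟨δ₂, hδ₂, hb₂⟩ := Metric.mem_nhds_iff.1 hM₂
  refine ⟨N, hN, min δ₁ δ₂, lt_min hδ₁ hδ₂, ?_⟩
  intro y hy a a' ha ha' hra hra'
  have hmem : (y, a, a') ∈ {q : B × ℂ × ℂ | ddN (m + 1) (P q.1) q.2.1 q.2.2 ≠ 0} := by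
    apply hNM
    refine ⟨hy, hM12 ⟨hb₁ ?_, hb₂ ?_⟩⟩
    · rw [Metric.mem_ball, dist_eq_norm]
      exact lt_of_lt_of_le ha (min_le_left _ _)
    · rw [Metric.mem_ball, dist_eq_norm]
      exact lt_of_lt_of_le ha' (min_le_right _ _)
  have hdd : ddN (m + 1) (P y) a a' ≠ 0 := hmem
  have := eval_sub_eval_eq (hlt y) a a'
  rw [hra.eq_zero, hra'.eq_zero, sub_zero] at this
  rcases mul_eq_zero.1 this.symm with h1 | h1
  · exact absurd h1 hdd
  · exact sub_eq_zero.1 h1

/-- The locus of simple roots of a continuous family of monic polynomials, inside an open set,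
projects locally homeomorphically to the base. -/
theorem IsContFamily.isLocalHomeomorph_fst (h : IsContFamily P m) {O : Set (B × ℂ)}
    (hO : IsOpen O)
    (hd : ∀ q ∈ O, (P q.1).IsRoot q.2 → (P q.1).derivative.eval q.2 ≠ 0) :
    IsLocalHomeomorph (fun z : {q : B × ℂ // (P q.1).IsRoot q.2 ∧ q ∈ O} => z.1.1) := by
  have hcont : Continuous (fun z : {q : B × ℂ // (P q.1).IsRoot q.2 ∧ q ∈ O} => z.1.1) :=
    continuous_fst.comp continuous_subtype_val
  have hopen : IsOpenMap (fun z : {q : B × ℂ // (P q.1).IsRoot q.2 ∧ q ∈ O} => z.1.1) := by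
    rw [isOpenMap_iff_nhds_le]
    rintro ⟨⟨y₁, a₁⟩, hr, hmem⟩ S hS
    rw [Filter.mem_map, nhds_subtype_eq_comap, Filter.mem_comap] at hS
    obtain ⟨u, hu, hsub⟩ := hS
    have hu' : u ∩ O ∈ 𝓝 (y₁, a₁) := Filter.inter_mem hu (hO.mem_nhds hmem)
    rw [mem_nhds_prod_iff] at hu'
    obtain ⟨N₁, hN₁, M, hM, hNM⟩ := hu'
    obtain ⟨ε, hε, hball⟩ := Metric.mem_nhds_iff.1 hM
    have hev := h.eventually_exists_root_near hr hε
    filter_upwards [hev, hN₁] with y hy hyN
    obtain ⟨ρ, hρ, hlt⟩ := hy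
    have hmem' : (y, ρ) ∈ u ∩ O :=
      hNM ⟨hyN, hball (by rw [Metric.mem_ball, dist_comm, dist_eq_norm]; exact hlt)⟩
    exact hsub (show (⟨(y, ρ), hρ, hmem'.2⟩ :
      {q : B × ℂ // (P q.1).IsRoot q.2 ∧ q ∈ O}) ∈ Subtype.val ⁻¹' u from hmem'.1)
  rw [isLocalHomeomorph_iff_isOpenEmbedding_restrict]
  rintro ⟨⟨y₀, a₀⟩, hr, hmem⟩
  obtain ⟨N, hN, δ, hδ, hinj⟩ := h.exists_nhds_injective (hd _ hmem hr)
  let U : Set {q : B × ℂ // (P q.1).IsRoot q.2 ∧ q ∈ O} :=
    {z | z.1.1 ∈ interior N ∧ z.1.2 ∈ Metric.ball a₀ δ}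
  have hUo : IsOpen U := (isOpen_interior.preimage hcont).inter
    (Metric.isOpen_ball.preimage (continuous_snd.comp continuous_subtype_val))
  refine ⟨U, hUo.mem_nhds ⟨mem_interior_iff_mem_nhds.2 hN, Metric.mem_ball_self hδ⟩, ?_⟩
  refine IsOpenEmbedding.of_continuous_injective_isOpenMap
    (hcont.comp continuous_subtype_val) ?_ (hopen.comp hUo.isOpenMap_subtype_val)
  rintro ⟨⟨⟨y, a⟩, hra, hOa⟩, hz⟩ ⟨⟨⟨y', a'⟩, hra', hOa'⟩, hz'⟩ hzz'
  have hyy : y = y' := hzz'
  subst hyy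
  have haa : a = a' := by
    apply hinj y (interior_subset hz.1) a a' _ _ hra hra'
    · have := hz.2; rwa [Metric.mem_ball, dist_eq_norm] at this
    · have := hz'.2; rwa [Metric.mem_ball, dist_eq_norm] at this
  subst haa
  rfl

end Topology

end Groth.Agent.H21
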