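import Groth.Agent.H21.EtaleRoots
import Groth.Agent.H21.AnClosed
import Mathlib.RingTheory.Etale.StandardEtale

open AlgebraicGeometry CategoryTheory TopologicalSpace Opposite An Topology Polynomial

namespace Groth.Agent.H21

noncomputable section

variable {X Y : Scheme.{0}} [X.Over SC] [Y.Over SC]
  {R S : Type} [CommRing R] [CommRing S]

/-- The character of `R` attached to a complex point, via `e : R →+* Γ(Y, ⊤)`. -/
def chi (e : R →+* Γ(Y, ⊤)) (y : Pts Y) : R →+* ℂ := (evHom y ⊤ (Opens.mem_top _)).comp e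

lemma chi_apply (e : R →+* Γ(Y, ⊤)) (y : Pts Y) (r : R) : chi e y r = y.evTop (e r) := rfl

lemma continuous_chi (e : R →+* Γ(Y, ⊤)) (r : R) : Continuous (fun y : Pts Y => chi e y r) :=
  continuous_evTop (e r)

lemma isContFamily_map_chi (e : R →+* Γ(Y, ⊤)) {p : R[X]} (hp : p.Monic) :
    IsContFamily (fun y : Pts Y => p.map (chi e y)) p.natDegree where
  monic y := hp.map _
  natDegree y := hp.natDegree_map _
  cont j := by
    simp only [coeff_map]
    exact continuous_chi e _

lemma continuous_eval_map_chi (e : R →+* Γ(Y, ⊤)) (p : R[X]) :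
    Continuous (fun q : Pts Y × ℂ => (p.map (chi e q.1)).eval q.2) := by
  have : (fun q : Pts Y × ℂ => (p.map (chi e q.1)).eval q.2)
      = fun q => ∑ j ∈ Finset.range (p.natDegree + 1), chi e q.1 (p.coeff j) * q.2 ^ j := by
    funext q
    rw [eval_map, eval₂_eq_sum_range]
  rw [this]
  exact continuous_finsetSum _ (fun j _ =>
    ((continuous_chi e _).comp continuous_fst).mul (continuous_snd.pow j))

section compat

variable [Algebra R S] (g : X ⟶ Y) [g.IsOver SC] (eR : R →+* Γ(Y, ⊤)) (eS : S →+* Γ(X, ⊤))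
  (hcomm : ∀ r, g.appTop.hom (eR r) = eS (algebraMap R S r))

include hcomm in
lemma chi_algebraMap (x : Pts X) :
    (chi eS x).comp (algebraMap R S) = chi eR (Pts.map g x) := by
  ext r
  simp only [RingHom.comp_apply, chi_apply]
  rw [evTop_map, ← hcomm]

include hcomm in
lemma eval_map_chi (x : Pts X) (p : R[X]) (s : S) :
    (p.map (chi eR (Pts.map g x))).eval (chi eS x s) = chi eS x (aeval s p) := by
  rw [← chi_algebraMap g eR eS hcomm x, eval_map, aeval_def, hom_eval₂]

end compat

/-- A simple-root point of a standard étale pair over a character gives a `HasMap`. -/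
lemma hasMap_of_root (P : StandardEtalePair R) (χ : R →+* ℂ) (a : ℂ)
    (h1 : (P.f.map χ).IsRoot a) (h2 : (P.g.map χ).eval a ≠ 0) :
    letI := χ.toAlgebra
    P.HasMap a := by
  let _ : Algebra R ℂ := χ.toAlgebra
  refine ⟨?_, ?_⟩
  · rw [aeval_def, RingHom.algebraMap_toAlgebra, ← eval_map]
    exact h1
  · rw [aeval_def, RingHom.algebraMap_toAlgebra, ← eval_map]
    exact IsUnit.mk0 _ h2

lemma derivative_ne_zero_of_root (P : StandardEtalePair R) (χ : R →+* ℂ) (a : ℂ)
    (h1 : (P.f.map χ).IsRoot a) (h2 : (P.g.map χ).eval a ≠ 0) :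
    (P.f.map χ).derivative.eval a ≠ 0 := by
  let _ : Algebra R ℂ := χ.toAlgebra
  have h := (hasMap_of_root P χ a h1 h2).isUnit_derivative_f
  rw [aeval_def, RingHom.algebraMap_toAlgebra, ← eval_map, ← derivative_map] at h
  exact h.ne_zero

section main

set_option linter.unusedSectionVars false

variable [Algebra R S] [IsAffine X] [IsAffine Y] (g : X ⟶ Y) [g.IsOver SC]
  (Pst : StandardEtalePresentation R S) (eR : R ≃+* Γ(Y, ⊤)) (eS : S ≃+* Γ(X, ⊤))
  (hcomm : ∀ r, g.appTop.hom (eR r) = eS (algebraMap R S r))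

/-- The family of specialisations of the monic polynomial of a standard étale presentation. -/
def stdP (y : Pts Y) : ℂ[X] := Pst.f.map (chi (eR : R →+* Γ(Y, ⊤)) y)

/-- The open set where the localising polynomial does not vanish. -/
def stdO : Set (Pts Y × ℂ) := {q | (Pst.g.map (chi (eR : R →+* Γ(Y, ⊤)) q.1)).eval q.2 ≠ 0}

lemma isOpen_stdO : IsOpen (stdO Pst eR) :=
  isOpen_ne_fun (continuous_eval_map_chi _ _) continuous_const

lemma isContFamily_stdP : IsContFamily (stdP Pst eR) Pst.f.natDegree :=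
  isContFamily_map_chi _ Pst.monic_f

/-- The locus of simple roots. -/
abbrev StdLocus : Type := {q : Pts Y × ℂ // (stdP Pst eR q.1).IsRoot q.2 ∧ q ∈ stdO Pst eR}

theorem isLocalHomeomorph_stdLocus :
    IsLocalHomeomorph (fun z : StdLocus Pst eR => z.1.1) := by
  apply (isContFamily_stdP Pst eR).isLocalHomeomorph_fst (isOpen_stdO Pst eR)
  intro q hq hr
  exact derivative_ne_zero_of_root Pst.P _ _ hr hq

/-- The map from complex points of `X` to the simple root locus. -/
def stdE (x : Pts X) : StdLocus Pst eR :=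
  ⟨(Pts.map g x, chi (eS : S →+* Γ(X, ⊤)) x Pst.x), by
    constructor
    · change (Pst.f.map (chi _ (Pts.map g x))).eval (chi _ x Pst.x) = 0
      rw [eval_map_chi g _ _ hcomm, Pst.hasMap.1, map_zero]
    · change (Pst.g.map (chi _ (Pts.map g x))).eval (chi _ x Pst.x) ≠ 0
      rw [eval_map_chi g _ _ hcomm]
      exact (Pst.hasMap.2.map (chi (eS : S →+* Γ(X, ⊤)) x)).ne_zero⟩

lemma continuous_stdE : Continuous (stdE g Pst eR eS hcomm) :=
  Continuous.subtype_mk ((Pts.continuous_map g).prodMk (continuous_chi _ Pst.x)) _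

lemma stdE_fst (x : Pts X) : (stdE g Pst eR eS hcomm x).1.1 = Pts.map g x := rfl

/-- Evaluations on `X` as continuous functions of the simple root locus. -/
def stdΦ (z : StdLocus Pst eR) (t : Γ(X, ⊤)) : ℂ :=
  ((Pst.exists_mul_aeval_x_g_pow_eq_aeval_x (eS.symm t)).choose.map
      (chi (eR : R →+* Γ(Y, ⊤)) z.1.1)).eval z.1.2 /
    ((Pst.g.map (chi (eR : R →+* Γ(Y, ⊤)) z.1.1)).eval z.1.2) ^
      (Pst.exists_mul_aeval_x_g_pow_eq_aeval_x (eS.symm t)).choose_spec.choose

lemma continuous_stdΦ : Continuous (stdΦ Pst eR eS) := by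
  apply continuous_pi
  intro t
  unfold stdΦ
  exact Continuous.div ((continuous_eval_map_chi _ _).comp continuous_subtype_val)
    (((continuous_eval_map_chi _ _).comp continuous_subtype_val).pow _)
    (fun z => pow_ne_zero _ z.2.2)

lemma stdΦ_comp_stdE : stdΦ Pst eR eS ∘ stdE g Pst eR eS hcomm = evMap X := by
  funext x t
  have hspec := (Pst.exists_mul_aeval_x_g_pow_eq_aeval_x (eS.symm t)).choose_spec.choose_spec
  have h1 := congrArg (chi (eS : S →+* Γ(X, ⊤)) x) hspec
  rw [map_mul, map_pow, ← eval_map_chi g (eR : R →+* Γ(Y, ⊤)) (eS : S →+* Γ(X, ⊤)) hcomm,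
    ← eval_map_chi g (eR : R →+* Γ(Y, ⊤)) (eS : S →+* Γ(X, ⊤)) hcomm] at h1
  have hne : (Pst.g.map (chi (eR : R →+* Γ(Y, ⊤)) (Pts.map g x))).eval
      (chi (eS : S →+* Γ(X, ⊤)) x Pst.x) ≠ 0 := (stdE g Pst eR eS hcomm x).2.2
  have h2 : chi (eS : S →+* Γ(X, ⊤)) x (eS.symm t) = x.evTop t := by
    rw [chi_apply]
    congr 1
    exact eS.apply_symm_apply t
  change _ / _ = x.evTop t
  rw [← h2, eq_comm]
  exact (eq_div_iff (pow_ne_zero _ hne)).2 h1

lemma isInducing_stdE : IsInducing (stdE g Pst eR eS hcomm) :=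
  IsInducing.of_comp (continuous_stdE g Pst eR eS hcomm) (continuous_stdΦ Pst eR eS)
    (by rw [stdΦ_comp_stdE]; exact isInducing_evMap)

lemma injective_stdE : Function.Injective (stdE g Pst eR eS hcomm) :=
  Function.Injective.of_comp (f := stdΦ Pst eR eS)
    (by rw [stdΦ_comp_stdE]; exact isEmbedding_evMap.injective)

lemma surjective_stdE : Function.Surjective (stdE g Pst eR eS hcomm) := by
  rintro ⟨⟨y, a⟩, hroot, hO⟩
  let _ : Algebra R ℂ := (chi (eR : R →+* Γ(Y, ⊤)) y).toAlgebra
  have hmap : Pst.P.HasMap a := hasMap_of_root Pst.P _ a hroot hO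
  let ψ : S →ₐ[R] ℂ := (Pst.P.lift a hmap).comp Pst.equivRing.toAlgHom
  have hψx : ψ Pst.x = a := by
    change Pst.P.lift a hmap (Pst.equivRing Pst.x) = a
    rw [Pst.equivRing_x, Pst.P.lift_X]
  have hψR : ∀ r : R, ψ (algebraMap R S r) = y.evTop (eR r) := fun r => ψ.commutes r
  have hψg : ∀ t : Γ(Y, ⊤), ψ (eS.symm (g.appTop.hom t)) = y.evTop t := by
    intro t
    obtain ⟨r, rfl⟩ := eR.surjective t
    rw [hcomm, eS.symm_apply_apply, hψR]
  let x : Pts X := ptsOfHom ((ψ : S →+* ℂ).comp (eS.symm : Γ(X, ⊤) →+* S)) (by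
    intro c
    rw [← appTop_strHom g c]
    exact (hψg (strHom Y c)).trans (evTop_strHom y c))
  have hx : ∀ t : Γ(X, ⊤), x.evTop t = ψ (eS.symm t) := fun t => ptsOfHom_evTop _ _ t
  refine ⟨x, Subtype.ext (Prod.ext ?_ ?_)⟩
  · change Pts.map g x = y
    apply pts_ext_of_isAffine
    intro t
    rw [evTop_map, hx]
    exact hψg t
  · change x.evTop (eS Pst.x) = a
    rw [hx, eS.symm_apply_apply, hψx]

/-- The homeomorphism from the complex points of `X` to the simple root locus. -/
def stdHomeo : Pts X ≃ₜ StdLocus Pst eR :=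
  (Equiv.ofBijective _ ⟨injective_stdE g Pst eR eS hcomm,
    surjective_stdE g Pst eR eS hcomm⟩).toHomeomorphOfIsInducing
    (isInducing_stdE g Pst eR eS hcomm)

include Pst eR eS hcomm in
/-- Affine standard étale case: the map on complex points is a local homeomorphism. -/
theorem isLocalHomeomorph_map_of_standardEtale : IsLocalHomeomorph (Pts.map g) :=
  (isLocalHomeomorph_stdLocus Pst eR).comp (stdHomeo g Pst eR eS hcomm).isLocalHomeomorph

end main

end

end Groth.Agent.H21
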