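import Groth.Prelude.Def_FEt
import Mathlib.AlgebraicGeometry.Morphisms.ClosedImmersion
import Mathlib.AlgebraicGeometry.Morphisms.UniversallyOpen
import Mathlib.AlgebraicGeometry.Morphisms.Proper
import Mathlib.AlgebraicGeometry.Morphisms.Flat
import Mathlib.AlgebraicGeometry.PullbackCarrier

/-!
# Clopen subsets as finite étale covers
-/

set_option autoImplicit false
universe u

open CategoryTheory CategoryTheory.Limits AlgebraicGeometry

namespace Groth.Agent.H21.FEtClopen

/-- the range of the structure morphism of a finite étale cover is clopen -/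
lemma isClopen_range_hom {Y : Scheme.{u}} (E : FEt.Cat Y) :
    IsClopen (Set.range (E.hom : E.left ⟶ Y)) := by
  have hE : IsFinite E.hom ∧ Etale E.hom := E.prop
  have : IsFinite E.hom := hE.1
  have : Etale E.hom := hE.2
  exact ⟨E.hom.isClosedMap.isClosed_range, E.hom.isOpenMap.isOpen_range⟩

/-- isomorphic covers have the same image -/
lemma range_hom_eq_of_iso {Y : Scheme.{u}} {E E' : FEt.Cat Y} (e : E ≅ E') :
    Set.range (E.hom : E.left ⟶ Y) = Set.range (E'.hom : E'.left ⟶ Y) := by
  apply subset_antisymm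
  · rintro _ ⟨x, rfl⟩
    refine ⟨e.hom.left x, ?_⟩
    rw [← Scheme.Hom.comp_apply, MorphismProperty.Over.w]
  · rintro _ ⟨x, rfl⟩
    refine ⟨e.inv.left x, ?_⟩
    rw [← Scheme.Hom.comp_apply, MorphismProperty.Over.w]

/-- the image of a restricted cover is the preimage of the image -/
lemma range_restrict_hom {X Y : Scheme.{u}} (f : X ⟶ Y) (E : FEt.Cat Y) :
    Set.range (((FEt.restrict f).obj E).hom : ((FEt.restrict f).obj E).left ⟶ X) =
      f ⁻¹' Set.range (E.hom : E.left ⟶ Y) :=
  Scheme.Pullback.range_snd E.hom f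

/-- the finite étale cover given by a clopen subset -/
noncomputable def clopenObj {Y : Scheme.{u}} (U : Y.Opens) (hU : IsClosed (U : Set Y)) :
    FEt.Cat Y :=
  MorphismProperty.Over.mk ⊤ U.ι (by
    have : IsClosedImmersion U.ι :=
      IsClosedImmersion.of_isPreimmersion _ (by rw [Scheme.Opens.range_ι]; exact hU)
    exact ⟨inferInstance, inferInstance⟩)

@[simp]
lemma clopenObj_hom {Y : Scheme.{u}} (U : Y.Opens) (hU : IsClosed (U : Set Y)) :
    (clopenObj U hU).hom = U.ι := rfl

lemma range_clopenObj_hom {Y : Scheme.{u}} (U : Y.Opens) (hU : IsClosed (U : Set Y)) :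
    Set.range ((clopenObj U hU).hom : (clopenObj U hU).left ⟶ Y) = (U : Set Y) :=
  Scheme.Opens.range_ι U

instance {Y : Scheme.{u}} (U : Y.Opens) (hU : IsClosed (U : Set Y)) :
    IsOpenImmersion (clopenObj U hU).hom :=
  inferInstanceAs (IsOpenImmersion U.ι)

instance {X Y : Scheme.{u}} (f : X ⟶ Y) (E : FEt.Cat Y) [IsOpenImmersion E.hom] :
    IsOpenImmersion ((FEt.restrict f).obj E).hom :=
  inferInstanceAs (IsOpenImmersion (pullback.snd E.hom f))

/-- two covers whose structure maps are open immersions with the same image are isomorphic -/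
lemma nonempty_iso_of_isOpenImmersion {Y : Scheme.{u}} (E E' : FEt.Cat Y)
    [IsOpenImmersion E.hom] [IsOpenImmersion E'.hom]
    (h : Set.range (E.hom : E.left ⟶ Y) = Set.range (E'.hom : E'.left ⟶ Y)) :
    Nonempty (E ≅ E') :=
  ⟨MorphismProperty.Over.isoMk (IsOpenImmersion.isoOfRangeEq E.hom E'.hom h)
    (IsOpenImmersion.isoOfRangeEq_hom_fac E.hom E'.hom h)⟩

/-- if `FEt.restrict f` is full and faithful, taking preimages of clopen sets is injective -/
lemma clopen_preimage_injective {X Y : Scheme.{u}} (f : X ⟶ Y) [(FEt.restrict f).Full]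
    [(FEt.restrict f).Faithful] {U U' : Set Y} (hU : IsClopen U) (hU' : IsClopen U')
    (h : f ⁻¹' U = f ⁻¹' U') : U = U' := by
  let V : Y.Opens := ⟨U, hU.isOpen⟩
  let V' : Y.Opens := ⟨U', hU'.isOpen⟩
  have hV : IsClosed (V : Set Y) := hU.isClosed
  have hV' : IsClosed (V' : Set Y) := hU'.isClosed
  have hr : Set.range (((FEt.restrict f).obj (clopenObj V hV)).hom :
        ((FEt.restrict f).obj (clopenObj V hV)).left ⟶ X) =
      Set.range (((FEt.restrict f).obj (clopenObj V' hV')).hom :
        ((FEt.restrict f).obj (clopenObj V' hV')).left ⟶ X) := by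
    rw [range_restrict_hom, range_restrict_hom, range_clopenObj_hom, range_clopenObj_hom]
    exact h
  obtain ⟨e⟩ := nonempty_iso_of_isOpenImmersion _ _ hr
  have := range_hom_eq_of_iso ((FEt.restrict f).preimageIso e)
  rw [range_clopenObj_hom, range_clopenObj_hom] at this
  exact this

/-- if `FEt.restrict f` is essentially surjective, every clopen subset of the source is the
preimage of a clopen subset of the target -/
lemma exists_clopen_preimage_eq {X Y : Scheme.{u}} (f : X ⟶ Y) [(FEt.restrict f).EssSurj]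
    {U' : Set X} (hU' : IsClopen U') : ∃ U : Set Y, IsClopen U ∧ f ⁻¹' U = U' := by
  let V' : X.Opens := ⟨U', hU'.isOpen⟩
  have hV' : IsClosed (V' : Set X) := hU'.isClosed
  let E := (FEt.restrict f).objPreimage (clopenObj V' hV')
  have e : (FEt.restrict f).obj E ≅ clopenObj V' hV' := (FEt.restrict f).objObjPreimageIso _
  refine ⟨Set.range (E.hom : E.left ⟶ Y), isClopen_range_hom E, ?_⟩
  rw [← range_restrict_hom, range_hom_eq_of_iso e, range_clopenObj_hom]
  rfl

end Groth.Agent.H21.FEtClopen
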