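import Groth.Agent.H21.FEtNormal2
import Groth.Agent.H20.EtaleNormal
import Groth.Agent.H2.FEtFaithful
import Groth.Prelude.Def_FEt
import Groth.Prelude.Def_Pi1

/-!
# Extending morphisms of finite étale covers of a normal integral scheme from the generic point
-/

set_option autoImplicit false
universe u
open CategoryTheory CategoryTheory.Limits AlgebraicGeometry TopologicalSpace

namespace Groth.Agent.H21.FEtFull

open Groth.Agent.H21.FEtNormal

variable {X : Scheme.{u}}

set_option backward.isDefEq.respectTransparency.types false in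
/-- The canonical morphism from the spectrum of the function field has image the generic point. -/
theorem fromSpecStalk_genericPoint_apply [IsIntegral X]
    (z : ↥(Spec (X.presheaf.stalk (genericPoint X)))) :
    (X.fromSpecStalk (genericPoint X)) z = genericPoint X := by
  have hfield : IsField (X.presheaf.stalk (genericPoint X)) :=
    isField_stalk_of_closure_mem_irreducibleComponents X _
      (by simp [irreducibleComponents_eq_singleton])
  let _ : Field (X.presheaf.stalk (genericPoint X)) := hfield.toField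
  have : z = IsLocalRing.closedPoint (X.presheaf.stalk (genericPoint X)) :=
    Subsingleton.elim (α := PrimeSpectrum (X.presheaf.stalk (genericPoint X))) _ _
  rw [this, Scheme.fromSpecStalk_closedPoint]

set_option backward.isDefEq.respectTransparency.types false in
set_option maxHeartbeats 800000 in
/-- Extension of a morphism defined on the generic fibre. -/
theorem exists_extension [IsIntegral X] (hX : Pi1.IsNormalScheme X) {X' : Scheme.{u}}
    [Nonempty X'] (j : X' ⟶ X) [Mono j] (hjη : ∀ z, j z = genericPoint X)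
    {Y₁ Y₂ : Scheme.{u}} (g₁ : Y₁ ⟶ X) (g₂ : Y₂ ⟶ X) [IsFinite g₁] [Etale g₁] [IsFinite g₂]
    [Etale g₂] (ψ : pullback g₁ j ⟶ Y₂) (hψ : ψ ≫ g₂ = pullback.fst g₁ j ≫ g₁) :
    ∃ φ : Y₁ ⟶ Y₂, φ ≫ g₂ = g₁ ∧ pullback.fst g₁ j ≫ φ = ψ := by
  let h : pullback g₁ g₂ ⟶ X := pullback.fst g₁ g₂ ≫ g₁
  have hWdom : ∀ w : ↥(pullback g₁ g₂), IsDomain ((pullback g₁ g₂).presheaf.stalk w) := fun w =>
    (Groth.Agent.H20.isDomain_and_isIntegrallyClosed_stalk_of_etale h w (hX (h w))).1
  have hY₁dom : ∀ y : Y₁, IsDomain (Y₁.presheaf.stalk y) := fun y =>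
    (Groth.Agent.H20.isDomain_and_isIntegrallyClosed_stalk_of_etale g₁ y (hX (g₁ y))).1
  let γ' : pullback g₁ j ⟶ pullback g₁ g₂ := pullback.lift (pullback.fst g₁ j) ψ hψ.symm
  have hγ'h : γ' ≫ h = pullback.snd g₁ j ≫ j := by
    change γ' ≫ pullback.fst g₁ g₂ ≫ g₁ = _
    rw [← Category.assoc, pullback.lift_fst, pullback.condition]
  have hR : Set.range γ' ⊆ h ⁻¹' {genericPoint X} := by
    rintro _ ⟨y', rfl⟩
    change h (γ' y') = _
    rw [← Scheme.Hom.comp_apply, hγ'h, Scheme.Hom.comp_apply, hjη]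
  obtain ⟨hGclopen, hGfib⟩ := isClopen_closure_of_subset_fibre h hWdom _ hR
  let G : (pullback g₁ g₂).Opens := ⟨closure (Set.range γ'), hGclopen.2⟩
  have hGι : IsClosedImmersion G.ι := by
    apply IsClosedImmersion.of_isPreimmersion
    rw [Scheme.Opens.range_ι]
    exact hGclopen.1
  let p : (G : Scheme.{u}) ⟶ Y₁ := G.ι ≫ pullback.fst g₁ g₂
  let γ'' : pullback g₁ j ⟶ G := IsOpenImmersion.lift G.ι γ' (by
    rw [Scheme.Opens.range_ι]
    exact subset_closure)
  have hγ'' : γ'' ≫ G.ι = γ' := IsOpenImmersion.lift_fac _ _ _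
  have hγp : γ'' ≫ p = pullback.fst g₁ j := by
    simp only [p, ← Category.assoc, hγ'']
    simp only [γ', pullback.lift_fst]
  -- the base change of `p` to the generic fibre is an isomorphism
  let q := pullback.snd p (pullback.fst g₁ j)
  let σ : pullback g₁ j ⟶ pullback p (pullback.fst g₁ j) :=
    pullback.lift γ'' (𝟙 _) (by rw [hγp, Category.id_comp])
  have hσq : σ ≫ q = 𝟙 _ := pullback.lift_snd _ _ _
  have hσfst : σ ≫ pullback.fst p (pullback.fst g₁ j) = γ'' := pullback.lift_fst _ _ _
  have hσet : Etale σ :=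
    MorphismProperty.of_postcomp (W := @Etale) (W' := @Etale) σ q inferInstance
      (by rw [hσq]; infer_instance)
  have hσmono : Mono σ := mono_of_mono_fac hσq
  have hσopen : IsOpenImmersion σ := IsOpenImmersion.of_flat_of_mono σ
  have hσsurj : Function.Surjective σ := by
    intro z
    refine ⟨q z, ?_⟩
    apply (pullback.fst p (pullback.fst g₁ j)).injective
    rw [← Scheme.Hom.comp_apply, hσfst]
    have hgz : G.ι (pullback.fst p (pullback.fst g₁ j) z) ∈
        closure (Set.range γ') ∩ h ⁻¹' {genericPoint X} := by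
      refine ⟨(pullback.fst p (pullback.fst g₁ j) z).2, ?_⟩
      change h (G.ι (pullback.fst p (pullback.fst g₁ j) z)) = _
      have e : pullback.fst p (pullback.fst g₁ j) ≫ G.ι ≫ h =
          q ≫ pullback.snd g₁ j ≫ j := by
        change pullback.fst p (pullback.fst g₁ j) ≫ G.ι ≫ pullback.fst g₁ g₂ ≫ g₁ = _
        have := pullback.condition (f := p) (g := pullback.fst g₁ j)
        simp only [p] at this
        rw [reassoc_of% this, pullback.condition]
      rw [← Scheme.Hom.comp_apply, ← Scheme.Hom.comp_apply, e, Scheme.Hom.comp_apply,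
        Scheme.Hom.comp_apply, hjη]
    rw [hGfib] at hgz
    obtain ⟨y₁, hy₁⟩ := hgz
    have e1 : γ'' y₁ = pullback.fst p (pullback.fst g₁ j) z := by
      apply G.ι.injective
      rw [← Scheme.Hom.comp_apply, hγ'', hy₁]
    have e2 : pullback.fst g₁ j y₁ = pullback.fst g₁ j (q z) := by
      have a1 : (γ'' ≫ p) y₁ = pullback.fst g₁ j y₁ := by rw [hγp]
      have a2 : (pullback.fst p (pullback.fst g₁ j) ≫ p) z = (q ≫ pullback.fst g₁ j) z := by
        rw [pullback.condition]
      rw [← a1, Scheme.Hom.comp_apply, e1, ← Scheme.Hom.comp_apply, a2, Scheme.Hom.comp_apply]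
    have e3 : y₁ = q z := (pullback.fst g₁ j).injective e2
    rw [← e3, e1]
  have hσiso : IsIso σ := (isIso_iff_isOpenImmersion_and_surjective σ).mpr ⟨hσopen, ⟨hσsurj⟩⟩
  have hqiso : IsIso q := by
    have : q = inv σ := by rw [← cancel_epi σ, hσq, IsIso.hom_inv_id]
    rw [this]
    infer_instance
  -- the degree of `p` is one
  have hp1 : p.finrank = 1 := by
    ext y
    have hlc := p.isLocallyConstant_finrank
    have e1 : p.finrank (beta y) = p.finrank y := by
      have hopen : IsOpen (p.finrank ⁻¹' {p.finrank y}) := hlc.isOpen_fiber _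
      exact (beta_specializes y).mem_open hopen rfl
    obtain ⟨y', hy'⟩ : ∃ y', pullback.fst g₁ j y' = beta y := by
      obtain ⟨z₀⟩ := ‹Nonempty X'›
      obtain ⟨w, hw1, -⟩ := Scheme.Pullback.exists_preimage_pullback (f := g₁) (g := j) (beta y) z₀
        (by rw [map_beta_eq_genericPoint g₁ hY₁dom, hjη])
      exact ⟨w, hw1⟩
    rw [Pi.one_apply, ← e1, ← hy', ← Scheme.Hom.finrank_pullback_snd p (pullback.fst g₁ j) y']
    change q.finrank y' = 1
    rw [Scheme.Hom.finrank_eq_one_of_isIso]
    rfl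
  have hpiso : IsIso p := (Scheme.Hom.isIso_iff_finrank_eq p).mpr hp1
  refine ⟨inv p ≫ G.ι ≫ pullback.snd g₁ g₂, ?_, ?_⟩
  · rw [Category.assoc, Category.assoc, ← pullback.condition, IsIso.inv_comp_eq]
    exact (Category.assoc _ _ _).symm
  · rw [← hγp, Category.assoc, IsIso.hom_inv_id_assoc, ← Category.assoc, hγ'']
    exact pullback.lift_snd _ _ _

theorem comp_fst_comp {X X' Y₁ Y₂ : Scheme.{u}} (j : X' ⟶ X) (g₁ : Y₁ ⟶ X) (g₂ : Y₂ ⟶ X)
    (a : pullback g₁ j ⟶ pullback g₂ j) (hw : a ≫ pullback.snd g₂ j = pullback.snd g₁ j) :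
    (a ≫ pullback.fst g₂ j) ≫ g₂ = pullback.fst g₁ j ≫ g₁ := by
  rw [Category.assoc, pullback.condition, ← Category.assoc, hw, pullback.condition]

set_option backward.isDefEq.respectTransparency.types false in
/-- Restriction of finite étale covers of a normal integral scheme to (a monomorphism onto) the
generic point is full. -/
theorem restrict_full [IsIntegral X] (hX : Pi1.IsNormalScheme X) {X' : Scheme.{u}}
    [Nonempty X'] (j : X' ⟶ X) [Mono j] (hjη : ∀ z, j z = genericPoint X) :
    (FEt.restrict j).Full := by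
  refine ⟨fun {Y₁ Y₂} φ' => ?_⟩
  have : IsFinite Y₁.hom := Y₁.prop.1
  have : Etale Y₁.hom := Y₁.prop.2
  have : IsFinite Y₂.hom := Y₂.prop.1
  have : Etale Y₂.hom := Y₂.prop.2
  have hw : φ'.left ≫ pullback.snd Y₂.hom j = pullback.snd Y₁.hom j :=
    MorphismProperty.Over.w φ'
  let ψ : pullback Y₁.hom j ⟶ Y₂.left := φ'.left ≫ pullback.fst Y₂.hom j
  have hψ : ψ ≫ Y₂.hom = pullback.fst Y₁.hom j ≫ Y₁.hom := by
    exact comp_fst_comp j Y₁.hom Y₂.hom φ'.left hw
  obtain ⟨φ, hφ1, hφ2⟩ := exists_extension hX j hjη Y₁.hom Y₂.hom ψ hψ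
  refine ⟨MorphismProperty.Over.homMk φ hφ1 trivial, ?_⟩
  apply MorphismProperty.Over.Hom.ext
  apply pullback.hom_ext
  · change pullback.lift _ _ _ ≫ _ = _
    rw [pullback.lift_fst]
    exact hφ2
  · change pullback.lift _ _ _ ≫ _ = _
    rw [pullback.lift_snd]
    exact hw.symm

set_option backward.isDefEq.respectTransparency.types false in
/-- Restriction of finite étale covers of an integral scheme to the generic point is faithful. -/
theorem restrict_faithful [IsIntegral X] {X' : Scheme.{u}}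
    [Nonempty X'] (j : X' ⟶ X) (hjη : ∀ z, j z = genericPoint X) :
    (FEt.restrict j).Faithful := by
  apply Groth.Agent.H2.FEtFaithful.restrict_faithful_of_denseRange
  obtain ⟨z₀⟩ := ‹Nonempty X'›
  have h1 : closure ({genericPoint X} : Set X) = Set.univ := (genericPoint_spec X).def
  have h2 : ({genericPoint X} : Set X) ⊆ Set.range j := by
    rintro _ rfl
    exact ⟨z₀, hjη z₀⟩
  rw [DenseRange, dense_iff_closure_eq]
  exact Set.eq_univ_of_univ_subset (h1 ▸ closure_mono h2)

end Groth.Agent.H21.FEtFull
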