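import Groth.Agent.H21.FEtTau
import Mathlib.FieldTheory.SeparableClosure
import Mathlib.FieldTheory.IsSepClosed

/-!
# Geometric fibres of split covers (helper21)
-/

set_option autoImplicit false
set_option linter.unusedSectionVars false
universe u
open CategoryTheory CategoryTheory.Limits AlgebraicGeometry Opposite
open Groth.Agent.H21.FEtPush Groth.Agent.H21.FEtSplit

namespace Groth.Agent.H21.FEtGeomFib

section Sch

variable {X Y A A' : Scheme.{u}} (f : X ⟶ Y) (a : A ⟶ Y) (a' : A' ⟶ Y) (k : A' ⟶ A)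
  (w : k ≫ a = a') {n : ℕ} (σ : Fin n → (A ⟶ pullback a f))
  (hopen : ∀ i, IsOpenImmersion (σ i))
  (hσ : ∀ i, σ i ≫ pullback.fst a f = 𝟙 A)
  (hdisj : ∀ i l, i ≠ l → Disjoint (Set.range (σ i)) (Set.range (σ l)))
  (hcov : (⋃ i, Set.range (σ i)) = Set.univ)

include w hopen hσ hdisj hcov in
/-- a base change of a split morphism is split -/
theorem isSplit_base_change : IsSplit n (pullback.fst a' f) := by
  refine ⟨fun i => sig f a a' k w (σ i) (hσ i), fun i => sig_fst f a a' k w (σ i) (hσ i),
    fun i => ?_, fun i l hil => ?_, ?_⟩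
  · have := hopen i
    exact MorphismProperty.of_isPullback (P := @IsOpenImmersion)
      (isPullback_sig f a a' k w (σ i) (hσ i)) inferInstance
  · rw [range_sig, range_sig]
    exact (hdisj i l hil).preimage _
  · have : ∀ i, Set.range (sig f a a' k w (σ i) (hσ i)) =
        (kap f a a' k w) ⁻¹' Set.range (σ i) := fun i => range_sig f a a' k w (σ i) (hσ i)
    simp_rw [this]
    rw [← Set.preimage_iUnion, hcov, Set.preimage_univ]

/-- the number of points of a split cover of a one-point scheme -/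
theorem card_of_isSplit {Z P : Scheme.{u}} [Unique P] {n : ℕ} {p : Z ⟶ P} (hp : IsSplit n p) :
    Nat.card Z = n := by
  obtain ⟨σ, -, -, hdisj, hcov⟩ := hp
  let φ : Fin n → Z := fun i => σ i default
  have hbij : Function.Bijective φ := by
    constructor
    · intro i l hil
      by_contra hne
      exact Set.disjoint_left.1 (hdisj i l hne) ⟨default, rfl⟩ ⟨default, hil.symm⟩
    · intro z
      have hz : z ∈ ⋃ i, Set.range (σ i) := by rw [hcov]; trivial
      obtain ⟨i, w, hw⟩ := Set.mem_iUnion.1 hz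
      refine ⟨i, ?_⟩
      rw [← hw, Unique.eq_default w]
  rw [← Nat.card_congr (Equiv.ofBijective φ hbij), Nat.card_fin]

end Sch

section Et

variable {U X : Scheme.{u}} (j : U ⟶ X) (d : ℕ)
  (hd : ∀ (Ω : Type u) [Field Ω] [IsSepClosed Ω] (ξ : Spec (CommRingCat.of Ω) ⟶ X),
    Nat.card ↥(pullback j ξ) = d)

include hd in
/-- if all geometric fibres of `j` have `d` points, every splitting of `j` over a nonempty étale
`X`-scheme has `d` sheets -/
theorem sheets_eq {A : Scheme.{u}} (a : A ⟶ X) (v : A) {n : ℕ}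
    (σ : Fin n → (A ⟶ pullback a j))
    (hopen : ∀ i, IsOpenImmersion (σ i))
    (hσ : ∀ i, σ i ≫ pullback.fst a j = 𝟙 A)
    (hdisj : ∀ i l, i ≠ l → Disjoint (Set.range (σ i)) (Set.range (σ l)))
    (hcov : (⋃ i, Set.range (σ i)) = Set.univ) : n = d := by
  let K := A.residueField v
  let Ω := SeparableClosure K
  let ι : Spec (CommRingCat.of Ω) ⟶ A :=
    Spec.map (CommRingCat.ofHom (algebraMap K Ω)) ≫ A.fromSpecResidueField v
  have hsplit := isSplit_base_change j a (ι ≫ a) ι rfl σ hopen hσ hdisj hcov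
  have h1 : Nat.card ↥(pullback (ι ≫ a) j) = n := card_of_isSplit hsplit
  have h2 := hd Ω (ι ≫ a)
  have e := (pullbackSymmetry j (ι ≫ a)).hom.homeomorph.toEquiv
  rw [Nat.card_congr e] at h2
  exact h1.symm.trans h2

end Et

end Groth.Agent.H21.FEtGeomFib
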