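import Groth.Prelude.Def_FEt
import Groth.Agent.H21.GeomConn
import Groth.Agent.H2.FEtFaithful
import Mathlib.AlgebraicGeometry.Morphisms.FlatRank
import Mathlib.AlgebraicGeometry.Morphisms.FlatMono
import Mathlib.AlgebraicGeometry.Morphisms.Etale
import Mathlib.AlgebraicGeometry.Morphisms.Separated

/-!
# Pulling back finite étale `k`-schemes to a geometrically connected `k`-scheme is fully faithful
-/

set_option autoImplicit false
universe u
open CategoryTheory CategoryTheory.Limits AlgebraicGeometry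

namespace Groth.Agent.H21.FEtGeomFull

open Groth.Agent.H21.GeomConn

variable {k : Type u} [Field k]

/-- scheme-level form of fullness -/
theorem exists_descent {X A B : Scheme.{u}} (f : X ⟶ Spec (CommRingCat.of k))
    [ConnectedSpace ↥(pullback f (ι k))]
    (α : A ⟶ Spec (CommRingCat.of k)) (β : B ⟶ Spec (CommRingCat.of k))
    [IsFinite α] [Etale α] [IsFinite β] [Etale β]
    (φ₀ : pullback α f ⟶ pullback β f)
    (hφ₀ : φ₀ ≫ pullback.snd β f = pullback.snd α f) :
    ∃ ψ₀ : A ⟶ B, ψ₀ ≫ β = α ∧ pullback.fst α f ≫ ψ₀ = φ₀ ≫ pullback.fst β f := by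
  -- notation
  let pV : pullback α f ⟶ A := pullback.fst α f
  let sV : pullback α f ⟶ X := pullback.snd α f
  let φ' : pullback α f ⟶ B := φ₀ ≫ pullback.fst β f
  have hcond : pV ≫ α = φ' ≫ β := by
    simp only [pV, φ']
    rw [pullback.condition, Category.assoc, pullback.condition, ← Category.assoc, hφ₀]
  let q₁ : pullback α β ⟶ A := pullback.fst α β
  let q₂ : pullback α β ⟶ B := pullback.snd α β
  let γ : pullback α f ⟶ pullback α β := pullback.lift pV φ' hcond
  have hγ1 : γ ≫ q₁ = pV := pullback.lift_fst _ _ _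
  have hγ2 : γ ≫ q₂ = φ' := pullback.lift_snd _ _ _
  have : DiscreteTopology ↥(pullback α β) := discreteTopology_of_isFinite k (q₁ ≫ α)
  let Z : (pullback α β).Opens := ⟨Set.range γ, isOpen_discrete _⟩
  have hZcl : IsClosedImmersion Z.ι :=
    IsClosedImmersion.of_isPreimmersion _ (isClosed_discrete _)
  let γZ : pullback α f ⟶ (Z : Scheme.{u}) :=
    IsOpenImmersion.lift Z.ι γ (by rw [Scheme.Opens.range_ι]; exact subset_rfl)
  have hγZ : γZ ≫ Z.ι = γ := IsOpenImmersion.lift_fac _ _ _
  let g : (Z : Scheme.{u}) ⟶ A := Z.ι ≫ q₁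
  have hg : γZ ≫ g = pV := by
    simp only [g]
    rw [← Category.assoc, hγZ, hγ1]
  -- the pullback `T = Z ×_A A_X`
  let t₁ : pullback g pV ⟶ (Z : Scheme.{u}) := pullback.fst g pV
  let t₂ : pullback g pV ⟶ pullback α f := pullback.snd g pV
  let σ : pullback α f ⟶ pullback g pV :=
    pullback.lift γZ (𝟙 _) (by rw [hg, Category.id_comp])
  have hσ1 : σ ≫ t₁ = γZ := pullback.lift_fst _ _ _
  have hσ2 : σ ≫ t₂ = 𝟙 _ := pullback.lift_snd _ _ _
  -- `σ` is a clopen immersion
  have hσet : Etale σ := by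
    refine MorphismProperty.of_postcomp (W := @Etale) (W' := @Etale) σ t₂ inferInstance ?_
    rw [hσ2]
    infer_instance
  have hσmono : Mono σ := mono_of_mono_fac hσ2
  have hσopen : IsOpenImmersion σ := IsOpenImmersion.of_flat_of_mono σ
  have hσclosed : IsClosedImmersion σ := by
    have : IsClosedImmersion (σ ≫ t₂) := by rw [hσ2]; infer_instance
    exact IsClosedImmersion.of_comp σ t₂
  have hσclopen : IsClopen (Set.range σ) :=
    ⟨σ.isClosedEmbedding.isClosed_range, σ.isOpenEmbedding.isOpen_range⟩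
  -- `σ` is surjective by geometric connectedness
  have sqT : IsPullback t₁ (t₂ ≫ sV) (g ≫ α) f :=
    (IsPullback.of_hasPullback g pV).paste_vert (IsPullback.of_hasPullback α f)
  have hσsurj : Function.Surjective σ := by
    intro τ
    have hpre := isPreconnected_fibre f (g ≫ α) sqT (t₁ τ)
    obtain ⟨v, hv⟩ : ∃ v, γ v = (t₁ τ).1 := (t₁ τ).2
    have hv' : γZ v = t₁ τ := by
      apply Z.ι.injective
      rw [← Scheme.Hom.comp_apply, hγZ, hv]
      rfl
    have hne : ((t₁ ⁻¹' {t₁ τ}) ∩ Set.range σ).Nonempty := by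
      refine ⟨σ v, ?_, ⟨v, rfl⟩⟩
      simp only [Set.mem_preimage, Set.mem_singleton_iff]
      rw [← Scheme.Hom.comp_apply, hσ1, hv']
    exact hpre.subset_isClopen hσclopen hne rfl
  have hσiso : IsIso σ := by
    rw [isIso_iff_isOpenImmersion_and_epi_base]
    refine ⟨hσopen, ?_⟩
    rw [TopCat.epi_iff_surjective]
    exact hσsurj
  have ht₂iso : IsIso t₂ := by
    have : IsIso (σ ≫ t₂) := by rw [hσ2]; infer_instance
    exact IsIso.of_isIso_comp_left σ t₂
  -- hence `g` has rank one
  have hXne : Nonempty X := by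
    obtain ⟨w⟩ := (inferInstance : Nonempty ↥(pullback f (ι k)))
    exact ⟨pullback.fst f (ι k) w⟩
  obtain ⟨x₀⟩ := hXne
  have hrank : g.finrank = 1 := by
    ext v
    obtain ⟨t, ht, -⟩ := Scheme.Pullback.exists_preimage_pullback (f := α) (g := f) v x₀
      (Subsingleton.elim _ _)
    have h1 : (pullback.snd g pV).finrank t = g.finrank (pV t) :=
      Scheme.Hom.finrank_pullback_snd g pV t
    have h2 : (pullback.snd g pV).finrank = 1 := Scheme.Hom.finrank_eq_one_of_isIso t₂
    rw [h2] at h1
    have : pV t = v := ht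
    rw [this] at h1
    exact h1.symm
  have hgiso : IsIso g := (Scheme.Hom.isIso_iff_finrank_eq g).mpr hrank
  refine ⟨inv g ≫ Z.ι ≫ q₂, ?_, ?_⟩
  · rw [Category.assoc, Category.assoc, IsIso.inv_comp_eq]
    simp only [g, q₁, q₂]
    rw [Category.assoc, pullback.condition]
  · have : pullback.fst α f = γZ ≫ g := hg.symm
    rw [this, Category.assoc, IsIso.hom_inv_id_assoc, ← Category.assoc, hγZ, hγ2]

/-- pulling back finite étale `k`-schemes to a geometrically connected `k`-scheme is full -/
theorem restrict_full {X : Scheme.{u}} (f : X ⟶ Spec (CommRingCat.of k))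
    [ConnectedSpace ↥(pullback f (ι k))] : (FEt.restrict f).Full := by
  refine ⟨fun {V W} φ => ?_⟩
  have hV : IsFinite V.hom ∧ Etale V.hom := V.prop
  have hW : IsFinite W.hom ∧ Etale W.hom := W.prop
  have : IsFinite V.hom := hV.1
  have : Etale V.hom := hV.2
  have : IsFinite W.hom := hW.1
  have : Etale W.hom := hW.2
  have hφ : φ.left ≫ pullback.snd W.hom f = pullback.snd V.hom f := MorphismProperty.Over.w φ
  obtain ⟨ψ₀, hψ1, hψ2⟩ := exists_descent f V.hom W.hom φ.left hφ
  refine ⟨MorphismProperty.Over.homMk ψ₀ hψ1 trivial, ?_⟩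
  apply MorphismProperty.Over.Hom.ext
  apply pullback.hom_ext
  · have e1 : ((FEt.restrict f).map (MorphismProperty.Over.homMk ψ₀ hψ1 trivial :
        V ⟶ W)).left ≫ pullback.fst W.hom f = pullback.fst V.hom f ≫ ψ₀ :=
      pullback.lift_fst _ _ _
    exact e1.trans hψ2
  · have e2 : ((FEt.restrict f).map (MorphismProperty.Over.homMk ψ₀ hψ1 trivial :
        V ⟶ W)).left ≫ pullback.snd W.hom f = pullback.snd V.hom f :=
      MorphismProperty.Over.w _
    exact e2.trans hφ.symm

/-- pulling back finite étale `k`-schemes to a nonempty `k`-scheme is faithful -/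
theorem restrict_faithful {X : Scheme.{u}} (f : X ⟶ Spec (CommRingCat.of k)) [Nonempty X] :
    (FEt.restrict f).Faithful := by
  apply Groth.Agent.H2.FEtFaithful.restrict_faithful_of_denseRange
  obtain ⟨x⟩ := (inferInstance : Nonempty X)
  intro y
  have : y = f x := Subsingleton.elim _ _
  rw [this]
  exact subset_closure ⟨x, rfl⟩

end Groth.Agent.H21.FEtGeomFull
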