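import Mathlib

/-!
# Finite flat connected covers with domain stalks over an integral scheme are integral
-/

set_option autoImplicit false
universe u
open CategoryTheory CategoryTheory.Limits AlgebraicGeometry TopologicalSpace

namespace Groth.Agent.H21.FEtNormal

variable {X Y : Scheme.{u}}

/-- The image in `Y` of the zero ideal of the (domain) stalk at `y`. -/
noncomputable def beta (y : Y) [IsDomain (Y.presheaf.stalk y)] : Y :=
  (Y.fromSpecStalk y) (⟨⊥, Ideal.isPrime_bot⟩ : PrimeSpectrum (Y.presheaf.stalk y))

set_option backward.isDefEq.respectTransparency.types false in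
theorem beta_specializes (y : Y) [IsDomain (Y.presheaf.stalk y)] : beta y ⤳ y := by
  have h1 : (⟨⊥, Ideal.isPrime_bot⟩ : PrimeSpectrum (Y.presheaf.stalk y)) ⤳
      IsLocalRing.closedPoint (Y.presheaf.stalk y) := by
    rw [← PrimeSpectrum.le_iff_specializes]
    exact bot_le
  have h2 := h1.map (Y.fromSpecStalk y).continuous
  rw [Scheme.fromSpecStalk_closedPoint] at h2
  exact h2

set_option backward.isDefEq.respectTransparency.types false in
/-- Any point specializing to `y` is a specialization of `beta y`. -/
theorem beta_specializes_of_specializes (y : Y) [IsDomain (Y.presheaf.stalk y)] {t : Y}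
    (ht : t ⤳ y) : beta y ⤳ t := by
  have : t ∈ Set.range (Y.fromSpecStalk y) := by
    rw [Scheme.range_fromSpecStalk]
    exact ht
  obtain ⟨ζ, rfl⟩ := this
  have h1 : (⟨⊥, Ideal.isPrime_bot⟩ : PrimeSpectrum (Y.presheaf.stalk y)) ⤳ ζ := by
    rw [← PrimeSpectrum.le_iff_specializes]
    exact bot_le
  exact h1.map (Y.fromSpecStalk y).continuous

set_option backward.isDefEq.respectTransparency.types false in
/-- For an integral scheme, `beta x` is the generic point. -/
theorem beta_eq_genericPoint [IsIntegral X] (x : X) [IsDomain (X.presheaf.stalk x)] :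
    beta x = genericPoint X := by
  have h1 : genericPoint X ⤳ beta x := (genericPoint_spec X).specializes (Set.mem_univ _)
  have h2 : beta x ⤳ genericPoint X :=
    beta_specializes_of_specializes x (h1.trans (beta_specializes x))
  exact (h2.antisymm h1).eq

set_option backward.isDefEq.respectTransparency.types false in
/-- A flat morphism maps `beta y` to `beta (g y)`. -/
theorem map_beta (g : Y ⟶ X) [Flat g] (y : Y) [IsDomain (Y.presheaf.stalk y)]
    [IsDomain (X.presheaf.stalk (g y))] : g (beta y) = beta (g y) := by
  have hflat : (g.stalkMap y).hom.Flat := Flat.stalkMap g y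
  have hinj : Function.Injective (g.stalkMap y).hom := by
    algebraize [(g.stalkMap y).hom]
    have hloc : IsLocalHom (algebraMap (X.presheaf.stalk (g y)) (Y.presheaf.stalk y)) :=
      inferInstanceAs <| IsLocalHom (g.stalkMap y).hom
    have : Module.FaithfullyFlat (X.presheaf.stalk (g y)) (Y.presheaf.stalk y) :=
      Module.FaithfullyFlat.of_flat_of_isLocalHom
    exact FaithfulSMul.algebraMap_injective _ _
  unfold beta
  rw [← Scheme.Hom.comp_apply, ← Scheme.SpecMap_stalkMap_fromSpecStalk, Scheme.Hom.comp_apply]
  congr 1
  apply PrimeSpectrum.ext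
  change Ideal.comap (g.stalkMap y).hom ⊥ = ⊥
  rw [← RingHom.ker_eq_comap_bot]
  exact (RingHom.injective_iff_ker_eq_bot _).mp hinj

set_option backward.isDefEq.respectTransparency.types false in
/-- A connected scheme, finite and flat over an integral scheme, all of whose stalks are domains,
is integral. -/
theorem isIntegral_of_finite_flat (g : Y ⟶ X) [IsIntegral X] [IsFinite g] [Flat g]
    (hY : ∀ y : Y, IsDomain (Y.presheaf.stalk y)) [ConnectedSpace Y] : IsIntegral Y := by
  classical
  have hT : (g ⁻¹' {genericPoint X}).Finite := g.finite_preimage_singleton _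
  have hdisc : DiscreteTopology (g ⁻¹' {genericPoint X}) :=
    (g.isDiscrete_preimage_singleton _).to_subtype
  have hβT : ∀ y, beta y ∈ g ⁻¹' {genericPoint X} := fun y => by
    rw [Set.mem_preimage, map_beta, beta_eq_genericPoint]
    rfl
  have huniq : ∀ y t, t ∈ g ⁻¹' {genericPoint X} → t ⤳ y → t = beta y := by
    intro y t htT hty
    have h1 : beta y ⤳ t := beta_specializes_of_specializes y hty
    have h2 : (⟨beta y, hβT y⟩ : g ⁻¹' {genericPoint X}) ⤳ ⟨t, htT⟩ :=
      (subtype_specializes_iff _ _).mpr h1
    exact (congrArg Subtype.val h2.eq).symm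
  have hcover : ∀ y, y ∈ closure ({beta y} : Set Y) := fun y =>
    specializes_iff_mem_closure.mp (beta_specializes y)
  have hclopen : ∀ t ∈ g ⁻¹' {genericPoint X}, IsClopen (closure ({t} : Set Y)) := by
    intro t ht
    refine ⟨isClosed_closure, ?_⟩
    have hcompl : (closure ({t} : Set Y))ᶜ =
        ⋃ t' ∈ (g ⁻¹' {genericPoint X}) \ {t}, closure ({t'} : Set Y) := by
      ext y
      simp only [Set.mem_compl_iff, Set.mem_iUnion, exists_prop]
      constructor
      · intro hy
        refine ⟨beta y, ⟨hβT y, ?_⟩, hcover y⟩
        intro hbt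
        rw [Set.mem_singleton_iff] at hbt
        exact hy (hbt ▸ hcover y)
      · rintro ⟨t', ⟨ht'T, ht'ne⟩, hy⟩ hyt
        have e1 := huniq y t' ht'T (specializes_iff_mem_closure.mpr hy)
        have e2 := huniq y t ht (specializes_iff_mem_closure.mpr hyt)
        exact ht'ne (e1.trans e2.symm)
    rw [← isClosed_compl_iff, hcompl]
    exact (hT.subset Set.sdiff_subset).isClosed_biUnion (fun _ _ => isClosed_closure)
  obtain ⟨y₀⟩ : Nonempty Y := inferInstance
  have huniv : closure ({beta y₀} : Set Y) = Set.univ := by
    rcases isClopen_iff.mp (hclopen _ (hβT y₀)) with h | h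
    · exact absurd h (Set.Nonempty.ne_empty ⟨_, subset_closure rfl⟩)
    · exact h
  have hirr : IrreducibleSpace Y := by
    rw [irreducibleSpace_def]
    have := (isIrreducible_singleton (x := beta y₀)).closure
    rwa [huniv] at this
  have hred : IsReduced Y := isReduced_of_isReduced_stalk Y
  exact isIntegral_of_irreducibleSpace_of_isReduced Y

end Groth.Agent.H21.FEtNormal
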