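import Groth.Agent.H21.FEtNormal

/-!
# Generic fibre of finite flat covers with domain stalks over an integral scheme
-/

set_option autoImplicit false
universe u
open CategoryTheory CategoryTheory.Limits AlgebraicGeometry TopologicalSpace

namespace Groth.Agent.H21.FEtNormal

variable {X Y : Scheme.{u}}

/-- `beta y` lies over the generic point. -/
theorem map_beta_eq_genericPoint (g : Y ⟶ X) [IsIntegral X] [Flat g]
    (hY : ∀ y : Y, IsDomain (Y.presheaf.stalk y)) (y : Y) :
    g (beta y) = genericPoint X := by
  rw [map_beta, beta_eq_genericPoint]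

/-- Two points of the generic fibre of a locally quasi-finite morphism, one specializing to the
other, are equal. -/
theorem eq_of_specializes_of_mem_fibre (g : Y ⟶ X) [LocallyQuasiFinite g] (x : X) {t t' : Y}
    (ht : g t = x) (ht' : g t' = x) (h : t ⤳ t') : t = t' := by
  have hdisc : DiscreteTopology (g ⁻¹' {x}) := (g.isDiscrete_preimage_singleton x).to_subtype
  have h2 : (⟨t, ht⟩ : g ⁻¹' {x}) ⤳ ⟨t', ht'⟩ := (subtype_specializes_iff _ _).mpr h
  exact congrArg Subtype.val h2.eq

/-- A point of the generic fibre specializing to `y` is `beta y`. -/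
theorem eq_beta_of_specializes (g : Y ⟶ X) [IsIntegral X] [IsFinite g] [Flat g]
    (hY : ∀ y : Y, IsDomain (Y.presheaf.stalk y)) (y t : Y) (ht : g t = genericPoint X)
    (hty : t ⤳ y) : t = beta y :=
  (eq_of_specializes_of_mem_fibre g _ (map_beta_eq_genericPoint g hY y) ht
    (beta_specializes_of_specializes y hty)).symm

/-- The closure of a point of the generic fibre is clopen. -/
theorem isClopen_closure_singleton (g : Y ⟶ X) [IsIntegral X] [IsFinite g] [Flat g]
    (hY : ∀ y : Y, IsDomain (Y.presheaf.stalk y)) (t : Y) (ht : g t = genericPoint X) :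
    IsClopen (closure ({t} : Set Y)) := by
  classical
  have hT : (g ⁻¹' {genericPoint X}).Finite := g.finite_preimage_singleton _
  have hcover : ∀ y, y ∈ closure ({beta y} : Set Y) := fun y =>
    specializes_iff_mem_closure.mp (beta_specializes y)
  refine ⟨isClosed_closure, ?_⟩
  have hcompl : (closure ({t} : Set Y))ᶜ =
      ⋃ t' ∈ (g ⁻¹' {genericPoint X}) \ {t}, closure ({t'} : Set Y) := by
    ext y
    simp only [Set.mem_compl_iff, Set.mem_iUnion, exists_prop]
    constructor
    · intro hy
      refine ⟨beta y, ⟨map_beta_eq_genericPoint g hY y, ?_⟩, hcover y⟩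
      intro hbt
      rw [Set.mem_singleton_iff] at hbt
      exact hy (hbt ▸ hcover y)
    · rintro ⟨t', ⟨ht'T, ht'ne⟩, hy⟩ hyt
      have e1 := eq_beta_of_specializes g hY y t' ht'T (specializes_iff_mem_closure.mpr hy)
      have e2 := eq_beta_of_specializes g hY y t ht (specializes_iff_mem_closure.mpr hyt)
      exact ht'ne (e1.trans e2.symm)
  rw [← isClosed_compl_iff, hcompl]
  exact (hT.subset Set.sdiff_subset).isClosed_biUnion (fun _ _ => isClosed_closure)

/-- The closure of a subset of the generic fibre is clopen, and meets the generic fibre only in the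
subset. -/
theorem isClopen_closure_of_subset_fibre (g : Y ⟶ X) [IsIntegral X] [IsFinite g] [Flat g]
    (hY : ∀ y : Y, IsDomain (Y.presheaf.stalk y)) (R : Set Y)
    (hR : R ⊆ g ⁻¹' {genericPoint X}) :
    IsClopen (closure R) ∧ closure R ∩ g ⁻¹' {genericPoint X} = R := by
  have hT : (g ⁻¹' {genericPoint X}).Finite := g.finite_preimage_singleton _
  have hRfin : R.Finite := hT.subset hR
  have hcl : closure R = ⋃ t ∈ R, closure ({t} : Set Y) := by
    conv_lhs => rw [← Set.biUnion_of_singleton R]
    exact hRfin.closure_biUnion _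
  refine ⟨?_, ?_⟩
  · rw [hcl]
    exact hRfin.isClopen_biUnion fun t ht => isClopen_closure_singleton g hY t (hR ht)
  · apply Set.Subset.antisymm
    · rintro w ⟨hw, hwT⟩
      rw [hcl] at hw
      simp only [Set.mem_iUnion, exists_prop] at hw
      obtain ⟨t, htR, hwt⟩ := hw
      have : t = w := eq_of_specializes_of_mem_fibre g _ (hR htR) hwT
        (specializes_iff_mem_closure.mpr hwt)
      exact this ▸ htR
    · exact fun w hw => ⟨subset_closure hw, hR hw⟩

end Groth.Agent.H21.FEtNormal
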