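import Groth.Agent.H21.AbExt
import Groth.Agent.H21.FEtSplit

set_option autoImplicit false
set_option linter.unusedSectionVars false
universe u
open CategoryTheory CategoryTheory.Limits AlgebraicGeometry Opposite

namespace Groth.Agent.H21.FEtPush

section Geo

variable {X Y A A' : Scheme.{u}} (f : X ⟶ Y) (a : A ⟶ Y) (a' : A' ⟶ Y) (k : A' ⟶ A)
  (w : k ≫ a = a') (σ : A ⟶ pullback a f) (hσ : σ ≫ pullback.fst a f = 𝟙 A)

include w in
lemma kap_cond : (pullback.fst a' f ≫ k) ≫ a = pullback.snd a' f ≫ f := by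
  rw [Category.assoc, w, pullback.condition]

/-- the base change map between the pullbacks -/
noncomputable def kap : pullback a' f ⟶ pullback a f :=
  pullback.lift (pullback.fst a' f ≫ k) (pullback.snd a' f) (kap_cond f a a' k w)

include w hσ in
lemma sig_cond : 𝟙 A' ≫ a' = (k ≫ σ ≫ pullback.snd a f) ≫ f := by
  rw [Category.id_comp, Category.assoc, Category.assoc, ← pullback.condition, reassoc_of% hσ, w]

/-- the base-changed section -/
noncomputable def sig : A' ⟶ pullback a' f :=
  pullback.lift (𝟙 A') (k ≫ σ ≫ pullback.snd a f) (sig_cond f a a' k w σ hσ)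

lemma isPullback_kap :
    IsPullback (pullback.fst a' f) (kap f a a' k w) k (pullback.fst a f) := by
  have s : IsPullback (kap f a a' k w ≫ pullback.snd a f) (pullback.fst a' f) f (k ≫ a) := by
    rw [kap, pullback.lift_snd, w]
    exact (IsPullback.of_hasPullback a' f).flip
  have p : kap f a a' k w ≫ pullback.fst a f = pullback.fst a' f ≫ k := by
    rw [kap, pullback.lift_fst]
  exact (IsPullback.of_right s p (IsPullback.of_hasPullback a f).flip).flip

lemma sig_kap : sig f a a' k w σ hσ ≫ kap f a a' k w = k ≫ σ := by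
  apply pullback.hom_ext
  · rw [Category.assoc, kap, pullback.lift_fst, sig, pullback.lift_fst_assoc, Category.id_comp,
      Category.assoc, hσ, Category.comp_id]
  · rw [Category.assoc, kap, pullback.lift_snd, sig, pullback.lift_snd, Category.assoc]

lemma isPullback_sig :
    IsPullback k (sig f a a' k w σ hσ) σ (kap f a a' k w) := by
  have s : IsPullback (sig f a a' k w σ hσ ≫ pullback.fst a' f) k k (σ ≫ pullback.fst a f) := by
    rw [sig, pullback.lift_fst, hσ]
    exact IsPullback.of_horiz_isIso ⟨by simp⟩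
  exact (IsPullback.of_right s (sig_kap f a a' k w σ hσ) (isPullback_kap f a a' k w)).flip

lemma range_sig :
    Set.range (sig f a a' k w σ hσ) = (kap f a a' k w) ⁻¹' Set.range σ :=
  Groth.Agent.H21.FEtSplit.range_snd_of_isPullback (isPullback_sig f a a' k w σ hσ)

lemma sig_fst : sig f a a' k w σ hσ ≫ pullback.fst a' f = 𝟙 A' := by
  rw [sig, pullback.lift_fst]

lemma sig_snd : sig f a a' k w σ hσ ≫ pullback.snd a' f = (k ≫ σ) ≫ pullback.snd a f := by
  rw [sig, pullback.lift_snd, Category.assoc]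

lemma sig_nat {A'' : Scheme.{u}} (a'' : A'' ⟶ Y) (h : A'' ⟶ A') (w' : h ≫ a' = a'')
    (w'' : (h ≫ k) ≫ a = a'') :
    sig f a a'' (h ≫ k) w'' σ hσ ≫ kap f a' a'' h w' = h ≫ sig f a a' k w σ hσ := by
  apply pullback.hom_ext
  · rw [Category.assoc, kap, pullback.lift_fst, sig, pullback.lift_fst_assoc, Category.id_comp,
      Category.assoc, sig, pullback.lift_fst, Category.comp_id]
  · rw [Category.assoc, kap, pullback.lift_snd, sig, pullback.lift_snd, Category.assoc, sig,
      Category.assoc, pullback.lift_snd]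

end Geo

open Groth.Agent.H21.ConstSec Groth.Agent.H21.ConstUnit Groth.Agent.H21.LocConst
  Groth.Agent.H21.LocConstMap

variable {X Y : Scheme.{u}} {f : X ⟶ Y}

section Split

variable {V : Y.Etale} (σ : V.left ⟶ pullback (V.hom : V.left ⟶ Y) f) [IsOpenImmersion σ]
  (hσ : σ ≫ pullback.fst (V.hom : V.left ⟶ Y) f = 𝟙 V.left)

/-- `V'` viewed as an étale `X`-scheme through the section `σ` -/
noncomputable abbrev secObj {V' : Y.Etale} (k : V' ⟶ V) : X.Etale :=
  Scheme.Etale.mk (k.left ≫ σ ≫ pullback.snd (V.hom : V.left ⟶ Y) f)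

set_option backward.isDefEq.respectTransparency.types false in
/-- the inclusion of `secObj` into the base change -/
noncomputable def secIncl {V' : Y.Etale} (k : V' ⟶ V) : secObj σ k ⟶ (EtCoh.bc f).obj V' :=
  MorphismProperty.Over.homMk
    (sig f (V.hom : V.left ⟶ Y) (V'.hom : V'.left ⟶ Y) k.left (Over.w k.hom) σ hσ)
    (by exact pullback.lift_snd _ _ _) trivial

set_option backward.isDefEq.respectTransparency.types false in
/-- functoriality of `secObj` -/
noncomputable def secMap {V'' V' : Y.Etale} (h : V'' ⟶ V') (k : V' ⟶ V) :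
    secObj σ (h ≫ k) ⟶ secObj σ k :=
  MorphismProperty.Over.homMk h.left (by
    show h.left ≫ k.left ≫ σ ≫ pullback.snd (V.hom : V.left ⟶ Y) f =
      (h ≫ k).left ≫ σ ≫ pullback.snd (V.hom : V.left ⟶ Y) f
    rfl) trivial

set_option backward.isDefEq.respectTransparency.types false in
lemma secIncl_left {V' : Y.Etale} (k : V' ⟶ V) :
    (secIncl σ hσ k).left =
      sig f (V.hom : V.left ⟶ Y) (V'.hom : V'.left ⟶ Y) k.left (Over.w k.hom) σ hσ := rfl

set_option backward.isDefEq.respectTransparency.types false in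
lemma secMap_left {V'' V' : Y.Etale} (h : V'' ⟶ V') (k : V' ⟶ V) :
    (secMap σ h k).left = h.left := rfl

set_option backward.isDefEq.respectTransparency.types false in
lemma bc_map_left {V'' V' : Y.Etale} (h : V'' ⟶ V') :
    ((EtCoh.bc f).map h).left =
      kap f (V'.hom : V'.left ⟶ Y) (V''.hom : V''.left ⟶ Y) h.left (Over.w h.hom) := rfl

set_option backward.isDefEq.respectTransparency.types false in
lemma secIncl_nat {V'' V' : Y.Etale} (h : V'' ⟶ V') (k : V' ⟶ V) :
    secIncl σ hσ (h ≫ k) ≫ (EtCoh.bc f).map h = secMap σ h k ≫ secIncl σ hσ k := by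
  apply MorphismProperty.Over.Hom.ext
  show (secIncl σ hσ (h ≫ k)).left ≫ ((EtCoh.bc f).map h).left =
    (secMap σ h k).left ≫ (secIncl σ hσ k).left
  rw [bc_map_left, secIncl_left, secIncl_left, secMap_left]
  exact sig_nat f _ _ _ _ σ hσ _ _ _ _

set_option backward.isDefEq.respectTransparency.types false in
lemma range_secIncl {V' : Y.Etale} (k : V' ⟶ V) :
    Set.range (secIncl σ hσ k).left = ((EtCoh.bc f).map k).left ⁻¹' Set.range σ := by
  rw [secIncl_left, bc_map_left]
  exact range_sig f _ _ _ _ σ hσ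

set_option backward.isDefEq.respectTransparency.types false in
lemma secIncl_left_fst {V' : Y.Etale} (k : V' ⟶ V) :
    (secIncl σ hσ k).left ≫ pullback.fst (V'.hom : V'.left ⟶ Y) f = 𝟙 V'.left := by
  rw [secIncl_left]
  exact sig_fst f _ _ _ _ σ hσ

end Split

section Generic

variable {X : Scheme.{u}} (F : EtCoh.Ab X) {Z : X.Etale} {ι : Type} (W : ι → X.Etale)
  (τ : ∀ i, W i ⟶ Z)

lemma ofArrows_mem (hcov : ∀ z : Z.left, ∃ i w, (τ i).left w = z) :
    Sieve.ofArrows W τ ∈ X.smallEtaleTopology Z := by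
  rw [mem_iff]
  intro z
  obtain ⟨i, w, hw⟩ := hcov z
  exact ⟨W i, τ i, w, Sieve.ofArrows_mk W τ i, hw⟩

theorem sec_ext_cover (hcov : ∀ z : Z.left, ∃ i w, (τ i).left w = z) (s t : Sec F Z)
    (h : ∀ i, res F (τ i) s = res F (τ i) t) : s = t := by
  apply sec_ext F _ (ofArrows_mem W τ hcov)
  intro T g hg
  obtain ⟨T', g', p, hp, rfl⟩ := hg
  obtain ⟨i⟩ := hp
  rw [← res_res, ← res_res, h]

set_option backward.isDefEq.respectTransparency.types false in
theorem glue_disjoint (hmono : ∀ i, Mono (τ i).left)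
    (hdisj : ∀ i j, i ≠ j → Disjoint (Set.range (τ i).left) (Set.range (τ j).left))
    (hcov : ∀ z : Z.left, ∃ i w, (τ i).left w = z) (t : ∀ i, Sec F (W i)) :
    ∃ s : Sec F Z, ∀ i, res F (τ i) s = t i := by
  let Ft := (sheafCompose X.smallEtaleTopology (forget AddCommGrpCat.{u + 1})).obj F
  have hsh : Presieve.IsSheaf X.smallEtaleTopology Ft.obj :=
    (isSheaf_iff_isSheaf_of_type _ _).1 Ft.property
  have hfor := hsh _ (ofArrows_mem W τ hcov)
  rw [Sieve.ofArrows, ← Presieve.isSheafFor_iff_generate, Presieve.isSheafFor_arrows_iff] at hfor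
  obtain ⟨s, hs, -⟩ := hfor t (by
    intro i j T g g' hgg
    by_cases hij : i = j
    · subst hij
      have h1 : g.left ≫ (τ i).left = g'.left ≫ (τ i).left := congrArg (fun k => k.left) hgg
      have h2 : g.left = g'.left := (cancel_mono _).1 h1
      have h3 : g = g' := MorphismProperty.Over.Hom.ext h2
      rw [h3]
    · have hT : IsEmpty T.left := by
        refine ⟨fun x => ?_⟩
        have h1 : (τ i).left (g.left x) = (τ j).left (g'.left x) := by
          have := congrArg (fun k => k.left x) hgg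
          exact this
        exact Set.disjoint_left.1 (hdisj i j hij) ⟨_, rfl⟩ ⟨_, h1.symm⟩
      exact sec_subsingleton_of_bot_mem F (bot_mem_iff.2 hT) _ _)
  exact ⟨s, hs⟩

end Generic


section Base

variable {X Y : Scheme.{u}} {f : X ⟶ Y}
variable {V : Y.Etale} (σ : V.left ⟶ pullback (V.hom : V.left ⟶ Y) f) [IsOpenImmersion σ]
  (hσ : σ ≫ pullback.fst (V.hom : V.left ⟶ Y) f = 𝟙 V.left)

/-- `V` viewed as an étale `X`-scheme through the section `σ` -/
noncomputable abbrev baseObj : X.Etale :=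
  Scheme.Etale.mk (σ ≫ pullback.snd (V.hom : V.left ⟶ Y) f)

set_option backward.isDefEq.respectTransparency.types false in
/-- the inclusion of `baseObj` into the base change of `V` -/
noncomputable def baseIncl : baseObj σ ⟶ (EtCoh.bc f).obj V :=
  MorphismProperty.Over.homMk σ rfl trivial

set_option backward.isDefEq.respectTransparency.types false in
/-- the map from `secObj` to `baseObj` -/
noncomputable def secToBase {V' : Y.Etale} (k : V' ⟶ V) : secObj σ k ⟶ baseObj σ :=
  MorphismProperty.Over.homMk k.left rfl trivial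

set_option backward.isDefEq.respectTransparency.types false in
lemma baseIncl_left : (baseIncl σ).left = σ := rfl

set_option backward.isDefEq.respectTransparency.types false in
lemma secToBase_left {V' : Y.Etale} (k : V' ⟶ V) : (secToBase σ k).left = k.left := rfl

set_option backward.isDefEq.respectTransparency.types false in
lemma secIncl_bc_map {V' : Y.Etale} (k : V' ⟶ V) :
    secIncl σ hσ k ≫ (EtCoh.bc f).map k = secToBase σ k ≫ baseIncl σ := by
  apply MorphismProperty.Over.Hom.ext
  show (secIncl σ hσ k).left ≫ ((EtCoh.bc f).map k).left = (secToBase σ k).left ≫ (baseIncl σ).left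
  rw [secIncl_left, bc_map_left, secToBase_left, baseIncl_left]
  exact sig_kap f _ _ _ _ σ hσ

set_option backward.isDefEq.respectTransparency.types false in
lemma secMap_secToBase {V'' V' : Y.Etale} (h : V'' ⟶ V') (k : V' ⟶ V) :
    secMap σ h k ≫ secToBase σ k = secToBase σ (h ≫ k) := by
  apply MorphismProperty.Over.Hom.ext
  rfl

end Base

section Family

variable {X Y : Scheme.{u}} {f : X ⟶ Y}
variable {V : Y.Etale} {n : ℕ} (σ : Fin n → (V.left ⟶ pullback (V.hom : V.left ⟶ Y) f))
  [∀ i, IsOpenImmersion (σ i)]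
  (hσ : ∀ i, σ i ≫ pullback.fst (V.hom : V.left ⟶ Y) f = 𝟙 V.left)

include hσ in
lemma secIncl_cover (hcov : (⋃ i, Set.range (σ i)) = Set.univ) {V' : Y.Etale} (k : V' ⟶ V)
    (z' : ((EtCoh.bc f).obj V').left) : ∃ i v', (secIncl (σ i) (hσ i) k).left v' = z' := by
  have hz : ((EtCoh.bc f).map k).left z' ∈ ⋃ i, Set.range (σ i) := by rw [hcov]; trivial
  obtain ⟨i, hi⟩ := Set.mem_iUnion.1 hz
  have : z' ∈ Set.range (secIncl (σ i) (hσ i) k).left := by
    rw [range_secIncl]; exact hi
  obtain ⟨v', hv'⟩ := this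
  exact ⟨i, v', hv'⟩

end Family

section Aux

lemma aux_comp {A B C D E : Scheme.{u}} (r : A ⟶ B) (g : B ⟶ C) (q : A ⟶ C) (kk : C ⟶ D)
    (s : D ⟶ E) (n : B ⟶ E) (h1 : g ≫ kk ≫ s = n) (h2 : r ≫ g = q) :
    r ≫ n = (q ≫ kk) ≫ s := by
  rw [← h1, ← h2]
  simp only [Category.assoc]

end Aux

section Transport

variable {X Y : Scheme.{u}} {f : X ⟶ Y}
variable {V : Y.Etale} (σ : V.left ⟶ pullback (V.hom : V.left ⟶ Y) f) [IsOpenImmersion σ]

set_option backward.isDefEq.respectTransparency.types false in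
lemma etale_trans {V' : Y.Etale} (k : V' ⟶ V) {N : X.Etale} (g : N ⟶ secObj σ k) :
    Etale (X := N.left) (Y := Y) (g.left ≫ (V'.hom : V'.left ⟶ Y)) := by
  have h1 : Etale g.left := inferInstance
  have h2 : Etale (V'.hom : V'.left ⟶ Y) := inferInstance
  exact @MorphismProperty.comp_mem _ _ @Etale _ _ _ _ g.left (V'.hom : V'.left ⟶ Y) h1 h2

set_option backward.isDefEq.respectTransparency.types false in
lemma etale_transB {N : X.Etale} (g : N ⟶ baseObj σ) :
    Etale (X := N.left) (Y := Y) (g.left ≫ (V.hom : V.left ⟶ Y)) := by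
  have h1 : Etale g.left := inferInstance
  have h2 : Etale (V.hom : V.left ⟶ Y) := inferInstance
  exact @MorphismProperty.comp_mem _ _ @Etale _ _ _ _ g.left (V.hom : V.left ⟶ Y) h1 h2

set_option backward.isDefEq.respectTransparency.types false in
/-- an étale `X`-scheme over `secObj σ k`, viewed as an étale `Y`-scheme -/
noncomputable abbrev transObj {V' : Y.Etale} (k : V' ⟶ V) {N : X.Etale} (g : N ⟶ secObj σ k) :
    Y.Etale :=
  haveI := etale_trans σ k g
  Scheme.Etale.mk (X := Y) (Y := N.left) (g.left ≫ (V'.hom : V'.left ⟶ Y))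

set_option backward.isDefEq.respectTransparency.types false in
/-- its structure map to `V'` -/
noncomputable def transHom {V' : Y.Etale} (k : V' ⟶ V) {N : X.Etale} (g : N ⟶ secObj σ k) :
    transObj σ k g ⟶ V' :=
  MorphismProperty.Over.homMk g.left rfl trivial

set_option backward.isDefEq.respectTransparency.types false in
/-- a refinement of `transObj` maps back to `N` -/
noncomputable def transBack {V' V'' : Y.Etale} (k : V' ⟶ V) {N : X.Etale} (g : N ⟶ secObj σ k)
    (q : V'' ⟶ V') (r : V'' ⟶ transObj σ k g) (hr : r ≫ transHom σ k g = q) :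
    secObj σ (q ≫ k) ⟶ N :=
  MorphismProperty.Over.homMk r.left (by
    have h1 : g.left ≫ (secObj σ k).hom = N.hom := Over.w g.hom
    have h2 : r.left ≫ g.left = q.left := congrArg (fun m => m.left) hr
    exact aux_comp r.left g.left q.left k.left (σ ≫ pullback.snd (V.hom : V.left ⟶ Y) f) N.hom
      h1 h2) trivial

set_option backward.isDefEq.respectTransparency.types false in
lemma transBack_comp {V' V'' : Y.Etale} (k : V' ⟶ V) {N : X.Etale} (g : N ⟶ secObj σ k)
    (q : V'' ⟶ V') (r : V'' ⟶ transObj σ k g) (hr : r ≫ transHom σ k g = q) :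
    transBack σ k g q r hr ≫ g = secMap σ q k := by
  apply MorphismProperty.Over.Hom.ext
  exact congrArg (fun m => m.left) hr

set_option backward.isDefEq.respectTransparency.types false in
/-- an étale `X`-scheme over `baseObj σ`, viewed as an étale `Y`-scheme -/
noncomputable abbrev transObjB {N : X.Etale} (g : N ⟶ baseObj σ) : Y.Etale :=
  haveI := etale_transB σ g
  Scheme.Etale.mk (X := Y) (Y := N.left) (g.left ≫ (V.hom : V.left ⟶ Y))

set_option backward.isDefEq.respectTransparency.types false in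
/-- its structure map to `V` -/
noncomputable def transHomB {N : X.Etale} (g : N ⟶ baseObj σ) : transObjB σ g ⟶ V :=
  MorphismProperty.Over.homMk g.left rfl trivial

end Transport

section Main

variable {X Y : Scheme.{u}} (f : X ⟶ Y) [EtCoh.BCCont f] (F : EtCoh.Ab X)
variable {V : Y.Etale} {n : ℕ} (σ : Fin n → (V.left ⟶ pullback (V.hom : V.left ⟶ Y) f))
  [∀ i, IsOpenImmersion (σ i)]
  (hσ : ∀ i, σ i ≫ pullback.fst (V.hom : V.left ⟶ Y) f = 𝟙 V.left)
  (hdisj : ∀ i j, i ≠ j → Disjoint (Set.range (σ i)) (Set.range (σ j)))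
  (hcov : (⋃ i, Set.range (σ i)) = Set.univ)

omit [EtCoh.BCCont f] in
include hcov in
lemma baseIncl_cover (z : ((EtCoh.bc f).obj V).left) : ∃ i w, (baseIncl (σ i)).left w = z := by
  have hz : z ∈ ⋃ i, Set.range (σ i) := by rw [hcov]; trivial
  obtain ⟨i, w, hw⟩ := Set.mem_iUnion.1 hz
  exact ⟨i, w, hw⟩

set_option backward.isDefEq.respectTransparency.types false in
omit [EtCoh.BCCont f] in
include hdisj hcov in
/-- gluing sections over the pieces of the split cover -/
lemma exists_glue (t : ∀ i, Sec F (baseObj (σ i))) :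
    ∃ s : Sec F ((EtCoh.bc f).obj V), ∀ i, res F (baseIncl (σ i)) s = t i := by
  refine glue_disjoint F _ (fun i => baseIncl (σ i)) ?_ ?_ (baseIncl_cover f σ hcov) t
  · intro i
    show Mono (σ i)
    infer_instance
  · intro i j hij
    exact hdisj i j hij

instance hasSheafCompose_forget_over (V : Y.Etale) :
    (Y.smallEtaleTopology.over V).HasSheafCompose (forget AddCommGrpCat.{u + 1}) := by
  have : PreservesLimitsOfSize.{u, u + 1} (forget AddCommGrpCat.{u + 1}) :=
    preservesLimitsOfSize_of_univLE.{u + 1, u + 1, u, u + 1} _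
  infer_instance

variable (M : Fin n → AddCommGrpCat.{u + 1})
  (b : ∀ i, (cst X (M i)).over (baseObj (σ i)) ≅ F.over (baseObj (σ i)))

set_option backward.isDefEq.respectTransparency.types false in
include hσ hdisj hcov b in
theorem push_iso_of_split :
    Nonempty (((EtCoh.push f).obj F).over V ≅
      (constantSheaf (Y.smallEtaleTopology.over V) AddCommGrpCat.{u + 1}).obj
        (AddCommGrpCat.of (∀ i, ↑(M i)))) := by
  classical
  let G : EtCoh.Ab Y := (EtCoh.push f).obj F
  let P : AddCommGrpCat.{u + 1} := AddCommGrpCat.of (∀ i, ↑(M i))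
  let a : ∀ i, ↑(M i) →+ Sec F (baseObj (σ i)) := fun i => AbExt.secOfTriv (b i).hom
  have hglue : ∀ m : ∀ i, ↑(M i), ∃ s : Sec F ((EtCoh.bc f).obj V),
      ∀ i, res F (baseIncl (σ i)) s = a i (m i) :=
    fun m => exists_glue f F σ hdisj hcov (fun i => a i (m i))
  choose ε₀ hε₀ using hglue
  have hext : ∀ s t : Sec F ((EtCoh.bc f).obj V),
      (∀ i, res F (baseIncl (σ i)) s = res F (baseIncl (σ i)) t) → s = t :=
    fun s t h => sec_ext_cover F _ (fun i => baseIncl (σ i)) (baseIncl_cover f σ hcov) s t h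
  let ε' : (∀ i, ↑(M i)) →+ Sec F ((EtCoh.bc f).obj V) :=
    { toFun := ε₀
      map_zero' := by
        apply hext
        intro i
        rw [hε₀, Pi.zero_apply, map_zero, map_zero]
      map_add' := by
        intro m m'
        apply hext
        intro i
        rw [map_add, hε₀, hε₀, hε₀, Pi.add_apply, map_add] }
  let ε : ↑P →+ Sec G V := ε'
  let θ : (cst Y P).over V ⟶ G.over V := AbExt.cstLift ε
  -- key formula
  have KF : ∀ {V' : Y.Etale} (k : V' ⟶ V) (m : ↑P) (i : Fin n),
      res F (secIncl (σ i) (hσ i) k) (secHom θ k (eta P V' m)) =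
        res F (secToBase (σ i) k) (a i (m i)) := by
    intro V' k m i
    rw [AbExt.secHom_cstLift]
    show res F (secIncl (σ i) (hσ i) k) (res F ((EtCoh.bc f).map k) (ε₀ m)) = _
    rw [res_res, secIncl_bc_map, ← res_res, hε₀]
  -- injectivity of the trivializations on constants
  have hainj : ∀ {V' : Y.Etale} (k : V' ⟶ V) (i : Fin n) (c : ↑(M i)) (v' : V'.left),
      res F (secToBase (σ i) k) (a i c) = 0 → c = 0 := by
    intro V' k i c v' hc
    have h1 : secHom (b i).hom (secToBase (σ i) k) (eta (M i) (secObj (σ i) k) c) = 0 := by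
      rw [AbExt.secHom_eta]
      exact hc
    have h2 : eta (M i) (secObj (σ i) k) c = eta (M i) (secObj (σ i) k) 0 := by
      have h3 := congrArg (secHom (b i).inv (secToBase (σ i) k)) h1
      rw [← secHom_comp, Iso.hom_inv_id, secHom_id, map_zero] at h3
      rw [h3, map_zero]
    rcases eta_injective_or (M i) c 0 h2 with h | h
    · exact h
    · exact ((bot_mem_iff.1 h).false v').elim
  have hθ : IsIso θ := by
    refine (Sheaf.isLocallyBijective_iff_isIso θ).1 ⟨⟨?_⟩, ⟨?_⟩⟩
    · intro W x y hxy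
      rw [GrothendieckTopology.mem_over_iff, mem_iff]
      intro v'
      let k : W.unop.left ⟶ V := W.unop.hom
      let x' : Sec (cst Y P) W.unop.left := x
      let y' : Sec (cst Y P) W.unop.left := y
      have hxy' : secHom θ k x' = secHom θ k y' := hxy
      let d : Sec (cst Y P) W.unop.left := x' - y'
      have hd : secHom θ k d = 0 := by
        show secHom θ k (x' - y') = 0
        rw [map_sub, sub_eq_zero]
        exact hxy'
      obtain ⟨m, V'', g, v'', hv'', hres⟩ := exists_isVal d v'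
      have h1 : secHom θ (g ≫ k) (eta P V'' m) = 0 := by
        rw [← hres, secHom_res, hd, map_zero]
      have hm : m = 0 := by
        funext i
        apply hainj (g ≫ k) i (m i) v''
        rw [← KF (g ≫ k) m i, h1]
        exact map_zero (res F (secIncl (σ i) (hσ i) (g ≫ k)))
      refine ⟨V'', g, v'', ?_, hv''⟩
      rw [Sieve.overEquiv_iff]
      show res (cst Y P) g x' = res (cst Y P) g y'
      have h2 : res (cst Y P) g d = 0 := by rw [hres, hm, map_zero]
      have h3 : res (cst Y P) g d = res (cst Y P) g x' - res (cst Y P) g y' := map_sub _ _ _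
      rw [h3, sub_eq_zero] at h2
      exact h2
    · intro W s
      rw [GrothendieckTopology.mem_over_iff, mem_iff]
      intro v'
      let k : W.left ⟶ V := W.hom
      let s' : Sec F ((EtCoh.bc f).obj W.left) := s
      have hloc : ∀ i, ∃ (c : ↑(M i)) (N : X.Etale) (g : N ⟶ secObj (σ i) k) (x : N.left),
          g.left x = v' ∧
          res F g (res F (secIncl (σ i) (hσ i) k) s') =
            res F (g ≫ secToBase (σ i) k) (a i c) := by
        intro i
        obtain ⟨c, N, g, x, hx, hres⟩ := exists_isVal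
          (secHom (b i).inv (secToBase (σ i) k) (res F (secIncl (σ i) (hσ i) k) s')) v'
        refine ⟨c, N, g, x, hx, ?_⟩
        have h1 : res F (secIncl (σ i) (hσ i) k) s' =
            secHom (b i).hom (secToBase (σ i) k)
              (secHom (b i).inv (secToBase (σ i) k) (res F (secIncl (σ i) (hσ i) k) s')) := by
          rw [← secHom_comp, Iso.inv_hom_id, secHom_id]
        rw [h1, ← secHom_res, hres, AbExt.secHom_eta]
      choose c N g x hx hres using hloc
      obtain ⟨V'', q, v'', hv'', hr⟩ := exists_common_refinement v'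
        (fun i => transObj (σ i) k (g i)) (fun i => transHom (σ i) k (g i)) x hx
      choose r hr using hr
      refine ⟨V'', q, v'', ?_, hv''⟩
      rw [Sieve.overEquiv_iff]
      refine ⟨eta P V'' c, ?_⟩
      show secHom θ (q ≫ k) (eta P V'' c) = res F ((EtCoh.bc f).map q) s'
      apply sec_ext_cover F _ (fun i => secIncl (σ i) (hσ i) (q ≫ k))
        (secIncl_cover σ hσ hcov (q ≫ k))
      intro i
      rw [KF, res_res, secIncl_nat, ← res_res, ← transBack_comp (σ i) k (g i) q (r i) (hr i),
        ← res_res, hres, res_res, ← Category.assoc, transBack_comp, secMap_secToBase]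
  exact ⟨(asIso θ).symm ≪≫ (constOverIso V P).symm⟩

end Main

section Pull

variable {X Y : Scheme.{u}} {f : X ⟶ Y}
variable {V₀ V : Y.Etale} {n : ℕ} (σ : Fin n → (V₀.left ⟶ pullback (V₀.hom : V₀.left ⟶ Y) f))
  [∀ i, IsOpenImmersion (σ i)]
  (hσ : ∀ i, σ i ≫ pullback.fst (V₀.hom : V₀.left ⟶ Y) f = 𝟙 V₀.left)
  (q : V ⟶ V₀)

/-- the pulled back sections -/
noncomputable def pullSec (i : Fin n) : V.left ⟶ pullback (V.hom : V.left ⟶ Y) f :=
  sig f (V₀.hom : V₀.left ⟶ Y) (V.hom : V.left ⟶ Y) q.left (Over.w q.hom) (σ i) (hσ i)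

lemma pullSec_fst (i : Fin n) :
    pullSec σ hσ q i ≫ pullback.fst (V.hom : V.left ⟶ Y) f = 𝟙 V.left :=
  sig_fst f _ _ _ _ (σ i) (hσ i)

instance pullSec_open (i : Fin n) : IsOpenImmersion (pullSec σ hσ q i) :=
  MorphismProperty.of_isPullback (P := @IsOpenImmersion)
    (isPullback_sig f _ _ _ _ (σ i) (hσ i)) inferInstance

lemma pullSec_disj (hdisj : ∀ i j, i ≠ j → Disjoint (Set.range (σ i)) (Set.range (σ j)))
    (i j : Fin n) (hij : i ≠ j) :
    Disjoint (Set.range (pullSec σ hσ q i)) (Set.range (pullSec σ hσ q j)) := by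
  rw [pullSec, pullSec, range_sig, range_sig]
  exact (hdisj i j hij).preimage _

lemma pullSec_cov (hcov : (⋃ i, Set.range (σ i)) = Set.univ) :
    (⋃ i, Set.range (pullSec σ hσ q i)) = Set.univ := by
  have : ∀ i, Set.range (pullSec σ hσ q i) =
      (kap f (V₀.hom : V₀.left ⟶ Y) (V.hom : V.left ⟶ Y) q.left (Over.w q.hom)) ⁻¹'
        Set.range (σ i) := fun i => range_sig f _ _ _ _ (σ i) (hσ i)
  simp_rw [this]
  rw [← Set.preimage_iUnion, hcov, Set.preimage_univ]

end Pull

section Cover

variable {X Y : Scheme.{u}} (f : X ⟶ Y) [IsFinite f] [Etale f]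

/-- a finite étale morphism is split over an étale neighbourhood of any point (scheme level) -/
theorem exists_split_nbhd_sch (y : Y) :
    ∃ (Y' : Scheme.{u}) (g : Y' ⟶ Y) (_ : Etale g) (v : Y') (n : ℕ)
      (σ : Fin n → (Y' ⟶ pullback g f)),
      g v = y ∧ (∀ i, IsOpenImmersion (σ i)) ∧
      (∀ i, σ i ≫ pullback.fst g f = 𝟙 Y') ∧
      (∀ i j, i ≠ j → Disjoint (Set.range (σ i)) (Set.range (σ j))) ∧
      (⋃ i, Set.range (σ i)) = Set.univ := by
  set n := f.finrank y with hn
  let W : Y.Opens := ⟨{s' | f.finrank s' = n},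
    (Scheme.Hom.isLocallyConstant_finrank f).isOpen_fiber n⟩
  have hsW : y ∈ W := rfl
  have hrank : ∀ w : ↥W, (f ∣_ W).finrank w = n := fun w ↦ by
    rw [Scheme.Hom.finrank_of_isPullback _ _ _ _ (isPullback_morphismRestrict f W).flip w]
    exact w.2
  obtain ⟨Y', ψ, hψfin, hψet, hψsurj, hsplit⟩ :=
    Groth.Agent.H21.FEtSplit.exists_split n (f ∣_ W) hrank
  obtain ⟨v, hv⟩ := ψ.surjective ⟨y, hsW⟩
  obtain ⟨σ', hsec, hopen, hdisj, hcov⟩ := hsplit
  have sq : IsPullback (pullback.snd (f ∣_ W) ψ) (pullback.fst (f ∣_ W) ψ ≫ (f ⁻¹ᵁ W).ι)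
      (ψ ≫ W.ι) f :=
    ((IsPullback.of_hasPullback (f ∣_ W) ψ).paste_horiz (isPullback_morphismRestrict f W).flip).flip
  let e : pullback (f ∣_ W) ψ ≅ pullback (ψ ≫ W.ι) f := sq.isoPullback
  have h1 : ∀ l, Set.range (σ' l ≫ e.hom) = e.hom '' Set.range (σ' l) := by
    intro l
    rw [Scheme.Hom.comp_base, TopCat.coe_comp, Set.range_comp]
  refine ⟨Y', ψ ≫ W.ι, inferInstance, v, n, fun i => σ' i ≫ e.hom, ?_, ?_, ?_, ?_, ?_⟩
  · rw [Scheme.Hom.comp_apply, hv]
    rfl
  · intro i
    have := hopen i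
    infer_instance
  · intro i
    rw [Category.assoc, IsPullback.isoPullback_hom_fst, hsec]
  · intro i j hij
    show Disjoint (Set.range (σ' i ≫ e.hom)) (Set.range (σ' j ≫ e.hom))
    rw [h1, h1]
    exact (Set.disjoint_image_iff e.hom.homeomorph.injective).2 (hdisj i j hij)
  · show (⋃ i, Set.range (σ' i ≫ e.hom)) = Set.univ
    simp_rw [h1]
    rw [← Set.image_iUnion, hcov, Set.image_univ]
    exact Set.range_eq_univ.2 e.hom.homeomorph.surjective

set_option backward.isDefEq.respectTransparency.types false in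
/-- a finite étale morphism is split over an étale neighbourhood of any point -/
theorem exists_split_nbhd (y : Y) :
    ∃ (V : Y.Etale) (v : V.left) (n : ℕ)
      (σ : Fin n → (V.left ⟶ pullback (V.hom : V.left ⟶ Y) f)),
      V.hom v = y ∧ (∀ i, IsOpenImmersion (σ i)) ∧
      (∀ i, σ i ≫ pullback.fst (V.hom : V.left ⟶ Y) f = 𝟙 V.left) ∧
      (∀ i j, i ≠ j → Disjoint (Set.range (σ i)) (Set.range (σ j))) ∧
      (⋃ i, Set.range (σ i)) = Set.univ := by
  obtain ⟨Y', g, hg, v, n, σ, h1, h2, h3, h4, h5⟩ := exists_split_nbhd_sch f y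
  exact ⟨Scheme.Etale.mk g, v, n, σ, h1, h2, h3, h4, h5⟩

end Cover

section Final

variable {X Y : Scheme.{u}} (f : X ⟶ Y) [IsFinite f] [Etale f] [EtCoh.BCCont f]

set_option backward.isDefEq.respectTransparency.types false in
/-- near any point of `Y` the direct image of a finite locally constant sheaf along a finite
étale morphism is constant with finite value -/
theorem push_local (F : EtCoh.Ab X) (hF : EtCoh.IsFiniteLocallyConstant F) (y : Y) :
    ∃ (V : Y.Etale) (v : V.left), V.hom v = y ∧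
      ∃ (E : Type) (_ : AddCommGroup E) (_ : Finite E),
        Nonempty (((EtCoh.push f).obj F).over V ≅
          (constantSheaf (Y.smallEtaleTopology.over V) AddCommGrpCat.{u + 1}).obj
            (AddCommGrpCat.of (ULift.{u + 1} E))) := by
  obtain ⟨V₀, v₀, n, σ₀, hv₀, hopen₀, hσ₀, hdisj₀, hcov₀⟩ := exists_split_nbhd f y
  obtain ⟨ι₁, U₁, hc₁, h₁⟩ := hF
  have key : ∀ i : Fin n, ∃ (M : Type) (_ : AddCommGroup M) (_ : Finite M) (N : X.Etale)
      (g : N ⟶ baseObj (σ₀ i)) (x : N.left), g.left x = v₀ ∧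
      Nonempty (F.over N ≅ (cst X (AddCommGrpCat.of (ULift.{u + 1} M))).over N) := by
    intro i
    obtain ⟨j, t, ht⟩ := hc₁ ((baseObj (σ₀ i)).hom v₀)
    obtain ⟨M, _, _, ⟨a₀⟩⟩ := h₁ j
    let gT : U₁ j ⟶ EtCoh.top X :=
      MorphismProperty.Over.homMk (U₁ j).hom (Category.comp_id _) trivial
    let gB : baseObj (σ₀ i) ⟶ EtCoh.top X :=
      MorphismProperty.Over.homMk (baseObj (σ₀ i)).hom (Category.comp_id _) trivial
    obtain ⟨N, p, g, x, -, hx1, hx2⟩ := exists_pullback_point gT gB t v₀ ht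
    exact ⟨M, inferInstance, inferInstance, N, g, x, hx2,
      ⟨restrictIso p (a₀ ≪≫ constOverIso (U₁ j) _)⟩⟩
  choose M instM finM N g x hx a using key
  obtain ⟨V, q, v, hv, hr⟩ := exists_common_refinement v₀
    (fun i => transObjB (σ₀ i) (g i)) (fun i => transHomB (σ₀ i) (g i)) x hx
  choose r hr using hr
  have hvy : V.hom v = y := by
    have e1 : q.left ≫ V₀.hom = V.hom := Over.w q.hom
    have e2 := congrArg (fun m => m v) e1
    simp only [Scheme.Hom.comp_apply] at e2
    rw [← e2, hv, hv₀]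
  refine ⟨V, v, hvy, ?_⟩
  let σ : Fin n → (V.left ⟶ pullback (V.hom : V.left ⟶ Y) f) := pullSec σ₀ hσ₀ q
  have hσ : ∀ i, σ i ≫ pullback.fst (V.hom : V.left ⟶ Y) f = 𝟙 V.left := pullSec_fst σ₀ hσ₀ q
  have hdisj := pullSec_disj σ₀ hσ₀ q hdisj₀
  have hcov := pullSec_cov σ₀ hσ₀ q hcov₀
  let ρ : ∀ i, baseObj (σ i) ⟶ N i := fun i =>
    MorphismProperty.Over.homMk (r i).left (by
      have h1 : (g i).left ≫ (baseObj (σ₀ i)).hom = (N i).hom := Over.w (g i).hom
      have h2 : (r i).left ≫ (g i).left = q.left := congrArg (fun m => m.left) (hr i)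
      have h3 := aux_comp (r i).left (g i).left q.left (σ₀ i)
        (pullback.snd (V₀.hom : V₀.left ⟶ Y) f) (N i).hom h1 h2
      refine h3.trans ?_
      exact (sig_snd f _ _ _ _ (σ₀ i) (hσ₀ i)).symm) trivial
  let b : ∀ i, (cst X (AddCommGrpCat.of (ULift.{u + 1} (M i)))).over (baseObj (σ i)) ≅
      F.over (baseObj (σ i)) := fun i => (restrictIso (ρ i) (Classical.choice (a i))).symm
  obtain ⟨e⟩ := push_iso_of_split f F σ hσ hdisj hcov
    (fun i => AddCommGrpCat.of (ULift.{u + 1} (M i))) b
  obtain ⟨E, _, _, ⟨eE⟩⟩ := AbExt.exists_small_model (∀ i, ULift.{u + 1} (M i))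
  exact ⟨E, inferInstance, inferInstance,
    ⟨e ≪≫ (constantSheaf (Y.smallEtaleTopology.over V) AddCommGrpCat.{u + 1}).mapIso
      eE.toAddCommGrpIso⟩⟩

/-- the direct image of a finite locally constant sheaf along a finite étale morphism is finite
locally constant -/
theorem push_isFiniteLocallyConstant (F : EtCoh.Ab X) (hF : EtCoh.IsFiniteLocallyConstant F) :
    EtCoh.IsFiniteLocallyConstant ((EtCoh.push f).obj F) := by
  choose V v hv E instE finE e using push_local f F hF
  exact ⟨Y, V, fun y => ⟨y, v y, hv y⟩, fun y => ⟨E y, instE y, finE y, e y⟩⟩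

end Final

end Groth.Agent.H21.FEtPush
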