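import Groth.Agent.H21.FEtPush
import Groth.Agent.H4.ShriekStarStalk
import Mathlib.CategoryTheory.Sites.EpiMono

/-!
# `j_! ⟶ j_*` is an isomorphism for a finite étale morphism (helper21)
-/

set_option autoImplicit false
set_option linter.unusedSectionVars false
universe u
open CategoryTheory CategoryTheory.Limits AlgebraicGeometry Opposite EtShriek EtCoh
open Groth.Agent.H21.ConstSec Groth.Agent.H21.FEtPush
open Groth.Agent.H4.EtRestr Groth.Agent.H4.ShriekStar

namespace Groth.Agent.H21.FEtTau

section Sch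

variable {U X A : Scheme.{u}} (j : U ⟶ X) (a : A ⟶ X) (σ : A ⟶ pullback a j)
  (hσ : σ ≫ pullback.fst a j = 𝟙 A) (b : A ⟶ U) (hb : b = σ ≫ pullback.snd a j)
  (m : pullback a j ⟶ pullback (b ≫ j) j)
  (hm1 : m ≫ pullback.fst (b ≫ j) j = pullback.fst a j ≫ 𝟙 A)
  (hm2 : m ≫ pullback.snd (b ≫ j) j = pullback.snd a j)

include hσ hb hm1 hm2 in
lemma sch_graph : σ ≫ m = pullback.lift (𝟙 A) b (Category.id_comp (b ≫ j)) := by
  apply pullback.hom_ext
  · rw [Category.assoc, hm1, pullback.lift_fst, Category.comp_id, hσ]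
  · rw [Category.assoc, hm2, pullback.lift_snd, hb]

end Sch

section Geo

variable {U X : Scheme.{u}} (j : U ⟶ X) [Etale j] [IsSeparated j]
variable {V : X.Etale} (σ : V.left ⟶ pullback (V.hom : V.left ⟶ X) j) [IsOpenImmersion σ]
  (hσ : σ ≫ pullback.fst (V.hom : V.left ⟶ X) j = 𝟙 V.left)

include hσ in
lemma base_hom : (σ ≫ pullback.snd (V.hom : V.left ⟶ X) j) ≫ j = V.hom := by
  rw [Category.assoc, ← pullback.condition, ← Category.assoc, hσ, Category.id_comp]

set_option backward.isDefEq.respectTransparency.types false in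
/-- `V` viewed over `U` through `σ` and then over `X` is `V` -/
noncomputable def eIso : (compEtale j).obj (baseObj σ) ≅ V :=
  MorphismProperty.Over.isoMk (Iso.refl _)
    ((Category.id_comp _).trans (base_hom j σ hσ).symm)

set_option backward.isDefEq.respectTransparency.types false in
lemma eIso_hom_left : (eIso j σ hσ).hom.left = 𝟙 V.left := rfl

set_option backward.isDefEq.respectTransparency.types false in
lemma eIso_inv_left : (eIso j σ hσ).inv.left = 𝟙 V.left := rfl

set_option backward.isDefEq.respectTransparency.types false in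
/-- the graph of `baseObj σ` is `σ` -/
lemma baseIncl_bc_eIso_inv :
    baseIncl σ ≫ (bc j).map (eIso j σ hσ).inv = gr j (baseObj σ) := by
  apply MorphismProperty.Over.Hom.ext
  show (baseIncl σ).left ≫ ((bc j).map (eIso j σ hσ).inv).left = (gr j (baseObj σ)).left
  rw [gr_left, baseIncl_left]
  exact sch_graph j (V.hom : V.left ⟶ X) σ hσ (σ ≫ pullback.snd (V.hom : V.left ⟶ X) j) rfl
    ((bc j).map (eIso j σ hσ).inv).left (bc_map_left_fst j (eIso j σ hσ).inv)
    (bc_map_left_snd j (eIso j σ hσ).inv)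

end Geo

section Decomp

variable {U X : Scheme.{u}} (j : U ⟶ X) [Etale j] [IsSeparated j] (G : EtCoh.Ab U)
variable {V : X.Etale} {n : ℕ} (σ : Fin n → (V.left ⟶ pullback (V.hom : V.left ⟶ X) j))
  [∀ i, IsOpenImmersion (σ i)]
  (hσ : ∀ i, σ i ≫ pullback.fst (V.hom : V.left ⟶ X) j = 𝟙 V.left)
  (hdisj : ∀ i k, i ≠ k → Disjoint (Set.range (σ i)) (Set.range (σ k)))
  (hcov : (⋃ i, Set.range (σ i)) = Set.univ)

/-- the section on the `i`-th sheet -/
noncomputable def sheet (i : Fin n) (u : Sec G ((bc j).obj V)) : Sec G (baseObj (σ i)) :=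
  res G (baseIncl (σ i)) u

/-- the `i`-th piece of a section over the split cover -/
noncomputable def piece (i : Fin n) (u : Sec G ((bc j).obj V)) : Sec G ((bc j).obj V) :=
  res G ((bc j).map (eIso j (σ i) (hσ i)).inv)
    (extFun G (gr j (baseObj (σ i))) (isClosed_range_gr j (baseObj (σ i))) (sheet j G σ i u))

set_option backward.isDefEq.respectTransparency.types false in
lemma res_piece_self (i : Fin n) (u : Sec G ((bc j).obj V)) :
    res G (baseIncl (σ i)) (piece j G σ hσ i u) = res G (baseIncl (σ i)) u := by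
  rw [piece, res_res, baseIncl_bc_eIso_inv]
  exact map_extFun G (gr j (baseObj (σ i))) (isClosed_range_gr j (baseObj (σ i))) _

set_option backward.isDefEq.respectTransparency.types false in
include hdisj in
lemma res_piece_ne (i k : Fin n) (hik : i ≠ k) (u : Sec G ((bc j).obj V)) :
    res G (baseIncl (σ k)) (piece j G σ hσ i u) = 0 := by
  rw [piece, res_res]
  apply map_extFun_of_range
  have hgr : (gr j (baseObj (σ i))).left =
      σ i ≫ ((bc j).map (eIso j (σ i) (hσ i)).inv).left := by
    rw [← baseIncl_bc_eIso_inv j (σ i) (hσ i)]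
    rfl
  have hk : (baseIncl (σ k) ≫ (bc j).map (eIso j (σ i) (hσ i)).inv).left =
      σ k ≫ ((bc j).map (eIso j (σ i) (hσ i)).inv).left := rfl
  rw [hgr, hk]
  set m := ((bc j).map (eIso j (σ i) (hσ i)).inv).left with hm
  have hinj : Function.Injective m := by
    have h1 : (bc j).map (eIso j (σ i) (hσ i)).inv ≫ (bc j).map (eIso j (σ i) (hσ i)).hom = 𝟙 _ := by
      rw [← CategoryTheory.Functor.map_comp, Iso.inv_hom_id, CategoryTheory.Functor.map_id]
    have h2 : m ≫ ((bc j).map (eIso j (σ i) (hσ i)).hom).left = 𝟙 _ :=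
      congrArg (fun q => q.left) h1
    intro x y hxy
    have h3 := congrArg (fun z => ((bc j).map (eIso j (σ i) (hσ i)).hom).left z) hxy
    simp only [← Scheme.Hom.comp_apply] at h3
    rw [h2] at h3
    exact h3
  rintro _ ⟨w, rfl⟩ ⟨w', hw'⟩
  have hw'' : m ((σ i) w') = m ((σ k) w) := hw'
  have := hinj hw''
  exact Set.disjoint_left.1 (hdisj i k hik) ⟨w', rfl⟩ ⟨w, this.symm⟩

set_option backward.isDefEq.respectTransparency.types false in
include hdisj hcov in
/-- a section over a split cover is the sum of its pieces -/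
theorem decomp (u : Sec G ((bc j).obj V)) : u = ∑ i, piece j G σ hσ i u := by
  classical
  apply sec_ext_cover G (fun i => baseObj (σ i)) (fun i => baseIncl (σ i))
    (baseIncl_cover j σ hcov)
  intro k
  rw [map_sum, Finset.sum_eq_single k]
  · rw [res_piece_self]
  · intro i _ hik
    exact res_piece_ne j G σ hσ hdisj i k hik u
  · intro h
    exact (h (Finset.mem_univ k)).elim

end Decomp

section Tau

variable {U X : Scheme.{u}} (j : U ⟶ X) [Etale j] [IsSeparated j] (G : EtCoh.Ab U)

lemma τ_unit_apply (W : U.Etale) (t : Sec G W) :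
    app ((τ j).app G) ((compEtale j).obj W) (app ((extZeroAdj j).unit.app G) W t) =
      extFun G (gr j W) (isClosed_range_gr j W) t := by
  have h := unit_τ j G
  have h2 := congrArg (fun m => app m W t) h
  exact h2

variable {V : X.Etale} {n : ℕ} (σ : Fin n → (V.left ⟶ pullback (V.hom : V.left ⟶ X) j))
  [∀ i, IsOpenImmersion (σ i)]
  (hσ : ∀ i, σ i ≫ pullback.fst (V.hom : V.left ⟶ X) j = 𝟙 V.left)
  (hdisj : ∀ i k, i ≠ k → Disjoint (Set.range (σ i)) (Set.range (σ k)))
  (hcov : (⋃ i, Set.range (σ i)) = Set.univ)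

/-- the preimage under `τ` of a section over a split cover -/
noncomputable def preimg (u : Sec G ((bc j).obj V)) : Sec ((extZero j).obj G) V :=
  ∑ i, res ((extZero j).obj G) (eIso j (σ i) (hσ i)).inv
    (app ((extZeroAdj j).unit.app G) (baseObj (σ i)) (sheet j G σ i u))

set_option backward.isDefEq.respectTransparency.types false in
include hdisj hcov in
theorem τ_preimg (u : Sec G ((bc j).obj V)) :
    app ((τ j).app G) V (preimg j G σ hσ u) = u := by
  rw [preimg, map_sum]
  conv_rhs => rw [decomp j G σ hσ hdisj hcov u]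
  apply Finset.sum_congr rfl
  intro i _
  rw [app_res, τ_unit_apply]
  rfl

end Tau

section Iso

variable {U X : Scheme.{u}} (j : U ⟶ X) [IsFinite j] [Etale j]

set_option backward.isDefEq.respectTransparency.types false in
/-- a finite étale morphism splits over an étale neighbourhood of any point of any object of the
small étale site -/
theorem exists_split_over {V : X.Etale} (v : V.left) :
    ∃ (V' : X.Etale) (k : V' ⟶ V) (v' : V'.left) (n : ℕ)
      (σ : Fin n → (V'.left ⟶ pullback (V'.hom : V'.left ⟶ X) j)),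
      k.left v' = v ∧ (∀ i, IsOpenImmersion (σ i)) ∧
      (∀ i, σ i ≫ pullback.fst (V'.hom : V'.left ⟶ X) j = 𝟙 V'.left) ∧
      (∀ i l, i ≠ l → Disjoint (Set.range (σ i)) (Set.range (σ l))) ∧
      (⋃ i, Set.range (σ i)) = Set.univ := by
  obtain ⟨V₀, v₀, n, σ₀, hv₀, hopen₀, hσ₀, hdisj₀, hcov₀⟩ := exists_split_nbhd j (V.hom v)
  let gT : V ⟶ EtCoh.top X :=
    MorphismProperty.Over.homMk V.hom (Category.comp_id _) trivial
  let gB : V₀ ⟶ EtCoh.top X :=
    MorphismProperty.Over.homMk V₀.hom (Category.comp_id _) trivial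
  obtain ⟨P, p, p', x, -, hx1, hx2⟩ := exists_pullback_point gT gB v v₀ hv₀.symm
  have := hopen₀
  exact ⟨P, p, x, n, pullSec σ₀ hσ₀ p', hx1, fun i => inferInstance, pullSec_fst σ₀ hσ₀ p',
    pullSec_disj σ₀ hσ₀ p' hdisj₀, pullSec_cov σ₀ hσ₀ p' hcov₀⟩

set_option backward.isDefEq.respectTransparency.types false in
/-- `j_! G ⟶ j_* G` is an isomorphism for `j` finite étale -/
theorem isIso_τ (G : EtCoh.Ab U) : IsIso ((τ j).app G) := by
  have hm : Mono ((τ j).app G) := Groth.Agent.H4.ShriekStarStalk.mono_τ j G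
  have he : Epi ((τ j).app G) := by
    rw [← Sheaf.isLocallySurjective_iff_epi' (A := AddCommGrpCat.{u+1})]
    constructor
    intro V s
    rw [mem_iff]
    intro v
    obtain ⟨V', k, v', n, σ, hv', hopen, hσ, hdisj, hcov⟩ := exists_split_over j v
    refine ⟨V', k, v', ?_, hv'⟩
    have := hopen
    exact ⟨preimg j G σ hσ (res ((push j).obj G) k s), τ_preimg j G σ hσ hdisj hcov _⟩
  exact isIso_of_mono_of_epi _

end Iso

end Groth.Agent.H21.FEtTau
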