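import Groth.Agent.H21.FEtTrace
import Groth.Agent.H21.FEtGeomFib

/-!
# The adjunction `j_* ⊣ j⁻¹` for a finite étale morphism and the trace (helper21)
-/

set_option autoImplicit false
set_option linter.unusedSectionVars false
universe u
open CategoryTheory CategoryTheory.Limits AlgebraicGeometry Opposite EtShriek EtCoh
open Groth.Agent.H21.ConstSec Groth.Agent.H21.FEtPush Groth.Agent.H21.FEtTau
open Groth.Agent.H21.FEtTrace
open Groth.Agent.H4.EtRestr Groth.Agent.H4.ShriekStar

namespace Groth.Agent.H21.FEtTrace2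

variable {U X : Scheme.{u}} (j : U ⟶ X) [IsFinite j] [Etale j]

instance isIso_τ_nat : IsIso (τ j) :=
  haveI : ∀ G : EtCoh.Ab U, IsIso ((τ j).app G) := fun G => isIso_τ j G
  NatIso.isIso_of_isIso_app _

/-- `j_! ≅ j_*` for finite étale `j` -/
noncomputable def τIso : extZero j ≅ push j := asIso (τ j)

/-- the adjunction `j_* ⊣ j⁻¹` for finite étale `j` -/
noncomputable def pushPullAdj : push j ⊣ pull j :=
  ((extZeroAdj j).ofNatIsoLeft (τIso j)).ofNatIsoRight (pullRestrIso j).symm

lemma unit_counit (F : EtCoh.Ab X) :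
    (pullPushAdj j).unit.app F ≫ (pushPullAdj j).counit.app F = trUnit j F := by
  have hc : (pushPullAdj j).counit.app F =
      (push j).map ((pullRestrIso j).hom.app F) ≫
        inv ((τ j).app ((restrAlong j).obj F)) ≫ (extZeroAdj j).counit.app F := by
    simp [pushPullAdj, τIso]
  rw [hc, ← Category.assoc]
  have hu : (pullPushAdj j).unit.app F ≫ (push j).map ((pullRestrIso j).hom.app F) =
      (restrPushAdj j).unit.app F :=
    Adjunction.unit_leftAdjointUniq_hom_app _ _ F
  rw [hu]
  rfl

instance push_preservesColimits : PreservesColimitsOfSize.{0, 0} (push j) :=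
  (pushPullAdj j).leftAdjoint_preservesColimits

instance push_preservesFiniteColimits : PreservesFiniteColimits (push j) :=
  PreservesColimitsOfSize.preservesFiniteColimits _

variable (F : EtCoh.Ab X)

set_option backward.isDefEq.respectTransparency.types false in
/-- `trUnit` is multiplication by `d` as soon as `j` splits with `d` sheets locally -/
theorem trUnit_apply_of_split (d : ℕ)
    (hsplit : ∀ {V : X.Etale} (v : V.left), ∃ (V' : X.Etale) (k : V' ⟶ V) (v' : V'.left)
      (σ : Fin d → (V'.left ⟶ pullback (V'.hom : V'.left ⟶ X) j)),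
      k.left v' = v ∧ (∀ i, IsOpenImmersion (σ i)) ∧
      (∀ i, σ i ≫ pullback.fst (V'.hom : V'.left ⟶ X) j = 𝟙 V'.left) ∧
      (∀ i l, i ≠ l → Disjoint (Set.range (σ i)) (Set.range (σ l))) ∧
      (⋃ i, Set.range (σ i)) = Set.univ)
    (V : X.Etale) (s : Sec F V) :
    app (trUnit j F) V s = d • s := by
  let S : Sieve V :=
    { arrows := fun W g => res F g (app (trUnit j F) V s) = res F g (d • s)
      downward_closed := by
        intro Y Z f hf g
        show res F (g ≫ f) _ = res F (g ≫ f) _
        rw [← res_res, ← res_res, hf] }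
  have hS : S ∈ X.smallEtaleTopology V := by
    rw [mem_iff]
    intro v
    obtain ⟨V', k, v', σ, hv', hopen, hσ, hdisj, hcov⟩ := hsplit v
    refine ⟨V', k, v', ?_, hv'⟩
    have := hopen
    show res F k (app (trUnit j F) V s) = res F k (d • s)
    rw [← app_res, trUnit_apply_split j F σ hσ hdisj hcov, map_nsmul]
  exact sec_ext F S hS _ _ (fun W g hg => hg)

theorem trUnit_eq_of_geom (d : ℕ)
    (hd : ∀ (Ω : Type u) [Field Ω] [IsSepClosed Ω] (ξ : Spec (CommRingCat.of Ω) ⟶ X),
      Nat.card ↥(pullback j ξ) = d) : trUnit j F = d • 𝟙 F := by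
  have hsplit : ∀ {V : X.Etale} (v : V.left), ∃ (V' : X.Etale) (k : V' ⟶ V) (v' : V'.left)
      (σ : Fin d → (V'.left ⟶ pullback (V'.hom : V'.left ⟶ X) j)),
      k.left v' = v ∧ (∀ i, IsOpenImmersion (σ i)) ∧
      (∀ i, σ i ≫ pullback.fst (V'.hom : V'.left ⟶ X) j = 𝟙 V'.left) ∧
      (∀ i l, i ≠ l → Disjoint (Set.range (σ i)) (Set.range (σ l))) ∧
      (⋃ i, Set.range (σ i)) = Set.univ := by
    intro V v
    obtain ⟨V', k, v', n, σ, hv', hopen, hσ, hdisj, hcov⟩ := exists_split_over j v
    have hn : n = d :=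
      Groth.Agent.H21.FEtGeomFib.sheets_eq j d hd (V'.hom : V'.left ⟶ X) v' σ hopen hσ hdisj hcov
    subst hn
    exact ⟨V', k, v', σ, hv', hopen, hσ, hdisj, hcov⟩
  ext V s
  exact (trUnit_apply_of_split j F d hsplit V.unop s).trans (nsmul_id_apply F d V.unop s).symm

end Groth.Agent.H21.FEtTrace2
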