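import Groth.Agent.H21.ConstrLoc
import Groth.Agent.H21.ConstrSupp

/-!
# Chains of quasi-compact opens adapted to a constructible sheaf (helper21)
-/

set_option autoImplicit false
universe u
open CategoryTheory CategoryTheory.Limits AlgebraicGeometry Opposite TopologicalSpace

namespace Groth.Agent.H21.Filt

open Groth.Agent.H21.OverBridge Groth.Agent.H21.Constr Groth.Agent.H21.ConstrLoc
  Groth.Agent.H21.ConstrMain Groth.Agent.H21.ConstrGlue Groth.Agent.H21.ConstrSupp

variable {X : Scheme.{u}} (F : EtCoh.Ab X)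

/-- one step of a chain: `V ≤ V'` opens, `V'` quasi-compact, and the difference carries a
subscheme structure along which `F` is finite locally constant -/
def IsStep (V V' : X.Opens) : Prop :=
  V ≤ V' ∧ IsCompact (V' : Set X) ∧ ∃ (W : Scheme.{u}) (c : W ⟶ X) (_ : IsImmersion c),
    Set.range c = (V' : Set X) \ (V : Set X) ∧
      EtCoh.IsFiniteLocallyConstant ((EtCoh.pull c).obj F)

/-- chains of steps -/
inductive Chain : X.Opens → X.Opens → Prop
  | refl (V : X.Opens) : Chain V V
  | step {V V' V'' : X.Opens} : Chain V V' → IsStep F V' V'' → Chain V V''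

variable {F}

theorem Chain.trans {V V' V'' : X.Opens} (h : Chain F V V') (h' : Chain F V' V'') :
    Chain F V V'' := by
  induction h' with
  | refl => exact h
  | step _ hs ih => exact Chain.step ih hs

/-- stratifications indexed by a fixed finite type -/
def CSI (ι : Type) (F : EtCoh.Ab X) (S : Set X) : Prop :=
  ∃ (T : ι → Scheme.{u}) (g : ∀ i, T i ⟶ X),
    (∀ i, IsImmersion (g i)) ∧ (∀ i, Topology.IsConstructible (Set.range (g i))) ∧
    Pairwise (fun i j => Disjoint (Set.range (g i)) (Set.range (g j))) ∧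
    (⋃ i, Set.range (g i)) = S ∧
    ∀ i, EtCoh.IsFiniteLocallyConstant ((EtCoh.pull (g i)).obj F)

theorem CSI.inter_closed {ι : Type} {S : Set X} (h : CSI ι F S) (Z : Set X) (hZ : IsClosed Z)
    (hZc : Topology.IsConstructible Z) : CSI ι F (S ∩ Z) := by
  obtain ⟨T, g, h1, h2, h3, h4, h5⟩ := h
  have key : ∀ i, ∃ (T' : Scheme.{u}) (c' : T' ⟶ T i), IsClosedImmersion c' ∧
      Set.range (c' ≫ g i) = Set.range (g i) ∩ Z := fun i => by
    have := h1 i
    exact exists_cut (g i) Z hZ
  choose T' c' hc' hr using key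
  refine ⟨T', fun i => c' i ≫ g i, fun i => ?_, fun i => ?_, ?_, ?_, fun i => ?_⟩
  · have := h1 i
    have := hc' i
    infer_instance
  · rw [hr]
    exact (h2 i).inter hZc
  · intro i j hij
    rw [hr, hr]
    exact (h3 hij).mono Set.inter_subset_left Set.inter_subset_left
  · simp_rw [hr]
    rw [← Set.iUnion_inter, h4]
  · exact isFLC_of_iso ((EtCore.pullComp (c' i) (g i)).symm.app F) (pull_isFLC _ _ (h5 i))

theorem CSI.inter_open {ι : Type} {S : Set X} (h : CSI ι F S) (O : X.Opens)
    (hOc : Topology.IsConstructible (O : Set X)) : CSI ι F (S ∩ (O : Set X)) := by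
  obtain ⟨T, g, h1, h2, h3, h4, h5⟩ := h
  have hr : ∀ i, Set.range (((g i) ⁻¹ᵁ O).ι ≫ g i) = Set.range (g i) ∩ (O : Set X) := by
    intro i
    rw [Scheme.Hom.comp_base, TopCat.coe_comp, Set.range_comp, Scheme.Opens.range_ι]
    show (g i) '' ((g i) ⁻¹' (O : Set X)) = _
    rw [Set.image_preimage_eq_range_inter]
  refine ⟨fun i => ((g i) ⁻¹ᵁ O).toScheme, fun i => ((g i) ⁻¹ᵁ O).ι ≫ g i, fun i => ?_,
    fun i => ?_, ?_, ?_, fun i => ?_⟩
  · have := h1 i
    infer_instance
  · rw [hr]
    exact (h2 i).inter hOc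
  · intro i j hij
    rw [hr, hr]
    exact (h3 hij).mono Set.inter_subset_left Set.inter_subset_left
  · simp_rw [hr]
    rw [← Set.iUnion_inter, h4]
  · exact isFLC_of_iso ((EtCore.pullComp ((g i) ⁻¹ᵁ O).ι (g i)).symm.app F)
      (pull_isFLC _ _ (h5 i))

/-- removing one stratum -/
theorem CSI.remove {ι : Type} {S : Set X} (h : CSI ι F S) (i₀ : ι) :
    ∃ (W : Scheme.{u}) (c : W ⟶ X) (_ : IsImmersion c),
      Topology.IsConstructible (Set.range c) ∧ Set.range c ⊆ S ∧
      EtCoh.IsFiniteLocallyConstant ((EtCoh.pull c).obj F) ∧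
      CSI {i : ι // i ≠ i₀} F (S \ Set.range c) := by
  obtain ⟨T, g, h1, h2, h3, h4, h5⟩ := h
  refine ⟨T i₀, g i₀, h1 i₀, h2 i₀, ?_, h5 i₀, fun i => T i.1, fun i => g i.1, fun i => h1 i.1,
    fun i => h2 i.1, ?_, ?_, fun i => h5 i.1⟩
  · rw [← h4]
    exact Set.subset_iUnion (fun i => Set.range (g i)) i₀
  · intro i j hij
    exact h3 (fun e => hij (Subtype.ext e))
  · rw [← h4]
    ext x
    simp only [Set.mem_iUnion, Set.mem_sdiff, Subtype.exists]
    constructor
    · rintro ⟨i, hi, hx⟩
      refine ⟨⟨i, hx⟩, fun hx0 => ?_⟩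
      exact Set.disjoint_left.1 (h3 hi) hx hx0
    · rintro ⟨⟨i, hx⟩, hx0⟩
      exact ⟨i, fun e => hx0 (e ▸ hx), hx⟩


variable [CompactSpace X] [QuasiSeparatedSpace X]

theorem isConstructible_opens {O : X.Opens} (hO : IsCompact (O : Set X)) :
    Topology.IsConstructible (O : Set X) := hO.isConstructible O.isOpen

theorem isCompact_inf {O O' : X.Opens} (hO : IsCompact (O : Set X)) (hO' : IsCompact (O' : Set X)) :
    IsCompact ((O ⊓ O' : X.Opens) : Set X) :=
  QuasiSeparatedSpace.inter_isCompact _ _ O.isOpen hO O'.isOpen hO'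

theorem isCompact_sup {O O' : X.Opens} (hO : IsCompact (O : Set X)) (hO' : IsCompact (O' : Set X)) :
    IsCompact ((O ⊔ O' : X.Opens) : Set X) := hO.union hO'

/-- **existence of chains**: a stratification of `U \ V` gives a chain from `V` to `U` -/
theorem chain_of_csi : ∀ (m : ℕ) (ι : Type) [Finite ι], Nat.card ι ≤ m → ∀ V U : X.Opens, V ≤ U →
    IsCompact (V : Set X) → IsCompact (U : Set X) → CSI ι F ((U : Set X) \ (V : Set X)) →
    Chain F V U := by
  intro m
  induction m with
  | zero =>
    intro ι _ hcard V U hVU hV hU h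
    have hemp : IsEmpty ι := by
      have := Fintype.ofFinite ι
      rw [Nat.card_eq_fintype_card] at hcard
      exact Fintype.card_eq_zero_iff.1 (Nat.le_zero.1 hcard)
    obtain ⟨T, g, h1, h2, h3, h4, h5⟩ := h
    have h0 : (U : Set X) \ (V : Set X) = ∅ := by
      rw [← h4]
      exact Set.iUnion_of_empty _
    have hUV : U ≤ V := fun x hx => by
      by_contra hxV
      have : x ∈ (U : Set X) \ (V : Set X) := ⟨hx, hxV⟩
      rw [h0] at this
      exact this
    rw [le_antisymm hUV hVU]
    exact Chain.refl _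
  | succ m ih =>
    intro ι _ hcard V U hVU hV hU h
    by_cases hemp : IsEmpty ι
    · obtain ⟨T, g, h1, h2, h3, h4, h5⟩ := h
      have h0 : (U : Set X) \ (V : Set X) = ∅ := by
        rw [← h4]
        exact Set.iUnion_of_empty _
      have hUV : U ≤ V := fun x hx => by
        by_contra hxV
        have : x ∈ (U : Set X) \ (V : Set X) := ⟨hx, hxV⟩
        rw [h0] at this
        exact this
      rw [le_antisymm hUV hVU]
      exact Chain.refl _
    rw [not_isEmpty_iff] at hemp
    obtain ⟨i₀⟩ := hemp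
    have hcard' : Nat.card {i : ι // i ≠ i₀} ≤ m := by
      have := Fintype.ofFinite ι
      classical
      rw [Nat.card_eq_fintype_card] at hcard ⊢
      have h1 : Fintype.card {i : ι // i ≠ i₀} < Fintype.card ι :=
        Fintype.card_subtype_lt (x := i₀) (by simp)
      omega
    obtain ⟨W, c, hc, hRc, hRS, hFLC, hrest⟩ := h.remove i₀
    obtain ⟨O, hO, Z, hZ, hR⟩ := exists_compact_open_inter_closed c hRc
    let Zo : X.Opens := ⟨Zᶜ, hZ.isOpen_compl⟩
    let O' : X.Opens := V ⊔ (O ⊓ U)
    let O'' : X.Opens := V ⊔ (O ⊓ U ⊓ Zo)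
    have hOU : IsCompact ((O ⊓ U : X.Opens) : Set X) := isCompact_inf hO hU
    have hO' : IsCompact (O' : Set X) := isCompact_sup hV hOU
    -- `(O ∩ U) \ Z` is constructible and open, hence compact
    have hOUZ : IsCompact ((O ⊓ U ⊓ Zo : X.Opens) : Set X) := by
      have h1 : ((O ⊓ U ⊓ Zo : X.Opens) : Set X) = ((O ⊓ U : X.Opens) : Set X) \ Set.range c := by
        rw [hR]
        ext x
        simp only [Opens.coe_inf, Set.mem_inter_iff, SetLike.mem_coe, Set.mem_sdiff, Zo,
          Opens.coe_mk, Set.mem_compl_iff]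
        tauto
      rw [h1]
      exact isCompact_of_isConstructible ((isConstructible_opens hOU).sdiff hRc)
    have hO'' : IsCompact (O'' : Set X) := isCompact_sup hV hOUZ
    have hVO'' : V ≤ O'' := le_sup_left
    have hO''O' : O'' ≤ O' := sup_le_sup_left inf_le_left _
    have hO'U : O' ≤ U := sup_le hVU inf_le_right
    have hdiff : (O' : Set X) \ (O'' : Set X) = Set.range c := by
      rw [hR]
      ext x
      have hx : x ∈ Set.range c → x ∈ (U : Set X) ∧ x ∉ (V : Set X) := fun hx => hRS hx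
      rw [hR] at hx
      simp only [O', O'', Zo, Opens.coe_sup, Opens.coe_inf, Opens.coe_mk, Set.mem_sdiff,
        Set.mem_union, Set.mem_inter_iff, SetLike.mem_coe, Set.mem_compl_iff] at hx ⊢
      tauto
    -- (1) from `V` to `O''`
    have c1 : Chain F V O'' := by
      refine ih _ hcard' V O'' hVO'' hV hO'' ?_
      have h1 := hrest.inter_open O'' (isConstructible_opens hO'')
      refine (congrArg (CSI {i : ι // i ≠ i₀} F) ?_).mp h1
      rw [hR]
      ext x
      have hx : x ∈ (O'' : Set X) → x ∈ (U : Set X) := fun hx => hO'U (hO''O' hx)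
      simp only [O'', Zo, Opens.coe_sup, Opens.coe_inf, Opens.coe_mk, Set.mem_sdiff,
        Set.mem_union, Set.mem_inter_iff, SetLike.mem_coe, Set.mem_compl_iff] at hx ⊢
      tauto
    -- (2) the step from `O''` to `O'`
    have c2 : IsStep F O'' O' := ⟨hO''O', hO', W, c, hc, hdiff.symm, hFLC⟩
    -- (3) from `O'` to `U`
    have c3 : Chain F O' U := by
      refine ih _ hcard' O' U hO'U hO' hU ?_
      have h1 := hrest.inter_closed (O' : Set X)ᶜ O'.isOpen.isClosed_compl
        (isConstructible_opens hO').compl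
      refine (congrArg (CSI {i : ι // i ≠ i₀} F) ?_).mp h1
      ext x
      have hx : x ∈ Set.range c → x ∈ (O' : Set X) := fun hx => by
        have := hdiff.symm ▸ hx
        exact this.1
      have hx' : x ∈ (V : Set X) → x ∈ (O' : Set X) := fun hx => Or.inl hx
      simp only [Set.mem_sdiff, Set.mem_inter_iff, Set.mem_compl_iff, SetLike.mem_coe] at hx hx' ⊢
      tauto
    exact (Chain.step c1 c2).trans c3

/-- **a constructible sheaf on a qcqs scheme admits a chain from `⊥` to `⊤`** -/
theorem chain_of_isConstructible (hF : EtPBC.IsConstructible F) : Chain F (⊥ : X.Opens) ⊤ := by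
  obtain ⟨ι, hι, T, g, h1, h2, h3, h4, h5⟩ :=
    (strata_iff F _).1 ((isConstructible_iff_of_qcqs F).1 hF)
  have hc : ∀ i, Topology.IsConstructible (Set.range (g i)) := fun i => by
    have := (h2 i).image_of_isOpenEmbedding isOpen_univ.isOpenEmbedding_subtypeVal (by simp)
    simpa using this
  refine chain_of_csi (Nat.card ι) ι le_rfl ⊥ ⊤ bot_le (by simp) isCompact_univ ?_
  refine ⟨T, g, h1, hc, h3, ?_, fun i => h5 i ()⟩
  rw [h4]
  simp

end Groth.Agent.H21.Filt
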