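import Groth.Agent.H4.ClosedStalk
import Groth.Agent.H4.ExtZeroStalk
import Groth.Agent.S0069
import Groth.Agent.S0622

/-!
# The sequence `0 → j_! j^* F → F → i_* i^* F → 0` for an arbitrary open immersion `j`
(helper21, after helper4's S0654)
-/

set_option autoImplicit false
open CategoryTheory CategoryTheory.Limits AlgebraicGeometry Opposite
universe u
open EtCore

namespace Groth.Agent.H21.Filt

open Groth.Agent.H4.Stalks Groth.Agent.H4.ClosedStalk Groth.Agent.H4.ExtZeroStalk

theorem shortExact_open_closed {Z X U : Scheme.{u}} (i : Z ⟶ X) [IsClosedImmersion i]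
    (j : U ⟶ X) [IsOpenImmersion j] (hU : Set.range j = (Set.range i)ᶜ)
    (F : EtCoh.Ab X) :
    ∃ w : (EtShriek.extZeroAdj j).counit.app F ≫ (EtCoh.pullPushAdj i).unit.app F = 0,
      (ShortComplex.mk _ _ w).ShortExact := by
  have key : ∀ (Ω : Type u) [Field Ω] [IsSepClosed Ω] (ξ : Spec (CommRingCat.of Ω) ⟶ X),
      (IsIso ((EtCoh.stalk ξ).map ((EtShriek.extZeroAdj j).counit.app F)) ∧
        IsZero ((EtCoh.stalk ξ).obj ((EtCoh.push i).obj ((EtCoh.pull i).obj F)))) ∨
      (IsZero ((EtCoh.stalk ξ).obj ((EtShriek.extZero j).obj ((EtShriek.restrAlong j).obj F))) ∧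
        IsIso ((EtCoh.stalk ξ).map ((EtCoh.pullPushAdj i).unit.app F))) := by
    intro Ω _ _ ξ
    by_cases hξ : ξ default ∈ Set.range i.base
    · right
      obtain ⟨ζ, rfl⟩ := exists_lift_geomPoint i ξ hξ
      refine ⟨isZero_stalk_extZero j (ξ := ζ ≫ i) _ (fun u hu => ?_), isIso_stalk_unit i ζ F⟩
      have h1 : (u ≫ j) default = (ζ ≫ i) default := by rw [hu]
      have h2 : (u ≫ j) default ∈ Set.range j := ⟨u default, rfl⟩
      rw [hU, h1] at h2
      exact h2 ⟨ζ default, rfl⟩
    · left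
      have hr : Set.range ξ ⊆ Set.range j := by
        rintro _ ⟨a, rfl⟩
        rw [Subsingleton.elim a default, hU]
        exact hξ
      refine ⟨isIso_stalk_counit j F (IsOpenImmersion.lift j ξ hr) ξ
        (IsOpenImmersion.lift_fac _ _ _), Groth.Agent.S0069.result i _ ξ ?_⟩
      rw [Set.disjoint_left]
      rintro _ ⟨a, rfl⟩ h
      rw [Subsingleton.elim a default] at h
      exact hξ h
  have w : (EtShriek.extZeroAdj j).counit.app F ≫ (EtCoh.pullPushAdj i).unit.app F = 0 := by
    apply hom_eq_zero_of_stalks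
    intro s
    rw [Functor.map_comp]
    rcases key _ (Groth.Agent.H4.Stalks.geomPt s) with ⟨-, h⟩ | ⟨h, -⟩
    · exact h.eq_of_tgt _ _
    · exact h.eq_of_src _ _
  refine ⟨w, ?_⟩
  have hex : (ShortComplex.mk _ _ w).Exact := by
    rw [(Groth.Agent.S0622.result (ShortComplex.mk _ _ w) (𝟙 F)).1]
    intro Ω _ _ ξ
    rcases key Ω ξ with ⟨h1, h2⟩ | ⟨h1, h2⟩
    · rw [ShortComplex.exact_iff_epi _ (h2.eq_of_tgt _ _)]
      show Epi ((EtCoh.stalk ξ).map ((EtShriek.extZeroAdj j).counit.app F))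
      infer_instance
    · rw [ShortComplex.exact_iff_mono _ (h1.eq_of_src _ _)]
      show Mono ((EtCoh.stalk ξ).map ((EtCoh.pullPushAdj i).unit.app F))
      infer_instance
  have hmono : Mono ((EtShriek.extZeroAdj j).counit.app F) := by
    rw [(Groth.Agent.S0622.result (ShortComplex.mk _ _ w)
      ((EtShriek.extZeroAdj j).counit.app F)).2.1]
    intro Ω _ _ ξ
    rcases key Ω ξ with ⟨h1, h2⟩ | ⟨h1, h2⟩
    · exact (ConcreteCategory.bijective_of_isIso _).1
    · have : Subsingleton ↑((EtCoh.stalk ξ).obj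
          ((EtShriek.restrAlong j ⋙ EtShriek.extZero j).obj F)) :=
        AddCommGrpCat.subsingleton_of_isZero h1
      exact Function.injective_of_subsingleton _
  have hepi : Epi ((EtCoh.pullPushAdj i).unit.app F) := by
    rw [(Groth.Agent.S0622.result (ShortComplex.mk _ _ w) ((EtCoh.pullPushAdj i).unit.app F)).2.2]
    intro Ω _ _ ξ
    rcases key Ω ξ with ⟨h1, h2⟩ | ⟨h1, h2⟩
    · have : Subsingleton ↑((EtCoh.stalk ξ).obj ((EtCoh.pull i ⋙ EtCoh.push i).obj F)) :=
        AddCommGrpCat.subsingleton_of_isZero h2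
      intro b
      exact ⟨0, Subsingleton.elim _ _⟩
    · exact (ConcreteCategory.bijective_of_isIso _).2
  exact { exact := hex, mono_f := hmono, epi_g := hepi }

end Groth.Agent.H21.Filt
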