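import Groth.Agent.H21.FiltChain
import Groth.Agent.H21.FiltSes
import Groth.Agent.H4.EtRestr
import Groth.Agent.H21.ConstrACC

/-!
# The filtration of a constructible sheaf by extensions by zero of finite locally constant
sheaves (helper21)
-/

set_option autoImplicit false
set_option linter.unusedSectionVars false
universe u
open CategoryTheory CategoryTheory.Limits AlgebraicGeometry Opposite TopologicalSpace
open EtCore

namespace Groth.Agent.H21.Filt

open Groth.Agent.H21.OverBridge Groth.Agent.H4.EtRestr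
open Groth.Agent.H4.Stalks Groth.Agent.H4.ExtZeroStalk

/-- restriction along a composite of étale maps -/
noncomputable def restrComp {A B X : Scheme.{u}} (a : A ⟶ B) (b : B ⟶ X) [Etale a] [Etale b] :
    EtShriek.restrAlong (a ≫ b) ≅ EtShriek.restrAlong b ⋙ EtShriek.restrAlong a :=
  (pullRestrIso (a ≫ b)).symm ≪≫ EtCore.pullComp a b ≪≫
    Functor.isoWhiskerRight (pullRestrIso b) _ ≪≫ Functor.isoWhiskerLeft _ (pullRestrIso a)

/-- extension by zero along a composite of étale maps -/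
noncomputable def extZeroComp {A B X : Scheme.{u}} (a : A ⟶ B) (b : B ⟶ X) [Etale a] [Etale b] :
    EtShriek.extZero (a ≫ b) ≅ EtShriek.extZero a ⋙ EtShriek.extZero b :=
  ((EtShriek.extZeroAdj (a ≫ b)).ofNatIsoRight (restrComp a b)).leftAdjointUniq
    ((EtShriek.extZeroAdj a).comp (EtShriek.extZeroAdj b))

theorem exists_iso_comp {A B X : Scheme.{u}} (a : A ⟶ B) (b : B ⟶ X) (c : A ⟶ X)
    [Etale a] [Etale b] [Etale c] (h : a ≫ b = c) (F : EtCoh.Ab X) :
    Nonempty ((EtShriek.extZero c).obj ((EtShriek.restrAlong c).obj F) ≅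
      (EtShriek.extZero b).obj ((EtShriek.extZero a).obj
        ((EtShriek.restrAlong a).obj ((EtShriek.restrAlong b).obj F)))) := by
  subst h
  exact ⟨(extZeroComp a b).app _ ≪≫
    (EtShriek.extZero b).mapIso ((EtShriek.extZero a).mapIso ((restrComp a b).app F))⟩

theorem range_eq_preimage {A B C : Scheme.{u}} (f : A ⟶ B) (g : B ⟶ C) (h : A ⟶ C)
    (e : f ≫ g = h) (hg : Function.Injective g) : Set.range f = g ⁻¹' Set.range h := by
  subst e
  ext x
  constructor
  · rintro ⟨a, rfl⟩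
    exact ⟨a, rfl⟩
  · rintro ⟨a, ha⟩
    exact ⟨a, hg ha⟩

/-- the lift of an immersion with image `V' ∖ V` to `V'` is a closed immersion complementary to
`V ⊆ V'` -/
theorem exists_closed_lift {X : Scheme.{u}} {V V' : X.Opens} (hle : V ≤ V') {W : Scheme.{u}}
    (c₀ : W ⟶ X) [IsImmersion c₀] (hr : Set.range c₀ = (V' : Set X) \ (V : Set X)) :
    ∃ c : W ⟶ (V' : Scheme.{u}), IsClosedImmersion c ∧ c ≫ V'.ι = c₀ ∧
      Set.range (X.homOfLE hle) = (Set.range c)ᶜ := by
  have hsub : Set.range c₀ ⊆ Set.range V'.ι := by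
    rw [hr, Scheme.Opens.range_ι]
    exact Set.sdiff_subset
  let c : W ⟶ (V' : Scheme.{u}) := IsOpenImmersion.lift V'.ι c₀ hsub
  have hc : c ≫ V'.ι = c₀ := IsOpenImmersion.lift_fac _ _ _
  have hinj : Function.Injective V'.ι := V'.ι.isOpenEmbedding.injective
  have h1 : Set.range c = V'.ι ⁻¹' Set.range c₀ := range_eq_preimage c V'.ι c₀ hc hinj
  have h2 : Set.range (X.homOfLE hle) = V'.ι ⁻¹' Set.range V.ι :=
    range_eq_preimage _ V'.ι V.ι (X.homOfLE_ι hle) hinj
  have h3 : Set.range (X.homOfLE hle) = (Set.range c)ᶜ := by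
    rw [h1, h2, hr, Scheme.Opens.range_ι]
    ext x
    have hx : V'.ι x ∈ (V' : Set X) := by
      rw [← Scheme.Opens.range_ι]; exact ⟨x, rfl⟩
    simp only [Set.mem_preimage, Set.mem_compl_iff, Set.mem_sdiff, SetLike.mem_coe, not_and,
      not_not]
    exact ⟨fun h _ => h, fun h => h hx⟩
  refine ⟨c, ?_, hc, h3⟩
  have : IsImmersion (c ≫ V'.ι) := by rw [hc]; infer_instance
  have : IsImmersion c := IsImmersion.of_comp c V'.ι
  apply IsClosedImmersion.of_isPreimmersion
  rw [← isOpen_compl_iff, ← h3]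
  exact (X.homOfLE hle).isOpenEmbedding.isOpen_range

/-- the sheaf `j_! j^* F` for an open `V` -/
noncomputable abbrev Eobj {X : Scheme.{u}} (F : EtCoh.Ab X) (V : X.Opens) : EtCoh.Ab X :=
  (EtShriek.extZero V.ι).obj ((EtShriek.restrAlong V.ι).obj F)

theorem step_ses {X : Scheme.{u}} [CompactSpace X] [QuasiSeparatedSpace X] (F : EtCoh.Ab X)
    {V V' : X.Opens}
    (hV : IsCompact (V : Set X)) (h : IsStep F V V') :
    ∃ (ι : Eobj F V ⟶ Eobj F V') (U W : Scheme.{u}) (j : U ⟶ X) (_ : IsOpenImmersion j)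
      (c : W ⟶ U) (_ : IsClosedImmersion c) (G : EtCoh.Ab W)
      (π : Eobj F V' ⟶ (EtShriek.extZero j).obj ((EtCoh.push c).obj G)) (hz : ι ≫ π = 0),
      Topology.IsConstructible (Set.range (c ≫ j)) ∧ EtCoh.IsFiniteLocallyConstant G ∧
      (ShortComplex.mk ι π hz).ShortExact := by
  obtain ⟨hle, hV', W, c₀, hc₀, hr, hflc⟩ := h
  obtain ⟨c, hc, hcc, hU⟩ := exists_closed_lift hle c₀ hr
  let F' := (EtShriek.restrAlong V'.ι).obj F
  obtain ⟨w, hS⟩ := shortExact_open_closed c (X.homOfLE hle) hU F'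
  obtain ⟨θ⟩ := exists_iso_comp (X.homOfLE hle) V'.ι V.ι (X.homOfLE_ι hle) F
  have : PreservesFiniteLimits (EtShriek.extZero V'.ι) :=
    Groth.Agent.H4.ExtZero.extZero_preservesFiniteLimits _
  have : PreservesColimitsOfSize.{u + 1, u + 1} (EtShriek.extZero V'.ι) :=
    (EtShriek.extZeroAdj V'.ι).leftAdjoint_preservesColimits
  have : (EtShriek.restrAlong V'.ι).Additive := { map_add := fun {F G} {a b} => rfl }
  have : (EtShriek.extZero V'.ι).Additive := (EtShriek.extZeroAdj V'.ι).left_adjoint_additive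
  have hS' := hS.map_of_exact (EtShriek.extZero V'.ι)
  have hz : (θ.hom ≫ (EtShriek.extZero V'.ι).map
      ((EtShriek.extZeroAdj (X.homOfLE hle)).counit.app F')) ≫
      (EtShriek.extZero V'.ι).map ((EtCoh.pullPushAdj c).unit.app F') = 0 := by
    rw [Category.assoc, ← Functor.map_comp, w, Functor.map_zero, comp_zero]
  refine ⟨θ.hom ≫ (EtShriek.extZero V'.ι).map
      ((EtShriek.extZeroAdj (X.homOfLE hle)).counit.app F'), V', W, V'.ι, inferInstance, c, hc,
    (EtCoh.pull c).obj F', (EtShriek.extZero V'.ι).map ((EtCoh.pullPushAdj c).unit.app F'), hz,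
    ?_, ?_, ?_⟩
  · rw [hcc, hr]
    exact (isConstructible_opens hV').sdiff (isConstructible_opens hV)
  · refine isFLC_of_iso ?_ hflc
    exact (EtCore.pullCongr hcc.symm).app F ≪≫ (EtCore.pullComp c V'.ι).app F ≪≫
      (EtCoh.pull c).mapIso ((pullRestrIso V'.ι).app F)
  · refine ShortComplex.shortExact_of_iso ?_ hS'
    refine ShortComplex.isoMk θ.symm (Iso.refl _) (Iso.refl _) ?_ ?_
    · exact (Iso.inv_hom_id_assoc θ _).trans (Category.comp_id _).symm
    · exact (Category.id_comp _).trans (Category.comp_id _).symm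

theorem isZero_Eobj_bot {X : Scheme.{u}} (F : EtCoh.Ab X) : IsZero (Eobj F (⊥ : X.Opens)) := by
  apply Groth.Agent.H21.ConstrACC.isZero_of_stalks
  intro s
  apply isZero_stalk_extZero
  intro u _
  have h : (⊥ : X.Opens).ι (u default) ∈ Set.range (⊥ : X.Opens).ι := ⟨_, rfl⟩
  rw [Scheme.Opens.range_ι] at h
  exact h

theorem nonempty_iso_Eobj_top {X : Scheme.{u}} (F : EtCoh.Ab X) :
    Nonempty (Eobj F (⊤ : X.Opens) ≅ F) := by
  have key : ∀ (Ω : Type u) [Field Ω] [IsSepClosed Ω] (ξ : Spec (CommRingCat.of Ω) ⟶ X),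
      IsIso ((EtCoh.stalk ξ).map ((EtShriek.extZeroAdj (⊤ : X.Opens).ι).counit.app F)) :=
    fun Ω _ _ ξ => Groth.Agent.H4.ExtZeroStalk.isIso_stalk_counit (⊤ : X.Opens).ι F
      (ξ ≫ X.topIso.inv) ξ (by rw [Category.assoc, Scheme.toIso_inv_ι, Category.comp_id])
  let S : ShortComplex (EtCoh.Ab X) := ShortComplex.mk (0 : F ⟶ F) (0 : F ⟶ F) zero_comp
  have hm : Mono ((EtShriek.extZeroAdj (⊤ : X.Opens).ι).counit.app F) := by
    rw [(Groth.Agent.S0622.result S _).2.1]
    intro Ω _ _ ξ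
    have := key Ω ξ
    exact (ConcreteCategory.bijective_of_isIso _).1
  have he : Epi ((EtShriek.extZeroAdj (⊤ : X.Opens).ι).counit.app F) := by
    rw [(Groth.Agent.S0622.result S _).2.2]
    intro Ω _ _ ξ
    have := key Ω ξ
    exact (ConcreteCategory.bijective_of_isIso _).2
  have : IsIso ((EtShriek.extZeroAdj (⊤ : X.Opens).ι).counit.app F) := isIso_of_mono_of_epi _
  exact ⟨asIso ((EtShriek.extZeroAdj (⊤ : X.Opens).ι).counit.app F)⟩


theorem exists_opens_of_chain {X : Scheme.{u}} (F : EtCoh.Ab X) {V V' : X.Opens}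
    (h : Chain F V V') (hV : IsCompact (V : Set X)) :
    ∃ (n : ℕ) (U : Fin (n + 1) → X.Opens), U 0 = V ∧ U (Fin.last n) = V' ∧
      (∀ k : Fin (n + 1), IsCompact (U k : Set X)) ∧
      ∀ k : Fin n, IsStep F (U k.castSucc) (U k.succ) := by
  induction h with
  | refl => exact ⟨0, fun _ => V, rfl, rfl, fun _ => hV, fun k => k.elim0⟩
  | @step V' V'' _ hs ih =>
    obtain ⟨n, U, h0, hl, hc, hk⟩ := ih
    refine ⟨n + 1, Fin.snoc (α := fun _ => X.Opens) U V'', ?_, ?_, ?_, ?_⟩
    · have e : (0 : Fin (n + 1 + 1)) = Fin.castSucc (0 : Fin (n + 1)) := rfl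
      rw [e, Fin.snoc_castSucc]
      exact h0
    · exact Fin.snoc_last _ _
    · intro k
      refine Fin.lastCases ?_ (fun i => ?_) k
      · rw [Fin.snoc_last]
        exact hs.2.1
      · rw [Fin.snoc_castSucc]
        exact hc i
    · intro k
      refine Fin.lastCases ?_ (fun i => ?_) k
      · rw [Fin.succ_last, Fin.snoc_last, Fin.snoc_castSucc, hl]
        exact hs
      · rw [← Fin.castSucc_succ, Fin.snoc_castSucc, Fin.snoc_castSucc]
        exact hk i

/-- **Filtration of a constructible sheaf** -/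
theorem exists_filtration {X : Scheme.{u}} [CompactSpace X] [QuasiSeparatedSpace X]
    (F : EtCoh.Ab X) (hF : EtPBC.IsConstructible F) :
    ∃ (n : ℕ) (E : Fin (n + 1) → EtCoh.Ab X) (ι : ∀ k : Fin n, E k.castSucc ⟶ E k.succ),
      IsZero (E 0) ∧ Nonempty (E (Fin.last n) ≅ F) ∧
      ∀ k : Fin n, ∃ (U W : Scheme.{u}) (j : U ⟶ X) (_ : IsOpenImmersion j) (c : W ⟶ U)
        (_ : IsClosedImmersion c) (G : EtCoh.Ab W)
        (π : E k.succ ⟶ (EtShriek.extZero j).obj ((EtCoh.push c).obj G)) (hz : ι k ≫ π = 0),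
        Topology.IsConstructible (Set.range (c ≫ j)) ∧ EtCoh.IsFiniteLocallyConstant G ∧
        (ShortComplex.mk (ι k) π hz).ShortExact := by
  obtain ⟨n, U, h0, hl, hc, hk⟩ := exists_opens_of_chain F (chain_of_isConstructible hF)
    (by simp)
  have key := fun k : Fin n => step_ses F (hc k.castSucc) (hk k)
  choose ι hι using key
  refine ⟨n, fun k => Eobj F (U k), ι, ?_, ?_, hι⟩
  · show IsZero (Eobj F (U 0))
    rw [h0]
    exact isZero_Eobj_bot F
  · show Nonempty (Eobj F (U (Fin.last n)) ≅ F)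
    rw [hl]
    exact nonempty_iso_Eobj_top F

end Groth.Agent.H21.Filt
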