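import Groth.Agent.H21.GenStalk
import Groth.Prelude.Def_EtModW

set_option autoImplicit false
universe u
open CategoryTheory CategoryTheory.Limits AlgebraicGeometry Opposite

namespace Groth.Agent.H21.GenStalkMod

open Groth.Agent.H21.ConstSec Groth.Agent.H21.ConstUnit Groth.Agent.H4.Stalks

variable (Λ : Type (u + 1)) [CommRing Λ] {X : Scheme.{u}}

instance forgetPresMod : PreservesFilteredColimitsOfSize.{u, u} (forget (ModuleCat.{u+1} Λ)) :=
  preservesFilteredColimitsOfSize_of_univLE.{u+1, u+1, u, u} _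

instance hasSheafCompose_forgetMod (Y : Scheme.{u}) :
    Y.smallEtaleTopology.HasSheafCompose (forget (ModuleCat.{u + 1} Λ)) := by
  have : PreservesLimitsOfSize.{u, u + 1} (forget (ModuleCat.{u + 1} Λ)) :=
    preservesLimitsOfSize_of_univLE.{u + 1, u + 1, u, u + 1} _
  infer_instance

variable {Λ}

/-- sections -/
abbrev SecM (F : EtModW.Mod Λ X) (V : X.Etale) : Type (u + 1) := ↑(F.obj.obj (op V))

def resM (F : EtModW.Mod Λ X) {V W : X.Etale} (g : W ⟶ V) : SecM F V →ₗ[Λ] SecM F W :=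
  (F.obj.map g.op).hom

variable (F : EtModW.Mod Λ X)

lemma resM_res {V W Z : X.Etale} (g : W ⟶ V) (h : Z ⟶ W) (s : SecM F V) :
    resM F h (resM F g s) = resM F (h ≫ g) s := by
  simp [resM, op_comp, F.obj.map_comp]

def appM {F G : EtModW.Mod Λ X} (p : F ⟶ G) (V : X.Etale) : SecM F V →ₗ[Λ] SecM G V :=
  (p.hom.app (op V)).hom

lemma appM_res {F G : EtModW.Mod Λ X} (p : F ⟶ G) {V W : X.Etale} (g : W ⟶ V) (s : SecM F V) :
    appM p W (resM F g s) = resM G g (appM p V s) := by
  have := p.hom.naturality g.op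
  exact congrArg (fun k => k.hom s) this

variable (Λ) in
noncomputable abbrev cstM (X : Scheme.{u}) (M : ModuleCat.{u + 1} Λ) : EtModW.Mod Λ X :=
  (constantSheaf X.smallEtaleTopology (ModuleCat.{u + 1} Λ)).obj M

noncomputable def etaM (M : ModuleCat.{u + 1} Λ) (V : X.Etale) : ↑M →ₗ[Λ] SecM (cstM Λ X M) V :=
  ((toSheafify X.smallEtaleTopology ((Functor.const X.Etaleᵒᵖ).obj M)).app (op V)).hom

lemma resM_eta (M : ModuleCat.{u + 1} Λ) {V W : X.Etale} (g : W ⟶ V) (m : ↑M) :
    resM (cstM Λ X M) g (etaM M V m) = etaM M W m := by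
  have := (toSheafify X.smallEtaleTopology ((Functor.const X.Etaleᵒᵖ).obj M)).naturality g.op
  have h2 := congrArg (fun k => k.hom m) this
  exact h2.symm

lemma etaM_locally_surjective (M : ModuleCat.{u + 1} Λ) {V : X.Etale} (s : SecM (cstM Λ X M) V) :
    ∃ R : Sieve V, R ∈ X.smallEtaleTopology V ∧ ∀ ⦃W : X.Etale⦄ (g : W ⟶ V), R g →
      ∃ m : ↑M, etaM M W m = resM (cstM Λ X M) g s := by
  refine ⟨_, Presheaf.imageSieve_mem X.smallEtaleTopology
    (toSheafify X.smallEtaleTopology ((Functor.const X.Etaleᵒᵖ).obj M)) s, ?_⟩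
  intro W g hg
  obtain ⟨t, ht⟩ := hg
  exact ⟨t, ht⟩

lemma etaM_injective_or (M : ModuleCat.{u + 1} Λ) {V : X.Etale} (m m' : ↑M)
    (h : etaM M V m = etaM M V m') : m = m' ∨ (⊥ : Sieve V) ∈ X.smallEtaleTopology V := by
  have hmem := Presheaf.equalizerSieve_mem X.smallEtaleTopology
    (toSheafify X.smallEtaleTopology ((Functor.const X.Etaleᵒᵖ).obj M))
    (X := op V) m m' h
  by_cases hm : m = m'
  · exact Or.inl hm
  · right
    convert hmem using 1
    ext W g
    constructor
    · intro hg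
      exact hg.elim
    · intro hg
      exact (hm (by simpa [Presheaf.equalizerSieve] using hg)).elim

theorem exists_isValM {M : ModuleCat.{u + 1} Λ} {Z : X.Etale} (s : SecM (cstM Λ X M) Z) (z : Z.left) :
    ∃ (m : ↑M) (T : X.Etale) (g : T ⟶ Z) (t : T.left), g.left t = z ∧
      resM (cstM Λ X M) g s = etaM M T m := by
  obtain ⟨R, hR, h⟩ := etaM_locally_surjective M s
  obtain ⟨T, g, t, hg, ht⟩ := (mem_iff R).1 hR z
  obtain ⟨m, hm⟩ := h g hg
  exact ⟨m, T, g, t, ht, hm.symm⟩

lemma appM_map_eta {M N : ModuleCat.{u + 1} Λ} (h : M ⟶ N) (V : X.Etale) (m : ↑M) :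
    appM ((constantSheaf X.smallEtaleTopology (ModuleCat.{u + 1} Λ)).map h) V (etaM M V m) =
      etaM N V (h.hom m) := by
  have h1 := toSheafify_naturality X.smallEtaleTopology
    ((Functor.const X.Etaleᵒᵖ).map h)
  have h2 := congrArg (fun k => (k.app (op V)).hom m) h1
  exact h2.symm

lemma injective_appM_of_mono {F G : EtModW.Mod Λ X} (a : F ⟶ G) [Mono a] (W : X.Etale) :
    Function.Injective (appM a W) := by
  have h2 : Mono ((sheafToPresheaf _ _).map a) := inferInstance
  have h3 : Mono (((evaluation _ _).obj (op W)).map ((sheafToPresheaf _ _).map a)) :=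
    inferInstance
  exact (ModuleCat.mono_iff_injective _).1 h3

section Germ

variable {Ω : Type u} [Field Ω] [IsSepClosed Ω] {ξ : Spec (CommRingCat.of Ω) ⟶ X}

noncomputable def germM (F : EtModW.Mod Λ X) {U : X.Etale} (x : Fib ξ U) :
    F.obj.obj (op U) ⟶ (EtModW.stalk Λ ξ).obj F :=
  (Scheme.pointSmallEtale ξ).toPresheafFiber U x F.obj

lemma germM_surjective (F : EtModW.Mod Λ X) (t : (EtModW.stalk Λ ξ).obj F) :
    ∃ (U : X.Etale) (x : Fib ξ U) (s : F.obj.obj (op U)), germM F x s = t :=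
  (Scheme.pointSmallEtale ξ).toPresheafFiber_jointly_surjective (P := F.obj) t

lemma germM_res (F : EtModW.Mod Λ X) {U V : X.Etale} (g : V ⟶ U) (y : Fib ξ V)
    (s : F.obj.obj (op U)) :
    germM F y (F.obj.map g.op s) = germM F ((Scheme.pointSmallEtale ξ).fiber.map g y) s :=
  (Scheme.pointSmallEtale ξ).toPresheafFiber_w_apply g y F.obj s

lemma germM_eq_iff (F : EtModW.Mod Λ X) {U : X.Etale} (x : Fib ξ U) (s s' : F.obj.obj (op U)) :
    germM F x s = germM F x s' ↔ ∃ (V : X.Etale) (g : V ⟶ U) (y : Fib ξ V),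
      (Scheme.pointSmallEtale ξ).fiber.map g y = x ∧ F.obj.map g.op s = F.obj.map g.op s' :=
  (Scheme.pointSmallEtale ξ).toPresheafFiber_eq_iff' (P := F.obj) U x s s'

lemma germM_map {F G : EtModW.Mod Λ X} (a : F ⟶ G) {U : X.Etale} (x : Fib ξ U) (s : F.obj.obj (op U)) :
    (EtModW.stalk Λ ξ).map a (germM F x s) = germM G x (a.hom.app (op U) s) :=
  (Scheme.pointSmallEtale ξ).toPresheafFiber_naturality_apply a.hom U x s

end Germ


set_option backward.isDefEq.respectTransparency.types false in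
theorem isIso_of_stalk_generic [IrreducibleSpace X] {Ω : Type u} [Field Ω] [IsSepClosed Ω]
    (ξ : Spec (CommRingCat.of Ω) ⟶ X) (hξ : ξ.base default = genericPoint X)
    {M' M : ModuleCat.{u + 1} Λ} (ι' : M' ⟶ M) (G : EtModW.Mod Λ X)
    (a : cstM Λ X M' ⟶ G) (b : G ⟶ cstM Λ X M) [Mono a] [Mono b]
    (hab : a ≫ b = (constantSheaf X.smallEtaleTopology (ModuleCat.{u + 1} Λ)).map ι')
    (hst : IsIso ((EtModW.stalk Λ ξ).map a)) : IsIso a := by
  have hb := injective_appM_of_mono b
  have ha := injective_appM_of_mono a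
  have habs : ∀ (W : X.Etale) (r : SecM (cstM Λ X M') W), appM b W (appM a W r) =
      appM ((constantSheaf X.smallEtaleTopology (ModuleCat.{u + 1} Λ)).map ι') W r := by
    intro W r
    exact congrArg (fun k => appM k W r) hab
  refine (Sheaf.isLocallyBijective_iff_isIso a).1 ⟨⟨?_⟩, ⟨?_⟩⟩
  · intro V x y hxy
    have hxy' : x = y := ha V.unop hxy
    rw [mem_iff]
    intro v
    refine ⟨V.unop, 𝟙 _, v, ?_, rfl⟩
    show resM (cstM Λ X M') (𝟙 _) x = resM (cstM Λ X M') (𝟙 _) y
    rw [hxy']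
  · intro V s
    rw [mem_iff]
    intro v
    obtain ⟨c, T, g, t₀, ht₀, hT⟩ := exists_isValM (appM b V s) v
    have : Nonempty T.left := ⟨t₀⟩
    obtain ⟨t₁, ht₁⟩ := Groth.Agent.H21.GenStalk.exists_generic_point T
    obtain ⟨x, hx⟩ := Fib.exists_of_point (ξ := ξ) T t₁ (ht₁.trans hξ.symm)
    have hsurj : Function.Surjective ((EtModW.stalk Λ ξ).map a) := by
      have := (isIso_iff_bijective ((forget (ModuleCat.{u + 1} Λ)).map ((EtModW.stalk Λ ξ).map a))).1 inferInstance
      exact this.2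
    obtain ⟨τ, hτ⟩ := hsurj (germM G x (resM G g s))
    obtain ⟨U', y, r, hr⟩ := germM_surjective (cstM Λ X M') τ
    let e₁ : (Scheme.pointSmallEtale ξ).fiber.Elements := ⟨T, x⟩
    let e₂ : (Scheme.pointSmallEtale ξ).fiber.Elements := ⟨U', y⟩
    let Z := IsCofiltered.min e₁ e₂
    let p : Z ⟶ e₁ := IsCofiltered.minToLeft e₁ e₂
    let q : Z ⟶ e₂ := IsCofiltered.minToRight e₁ e₂
    have hp : (Scheme.pointSmallEtale ξ).fiber.map p.1 Z.2 = x := p.2
    have hq : (Scheme.pointSmallEtale ξ).fiber.map q.1 Z.2 = y := q.2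
    have h1 : germM G Z.2 (resM G p.1 (resM G g s)) =
        germM G Z.2 (appM a Z.1 (resM (cstM Λ X M') q.1 r)) := by
      have e1 : germM G Z.2 (resM G p.1 (resM G g s)) = germM G x (resM G g s) := by
        have := germM_res G p.1 Z.2 (resM G g s)
        rw [hp] at this
        exact this
      have e2 : germM G Z.2 (appM a Z.1 (resM (cstM Λ X M') q.1 r)) = germM G y (appM a U' r) := by
        rw [appM_res]
        have := germM_res G q.1 Z.2 (appM a U' r)
        rw [hq] at this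
        exact this
      rw [e1, e2, ← hτ, ← hr]
      exact germM_map a y r
    obtain ⟨Z', k, z', hz', hk⟩ := (germM_eq_iff G Z.2 _ _).1 h1
    obtain ⟨c', Z'', k', z'', hz'', hZ''⟩ := exists_isValM (resM (cstM Λ X M') (k ≫ q.1) r) z'.pt
    have hs'' : resM G (k' ≫ k ≫ p.1 ≫ g) s = appM a Z'' (etaM M' Z'' c') := by
      have h2 : resM G k (resM G p.1 (resM G g s)) =
          resM G k (appM a Z.1 (resM (cstM Λ X M') q.1 r)) := hk
      have h3 := congrArg (resM G k') h2
      rw [resM_res, resM_res, resM_res, ← appM_res, ← appM_res, resM_res, resM_res] at h3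
      have hZ3 : resM (cstM Λ X M') ((k' ≫ k) ≫ q.1) r = etaM M' Z'' c' := by
        rw [Category.assoc, ← resM_res]
        exact hZ''
      rw [hZ3] at h3
      simpa only [Category.assoc] using h3
    have hc : c = ι'.hom c' := by
      have h4 : appM b Z'' (resM G (k' ≫ k ≫ p.1 ≫ g) s) = etaM M Z'' c := by
        rw [appM_res, ← resM_res, ← resM_res, ← resM_res, hT, resM_eta, resM_eta, resM_eta]
      rw [hs'', habs, appM_map_eta] at h4
      rcases etaM_injective_or M _ _ h4 with h | h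
      · exact h.symm
      · exact ((bot_mem_iff.1 h).false z'').elim
    refine ⟨T, g, t₀, ⟨etaM M' T c', ?_⟩, ht₀⟩
    show appM a T (etaM M' T c') = resM G g s
    apply hb T
    rw [habs, appM_map_eta, ← hc]
    have : appM b T (resM G g s) = etaM M T c := by
      rw [appM_res]
      exact hT
    exact this.symm

end Groth.Agent.H21.GenStalkMod
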