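import Mathlib.AlgebraicGeometry.Geometrically.Reduced
import Mathlib.AlgebraicGeometry.Morphisms.Flat
import Mathlib.RingTheory.Flat.Basic
import Mathlib.RingTheory.Adjoin.FG
import Mathlib.RingTheory.TensorProduct.Maps

/-!
# Geometrically reduced × reduced is reduced (no finiteness)
-/

universe u

open TensorProduct CategoryTheory CategoryTheory.Limits AlgebraicGeometry

namespace Groth.Agent.H21.GeomRed

section ring

variable {k A B : Type*} [Field k] [CommRing A] [CommRing B] [Algebra k A] [Algebra k B]

/-- Every element of `A ⊗[k] B` comes from `A ⊗[k] B₀` for a finitely generated subalgebra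
`B₀ ⊆ B`. -/
theorem exists_fg_subalgebra_mem_range (x : A ⊗[k] B) :
    ∃ B₀ : Subalgebra k B, B₀.FG ∧
      x ∈ (Algebra.TensorProduct.map (AlgHom.id k A) B₀.val).range := by
  have mono : ∀ {B₁ B₂ : Subalgebra k B} (h : B₁ ≤ B₂),
      (Algebra.TensorProduct.map (AlgHom.id k A) B₁.val).range ≤
        (Algebra.TensorProduct.map (AlgHom.id k A) B₂.val).range := by
    intro B₁ B₂ h
    rintro _ ⟨y, rfl⟩
    refine ⟨Algebra.TensorProduct.map (AlgHom.id k A) (Subalgebra.inclusion h) y, ?_⟩
    change (Algebra.TensorProduct.map (AlgHom.id k A) B₂.val)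
      ((Algebra.TensorProduct.map (AlgHom.id k A) (Subalgebra.inclusion h)) y) =
      (Algebra.TensorProduct.map (AlgHom.id k A) B₁.val) y
    induction y with
    | zero => simp
    | tmul a b => simp
    | add x y hx hy => simp only [map_add, hx, hy]
  induction x with
  | zero => exact ⟨⊥, Subalgebra.fg_bot, Subalgebra.zero_mem _⟩
  | tmul a b =>
    refine ⟨Algebra.adjoin k {b}, ?_,
      ⟨a ⊗ₜ ⟨b, Algebra.subset_adjoin (Set.mem_singleton b)⟩, by simp⟩⟩
    simpa using Subalgebra.fg_adjoin_finset (R := k) ({b} : Finset B)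
  | add x y hx hy =>
    obtain ⟨B₁, h₁, hx⟩ := hx
    obtain ⟨B₂, h₂, hy⟩ := hy
    exact ⟨B₁ ⊔ B₂, h₁.sup h₂, Subalgebra.add_mem _ (mono le_sup_left hx) (mono le_sup_right hy)⟩

/-- If `A ⊗[k] B₀` is reduced for all finitely generated subalgebras `B₀ ⊆ B`, then
`A ⊗[k] B` is reduced. -/
theorem isReduced_tensorProduct_of_forall_fg
    (H : ∀ B₀ : Subalgebra k B, B₀.FG → IsReduced (A ⊗[k] B₀)) : IsReduced (A ⊗[k] B) := by
  refine ⟨fun x hx ↦ ?_⟩
  obtain ⟨B₀, hB₀, y, rfl⟩ := exists_fg_subalgebra_mem_range x
  have := H B₀ hB₀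
  have hinj : Function.Injective (Algebra.TensorProduct.map (AlgHom.id k A) B₀.val) := by
    have : ⇑(Algebra.TensorProduct.map (AlgHom.id k A) B₀.val) =
        ⇑(LinearMap.lTensor A B₀.val.toLinearMap) := by
      ext z
      induction z with
      | zero => simp
      | tmul a b => simp
      | add x y hx hy => simp only [map_add, hx, hy]
    rw [this]
    exact Module.Flat.lTensor_preserves_injective_linearMap _ Subtype.val_injective
  obtain ⟨n, hn⟩ := hx
  have : y ^ n = 0 := hinj (by simpa using hn)
  rw [IsReduced.eq_zero y ⟨n, this⟩, map_zero]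

end ring

end Groth.Agent.H21.GeomRed

namespace Groth.Agent.H21.GeomRed

section scheme

/-- Geometric reducedness is inherited by open subschemes of the source. -/
theorem geometricallyReduced_comp_of_isOpenImmersion {U X Y : Scheme.{u}} (j : U ⟶ X) (f : X ⟶ Y)
    [IsOpenImmersion j] [GeometricallyReduced f] : GeometricallyReduced (j ≫ f) := by
  constructor
  intro K _ y Z fst snd h
  have h' := IsPullback.of_hasPullback f y
  let l : Z ⟶ pullback f y := pullback.lift (fst ≫ j) snd (by simp [h.w])
  have hl : IsPullback fst l j (pullback.fst f y) :=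
    IsPullback.of_bot (by rw [pullback.lift_snd]; exact h) (pullback.lift_fst _ _ _).symm h'
  have : IsOpenImmersion l := MorphismProperty.of_isPullback hl inferInstance
  have : IsReduced (pullback f y) :=
    GeometricallyReduced.geometrically_isReduced (f := f) y _ _ h'
  exact isReduced_of_isOpenImmersion l

/-- Affine algebra version. -/
theorem isReduced_tensorProduct_of_geometricallyReduced {k A B : Type u} [Field k] [CommRing A]
    [CommRing B] [Algebra k A] [Algebra k B]
    [GeometricallyReduced (Spec.map (CommRingCat.ofHom (algebraMap k A)))] [_root_.IsReduced B] :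
    _root_.IsReduced (A ⊗[k] B) := by
  apply isReduced_tensorProduct_of_forall_fg
  intro B₀ hB₀
  have : Algebra.FiniteType k B₀ := (Subalgebra.fg_iff_finiteType B₀).mp hB₀
  have : IsNoetherianRing B₀ := Algebra.FiniteType.isNoetherianRing k B₀
  have : _root_.IsReduced B₀ := isReduced_of_injective B₀.val Subtype.val_injective
  have : IsReduced (pullback (Spec.map (CommRingCat.ofHom (algebraMap k A)))
      (Spec.map (CommRingCat.ofHom (algebraMap k B₀)))) := inferInstance
  have : IsReduced (Spec (.of (A ⊗[k] B₀))) :=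
    isReduced_of_isOpenImmersion (pullbackSpecIso k A B₀).inv
  exact (affine_isReduced_iff _).mp this

theorem isReduced_pullback_of_isAffine {k : Type u} [Field k] {X S : Scheme.{u}} [IsAffine X]
    [IsAffine S] (f : X ⟶ Spec (CommRingCat.of k)) (g : S ⟶ Spec (CommRingCat.of k))
    [GeometricallyReduced f] [IsReduced S] : IsReduced (pullback f g) := by
  let φA : CommRingCat.of k ⟶ Γ(X, ⊤) := Spec.preimage (X.isoSpec.inv ≫ f)
  let φB : CommRingCat.of k ⟶ Γ(S, ⊤) := Spec.preimage (S.isoSpec.inv ≫ g)
  let : Algebra k Γ(X, ⊤) := φA.hom.toAlgebra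
  let : Algebra k Γ(S, ⊤) := φB.hom.toAlgebra
  have hA : Spec.map (CommRingCat.ofHom (algebraMap k Γ(X, ⊤))) = X.isoSpec.inv ≫ f :=
    Spec.map_preimage _
  have hB : Spec.map (CommRingCat.ofHom (algebraMap k Γ(S, ⊤))) = S.isoSpec.inv ≫ g :=
    Spec.map_preimage _
  have : GeometricallyReduced (Spec.map (CommRingCat.ofHom (algebraMap k Γ(X, ⊤)))) := by
    rw [hA]
    have : MorphismProperty.RespectsIso @GeometricallyReduced :=
      MorphismProperty.IsStableUnderBaseChange.respectsIso
    exact (MorphismProperty.cancel_left_of_respectsIso @GeometricallyReduced X.isoSpec.inv f).mpr ‹_›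
  have : _root_.IsReduced (Γ(X, ⊤) ⊗[k] Γ(S, ⊤)) :=
    isReduced_tensorProduct_of_geometricallyReduced
  have : IsReduced (Spec (.of (Γ(X, ⊤) ⊗[k] Γ(S, ⊤)))) := inferInstance
  have : IsReduced (pullback (Spec.map (CommRingCat.ofHom (algebraMap k Γ(X, ⊤))))
      (Spec.map (CommRingCat.ofHom (algebraMap k Γ(S, ⊤))))) :=
    isReduced_of_isOpenImmersion (pullbackSpecIso k Γ(X, ⊤) Γ(S, ⊤)).hom
  let e : pullback f g ⟶ pullback (Spec.map (CommRingCat.ofHom (algebraMap k Γ(X, ⊤))))
      (Spec.map (CommRingCat.ofHom (algebraMap k Γ(S, ⊤)))) :=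
    pullback.map _ _ _ _ X.isoSpec.hom S.isoSpec.hom (𝟙 _) (by rw [hA]; simp) (by rw [hB]; simp)
  exact isReduced_of_isOpenImmersion e

/-- If `X` is geometrically reduced over a field `k` and `S` is any reduced `k`-scheme, then
`X ×ₖ S` is reduced. -/
theorem isReduced_pullback {k : Type u} [Field k] {X S : Scheme.{u}}
    (f : X ⟶ Spec (CommRingCat.of k)) (g : S ⟶ Spec (CommRingCat.of k))
    [GeometricallyReduced f] [IsReduced S] : IsReduced (pullback f g) := by
  have : ∀ ij, IsReduced
      ((Scheme.Pullback.openCoverOfLeftRight X.affineCover S.affineCover f g).X ij) := by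
    rintro ⟨i, j⟩
    change IsReduced (pullback (X.affineCover.f i ≫ f) (S.affineCover.f j ≫ g))
    have := geometricallyReduced_comp_of_isOpenImmersion (X.affineCover.f i) f
    have : IsReduced (S.affineCover.X j) := isReduced_of_isOpenImmersion (S.affineCover.f j)
    exact isReduced_pullback_of_isAffine _ _
  exact IsReduced.of_openCover _
    (Scheme.Pullback.openCoverOfLeftRight X.affineCover S.affineCover f g)

end scheme

end Groth.Agent.H21.GeomRed
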