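import Groth.Agent.H21.EpsFull
import Groth.Agent.H21.EtaleStd

open AlgebraicGeometry CategoryTheory TopologicalSpace Opposite An Topology Limits Polynomial

set_option linter.unusedSectionVars false

namespace Groth.Agent.H21

noncomputable section

/-- The standard étale pair `(X ^ (m+1) - u, 1)` for a unit `u`, when `m + 1` is invertible. -/
def kummerPair {R : Type} [CommRing R] (u w kinv : R) (m : ℕ) (hw : u * w = 1)
    (hkinv : ((m + 1 : ℕ) : R) * kinv = 1) : StandardEtalePair R where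
  f := X ^ (m + 1) - C u
  monic_f := monic_X_pow_sub_C u (by omega)
  g := 1
  cond := by
    refine ⟨C (w * kinv) * X, - C w, 0, ?_⟩
    have h1 : C (((m + 1 : ℕ) : R)) * C (w * kinv) = C w := by
      rw [← C_mul]
      congr 1
      linear_combination w * hkinv
    have h2 : C u * C w = (1 : R[X]) := by
      rw [← C_mul, hw, C_1]
    have h3 : derivative (X ^ (m + 1) - C u : R[X]) = C (((m + 1 : ℕ) : R)) * X ^ m := by
      rw [derivative_sub, derivative_X_pow, derivative_C, sub_zero]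
      simp
    rw [h3, pow_zero]
    linear_combination (X ^ (m + 1)) * h1 + h2

/-- The tautological presentation of the Kummer algebra. -/
def kummerPres {R : Type} [CommRing R] (u w kinv : R) (m : ℕ) (hw : u * w = 1)
    (hkinv : ((m + 1 : ℕ) : R) * kinv = 1) :
    StandardEtalePresentation R (kummerPair u w kinv m hw hkinv).Ring where
  P := kummerPair u w kinv m hw hkinv
  x := (kummerPair u w kinv m hw hkinv).X
  hasMap := StandardEtalePair.hasMap_X
  lift_bijective := by
    rw [StandardEtalePair.lift_X_left]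
    exact Function.bijective_id

variable {W : Scheme.{0}} [W.Over SC]

/-- If a regular function on an affine scheme of finite type over `ℂ` has a continuous logarithm
on complex points, then it has `k`-th roots for all `k > 0`. -/
theorem exists_pow_eq_of_continuous_log [IsAffine W] [LocallyOfFiniteType (W ↘ SC)]
    (u : Γ(W, ⊤)) (ψ : Pts W → ℂ) (hψ : Continuous ψ)
    (hexp : ∀ x : Pts W, Complex.exp (ψ x) = x.evTop u) (k : ℕ) (hk : 0 < k) :
    ∃ v : Γ(W, ⊤), v ^ k = u := by
  classical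
  have hu : IsUnit u := by
    by_contra hnu
    obtain ⟨m, hm, hum⟩ := exists_max_ideal_of_mem_nonunits hnu
    obtain ⟨x, hx⟩ := exists_pts_of_isMaximal m
    have h0 := (hx u).2 hum
    rw [← hexp] at h0
    exact Complex.exp_ne_zero _ h0
  obtain ⟨w, hw⟩ := hu.exists_right_inv
  obtain ⟨m, rfl⟩ : ∃ m, k = m + 1 := ⟨k - 1, by omega⟩
  let kinv : Γ(W, ⊤) := strHom W (((m + 1 : ℕ) : ℂ)⁻¹)
  have hkinv : ((m + 1 : ℕ) : Γ(W, ⊤)) * kinv = 1 := by
    have h1 : ((m + 1 : ℕ) : Γ(W, ⊤)) = strHom W ((m + 1 : ℕ) : ℂ) :=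
      (map_natCast (strHom W) _).symm
    rw [h1, ← map_mul, mul_inv_cancel₀ (Nat.cast_ne_zero.2 (by omega)), map_one]
  let P : StandardEtalePair Γ(W, ⊤) := kummerPair u w kinv m hw hkinv
  let Pst : StandardEtalePresentation Γ(W, ⊤) P.Ring := kummerPres u w kinv m hw hkinv
  let V : Scheme.{0} := Spec (CommRingCat.of P.Ring)
  let g : V ⟶ W := Spec.map (CommRingCat.ofHom (algebraMap Γ(W, ⊤) P.Ring)) ≫ W.isoSpec.inv
  let _ : V.Over SC := ⟨g ≫ (W ↘ SC)⟩
  have hgover : g.IsOver SC := ⟨rfl⟩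
  have hget : Etale g := by
    have h1 : Etale (Spec.map (CommRingCat.ofHom (algebraMap Γ(W, ⊤) P.Ring))) := by
      rw [HasRingHomProperty.Spec_iff (P := @Etale)]
      exact RingHom.etale_algebraMap.2 inferInstance
    infer_instance
  let eR : Γ(W, ⊤) ≃+* Γ(W, ⊤) := RingEquiv.refl _
  let eS : P.Ring ≃+* Γ(V, ⊤) :=
    (Scheme.ΓSpecIso (CommRingCat.of P.Ring)).symm.commRingCatIsoToRingEquiv
  have hcomm : ∀ r, g.appTop.hom (eR r) = eS (algebraMap Γ(W, ⊤) P.Ring r) := by
    intro r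
    have h1 : g.appTop = CommRingCat.ofHom (algebraMap Γ(W, ⊤) P.Ring) ≫
        (Scheme.ΓSpecIso (CommRingCat.of P.Ring)).inv := by
      rw [Scheme.Hom.comp_appTop, isoSpec_inv_appTop', Scheme.ΓSpecIso_inv_naturality]
      rfl
    rw [h1]
    rfl
  let H := stdHomeo g Pst eR eS hcomm
  -- the continuous section
  let σ : Pts W → StdLocus Pst eR := fun y =>
    ⟨(y, Complex.exp (ψ y / ((m + 1 : ℕ) : ℂ))), by
      constructor
      · change ((X ^ (m + 1) - C u : Γ(W, ⊤)[X]).map (chi (eR : Γ(W, ⊤) →+* Γ(W, ⊤)) y)).IsRoot _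
        rw [IsRoot.def, Polynomial.map_sub, Polynomial.map_pow, map_X, map_C, eval_sub, eval_pow,
          eval_X, eval_C, ← Complex.exp_nat_mul, mul_div_cancel₀ _ (Nat.cast_ne_zero.2 (by omega)),
          hexp, sub_eq_zero]
        rfl
      · change ((1 : Γ(W, ⊤)[X]).map (chi (eR : Γ(W, ⊤) →+* Γ(W, ⊤)) y)).eval _ ≠ 0
        rw [Polynomial.map_one, eval_one]
        exact one_ne_zero⟩
  have hσ : Continuous σ := by
    apply Continuous.subtype_mk
    exact continuous_id.prodMk (Complex.continuous_exp.comp (hψ.div_const _))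
  let φ : Pts W → Pts V := fun y => H.symm (σ y)
  have hφ : Continuous φ := H.symm.continuous.comp hσ
  have hφv : ∀ a, Pts.map g (φ a) = Pts.map (𝟙 W) a := by
    intro a
    rw [Pts.map_id]
    have h1 : H (φ a) = σ a := H.apply_symm_apply _
    have h2 : (H (φ a)).1.1 = Pts.map g (φ a) := rfl
    rw [← h2, h1]
  obtain ⟨s, hs, -⟩ := exists_hom_of_continuous_lift (𝟙 W) g φ hφ hφv
  refine ⟨s.appTop.hom (eS Pst.x), ?_⟩
  have hx : Pst.x ^ (m + 1) = algebraMap Γ(W, ⊤) P.Ring u := by
    have h1 := Pst.hasMap.1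
    change aeval Pst.x (X ^ (m + 1) - C u : Γ(W, ⊤)[X]) = 0 at h1
    rw [map_sub, map_pow, aeval_X, aeval_C, sub_eq_zero] at h1
    exact h1
  rw [← map_pow, ← map_pow, hx, ← hcomm]
  change (g.appTop ≫ s.appTop).hom u = u
  rw [← Scheme.Hom.comp_appTop, hs]
  rfl

end

end Groth.Agent.H21
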