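import Groth.Agent.H21.ConstSec
import Mathlib.CategoryTheory.Sites.CoverLifting
import Mathlib.CategoryTheory.Sites.Over

set_option autoImplicit false
universe u
open CategoryTheory CategoryTheory.Limits AlgebraicGeometry Opposite

namespace Groth.Agent.H21.LocConst

open Groth.Agent.H21.ConstSec

variable {X : Scheme.{u}}

/-- the constant sheaf on the over-site is the restriction of the constant sheaf -/
noncomputable def constOverIso (T : X.Etale) (M : AddCommGrpCat.{u + 1}) :
    (constantSheaf (X.smallEtaleTopology.over T) AddCommGrpCat.{u + 1}).obj M ≅ (cst X M).over T :=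
  ((Over.forget T).pushforwardContinuousSheafificationCompatibility AddCommGrpCat.{u + 1}
    (X.smallEtaleTopology.over T) X.smallEtaleTopology).app ((Functor.const _).obj M)

theorem constOverIso_naturality (T : X.Etale) {M N : AddCommGrpCat.{u + 1}} (h : M ⟶ N) :
    (constantSheaf (X.smallEtaleTopology.over T) AddCommGrpCat.{u + 1}).map h ≫
      (constOverIso T N).hom =
    (constOverIso T M).hom ≫ (X.smallEtaleTopology.overPullback AddCommGrpCat.{u + 1} T).map
      ((constantSheaf X.smallEtaleTopology AddCommGrpCat.{u + 1}).map h) :=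
  ((Over.forget T).pushforwardContinuousSheafificationCompatibility AddCommGrpCat.{u + 1}
    (X.smallEtaleTopology.over T) X.smallEtaleTopology).hom.naturality ((Functor.const _).map h)

section Val

variable {M : AddCommGrpCat.{u + 1}}

theorem isVal_add {Z : X.Etale} {s s' : Sec (cst X M) Z} {z : Z.left} {a b : ↑M}
    (h : IsVal s z a) (h' : IsVal s' z b) : IsVal (s + s') z (a + b) := by
  obtain ⟨T, g, t, ht, hs⟩ := h
  obtain ⟨T', g', t', ht', hs'⟩ := h'
  obtain ⟨P, p, p', x, hpp, hx, -⟩ := exists_pullback_point g g' t t' (ht.trans ht'.symm)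
  refine ⟨P, p ≫ g, x, ?_, ?_⟩
  · show g.left (p.left x) = z
    rw [hx, ht]
  · rw [map_add, map_add, ← res_res, hs, res_eta, hpp, ← res_res, hs', res_eta]

end Val

section OverHom

variable {F G H : EtCoh.Ab X} {T : X.Etale}

/-- a morphism between restrictions to the over-site, on sections -/
def secHom (b : F.over T ⟶ G.over T) {S : X.Etale} (g : S ⟶ T) : Sec F S →+ Sec G S :=
  (b.hom.app (op (Over.mk g))).hom

lemma secHom_res (b : F.over T ⟶ G.over T) {S S' : X.Etale} (g : S ⟶ T) (h : S' ⟶ S)
    (s : Sec F S) : secHom b (h ≫ g) (res F h s) = res G h (secHom b g s) := by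
  have := b.hom.naturality (Over.homMk h rfl : Over.mk (h ≫ g) ⟶ Over.mk g).op
  exact congrArg (fun k => k.hom s) this

lemma secHom_comp (b : F.over T ⟶ G.over T) (c : G.over T ⟶ H.over T) {S : X.Etale} (g : S ⟶ T)
    (s : Sec F S) : secHom (b ≫ c) g s = secHom c g (secHom b g s) := rfl

lemma secHom_id {S : X.Etale} (g : S ⟶ T) (s : Sec F S) : secHom (𝟙 (F.over T)) g s = s := rfl

end OverHom

section Eval

variable {N N' N'' : AddCommGrpCat.{u + 1}} {W : X.Etale}

/-- a natural family of additive maps between sections of constant sheaves over `W` -/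
structure NatFam (N N' : AddCommGrpCat.{u + 1}) (W : X.Etale) where
  /-- the maps -/
  map : ∀ {S : X.Etale} (_ : S ⟶ W), Sec (cst X N) S →+ Sec (cst X N') S
  nat : ∀ {S S' : X.Etale} (k : S ⟶ W) (k' : S' ⟶ W) (h : S' ⟶ S) (_ : h ≫ k = k')
    (s : Sec (cst X N) S), map k' (res (cst X N) h s) = res (cst X N') h (map k s)

/-- the induced map on values at a point -/
noncomputable def NatFam.valMap (γ : NatFam N N' W) (w : W.left) (n : ↑N) : ↑N' :=
  Classical.choose (exists_isVal (γ.map (𝟙 W) (eta N W n)) w)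

lemma NatFam.valMap_spec (γ : NatFam N N' W) (w : W.left) (n : ↑N) :
    IsVal (γ.map (𝟙 W) (eta N W n)) w (γ.valMap w n) :=
  Classical.choose_spec (exists_isVal (γ.map (𝟙 W) (eta N W n)) w)

lemma NatFam.isVal_map (γ : NatFam N N' W) (w : W.left) {s : Sec (cst X N) W} {n : ↑N}
    (h : IsVal s w n) : IsVal (γ.map (𝟙 W) s) w (γ.valMap w n) := by
  obtain ⟨T₁, h₁, t₁, ht₁, hs₁⟩ := h
  obtain ⟨T₂, h₂, t₂, ht₂, hs₂⟩ := γ.valMap_spec w n
  obtain ⟨P, p, p', x, hpp, hx, -⟩ := exists_pullback_point h₁ h₂ t₁ t₂ (ht₁.trans ht₂.symm)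
  refine ⟨P, p ≫ h₁, x, ?_, ?_⟩
  · show h₁.left (p.left x) = w
    rw [hx, ht₁]
  · have e1 : res (cst X N') (p ≫ h₁) (γ.map (𝟙 W) s) =
        γ.map (p ≫ h₁) (res (cst X N) (p ≫ h₁) s) :=
      (γ.nat (𝟙 W) (p ≫ h₁) (p ≫ h₁) (Category.comp_id _) s).symm
    have e2 : res (cst X N') (p ≫ h₁) (γ.map (𝟙 W) (eta N W n)) =
        γ.map (p ≫ h₁) (res (cst X N) (p ≫ h₁) (eta N W n)) :=
      (γ.nat (𝟙 W) (p ≫ h₁) (p ≫ h₁) (Category.comp_id _) _).symm
    rw [e1, ← res_res, hs₁, res_eta, ← res_eta N (p ≫ h₁) n, ← e2, hpp, ← res_res, hs₂, res_eta]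

lemma NatFam.valMap_add (γ : NatFam N N' W) (w : W.left) (a b : ↑N) :
    γ.valMap w (a + b) = γ.valMap w a + γ.valMap w b := by
  have h1 := γ.valMap_spec w (a + b)
  have h2 := isVal_add (γ.valMap_spec w a) (γ.valMap_spec w b)
  rw [← map_add, ← map_add] at h2
  exact h1.unique h2

/-- two mutually inverse natural families induce an isomorphism of value groups at any point -/
theorem nonempty_addEquiv_of_natFam (γ : NatFam N N' W) (δ : NatFam N' N W) (w : W.left)
    (hγδ : ∀ s, δ.map (𝟙 W) (γ.map (𝟙 W) s) = s) (hδγ : ∀ s, γ.map (𝟙 W) (δ.map (𝟙 W) s) = s) :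
    Nonempty (↑N ≃+ ↑N') := by
  refine ⟨{ toFun := γ.valMap w, invFun := δ.valMap w, left_inv := ?_, right_inv := ?_,
            map_add' := γ.valMap_add w }⟩
  · intro n
    have h1 := δ.isVal_map w (γ.valMap_spec w n)
    rw [hγδ] at h1
    exact h1.unique (isVal_eta w n)
  · intro n
    have h1 := γ.isVal_map w (δ.valMap_spec w n)
    rw [hδγ] at h1
    exact h1.unique (isVal_eta w n)

end Eval

section Uniq

variable {F : EtCoh.Ab X} {N N' : AddCommGrpCat.{u + 1}}

/-- the natural family attached to two trivializations -/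
noncomputable def natFamOf {T T' W : X.Etale} (p : W ⟶ T) (p' : W ⟶ T')
    (b : (cst X N).over T ⟶ F.over T) (b' : F.over T' ⟶ (cst X N').over T') : NatFam N N' W where
  map k := (secHom b' (k ≫ p')).comp (secHom b (k ≫ p))
  nat := by
    intro S S' k k' h hk s
    subst hk
    simp only [AddMonoidHom.coe_comp, Function.comp_apply]
    rw [Category.assoc, Category.assoc, secHom_res, secHom_res]

set_option backward.isDefEq.respectTransparency.types false in
/-- the value group of a trivialization near a point is unique up to isomorphism -/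
theorem nonempty_addEquiv_of_trivializations {T T' : X.Etale} (t : T.left) (t' : T'.left)
    (htt : T.hom t = T'.hom t')
    (β : F.over T ≅ (cst X N).over T) (β' : F.over T' ≅ (cst X N').over T') :
    Nonempty (↑N ≃+ ↑N') := by
  let g : T ⟶ EtCoh.top X := MorphismProperty.Over.homMk T.hom (Category.comp_id _) trivial
  let g' : T' ⟶ EtCoh.top X := MorphismProperty.Over.homMk T'.hom (Category.comp_id _) trivial
  obtain ⟨W, p, p', w, -, -, -⟩ := exists_pullback_point g g' t t' htt
  refine nonempty_addEquiv_of_natFam (natFamOf p p' β.inv β'.hom) (natFamOf p' p β'.inv β.hom) w ?_ ?_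
  · intro s
    simp only [natFamOf, AddMonoidHom.coe_comp, Function.comp_apply]
    rw [← secHom_comp β'.hom β'.inv, Iso.hom_inv_id, secHom_id, ← secHom_comp β.inv β.hom,
      Iso.inv_hom_id, secHom_id]
  · intro s
    simp only [natFamOf, AddMonoidHom.coe_comp, Function.comp_apply]
    rw [← secHom_comp β.hom β.inv, Iso.hom_inv_id, secHom_id, ← secHom_comp β'.inv β'.hom,
      Iso.inv_hom_id, secHom_id]

end Uniq

end Groth.Agent.H21.LocConst
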