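import Groth.Agent.H21.LocConst

set_option autoImplicit false
universe u
open CategoryTheory CategoryTheory.Limits AlgebraicGeometry Opposite

namespace Groth.Agent.H21.LocConst

open Groth.Agent.H21.ConstSec

variable {X : Scheme.{u}}

/-- `F` is trivialized over `T` with value group `M` -/
def Triv (F : EtCoh.Ab X) (T : X.Etale) (M : Type) [AddCommGroup M] : Prop :=
  Nonempty (EtCoh.restr F T ≅
    (constantSheaf (X.smallEtaleTopology.over T) AddCommGrpCat.{u + 1}).obj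
      (AddCommGrpCat.of (ULift.{u + 1} M)))

theorem Triv.addEquiv {F : EtCoh.Ab X} {T T' : X.Etale} {M M' : Type} [AddCommGroup M]
    [AddCommGroup M'] (h : Triv F T M) (h' : Triv F T' M') (t : T.left) (t' : T'.left)
    (htt : T.hom t = T'.hom t') : Nonempty (M ≃+ M') := by
  obtain ⟨α⟩ := h
  obtain ⟨α'⟩ := h'
  obtain ⟨e⟩ := nonempty_addEquiv_of_trivializations (F := F) t t' htt
    (α ≪≫ constOverIso T _) (α' ≪≫ constOverIso T' _)
  exact ⟨(AddEquiv.ulift.symm.trans e).trans AddEquiv.ulift⟩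

theorem Triv.congr {F : EtCoh.Ab X} {T : X.Etale} {M M' : Type} [AddCommGroup M]
    [AddCommGroup M'] (h : Triv F T M) (e : M ≃+ M') : Triv F T M' := by
  obtain ⟨α⟩ := h
  let e' : AddCommGrpCat.of (ULift.{u + 1} M) ≅ AddCommGrpCat.of (ULift.{u + 1} M') :=
    ((AddEquiv.ulift.trans e).trans AddEquiv.ulift.symm).toAddCommGrpIso
  exact ⟨α ≪≫ (constantSheaf (X.smallEtaleTopology.over T) AddCommGrpCat.{u + 1}).mapIso e'⟩

/-- S0105 -/
theorem exists_uniform_trivialization [ConnectedSpace X] (F : EtCoh.Ab X)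
    (h : EtCoh.IsFiniteLocallyConstant F) :
    ∃ (M : Type) (_ : AddCommGroup M) (_ : Finite M) (ι : Type u) (U : ι → X.Etale),
      EtCoh.Covers U ∧ ∀ i, Triv F (U i) M := by
  obtain ⟨ι, U, hcov, htriv⟩ := h
  have x₀ : X := Classical.arbitrary X
  obtain ⟨i₀, y₀, hy₀⟩ := hcov x₀
  obtain ⟨M₀, hM₀, hfin, hα₀⟩ := htriv i₀
  have hα₀' : Triv F (U i₀) M₀ := hα₀
  let S : Set X := {x | ∃ (i : ι) (y : (U i).left), (U i).hom y = x ∧ Triv F (U i) M₀}
  have hopen : ∀ i, IsOpen (Set.range (U i).hom) := fun i => (U i).hom.isOpenMap.isOpen_range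
  have hS : IsClopen S := by
    constructor
    · rw [← isOpen_compl_iff, isOpen_iff_forall_mem_open]
      intro x hx
      obtain ⟨i, y, hy⟩ := hcov x
      obtain ⟨M, hM, -, hα⟩ := htriv i
      have hα' : Triv F (U i) M := hα
      refine ⟨Set.range (U i).hom, ?_, hopen i, ⟨y, hy⟩⟩
      rintro _ ⟨y', rfl⟩ ⟨i', y'', hy'', hT⟩
      obtain ⟨e⟩ := hα'.addEquiv hT y' y'' hy''.symm
      exact hx ⟨i, y, hy, hα'.congr e⟩
    · rw [isOpen_iff_forall_mem_open]
      rintro x ⟨i, y, hy, hT⟩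
      refine ⟨Set.range (U i).hom, ?_, hopen i, ⟨y, hy⟩⟩
      rintro _ ⟨y', rfl⟩
      exact ⟨i, y', rfl, hT⟩
  have hSuniv : S = Set.univ := hS.eq_univ ⟨x₀, i₀, y₀, hy₀, hα₀'⟩
  have hall : ∀ x : X, ∃ (i : ι) (y : (U i).left), (U i).hom y = x ∧ Triv F (U i) M₀ := by
    intro x
    have : x ∈ S := hSuniv ▸ Set.mem_univ x
    exact this
  choose i y hy hT using hall
  exact ⟨M₀, hM₀, hfin, X, fun x => U (i x), fun x => ⟨x, y x, hy x⟩, hT⟩

end Groth.Agent.H21.LocConst
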