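import Groth.Agent.H21.LocConst
import Groth.Agent.H21.GenStalk

set_option autoImplicit false
universe u
open CategoryTheory CategoryTheory.Limits AlgebraicGeometry Opposite

namespace Groth.Agent.H21.LocConstMap

open Groth.Agent.H21.ConstSec Groth.Agent.H21.ConstUnit Groth.Agent.H21.LocConst

variable {X : Scheme.{u}}

section Restrict

variable {F G H : EtCoh.Ab X} {T W : X.Etale}

set_option backward.isDefEq.respectTransparency.types false in
/-- restriction of a morphism between restrictions to a smaller object -/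
def restrictHom (p : W ⟶ T) (b : F.over T ⟶ G.over T) : F.over W ⟶ G.over W :=
  ⟨{ app := fun Y => b.hom.app (op ((Over.map p).obj Y.unop))
     naturality := fun Y Z k => b.hom.naturality ((Over.map p).map k.unop).op }⟩

lemma secHom_restrictHom (p : W ⟶ T) (b : F.over T ⟶ G.over T) {S : X.Etale} (g : S ⟶ W)
    (s : Sec F S) : secHom (restrictHom p b) g s = secHom b (g ≫ p) s := rfl

lemma restrictHom_comp (p : W ⟶ T) (b : F.over T ⟶ G.over T) (c : G.over T ⟶ H.over T) :
    restrictHom p (b ≫ c) = restrictHom p b ≫ restrictHom p c := rfl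

lemma restrictHom_id (p : W ⟶ T) : restrictHom p (𝟙 (F.over T)) = 𝟙 (F.over W) := rfl

/-- restriction of isomorphisms -/
def restrictIso (p : W ⟶ T) (b : F.over T ≅ G.over T) : F.over W ≅ G.over W where
  hom := restrictHom p b.hom
  inv := restrictHom p b.inv
  hom_inv_id := by rw [← restrictHom_comp, Iso.hom_inv_id, restrictHom_id]
  inv_hom_id := by rw [← restrictHom_comp, Iso.inv_hom_id, restrictHom_id]

lemma secHom_overPullback_map (φ : F ⟶ G) {S : X.Etale} (g : S ⟶ T) (s : Sec F S) :
    secHom ((X.smallEtaleTopology.overPullback AddCommGrpCat.{u + 1} T).map φ) g s = app φ S s := rfl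

/-- morphisms between restrictions are determined by their action on sections -/
theorem hom_ext_secHom (b c : F.over T ⟶ G.over T)
    (h : ∀ {S : X.Etale} (g : S ⟶ T) (s : Sec F S), secHom b g s = secHom c g s) : b = c := by
  apply Sheaf.hom_ext
  ext Y s
  exact h Y.unop.hom s

end Restrict


section Refine

set_option backward.isDefEq.respectTransparency.types false in
/-- finitely many étale neighbourhoods of a point have a common refinement -/
theorem exists_common_refinement {W₀ : X.Etale} (w₀ : W₀.left) {ι : Type*} [Finite ι]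
    (T : ι → X.Etale) (g : ∀ i, T i ⟶ W₀) (t : ∀ i, (T i).left) (ht : ∀ i, (g i).left (t i) = w₀) :
    ∃ (W : X.Etale) (q : W ⟶ W₀) (w : W.left), q.left w = w₀ ∧ ∀ i, ∃ r : W ⟶ T i, r ≫ g i = q := by
  classical
  have : Fintype ι := Fintype.ofFinite ι
  have key : ∀ S : Finset ι, ∃ (W : X.Etale) (q : W ⟶ W₀) (w : W.left), q.left w = w₀ ∧
      ∀ i ∈ S, ∃ r : W ⟶ T i, r ≫ g i = q := by
    intro S
    induction S using Finset.induction_on with
    | empty => exact ⟨W₀, 𝟙 _, w₀, rfl, fun i hi => (Finset.notMem_empty i hi).elim⟩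
    | insert i S hi ih =>
      obtain ⟨W, q, w, hw, hr⟩ := ih
      obtain ⟨P, p, p', x, hpp, hx, hx'⟩ := exists_pullback_point q (g i) w (t i) (hw.trans (ht i).symm)
      refine ⟨P, p ≫ q, x, ?_, ?_⟩
      · show q.left (p.left x) = w₀
        rw [hx, hw]
      · intro j hj
        rcases Finset.mem_insert.1 hj with rfl | hj
        · exact ⟨p', hpp.symm⟩
        · obtain ⟨r, hr'⟩ := hr j hj
          exact ⟨p ≫ r, by rw [Category.assoc, hr']⟩
  obtain ⟨W, q, w, hw, hr⟩ := key Finset.univ
  exact ⟨W, q, w, hw, fun i => hr i (Finset.mem_univ i)⟩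

end Refine

section ConstMap

variable {M N : AddCommGrpCat.{u + 1}}

/-- a natural family of maps from a finite constant sheaf is, near any point, induced by a
homomorphism of groups -/
theorem exists_const_map [Finite ↑M] {W₀ : X.Etale} (γ : NatFam M N W₀) (w₀ : W₀.left) :
    ∃ (W : X.Etale) (q : W ⟶ W₀) (w : W.left) (h : M ⟶ N), q.left w = w₀ ∧
      ∀ {S : X.Etale} (k : S ⟶ W) (s : Sec (cst X M) S),
        γ.map (k ≫ q) s = app ((Δ X).map h) S s := by
  let h₀ : ↑M →+ ↑N := AddMonoidHom.mk' (γ.valMap w₀) (γ.valMap_add w₀)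
  have hspec : ∀ m : ↑M, ∃ (T : X.Etale) (g : T ⟶ W₀) (t : T.left), g.left t = w₀ ∧
      res (cst X N) g (γ.map (𝟙 W₀) (eta M W₀ m)) = eta N T (h₀ m) := fun m => γ.valMap_spec w₀ m
  choose T g t ht hT using hspec
  obtain ⟨W, q, w, hw, hr⟩ := exists_common_refinement w₀ T g t ht
  refine ⟨W, q, w, AddCommGrpCat.ofHom h₀, hw, ?_⟩
  have hq : ∀ m : ↑M, res (cst X N) q (γ.map (𝟙 W₀) (eta M W₀ m)) = eta N W (h₀ m) := by
    intro m
    obtain ⟨r, hr'⟩ := hr m
    rw [← hr', ← res_res, hT, res_eta]
  intro S k s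
  obtain ⟨R, hR, hRs⟩ := eta_locally_surjective M s
  apply sec_ext (cst X N) R hR
  intro Z j hj
  obtain ⟨m, hm⟩ := hRs j hj
  have e1 : res (cst X N) j (γ.map (k ≫ q) s) = eta N Z (h₀ m) := by
    rw [← γ.nat (k ≫ q) (j ≫ k ≫ q) j rfl s, ← hm, ← res_eta M (j ≫ k ≫ q) m,
      γ.nat (𝟙 W₀) (j ≫ k ≫ q) (j ≫ k ≫ q) (Category.comp_id _), ← Category.assoc, ← res_res, hq,
      res_eta]
  have e2 : res (cst X N) j (app ((Δ X).map (AddCommGrpCat.ofHom h₀)) S s) = eta N Z (h₀ m) := by
    rw [← app_res, ← hm, Groth.Agent.H21.GenStalk.app_map_eta]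
    rfl
  rw [e1, e2]

end ConstMap


section Main

variable {F G : EtCoh.Ab X}

/-- the natural family attached to a map and two trivializations -/
noncomputable def natFamOfMap {M N : AddCommGrpCat.{u + 1}} {T T' W : X.Etale} (φ : F ⟶ G)
    (p : W ⟶ T) (p' : W ⟶ T')
    (a : (cst X M).over T ⟶ F.over T) (b : G.over T' ⟶ (cst X N).over T') : NatFam M N W where
  map {S} k := (secHom b (k ≫ p')).comp ((app φ S).comp (secHom a (k ≫ p)))
  nat := by
    intro S S' k k' h hk s
    subst hk
    simp only [AddMonoidHom.coe_comp, Function.comp_apply]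
    rw [Category.assoc, Category.assoc, secHom_res, app_res, secHom_res]

set_option backward.isDefEq.respectTransparency.types false in
theorem local_at (φ : F ⟶ G) {M N : AddCommGrpCat.{u + 1}} [Finite ↑M] {T T' : X.Etale}
    (t : T.left) (t' : T'.left) (htt : T.hom t = T'.hom t')
    (a₀ : F.over T ≅ (constantSheaf (X.smallEtaleTopology.over T) AddCommGrpCat.{u + 1}).obj M)
    (b₀ : G.over T' ≅ (constantSheaf (X.smallEtaleTopology.over T') AddCommGrpCat.{u + 1}).obj N) :
    ∃ (W : X.Etale) (w : W.left) (h : M ⟶ N)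
      (α : F.over W ≅ (constantSheaf (X.smallEtaleTopology.over W) AddCommGrpCat.{u + 1}).obj M)
      (β : G.over W ≅ (constantSheaf (X.smallEtaleTopology.over W) AddCommGrpCat.{u + 1}).obj N),
      W.hom w = T.hom t ∧
      (X.smallEtaleTopology.overPullback AddCommGrpCat.{u + 1} W).map φ ≫ β.hom =
        α.hom ≫ (constantSheaf (X.smallEtaleTopology.over W) AddCommGrpCat.{u + 1}).map h := by
  let g : T ⟶ EtCoh.top X := MorphismProperty.Over.homMk T.hom (Category.comp_id _) trivial
  let g' : T' ⟶ EtCoh.top X := MorphismProperty.Over.homMk T'.hom (Category.comp_id _) trivial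
  obtain ⟨W₀, p, p', w₀, -, hw₀, -⟩ := exists_pullback_point g g' t t' htt
  let a₁ : F.over T ≅ (cst X M).over T := a₀ ≪≫ constOverIso T M
  let b₁ : G.over T' ≅ (cst X N).over T' := b₀ ≪≫ constOverIso T' N
  obtain ⟨W, q, w, h, hw, hγ⟩ := exists_const_map (natFamOfMap φ p p' a₁.inv b₁.hom) w₀
  have hnat : (constOverIso W M).inv ≫
      (constantSheaf (X.smallEtaleTopology.over W) AddCommGrpCat.{u + 1}).map h =
      (X.smallEtaleTopology.overPullback AddCommGrpCat.{u + 1} W).map ((Δ X).map h) ≫
        (constOverIso W N).inv := by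
    rw [Iso.inv_comp_eq, ← Category.assoc, Iso.eq_comp_inv]
    exact constOverIso_naturality W h
  have key : (X.smallEtaleTopology.overPullback AddCommGrpCat.{u + 1} W).map φ ≫
      restrictHom (q ≫ p') b₁.hom = restrictHom (q ≫ p) a₁.hom ≫
        (X.smallEtaleTopology.overPullback AddCommGrpCat.{u + 1} W).map ((Δ X).map h) := by
    apply hom_ext_secHom
    intro S k s
    rw [secHom_comp, secHom_comp, secHom_overPullback_map, secHom_overPullback_map,
      secHom_restrictHom, secHom_restrictHom]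
    have h1 := hγ k (secHom a₁.hom (k ≫ q ≫ p) s)
    have h2 : secHom a₁.inv ((k ≫ q) ≫ p) (secHom a₁.hom (k ≫ q ≫ p) s) = s := by
      rw [Category.assoc, ← secHom_comp a₁.hom a₁.inv, Iso.hom_inv_id, secHom_id]
    rw [← h1]
    simp only [natFamOfMap, AddMonoidHom.coe_comp, Function.comp_apply]
    rw [h2, Category.assoc]
  refine ⟨W, w, h, restrictIso (q ≫ p) a₁ ≪≫ (constOverIso W M).symm,
    restrictIso (q ≫ p') b₁ ≪≫ (constOverIso W N).symm, ?_, ?_⟩
  · have e1 : (q ≫ p).left ≫ T.hom = W.hom := Over.w (q ≫ p).hom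
    have e2 := congrArg (fun f => f w) e1
    simp only [Scheme.Hom.comp_apply] at e2
    rw [← e2]
    have : (q ≫ p).left w = t := by
      show p.left (q.left w) = t
      rw [hw, hw₀]
    rw [this]
  · simp only [Iso.trans_hom, Iso.symm_hom, restrictIso]
    rw [← Category.assoc, key, Category.assoc, Category.assoc, hnat]

end Main

end Groth.Agent.H21.LocConstMap
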