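import Groth.Agent.H21.ModLocConst
import Mathlib.CategoryTheory.Sites.EpiMono
import Mathlib.Algebra.Homology.ShortComplex.ExactFunctor
import Mathlib.Algebra.Homology.ShortComplex.ModuleCat

set_option autoImplicit false
universe u
open CategoryTheory CategoryTheory.Limits AlgebraicGeometry Opposite

namespace Groth.Agent.H21.ModExt

open Groth.Agent.H21.ConstSec Groth.Agent.H21.GenStalkMod Groth.Agent.H21.ModLocConst

variable {Λ : Type (u + 1)} [CommRing Λ] {X : Scheme.{u}}

section Lift

variable {F G : EtModW.Mod Λ X} {W : X.Etale} {M E : ModuleCat.{u + 1} Λ}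

set_option backward.isDefEq.respectTransparency.types false in
lemma constOverIsoM_hom_toSheafify {S : X.Etale} (g : S ⟶ W) (m : ↑M) :
    ((constOverIsoM W M).hom.hom.app (op (Over.mk g))).hom
      (((toSheafify (X.smallEtaleTopology.over W) ((Functor.const _).obj M)).app (op (Over.mk g))).hom m) =
      etaM M S m := by
  have h := (Over.forget W).toSheafify_pullbackSheafificationCompatibility (ModuleCat.{u + 1} Λ)
    (X.smallEtaleTopology.over W) X.smallEtaleTopology ((Functor.const _).obj M)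
  have h2 := congrArg (fun k => (k.app (op (Over.mk g))).hom m) h
  exact h2

set_option backward.isDefEq.respectTransparency.types false in
/-- the presheaf map attached to a linear map into sections over `W` -/
def liftPre (ε : ↑E →ₗ[Λ] SecM F W) :
    (Functor.const (Over W)ᵒᵖ).obj E ⟶ (F.over W).obj where
  app Y := ModuleCat.ofHom ((resM F Y.unop.hom).comp ε)
  naturality := by
    intro Y Y' k
    ext e
    simp only [Functor.const_obj_obj, Functor.const_obj_map, Category.id_comp]
    show resM F Y'.unop.hom (ε e) = resM F k.unop.left (resM F Y.unop.hom (ε e))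
    rw [resM_res, Over.w]

set_option backward.isDefEq.respectTransparency.types false in
/-- the morphism from a constant sheaf attached to a linear map into sections over `W` -/
noncomputable def cstLift (ε : ↑E →ₗ[Λ] SecM F W) : (cstM Λ X E).over W ⟶ F.over W :=
  (constOverIsoM W E).inv ≫ ⟨sheafifyLift (X.smallEtaleTopology.over W) (liftPre ε) (F.over W).property⟩

set_option backward.isDefEq.respectTransparency.types false in
lemma secHomM_cstLift (ε : ↑E →ₗ[Λ] SecM F W) {S : X.Etale} (g : S ⟶ W) (e : ↑E) :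
    secHomM (cstLift ε) g (etaM E S e) = resM F g (ε e) := by
  rw [← constOverIsoM_hom_toSheafify g e]
  have h1 : (constOverIsoM W E).hom ≫ cstLift ε =
      ⟨sheafifyLift (X.smallEtaleTopology.over W) (liftPre ε) (F.over W).property⟩ := by
    simp [cstLift]
  have h2 := toSheafify_sheafifyLift (X.smallEtaleTopology.over W) (liftPre ε) (F.over W).property
  have h3 := congrArg (fun k => (k.hom.app (op (Over.mk g))).hom
    (((toSheafify (X.smallEtaleTopology.over W) ((Functor.const _).obj E)).app (op (Over.mk g))).hom e)) h1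
  have h4 := congrArg (fun k => (k.app (op (Over.mk g))).hom e) h2
  exact h3.trans h4

/-- maps out of a restricted constant sheaf are determined on constant sections -/
theorem hom_ext_cst (b c : (cstM Λ X M).over W ⟶ G.over W)
    (h : ∀ {S : X.Etale} (g : S ⟶ W) (m : ↑M), secHomM b g (etaM M S m) = secHomM c g (etaM M S m)) :
    b = c := by
  apply hom_ext_secHomM
  intro S g s
  obtain ⟨R, hR, hRs⟩ := etaM_locally_surjective M s
  apply secM_ext G R hR
  intro Z j hj
  obtain ⟨m, hm⟩ := hRs j hj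
  rw [← secHomM_res, ← secHomM_res, ← hm, h]

end Lift

section Exact

variable (Λ) (W : X.Etale)

instance presFinLim_cst : PreservesFiniteLimits (constantSheaf X.smallEtaleTopology (ModuleCat.{u + 1} Λ)) := by
  unfold constantSheaf; infer_instance

instance presFinColim_cst : PreservesFiniteColimits (constantSheaf X.smallEtaleTopology (ModuleCat.{u + 1} Λ)) := by
  have := (constantSheafAdj X.smallEtaleTopology (ModuleCat.{u + 1} Λ)
    (Groth.Agent.H21.ConstUnit.topIsTerminal X)).leftAdjoint_preservesColimits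
  infer_instance

instance presFinLim_cstOver : PreservesFiniteLimits (constantSheaf (X.smallEtaleTopology.over W) (ModuleCat.{u + 1} Λ)) := by
  unfold constantSheaf; infer_instance

instance presFinColim_cstOver : PreservesFiniteColimits (constantSheaf (X.smallEtaleTopology.over W) (ModuleCat.{u + 1} Λ)) := by
  have := (constantSheafAdj (X.smallEtaleTopology.over W) (ModuleCat.{u + 1} Λ) (Over.mkIdTerminal (X := W))).leftAdjoint_preservesColimits
  infer_instance

instance presFinLim_overPullback : PreservesFiniteLimits (X.smallEtaleTopology.overPullback (ModuleCat.{u + 1} Λ) W) := by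
  infer_instance

instance presFinColim_overPullback : PreservesFiniteColimits (X.smallEtaleTopology.overPullback (ModuleCat.{u + 1} Λ) W) := by
  have := ((Over.forget W).sheafAdjunctionCocontinuous (ModuleCat.{u + 1} Λ) (X.smallEtaleTopology.over W) X.smallEtaleTopology).leftAdjoint_preservesColimits
  infer_instance

instance : (X.smallEtaleTopology.overPullback (ModuleCat.{u + 1} Λ) W).PreservesZeroMorphisms := by
  infer_instance

instance : (constantSheaf X.smallEtaleTopology (ModuleCat.{u + 1} Λ)).PreservesZeroMorphisms := by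
  infer_instance

instance : (constantSheaf (X.smallEtaleTopology.over W) (ModuleCat.{u + 1} Λ)).PreservesZeroMorphisms := by
  infer_instance

end Exact

section Core

variable [IsNoetherianRing Λ] {F' F F'' : EtModW.Mod Λ X} (i : F' ⟶ F) (p : F ⟶ F'')

theorem core
    (hzero : ∀ (S : X.Etale) (g : SecM F' S), appM p S (appM i S g) = 0)
    (hex : ∀ (S : X.Etale) (s : SecM F S), appM p S s = 0 → ∃ g, appM i S g = s)
    (hsurj : ∀ (S : X.Etale) (s'' : SecM F'' S) (z : S.left), ∃ (S' : X.Etale) (k : S' ⟶ S)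
      (z' : S'.left), k.left z' = z ∧ ∃ s, appM p S' s = resM F'' k s'')
    {M' M'' : Type (u + 1)} [AddCommGroup M'] [Module Λ M'] [AddCommGroup M''] [Module Λ M'']
    [Module.Finite Λ M'] [Module.Finite Λ M'']
    {T : X.Etale} (t : T.left) (a' : M' →ₗ[Λ] SecM F' T) (a'' : M'' →ₗ[Λ] SecM F'' T)
    (hloc : ∀ {S : X.Etale} (g : S ⟶ T) (s : SecM F' S) (z : S.left), ∃ (S' : X.Etale)
      (k : S' ⟶ S) (z' : S'.left), k.left z' = z ∧ ∃ m', resM F' (k ≫ g) (a' m') = resM F' k s) :
    ∃ (W : X.Etale) (q : W ⟶ T) (w : W.left), q.left w = t ∧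
      ∃ (E : Type (u + 1)) (_ : AddCommGroup E) (_ : Module Λ E) (_ : Module.Finite Λ E)
        (u : M' →ₗ[Λ] E) (v : E →ₗ[Λ] M'') (ε : E →ₗ[Λ] SecM F W),
        Function.Exact u v ∧ Function.Surjective v ∧
        (∀ m', ε (u m') = appM i W (resM F' q (a' m'))) ∧
        (∀ e, appM p W (ε e) = resM F'' q (a'' (v e))) := by
  classical
  obtain ⟨r, π, hπ⟩ := Module.Finite.exists_fin' Λ M''
  -- lifts of the generators
  have h2 : ∀ j : Fin r, ∃ (S' : X.Etale) (k : S' ⟶ T) (z' : S'.left), k.left z' = t ∧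
      ∃ s, appM p S' s = resM F'' k (a'' (π (Pi.single j 1))) := fun j => hsurj T _ t
  choose S₁ k₁ z₁ hz₁ f₁ hf₁ using h2
  obtain ⟨W₁, q₁, w₁, hw₁, hr₁⟩ :=
    Groth.Agent.H21.LocConstMap.exists_common_refinement t S₁ k₁ z₁ hz₁
  choose r₁ hr₁ using hr₁
  let f : Fin r → SecM F W₁ := fun j => resM F (r₁ j) (f₁ j)
  have hf : ∀ j, appM p W₁ (f j) = resM F'' q₁ (a'' (π (Pi.single j 1))) := by
    intro j
    show appM p W₁ (resM F (r₁ j) (f₁ j)) = _
    rw [appM_res, hf₁, resM_res, hr₁]
  let L : (Fin r → Λ) →ₗ[Λ] SecM F W₁ := Fintype.linearCombination Λ f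
  have hL : ∀ c, appM p W₁ (L c) = resM F'' q₁ (a'' (π c)) := by
    have : (appM p W₁).comp L = ((resM F'' q₁).comp a'').comp π := by
      apply LinearMap.pi_ext'
      intro j
      ext
      simp only [LinearMap.coe_comp, Function.comp_apply, LinearMap.coe_single, L,
        Fintype.linearCombination_apply_single, one_smul, hf]
    exact fun c => LinearMap.congr_fun this c
  -- the relations
  have hker : (LinearMap.ker π).FG := IsNoetherian.noetherian _
  obtain ⟨gens, hgens⟩ := hker
  have h3 : ∀ ρ : gens, ∃ g : SecM F' W₁, appM i W₁ g = L ρ.1 := by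
    intro ρ
    apply hex
    have hρ : ρ.1 ∈ LinearMap.ker π := by
      rw [← hgens]; exact Submodule.subset_span ρ.2
    rw [hL, LinearMap.mem_ker.1 hρ, map_zero, map_zero]
  choose g₂ hg₂ using h3
  have h4 : ∀ ρ : gens, ∃ (S' : X.Etale) (k : S' ⟶ W₁) (z' : S'.left), k.left z' = w₁ ∧
      ∃ m', resM F' (k ≫ q₁) (a' m') = resM F' k (g₂ ρ) := fun ρ => hloc q₁ (g₂ ρ) w₁
  choose S₂ k₂ z₂ hz₂ m₂ hm₂ using h4
  obtain ⟨W, q₂, w, hw, hr₂⟩ :=
    Groth.Agent.H21.LocConstMap.exists_common_refinement w₁ S₂ k₂ z₂ hz₂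
  choose r₂ hr₂ using hr₂
  have hg₂' : ∀ ρ : gens, resM F' q₂ (g₂ ρ) = resM F' (q₂ ≫ q₁) (a' (m₂ ρ)) := by
    intro ρ
    rw [← hr₂ ρ, ← resM_res, ← hm₂, resM_res, Category.assoc]
  let q : W ⟶ T := q₂ ≫ q₁
  let LW : (Fin r → Λ) →ₗ[Λ] SecM F W := (resM F q₂).comp L
  let A' : M' →ₗ[Λ] SecM F' W := (resM F' q).comp a'
  let A'' : M'' →ₗ[Λ] SecM F'' W := (resM F'' q).comp a''
  have hLW : ∀ c, appM p W (LW c) = A'' (π c) := by
    intro c
    show appM p W (resM F q₂ (L c)) = resM F'' (q₂ ≫ q₁) (a'' (π c))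
    rw [appM_res, hL, resM_res]
  have hrel : LinearMap.ker π ≤ Submodule.comap LW (LinearMap.range ((appM i W).comp A')) := by
    rw [← hgens, Submodule.span_le]
    intro ρ hρ
    refine ⟨m₂ ⟨ρ, hρ⟩, ?_⟩
    show appM i W (resM F' (q₂ ≫ q₁) (a' (m₂ ⟨ρ, hρ⟩))) = resM F q₂ (L ρ)
    rw [← hg₂' ⟨ρ, hρ⟩, appM_res, hg₂]
  let Ψ : (M' × (Fin r → Λ)) →ₗ[Λ] (SecM F W × M'') :=
    (((appM i W).comp A').coprod LW).prod (π.comp (LinearMap.snd Λ M' (Fin r → Λ)))
  refine ⟨W, q, w, ?_, ↥(LinearMap.range Ψ), inferInstance, inferInstance, ?_,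
    Ψ.rangeRestrict.comp (LinearMap.inl Λ M' (Fin r → Λ)),
    (LinearMap.snd Λ (SecM F W) M'').comp (LinearMap.range Ψ).subtype,
    (LinearMap.fst Λ (SecM F W) M'').comp (LinearMap.range Ψ).subtype, ?_, ?_, ?_, ?_⟩
  · show q₁.left (q₂.left w) = t
    rw [hw, hw₁]
  · exact Module.Finite.range Ψ
  · intro e
    constructor
    · intro he
      obtain ⟨_, ⟨⟨m', c⟩, rfl⟩⟩ := e
      have hc : π c = 0 := he
      obtain ⟨m₁, hm₁⟩ := hrel (LinearMap.mem_ker.2 hc)
      refine ⟨m' + m₁, ?_⟩
      apply Subtype.ext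
      show Ψ (m' + m₁, 0) = Ψ (m', c)
      refine Prod.ext ?_ ?_
      · show appM i W (A' (m' + m₁)) + LW 0 = appM i W (A' m') + LW c
        rw [map_add, map_add, map_zero, add_zero]
        congr 1
      · show π 0 = π c
        rw [hc, map_zero]
    · rintro ⟨m', rfl⟩
      show π 0 = 0
      exact map_zero _
  · intro m''
    obtain ⟨c, rfl⟩ := hπ m''
    exact ⟨⟨Ψ (0, c), ⟨(0, c), rfl⟩⟩, rfl⟩
  · intro m'
    show (appM i W) (A' m') + LW 0 = _
    rw [map_zero, add_zero]
    rfl
  · intro e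
    obtain ⟨_, ⟨⟨m', c⟩, rfl⟩⟩ := e
    show appM p W ((appM i W) (A' m') + LW c) = A'' (π c)
    rw [map_add, hzero, zero_add, hLW]

end Core

section SheafFacts

variable {S : ShortComplex (EtModW.Mod Λ X)}

lemma appM_zero (V : X.Etale) (g : SecM S.X₁ V) : appM S.g V (appM S.f V g) = 0 := by
  have h := S.zero
  have h2 := congrArg (fun k => (k.hom.app (op V)).hom g) h
  exact h2

lemma appM_exact (hS : S.ShortExact) (V : X.Etale) (s : SecM S.X₂ V) (hs : appM S.g V s = 0) :
    ∃ g, appM S.f V g = s := by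
  have := hS.mono_f
  let Γ := sheafToPresheaf X.smallEtaleTopology (ModuleCat.{u + 1} Λ) ⋙ (evaluation _ _).obj (op V)
  have h1 : (S.map Γ).Exact :=
    hS.exact.map_of_mono_of_preservesKernel Γ inferInstance inferInstance
  rw [ShortComplex.moduleCat_exact_iff] at h1
  exact h1 s hs

lemma appM_locSurj (hS : S.ShortExact) (V : X.Etale) (s'' : SecM S.X₃ V) (z : V.left) :
    ∃ (V' : X.Etale) (k : V' ⟶ V) (z' : V'.left), k.left z' = z ∧
      ∃ s, appM S.g V' s = resM S.X₃ k s'' := by
  have := hS.epi_g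
  have hls : Sheaf.IsLocallySurjective S.g :=
    (Sheaf.isLocallySurjective_iff_epi' (A := ModuleCat.{u + 1} Λ) S.g).2 inferInstance
  have hcov := Presheaf.imageSieve_mem X.smallEtaleTopology S.g.hom s''
  obtain ⟨V', k, z', hk, hz'⟩ := (mem_iff _).1 hcov z
  obtain ⟨s, hs⟩ := hk
  exact ⟨V', k, z', hz', s, hs⟩

end SheafFacts

section Assembly

set_option backward.isDefEq.respectTransparency.types false in
/-- the linear map `M → F(T)` attached to a map from the constant sheaf over `T` -/
noncomputable def secOfTriv {F : EtModW.Mod Λ X} {T : X.Etale} {M : ModuleCat.{u + 1} Λ}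
    (b : (cstM Λ X M).over T ⟶ F.over T) : ↑M →ₗ[Λ] SecM F T :=
  (secHomM b (𝟙 T)).comp (etaM M T)

lemma secHomM_eta {F : EtModW.Mod Λ X} {T : X.Etale} {M : ModuleCat.{u + 1} Λ}
    (b : (cstM Λ X M).over T ⟶ F.over T) {S : X.Etale} (g : S ⟶ T) (m : ↑M) :
    secHomM b g (etaM M S m) = resM F g (secOfTriv b m) := by
  have h := secHomM_res b (𝟙 T) g (etaM M T m)
  rw [resM_eta] at h
  simp only [Category.comp_id] at h
  exact h

lemma secOfTriv_locSurj {F : EtModW.Mod Λ X} {T : X.Etale} {M : ModuleCat.{u + 1} Λ}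
    (b : (cstM Λ X M).over T ≅ F.over T) {S : X.Etale} (g : S ⟶ T) (s : SecM F S) (z : S.left) :
    ∃ (S' : X.Etale) (k : S' ⟶ S) (z' : S'.left), k.left z' = z ∧
      ∃ m', resM F (k ≫ g) (secOfTriv b.hom m') = resM F k s := by
  obtain ⟨m, S', k, z', hz', hm⟩ := exists_isValM (secHomM b.inv g s) z
  refine ⟨S', k, z', hz', m, ?_⟩
  rw [← secHomM_eta, ← hm, secHomM_res, ← secHomM_comp, Iso.inv_hom_id, secHomM_id]

set_option backward.isDefEq.respectTransparency.types false in
/-- extensions of finite type constant sheaves are locally constant of finite type, locally -/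
theorem ext_local [IsNoetherianRing Λ] {S : ShortComplex (EtModW.Mod Λ X)} (hS : S.ShortExact)
    {M' M'' : ModuleCat.{u + 1} Λ} [Module.Finite Λ ↑M'] [Module.Finite Λ ↑M''] {T T' : X.Etale}
    (t : T.left) (t' : T'.left) (htt : T.hom t = T'.hom t')
    (a₀ : S.X₁.over T ≅ (constantSheaf (X.smallEtaleTopology.over T) (ModuleCat.{u + 1} Λ)).obj M')
    (b₀ : S.X₃.over T' ≅
      (constantSheaf (X.smallEtaleTopology.over T') (ModuleCat.{u + 1} Λ)).obj M'') :
    ∃ (W : X.Etale) (w : W.left), W.hom w = T.hom t ∧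
      ∃ (E : Type (u + 1)) (_ : AddCommGroup E) (_ : Module Λ E) (_ : Module.Finite Λ E),
        Nonempty (S.X₂.over W ≅
          (constantSheaf (X.smallEtaleTopology.over W) (ModuleCat.{u + 1} Λ)).obj
            (ModuleCat.of Λ E)) := by
  let g : T ⟶ EtCoh.top X := MorphismProperty.Over.homMk T.hom (Category.comp_id _) trivial
  let g' : T' ⟶ EtCoh.top X := MorphismProperty.Over.homMk T'.hom (Category.comp_id _) trivial
  obtain ⟨W₀, p, p', w₀, -, hw₀, -⟩ := exists_pullback_point g g' t t' htt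
  let b' : (cstM Λ X M').over W₀ ≅ S.X₁.over W₀ :=
    restrictIsoM p ((constOverIsoM T M').symm ≪≫ a₀.symm)
  let b'' : (cstM Λ X M'').over W₀ ≅ S.X₃.over W₀ :=
    restrictIsoM p' ((constOverIsoM T' M'').symm ≪≫ b₀.symm)
  obtain ⟨W, q, w, hw, E, _, _, _, u, v, ε, huv, hv, h1, h2⟩ :=
    core S.f S.g (fun V g => appM_zero V g) (appM_exact hS) (appM_locSurj hS) w₀
      (secOfTriv b'.hom) (secOfTriv b''.hom) (fun g s z => secOfTriv_locSurj b' g s z)
  refine ⟨W, w, ?_, E, inferInstance, inferInstance, inferInstance, ?_⟩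
  · have e1 : (q ≫ p).left ≫ T.hom = W.hom := Over.w (q ≫ p).hom
    have e2 := congrArg (fun f => f w) e1
    simp only [Scheme.Hom.comp_apply] at e2
    rw [← e2]
    have : (q ≫ p).left w = t := by
      show p.left (q.left w) = t
      rw [hw, hw₀]
    rw [this]
  let T₀ : ShortComplex (ModuleCat.{u + 1} Λ) :=
    ShortComplex.mk (ModuleCat.ofHom u) (ModuleCat.ofHom v)
      (by ext m; exact huv.apply_apply_eq_zero m)
  let θ : (cstM Λ X (ModuleCat.of Λ E)).over W ⟶ S.X₂.over W := cstLift ε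
  let OP := X.smallEtaleTopology.overPullback (ModuleCat.{u + 1} Λ) W
  let Δ := constantSheaf X.smallEtaleTopology (ModuleCat.{u + 1} Λ)
  have sq1 : OP.map (Δ.map T₀.f) ≫ θ = (restrictIsoM q b').hom ≫ OP.map S.f := by
    apply hom_ext_cst
    intro V k m
    rw [secHomM_comp, secHomM_comp, secHomM_overPullback_map, secHomM_overPullback_map,
      appM_map_eta, secHomM_cstLift]
    show resM S.X₂ k (ε (u m)) = appM S.f V (secHomM (restrictHomM q b'.hom) k (etaM M' V m))
    rw [secHomM_restrictHomM, secHomM_eta, h1, ← appM_res, resM_res]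
  have sq2 : θ ≫ OP.map S.g = OP.map (Δ.map T₀.g) ≫ (restrictIsoM q b'').hom := by
    apply hom_ext_cst
    intro V k e
    rw [secHomM_comp, secHomM_comp, secHomM_overPullback_map, secHomM_overPullback_map,
      appM_map_eta, secHomM_cstLift]
    show appM S.g V (resM S.X₂ k (ε e)) =
      secHomM (restrictHomM q b''.hom) k (etaM M'' V (v e))
    rw [secHomM_restrictHomM, secHomM_eta, appM_res, h2, resM_res]
  let φ : (T₀.map Δ).map OP ⟶ S.map OP :=
    { τ₁ := (restrictIsoM q b').hom, τ₂ := θ, τ₃ := (restrictIsoM q b'').hom,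
      comm₁₂ := sq1.symm, comm₂₃ := sq2 }
  have hT₀ : T₀.Exact := by
    rw [ShortComplex.moduleCat_exact_iff]
    intro e he
    exact (huv e).1 he
  have hS₂ : (S.map OP).ShortExact := hS.map_of_exact OP
  have hS₁ : ((T₀.map Δ).map OP).ShortExact := by
    have hmono : Mono (OP.map (Δ.map T₀.f)) := by
      have h3 : Mono ((restrictIsoM q b').hom ≫ OP.map S.f) := by
        have : Mono (OP.map S.f) := hS₂.mono_f
        exact mono_comp _ _
      rw [← sq1] at h3
      exact mono_of_mono _ θ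
    have hepi : Epi (OP.map (Δ.map T₀.g)) := by
      have h5 : Epi T₀.g := (ModuleCat.epi_iff_surjective _).2 hv
      have h6 : Epi ((constantSheaf X.smallEtaleTopology (ModuleCat.{u + 1} Λ)).map T₀.g) :=
        inferInstance
      exact (inferInstance : Epi ((X.smallEtaleTopology.overPullback (ModuleCat.{u + 1} Λ) W).map
        ((constantSheaf X.smallEtaleTopology (ModuleCat.{u + 1} Λ)).map T₀.g)))
    exact { exact := (hT₀.map Δ).map OP, mono_f := hmono, epi_g := hepi }
  have hiso : IsIso θ := ShortComplex.isIso₂_of_shortExact_of_isIso₁₃ φ hS₁ hS₂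
  exact ⟨(asIso θ).symm ≪≫ (constOverIsoM W _).symm⟩

end Assembly

section KerCoker

set_option backward.isDefEq.respectTransparency.types false in
/-- kernels and cokernels of maps of finite type constant sheaves -/
theorem ker_coker_local [IsNoetherianRing Λ] {F G : EtModW.Mod Λ X} (φ : F ⟶ G) {W : X.Etale}
    {M N : ModuleCat.{u + 1} Λ} [Module.Finite Λ ↑M] [Module.Finite Λ ↑N] (h : M ⟶ N)
    (α : F.over W ≅ (constantSheaf (X.smallEtaleTopology.over W) (ModuleCat.{u + 1} Λ)).obj M)
    (β : G.over W ≅ (constantSheaf (X.smallEtaleTopology.over W) (ModuleCat.{u + 1} Λ)).obj N)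
    (e : (X.smallEtaleTopology.overPullback (ModuleCat.{u + 1} Λ) W).map φ ≫ β.hom =
      α.hom ≫ (constantSheaf (X.smallEtaleTopology.over W) (ModuleCat.{u + 1} Λ)).map h) :
    (∃ (K : Type (u + 1)) (_ : AddCommGroup K) (_ : Module Λ K) (_ : Module.Finite Λ K),
      Nonempty ((kernel φ).over W ≅
        (constantSheaf (X.smallEtaleTopology.over W) (ModuleCat.{u + 1} Λ)).obj
          (ModuleCat.of Λ K))) ∧
    (∃ (C : Type (u + 1)) (_ : AddCommGroup C) (_ : Module Λ C) (_ : Module.Finite Λ C),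
      Nonempty ((cokernel φ).over W ≅
        (constantSheaf (X.smallEtaleTopology.over W) (ModuleCat.{u + 1} Λ)).obj
          (ModuleCat.of Λ C))) := by
  have hM : IsNoetherian Λ ↑M := isNoetherian_of_isNoetherianRing_of_finite Λ ↑M
  constructor
  · refine ⟨↥(LinearMap.ker h.hom), inferInstance, inferInstance, inferInstance, ⟨?_⟩⟩
    exact PreservesKernel.iso (X.smallEtaleTopology.overPullback (ModuleCat.{u + 1} Λ) W) φ ≪≫
      kernel.mapIso _ _ α β e ≪≫
      (PreservesKernel.iso (constantSheaf (X.smallEtaleTopology.over W) (ModuleCat.{u + 1} Λ)) h).symm ≪≫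
      (constantSheaf (X.smallEtaleTopology.over W) (ModuleCat.{u + 1} Λ)).mapIso
        (ModuleCat.kernelIsoKer h)
  · refine ⟨↑N ⧸ LinearMap.range h.hom, inferInstance, inferInstance, inferInstance, ⟨?_⟩⟩
    exact PreservesCokernel.iso (X.smallEtaleTopology.overPullback (ModuleCat.{u + 1} Λ) W) φ ≪≫
      cokernel.mapIso _ _ α β e ≪≫
      (PreservesCokernel.iso (constantSheaf (X.smallEtaleTopology.over W) (ModuleCat.{u + 1} Λ)) h).symm ≪≫
      (constantSheaf (X.smallEtaleTopology.over W) (ModuleCat.{u + 1} Λ)).mapIso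
        (ModuleCat.cokernelIsoRangeQuotient h)

end KerCoker

end Groth.Agent.H21.ModExt
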