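import Groth.Agent.H21.GenStalkMod
import Groth.Agent.H21.LocConstMap

set_option autoImplicit false
universe u
open CategoryTheory CategoryTheory.Limits AlgebraicGeometry Opposite

namespace Groth.Agent.H21.ModLocConst

open Groth.Agent.H21.ConstSec Groth.Agent.H21.GenStalkMod

variable {Λ : Type (u + 1)} [CommRing Λ] {X : Scheme.{u}}

section Basic

variable (F : EtModW.Mod Λ X)

@[simp] lemma resM_id (V : X.Etale) (s : SecM F V) : resM F (𝟙 V) s = s := by
  simp [resM]

/-- separatedness -/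
theorem secM_ext {V : X.Etale} (R : Sieve V) (hR : R ∈ X.smallEtaleTopology V) (s t : SecM F V)
    (h : ∀ ⦃W : X.Etale⦄ (g : W ⟶ V), R g → resM F g s = resM F g t) : s = t := by
  have hsep := Presheaf.IsSheaf.isSeparated (J := X.smallEtaleTopology) F.property
  exact hsep V R hR s t (fun W g hg => h g hg)

end Basic

section Val

variable {M : ModuleCat.{u + 1} Λ}

/-- `s` has value `m` at the point `z` -/
def IsValM {Z : X.Etale} (s : SecM (cstM Λ X M) Z) (z : Z.left) (m : ↑M) : Prop :=
  ∃ (T : X.Etale) (g : T ⟶ Z) (t : T.left), g.left t = z ∧ resM (cstM Λ X M) g s = etaM M T m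

theorem exists_isValM' {Z : X.Etale} (s : SecM (cstM Λ X M) Z) (z : Z.left) : ∃ m, IsValM s z m := by
  obtain ⟨m, T, g, t, ht, hs⟩ := exists_isValM s z
  exact ⟨m, T, g, t, ht, hs⟩

theorem IsValM.unique {Z : X.Etale} {s : SecM (cstM Λ X M) Z} {z : Z.left} {m m' : ↑M}
    (h : IsValM s z m) (h' : IsValM s z m') : m = m' := by
  obtain ⟨T, g, t, ht, hs⟩ := h
  obtain ⟨T', g', t', ht', hs'⟩ := h'
  obtain ⟨P, p, p', x, hpp, -, -⟩ := exists_pullback_point g g' t t' (ht.trans ht'.symm)
  have e1 : etaM M P m = etaM M P m' := by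
    rw [← resM_eta M p m, ← hs, resM_res, hpp, ← resM_res, hs', resM_eta]
  rcases etaM_injective_or M m m' e1 with h | h
  · exact h
  · exact ((bot_mem_iff.1 h).false x).elim

theorem isValM_eta {Z : X.Etale} (z : Z.left) (m : ↑M) : IsValM (etaM M Z m) z m :=
  ⟨Z, 𝟙 Z, z, rfl, by rw [resM_eta]⟩

theorem isValM_add {Z : X.Etale} {s s' : SecM (cstM Λ X M) Z} {z : Z.left} {a b : ↑M}
    (h : IsValM s z a) (h' : IsValM s' z b) : IsValM (s + s') z (a + b) := by
  obtain ⟨T, g, t, ht, hs⟩ := h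
  obtain ⟨T', g', t', ht', hs'⟩ := h'
  obtain ⟨P, p, p', x, hpp, hx, -⟩ := exists_pullback_point g g' t t' (ht.trans ht'.symm)
  refine ⟨P, p ≫ g, x, ?_, ?_⟩
  · show g.left (p.left x) = z
    rw [hx, ht]
  · rw [map_add, map_add, ← resM_res, hs, resM_eta, hpp, ← resM_res, hs', resM_eta]

theorem isValM_smul {Z : X.Etale} {s : SecM (cstM Λ X M) Z} {z : Z.left} {a : ↑M} (c : Λ)
    (h : IsValM s z a) : IsValM (c • s) z (c • a) := by
  obtain ⟨T, g, t, ht, hs⟩ := h
  exact ⟨T, g, t, ht, by rw [map_smul, map_smul, hs]⟩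

end Val

section Over

/-- the constant sheaf on the over-site is the restriction of the constant sheaf -/
noncomputable def constOverIsoM (T : X.Etale) (M : ModuleCat.{u + 1} Λ) :
    (constantSheaf (X.smallEtaleTopology.over T) (ModuleCat.{u + 1} Λ)).obj M ≅ (cstM Λ X M).over T :=
  ((Over.forget T).pushforwardContinuousSheafificationCompatibility (ModuleCat.{u + 1} Λ)
    (X.smallEtaleTopology.over T) X.smallEtaleTopology).app ((Functor.const _).obj M)

theorem constOverIsoM_naturality (T : X.Etale) {M N : ModuleCat.{u + 1} Λ} (h : M ⟶ N) :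
    (constantSheaf (X.smallEtaleTopology.over T) (ModuleCat.{u + 1} Λ)).map h ≫
      (constOverIsoM T N).hom =
    (constOverIsoM T M).hom ≫ (X.smallEtaleTopology.overPullback (ModuleCat.{u + 1} Λ) T).map
      ((constantSheaf X.smallEtaleTopology (ModuleCat.{u + 1} Λ)).map h) :=
  ((Over.forget T).pushforwardContinuousSheafificationCompatibility (ModuleCat.{u + 1} Λ)
    (X.smallEtaleTopology.over T) X.smallEtaleTopology).hom.naturality ((Functor.const _).map h)

variable {F G H : EtModW.Mod Λ X} {T W : X.Etale}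

/-- a morphism between restrictions to the over-site, on sections -/
def secHomM (b : F.over T ⟶ G.over T) {S : X.Etale} (g : S ⟶ T) : SecM F S →ₗ[Λ] SecM G S :=
  (b.hom.app (op (Over.mk g))).hom

lemma secHomM_res (b : F.over T ⟶ G.over T) {S S' : X.Etale} (g : S ⟶ T) (h : S' ⟶ S)
    (s : SecM F S) : secHomM b (h ≫ g) (resM F h s) = resM G h (secHomM b g s) := by
  have := b.hom.naturality (Over.homMk h rfl : Over.mk (h ≫ g) ⟶ Over.mk g).op
  exact congrArg (fun k => k.hom s) this

lemma secHomM_comp (b : F.over T ⟶ G.over T) (c : G.over T ⟶ H.over T) {S : X.Etale} (g : S ⟶ T)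
    (s : SecM F S) : secHomM (b ≫ c) g s = secHomM c g (secHomM b g s) := rfl

lemma secHomM_id {S : X.Etale} (g : S ⟶ T) (s : SecM F S) : secHomM (𝟙 (F.over T)) g s = s := rfl

set_option backward.isDefEq.respectTransparency.types false in
/-- restriction of a morphism between restrictions to a smaller object -/
def restrictHomM (p : W ⟶ T) (b : F.over T ⟶ G.over T) : F.over W ⟶ G.over W :=
  ⟨{ app := fun Y => b.hom.app (op ((Over.map p).obj Y.unop))
     naturality := fun _ _ k => b.hom.naturality ((Over.map p).map k.unop).op }⟩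

lemma secHomM_restrictHomM (p : W ⟶ T) (b : F.over T ⟶ G.over T) {S : X.Etale} (g : S ⟶ W)
    (s : SecM F S) : secHomM (restrictHomM p b) g s = secHomM b (g ≫ p) s := rfl

lemma restrictHomM_comp (p : W ⟶ T) (b : F.over T ⟶ G.over T) (c : G.over T ⟶ H.over T) :
    restrictHomM p (b ≫ c) = restrictHomM p b ≫ restrictHomM p c := rfl

lemma restrictHomM_id (p : W ⟶ T) : restrictHomM p (𝟙 (F.over T)) = 𝟙 (F.over W) := rfl

/-- restriction of isomorphisms -/
def restrictIsoM (p : W ⟶ T) (b : F.over T ≅ G.over T) : F.over W ≅ G.over W where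
  hom := restrictHomM p b.hom
  inv := restrictHomM p b.inv
  hom_inv_id := by rw [← restrictHomM_comp, Iso.hom_inv_id, restrictHomM_id]
  inv_hom_id := by rw [← restrictHomM_comp, Iso.inv_hom_id, restrictHomM_id]

lemma secHomM_overPullback_map (φ : F ⟶ G) {S : X.Etale} (g : S ⟶ T) (s : SecM F S) :
    secHomM ((X.smallEtaleTopology.overPullback (ModuleCat.{u + 1} Λ) T).map φ) g s = appM φ S s := rfl

theorem hom_ext_secHomM (b c : F.over T ⟶ G.over T)
    (h : ∀ {S : X.Etale} (g : S ⟶ T) (s : SecM F S), secHomM b g s = secHomM c g s) : b = c := by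
  apply Sheaf.hom_ext
  ext Y s
  exact h Y.unop.hom s

end Over


section Eval

variable {N N' : ModuleCat.{u + 1} Λ} {W : X.Etale}

/-- a natural family of linear maps between sections of constant sheaves over `W` -/
structure NatFamM (N N' : ModuleCat.{u + 1} Λ) (W : X.Etale) where
  /-- the maps -/
  map : ∀ {S : X.Etale} (_ : S ⟶ W), SecM (cstM Λ X N) S →ₗ[Λ] SecM (cstM Λ X N') S
  nat : ∀ {S S' : X.Etale} (k : S ⟶ W) (k' : S' ⟶ W) (h : S' ⟶ S) (_ : h ≫ k = k')
    (s : SecM (cstM Λ X N) S), map k' (resM (cstM Λ X N) h s) = resM (cstM Λ X N') h (map k s)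

/-- the induced map on values at a point -/
noncomputable def NatFamM.valMap (γ : NatFamM N N' W) (w : W.left) (n : ↑N) : ↑N' :=
  Classical.choose (exists_isValM' (γ.map (𝟙 W) (etaM N W n)) w)

lemma NatFamM.valMap_spec (γ : NatFamM N N' W) (w : W.left) (n : ↑N) :
    IsValM (γ.map (𝟙 W) (etaM N W n)) w (γ.valMap w n) :=
  Classical.choose_spec (exists_isValM' (γ.map (𝟙 W) (etaM N W n)) w)

lemma NatFamM.valMap_add (γ : NatFamM N N' W) (w : W.left) (a b : ↑N) :
    γ.valMap w (a + b) = γ.valMap w a + γ.valMap w b := by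
  have h1 := γ.valMap_spec w (a + b)
  have h2 := isValM_add (γ.valMap_spec w a) (γ.valMap_spec w b)
  rw [← map_add, ← map_add] at h2
  exact h1.unique h2

lemma NatFamM.valMap_smul (γ : NatFamM N N' W) (w : W.left) (c : Λ) (a : ↑N) :
    γ.valMap w (c • a) = c • γ.valMap w a := by
  have h1 := γ.valMap_spec w (c • a)
  have h2 := isValM_smul c (γ.valMap_spec w a)
  rw [← map_smul, ← map_smul] at h2
  exact h1.unique h2

/-- the linear map of values -/
noncomputable def NatFamM.valLin (γ : NatFamM N N' W) (w : W.left) : ↑N →ₗ[Λ] ↑N' where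
  toFun := γ.valMap w
  map_add' := γ.valMap_add w
  map_smul' := γ.valMap_smul w

end Eval

section ConstMap

variable {M N : ModuleCat.{u + 1} Λ}

/-- a natural family of maps from a finite type constant sheaf is, near any point, induced by a
linear map -/
theorem exists_const_mapM [Module.Finite Λ ↑M] {W₀ : X.Etale} (γ : NatFamM M N W₀) (w₀ : W₀.left) :
    ∃ (W : X.Etale) (q : W ⟶ W₀) (w : W.left) (h : M ⟶ N), q.left w = w₀ ∧
      ∀ {S : X.Etale} (k : S ⟶ W) (s : SecM (cstM Λ X M) S),
        γ.map (k ≫ q) s =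
          appM ((constantSheaf X.smallEtaleTopology (ModuleCat.{u + 1} Λ)).map h) S s := by
  let h₀ : ↑M →ₗ[Λ] ↑N := γ.valLin w₀
  obtain ⟨gens, hgens⟩ := (Module.Finite.fg_top : (⊤ : Submodule Λ ↑M).FG)
  have hspec : ∀ m : ↑M, ∃ (T : X.Etale) (g : T ⟶ W₀) (t : T.left), g.left t = w₀ ∧
      resM (cstM Λ X N) g (γ.map (𝟙 W₀) (etaM M W₀ m)) = etaM N T (h₀ m) := fun m => γ.valMap_spec w₀ m
  choose T g t ht hT using hspec
  obtain ⟨W, q, w, hw, hr⟩ := Groth.Agent.H21.LocConstMap.exists_common_refinement w₀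
    (fun m : gens => T m.1) (fun m => g m.1) (fun m => t m.1) (fun m => ht m.1)
  refine ⟨W, q, w, ModuleCat.ofHom h₀, hw, ?_⟩
  have hq0 : ∀ m ∈ gens, resM (cstM Λ X N) q (γ.map (𝟙 W₀) (etaM M W₀ m)) = etaM N W (h₀ m) := by
    intro m hm
    obtain ⟨r, hr'⟩ := hr ⟨m, hm⟩
    rw [← hr', ← resM_res, hT, resM_eta]
  have hq : ∀ m : ↑M, resM (cstM Λ X N) q (γ.map (𝟙 W₀) (etaM M W₀ m)) = etaM N W (h₀ m) := by
    intro m
    have hm : m ∈ Submodule.span Λ (gens : Set ↑M) := by rw [hgens]; trivial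
    induction hm using Submodule.span_induction with
    | mem x hx => exact hq0 x hx
    | zero => simp
    | add x y _ _ hx hy => simp only [map_add, hx, hy]
    | smul c x _ hx => simp only [map_smul, hx]
  intro S k s
  obtain ⟨R, hR, hRs⟩ := etaM_locally_surjective M s
  apply secM_ext (cstM Λ X N) R hR
  intro Z j hj
  obtain ⟨m, hm⟩ := hRs j hj
  have e1 : resM (cstM Λ X N) j (γ.map (k ≫ q) s) = etaM N Z (h₀ m) := by
    rw [← γ.nat (k ≫ q) (j ≫ k ≫ q) j rfl s, ← hm, ← resM_eta M (j ≫ k ≫ q) m,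
      γ.nat (𝟙 W₀) (j ≫ k ≫ q) (j ≫ k ≫ q) (Category.comp_id _), ← Category.assoc, ← resM_res, hq,
      resM_eta]
  have e2 : resM (cstM Λ X N) j
      (appM ((constantSheaf X.smallEtaleTopology (ModuleCat.{u + 1} Λ)).map (ModuleCat.ofHom h₀)) S s) =
      etaM N Z (h₀ m) := by
    rw [← appM_res, ← hm, appM_map_eta]
    rfl
  rw [e1, e2]

end ConstMap

section Main

variable {F G : EtModW.Mod Λ X}

/-- the natural family attached to a map and two trivializations -/
noncomputable def natFamOfMapM {M N : ModuleCat.{u + 1} Λ} {T T' W : X.Etale} (φ : F ⟶ G)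
    (p : W ⟶ T) (p' : W ⟶ T')
    (a : (cstM Λ X M).over T ⟶ F.over T) (b : G.over T' ⟶ (cstM Λ X N).over T') : NatFamM M N W where
  map {S} k := (secHomM b (k ≫ p')).comp ((appM φ S).comp (secHomM a (k ≫ p)))
  nat := by
    intro S S' k k' h hk s
    subst hk
    simp only [LinearMap.coe_comp, Function.comp_apply]
    rw [Category.assoc, Category.assoc, secHomM_res, appM_res, secHomM_res]

set_option backward.isDefEq.respectTransparency.types false in
theorem local_atM (φ : F ⟶ G) {M N : ModuleCat.{u + 1} Λ} [Module.Finite Λ ↑M] {T T' : X.Etale}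
    (t : T.left) (t' : T'.left) (htt : T.hom t = T'.hom t')
    (a₀ : F.over T ≅ (constantSheaf (X.smallEtaleTopology.over T) (ModuleCat.{u + 1} Λ)).obj M)
    (b₀ : G.over T' ≅ (constantSheaf (X.smallEtaleTopology.over T') (ModuleCat.{u + 1} Λ)).obj N) :
    ∃ (W : X.Etale) (w : W.left) (h : M ⟶ N)
      (α : F.over W ≅ (constantSheaf (X.smallEtaleTopology.over W) (ModuleCat.{u + 1} Λ)).obj M)
      (β : G.over W ≅ (constantSheaf (X.smallEtaleTopology.over W) (ModuleCat.{u + 1} Λ)).obj N),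
      W.hom w = T.hom t ∧
      (X.smallEtaleTopology.overPullback (ModuleCat.{u + 1} Λ) W).map φ ≫ β.hom =
        α.hom ≫ (constantSheaf (X.smallEtaleTopology.over W) (ModuleCat.{u + 1} Λ)).map h := by
  let g : T ⟶ EtCoh.top X := MorphismProperty.Over.homMk T.hom (Category.comp_id _) trivial
  let g' : T' ⟶ EtCoh.top X := MorphismProperty.Over.homMk T'.hom (Category.comp_id _) trivial
  obtain ⟨W₀, p, p', w₀, -, hw₀, -⟩ := exists_pullback_point g g' t t' htt
  let a₁ : F.over T ≅ (cstM Λ X M).over T := a₀ ≪≫ constOverIsoM T M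
  let b₁ : G.over T' ≅ (cstM Λ X N).over T' := b₀ ≪≫ constOverIsoM T' N
  obtain ⟨W, q, w, h, hw, hγ⟩ := exists_const_mapM (natFamOfMapM φ p p' a₁.inv b₁.hom) w₀
  have hnat : (constOverIsoM W M).inv ≫
      (constantSheaf (X.smallEtaleTopology.over W) (ModuleCat.{u + 1} Λ)).map h =
      (X.smallEtaleTopology.overPullback (ModuleCat.{u + 1} Λ) W).map
        ((constantSheaf X.smallEtaleTopology (ModuleCat.{u + 1} Λ)).map h) ≫
        (constOverIsoM W N).inv := by
    rw [Iso.inv_comp_eq, ← Category.assoc, Iso.eq_comp_inv]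
    exact constOverIsoM_naturality W h
  have key : (X.smallEtaleTopology.overPullback (ModuleCat.{u + 1} Λ) W).map φ ≫
      restrictHomM (q ≫ p') b₁.hom = restrictHomM (q ≫ p) a₁.hom ≫
        (X.smallEtaleTopology.overPullback (ModuleCat.{u + 1} Λ) W).map
          ((constantSheaf X.smallEtaleTopology (ModuleCat.{u + 1} Λ)).map h) := by
    apply hom_ext_secHomM
    intro S k s
    rw [secHomM_comp, secHomM_comp, secHomM_overPullback_map, secHomM_overPullback_map,
      secHomM_restrictHomM, secHomM_restrictHomM]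
    have h1 := hγ k (secHomM a₁.hom (k ≫ q ≫ p) s)
    have h2 : secHomM a₁.inv ((k ≫ q) ≫ p) (secHomM a₁.hom (k ≫ q ≫ p) s) = s := by
      rw [Category.assoc, ← secHomM_comp a₁.hom a₁.inv, Iso.hom_inv_id, secHomM_id]
    rw [← h1]
    simp only [natFamOfMapM, LinearMap.coe_comp, Function.comp_apply]
    rw [h2, Category.assoc]
  refine ⟨W, w, h, restrictIsoM (q ≫ p) a₁ ≪≫ (constOverIsoM W M).symm,
    restrictIsoM (q ≫ p') b₁ ≪≫ (constOverIsoM W N).symm, ?_, ?_⟩
  · have e1 : (q ≫ p).left ≫ T.hom = W.hom := Over.w (q ≫ p).hom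
    have e2 := congrArg (fun f => f w) e1
    simp only [Scheme.Hom.comp_apply] at e2
    rw [← e2]
    have : (q ≫ p).left w = t := by
      show p.left (q.left w) = t
      rw [hw, hw₀]
    rw [this]
  · simp only [Iso.trans_hom, Iso.symm_hom, restrictIsoM]
    rw [← Category.assoc, key, Category.assoc, Category.assoc, hnat]

end Main

end Groth.Agent.H21.ModLocConst
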