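import Groth.Prelude.Def_EtGm
import Groth.Agent.H21.ConstUnit
import Mathlib.RingTheory.Polynomial.Cyclotomic.Roots
import Mathlib.AlgebraicGeometry.ResidueField

set_option autoImplicit false
universe u
open CategoryTheory CategoryTheory.Limits AlgebraicGeometry Opposite Polynomial

namespace Groth.Agent.H21.MuN

open Groth.Agent.H21.ConstSec Groth.Agent.H21.ConstUnit

variable {S : Scheme.{u}}

/-- units of global functions as sections of `G_m` -/
def toGm (V : S.Etale) (x : (Γ(V.left, ⊤))ˣ) : Sec (EtCoh.Gm S) V :=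
  ULift.up (Additive.ofMul x)

def ofGm (V : S.Etale) (s : Sec (EtCoh.Gm S) V) : (Γ(V.left, ⊤))ˣ :=
  Additive.toMul (ULift.down s)

lemma toGm_ofGm (V : S.Etale) (s : Sec (EtCoh.Gm S) V) : toGm V (ofGm V s) = s := rfl
lemma ofGm_toGm (V : S.Etale) (x : (Γ(V.left, ⊤))ˣ) : ofGm V (toGm V x) = x := rfl
lemma toGm_mul (V : S.Etale) (x y : (Γ(V.left, ⊤))ˣ) : toGm V (x * y) = toGm V x + toGm V y := rfl
lemma toGm_one (V : S.Etale) : toGm V 1 = 0 := rfl
lemma toGm_pow (V : S.Etale) (x : (Γ(V.left, ⊤))ˣ) (n : ℕ) : toGm V (x ^ n) = n • toGm V x := rfl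
lemma toGm_injective (V : S.Etale) : Function.Injective (toGm V) := fun _ _ h =>
  congrArg (ofGm V) h

lemma res_toGm {V W : S.Etale} (g : W ⟶ V) (x : (Γ(V.left, ⊤))ˣ) :
    res (EtCoh.Gm S) g (toGm V x) = toGm W (Units.map (g.left.appTop).hom.toMonoidHom x) := rfl

lemma app_powMap (n : ℕ) (V : S.Etale) (x : Sec (EtCoh.Gm S) V) :
    app (EtCoh.powMap S n) V x = n • x := by
  simp only [EtCoh.powMap, app]
  induction n with
  | zero => simp
  | succ k ih =>
    rw [succ_nsmul, succ_nsmul, Sheaf.Hom.add_app, AddCommGrpCat.hom_add, AddMonoidHom.add_apply, ih]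
    rfl

lemma pow_eq_one_of_aeval_cyclotomic {R : Type*} [CommRing R] (n : ℕ) (ζ : R)
    (hζ : aeval ζ (cyclotomic n ℤ) = 0) : ζ ^ n = 1 := by
  obtain ⟨q, hq⟩ := cyclotomic.dvd_X_pow_sub_one n ℤ
  have h := congrArg (aeval ζ) hq
  simp only [map_sub, map_pow, aeval_X, map_one, map_mul, hζ, zero_mul] at h
  exact sub_eq_zero.1 h

lemma isPrimitiveRoot_map {R K : Type*} [CommRing R] [Field K] (φ : R →+* K) (n : ℕ)
    (hn : IsUnit (n : R)) (ζ : R) (hζ : aeval ζ (cyclotomic n ℤ) = 0) :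
    IsPrimitiveRoot (φ ζ) n := by
  have : NeZero (n : K) := ⟨by
    have := hn.map φ
    rw [map_natCast] at this
    exact this.ne_zero⟩
  rw [← isRoot_cyclotomic_iff, IsRoot.def, ← map_cyclotomic_int, eval_map]
  have h := congrArg φ hζ
  rw [map_zero, aeval_def, hom_eval₂] at h
  have e : φ.comp (algebraMap ℤ R) = Int.castRingHom K := Subsingleton.elim _ _
  rw [e] at h
  exact h

/-- a function which is killed by a function not vanishing at `v` vanishes near `v` -/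
theorem exists_opens_appTop_eq_zero {V : Scheme.{u}} (v : V) (c g : Γ(V, ⊤)) (hcg : c * g = 0)
    (hg : V.Γevaluation v g ≠ 0) : ∃ W : V.Opens, v ∈ W ∧ W.ι.appTop c = 0 := by
  refine ⟨V.basicOpen g, (V.evaluation_ne_zero_iff_mem_basicOpen v (Set.mem_univ v) g).1 hg, ?_⟩
  have hu := V.toRingedSpace.isUnit_res_basicOpen g
  have h0 : V.presheaf.map (homOfLE (le_top : V.basicOpen g ≤ ⊤)).op c = 0 := by
    have h1 := congrArg (V.presheaf.map (homOfLE (le_top : V.basicOpen g ≤ ⊤)).op) hcg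
    rw [map_mul, map_zero] at h1
    exact (hu.mul_left_eq_zero).1 h1
  show V.presheaf.map (homOfLE (le_top : (V.basicOpen g).ι ''ᵁ ⊤ ≤ ⊤)).op c = 0
  have hle : (V.basicOpen g).ι ''ᵁ ⊤ ≤ V.basicOpen g := by
    rw [Scheme.Opens.ι_image_top]
  have : V.presheaf.map (homOfLE (le_top : (V.basicOpen g).ι ''ᵁ ⊤ ≤ ⊤)).op =
      V.presheaf.map (homOfLE (le_top : V.basicOpen g ≤ ⊤)).op ≫ V.presheaf.map (homOfLE hle).op := by
    rw [← Functor.map_comp]
    rfl
  rw [this]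
  show V.presheaf.map (homOfLE hle).op (V.presheaf.map (homOfLE (le_top : V.basicOpen g ≤ ⊤)).op c) = 0
  rw [h0, map_zero]

section Main

variable (S) (n : ℕ) [NeZero n] (ζu : (Γ(S, ⊤))ˣ) (hζn : ζu ^ n = 1)

/-- the coefficient group `ℤ/n` -/
abbrev Mn : AddCommGrpCat.{u + 1} := AddCommGrpCat.of (ULift.{u + 1} (ZMod n))

/-- restriction of global functions on `S` to an étale `S`-scheme -/
noncomputable def ρ (V : S.Etale) : Γ(S, ⊤) →+* Γ(V.left, ⊤) :=
  (((topIsTerminal S).from V).left.appTop).hom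

/-- restriction of `ζ` -/
noncomputable def ζV (V : S.Etale) : (Γ(V.left, ⊤))ˣ := Units.map (ρ S V).toMonoidHom ζu

/-- `ζ` as a function on the terminal object -/
def ζT : (Γ((EtCoh.top S).left, ⊤))ˣ := ζu

include hζn in
lemma nsmul_toGm_ζu : (n : ℤ) • toGm (EtCoh.top S) (ζT S ζu) = 0 := by
  have h : ζT S ζu ^ n = 1 := hζn
  rw [natCast_zsmul, ← toGm_pow, h, toGm_one]

/-- the homomorphism `ℤ/n → Γ(S, G_m)`, `a ↦ ζ^a` -/
noncomputable def h0 : ULift.{u + 1} (ZMod n) →+ Sec (EtCoh.Gm S) (EtCoh.top S) :=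
  (ZMod.lift n ⟨zmultiplesHom _ (toGm (EtCoh.top S) (ζT S ζu)), by
    simpa using nsmul_toGm_ζu S n ζu hζn⟩).comp AddEquiv.ulift.toAddMonoidHom

lemma h0_apply (a : ULift.{u + 1} (ZMod n)) :
    h0 S n ζu hζn a = (a.down.val : ℕ) • toGm (EtCoh.top S) (ζT S ζu) := by
  obtain ⟨k, hk⟩ : ∃ k : ℕ, a.down.val = k := ⟨_, rfl⟩
  have h1 : a.down = ((k : ℤ) : ZMod n) := by
    rw [← hk]
    simp
  simp only [h0, AddMonoidHom.coe_comp, Function.comp_apply, AddEquiv.coe_toAddMonoidHom]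
  show ZMod.lift n _ a.down = _
  rw [hk, h1, ZMod.lift_coe]
  simp

/-- the morphism `ℤ/n → G_m` -/
noncomputable def ψ : cst S (Mn n) ⟶ EtCoh.Gm S :=
  ((adjΔ S).homEquiv (Mn n) (EtCoh.Gm S)).symm (AddCommGrpCat.ofHom (h0 S n ζu hζn))

lemma ψ_eta_top (a : ULift.{u + 1} (ZMod n)) :
    app (ψ S n ζu hζn) (EtCoh.top S) (eta (Mn n) (EtCoh.top S) a) = h0 S n ζu hζn a := by
  have h1 : (adjΔ S).unit.app (Mn n) ≫ (Γ S).map (ψ S n ζu hζn) =
      AddCommGrpCat.ofHom (h0 S n ζu hζn) := by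
    exact ((adjΔ S).homEquiv_unit (f := ψ S n ζu hζn)).symm.trans (Equiv.apply_symm_apply _ _)
  have h2 := congrArg (fun k => k.hom a) h1
  simp only [AddCommGrpCat.hom_comp, AddMonoidHom.coe_comp, Function.comp_apply, adjΔ_unit,
    AddCommGrpCat.hom_ofHom] at h2
  exact h2

lemma ψ_eta (V : S.Etale) (a : ULift.{u + 1} (ZMod n)) :
    app (ψ S n ζu hζn) V (eta (Mn n) V a) = (a.down.val : ℕ) • toGm V (ζV S ζu V) := by
  have h1 := app_res (ψ S n ζu hζn) ((topIsTerminal S).from V) (eta (Mn n) (EtCoh.top S) a)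
  rw [res_eta, ψ_eta_top, h0_apply, map_nsmul] at h1
  rw [h1]
  rfl

variable (hunit : IsUnit (n : Γ(S, ⊤))) (hζ : aeval (ζu : Γ(S, ⊤)) (cyclotomic n ℤ) = 0)

/-- evaluation of global functions on `S` at a point of an étale `S`-scheme -/
noncomputable def evAt (V : S.Etale) (v : V.left) : Γ(S, ⊤) →+* V.left.residueField v :=
  (V.left.Γevaluation v).hom.comp (ρ S V)

include hunit hζ in
lemma isPrimitiveRoot_evAt (V : S.Etale) (v : V.left) :
    IsPrimitiveRoot (V.left.Γevaluation v ((ζV S ζu V : (Γ(V.left, ⊤))ˣ) : Γ(V.left, ⊤))) n :=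
  isPrimitiveRoot_map (evAt S V v) n hunit _ hζ

include hunit hζ in
/-- `ζ^k = 1` on a nonempty étale `S`-scheme forces `n ∣ k` -/
lemma dvd_of_nsmul_toGm_eq_zero (V : S.Etale) (v : V.left) (k : ℕ)
    (h : k • toGm V (ζV S ζu V) = 0) : n ∣ k := by
  rw [← toGm_pow, ← toGm_one] at h
  have h1 := toGm_injective V h
  have h2 := congrArg (fun x : (Γ(V.left, ⊤))ˣ => V.left.Γevaluation v (x : Γ(V.left, ⊤))) h1
  simp only [Units.val_pow_eq_pow_val, map_pow, Units.val_one, map_one] at h2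
  exact (isPrimitiveRoot_evAt S n ζu hunit hζ V v).dvd_of_pow_eq_one k h2

include hunit hζ in
/-- `ψ` is injective on sections -/
theorem ψ_injective (V : S.Etale) (s : Sec (cst S (Mn n)) V)
    (hs : app (ψ S n ζu hζn) V s = 0) : s = 0 := by
  have h0' : (0 : Sec (cst S (Mn n)) V) = eta (Mn n) V 0 := (map_zero _).symm
  rw [h0']
  apply eq_eta_of_forall_isVal
  intro v
  obtain ⟨a, T, g, t, ht, hsT⟩ := exists_isVal s v
  have h1 : app (ψ S n ζu hζn) T (eta (Mn n) T a) = 0 := by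
    rw [← hsT, app_res, hs, map_zero]
  rw [ψ_eta] at h1
  have h2 := dvd_of_nsmul_toGm_eq_zero S n ζu hunit hζ T t _ h1
  have h3 : a.down = 0 := by
    rw [← ZMod.natCast_zmod_val a.down]
    exact (ZMod.natCast_eq_zero_iff _ _).2 h2
  have h4 : a = 0 := ULift.ext _ _ h3
  exact ⟨T, g, t, ht, h4 ▸ hsT⟩

lemma toGm_inv (V : S.Etale) (x : (Γ(V.left, ⊤))ˣ) : toGm V x⁻¹ = - toGm V x := rfl

set_option backward.isDefEq.respectTransparency.types false in
include hunit hζ in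
/-- every `n`-torsion section of `G_m` is locally a power of `ζ` -/
theorem exists_local_eq (V : S.Etale) (x : Sec (EtCoh.Gm S) V) (hx : n • x = 0) (v : V.left) :
    ∃ (W : S.Etale) (g : W ⟶ V) (w : W.left) (a : ULift.{u + 1} (ZMod n)), g.left w = v ∧
      res (EtCoh.Gm S) g x = app (ψ S n ζu hζn) W (eta (Mn n) W a) := by
  have hn0 : 0 < n := Nat.pos_of_ne_zero (NeZero.ne n)
  set uu : (Γ(V.left, ⊤))ˣ := ofGm V x with huu
  have hxu : x = toGm V uu := rfl
  have hun : uu ^ n = 1 := by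
    apply toGm_injective V
    rw [toGm_pow, ← hxu, hx, toGm_one]
  have hprim := isPrimitiveRoot_evAt S n ζu hunit hζ V v
  have hev : (V.left.Γevaluation v (uu : Γ(V.left, ⊤))) ^ n = 1 := by
    rw [← map_pow, ← Units.val_pow_eq_pow_val, hun, Units.val_one, map_one]
  obtain ⟨i, hi, hiu⟩ := hprim.eq_pow_of_pow_eq_one hev
  set c : (Γ(V.left, ⊤))ˣ := uu * (ζV S ζu V ^ i)⁻¹ with hc
  have hcn : c ^ n = 1 := by
    have hζVn : ζV S ζu V ^ n = 1 := by
      simp only [ζV, ← map_pow, hζn, map_one]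
    rw [hc, mul_pow, hun, one_mul, inv_pow, ← pow_mul, mul_comm, pow_mul, hζVn, one_pow, inv_one]
  have hcv : V.left.Γevaluation v (c : Γ(V.left, ⊤)) = 1 := by
    have h1 : (c : Γ(V.left, ⊤)) * ((ζV S ζu V : (Γ(V.left, ⊤))ˣ) : Γ(V.left, ⊤)) ^ i =
        (uu : Γ(V.left, ⊤)) := by
      rw [hc, ← Units.val_pow_eq_pow_val, ← Units.val_mul, inv_mul_cancel_right]
    have h2 := congrArg (V.left.Γevaluation v) h1
    rw [map_mul, map_pow, hiu] at h2
    have hne : V.left.Γevaluation v (uu : Γ(V.left, ⊤)) ≠ 0 := by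
      intro h0
      rw [h0, zero_pow (NeZero.ne n)] at hev
      exact zero_ne_one hev
    exact mul_right_cancel₀ hne (h2.trans (one_mul _).symm)
  have hgeom : ((c : Γ(V.left, ⊤)) - 1) * ∑ j ∈ Finset.range n, (c : Γ(V.left, ⊤)) ^ j = 0 := by
    rw [mul_geom_sum, ← Units.val_pow_eq_pow_val, hcn, Units.val_one, sub_self]
  have hgv : V.left.Γevaluation v (∑ j ∈ Finset.range n, (c : Γ(V.left, ⊤)) ^ j) ≠ 0 := by
    rw [map_sum]
    simp only [map_pow, hcv, one_pow, Finset.sum_const, Finset.card_range, nsmul_eq_mul, mul_one]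
    have := hunit.map (evAt S V v)
    rw [map_natCast] at this
    exact this.ne_zero
  obtain ⟨W₀, hvW, hW0⟩ := exists_opens_appTop_eq_zero v _ _ hgeom hgv
  let W : S.Etale := Scheme.Etale.mk (W₀.ι ≫ V.hom)
  let g : W ⟶ V := MorphismProperty.Over.homMk W₀.ι rfl trivial
  refine ⟨W, g, ⟨v, hvW⟩, ⟨(i : ZMod n)⟩, rfl, ?_⟩
  have e1 : app (ψ S n ζu hζn) W (eta (Mn n) W ⟨(i : ZMod n)⟩) =
      res (EtCoh.Gm S) g (i • toGm V (ζV S ζu V)) := by
    rw [← res_eta (Mn n) g, app_res, ψ_eta]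
    simp only [ZMod.val_natCast, Nat.mod_eq_of_lt hi]
  rw [e1]
  have e2 : x = toGm V c + i • toGm V (ζV S ζu V) := by
    rw [hc, toGm_mul, toGm_inv, toGm_pow, hxu]
    abel
  have e3 : res (EtCoh.Gm S) g (toGm V c) = 0 := by
    rw [res_toGm, ← toGm_one]
    congr 1
    apply Units.ext
    show W₀.ι.appTop (c : Γ(V.left, ⊤)) = 1
    have := hW0
    rw [map_sub, map_one, sub_eq_zero] at this
    exact this
  rw [e2, map_add, e3, zero_add]


include hζn in
lemma ψ_comp_powMap : ψ S n ζu hζn ≫ EtCoh.powMap S n = 0 := by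
  apply ((adjΔ S).homEquiv (Mn n) (EtCoh.Gm S)).injective
  rw [Adjunction.homEquiv_naturality_right]
  have h1 : ((adjΔ S).homEquiv (Mn n) (EtCoh.Gm S)) (ψ S n ζu hζn) =
      AddCommGrpCat.ofHom (h0 S n ζu hζn) := Equiv.apply_symm_apply _ _
  rw [h1]
  ext a
  show app (EtCoh.powMap S n) (EtCoh.top S) (h0 S n ζu hζn a) = _
  rw [app_powMap, ← map_nsmul]
  have : n • a = 0 := by
    apply ULift.ext
    show n • a.down = 0
    simp
  rw [this, map_zero]
  rfl

/-- the morphism `ℤ/n → μ_n` -/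
noncomputable def ψ' : cst S (Mn n) ⟶ EtCoh.mu S n :=
  kernel.lift (EtCoh.powMap S n) (ψ S n ζu hζn) (ψ_comp_powMap S n ζu hζn)

lemma ψ'_ι : ψ' S n ζu hζn ≫ EtCoh.muι S n = ψ S n ζu hζn := kernel.lift_ι _ _ _


omit [NeZero n] in
lemma muι_injective (W : S.Etale) : Function.Injective (app (EtCoh.muι S n) W) := by
  have h1 : Mono (EtCoh.muι S n) := by
    unfold EtCoh.muι
    exact equalizer.ι_mono
  have h2 : Mono ((sheafToPresheaf _ _).map (EtCoh.muι S n)) := inferInstance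
  have h3 : Mono (((evaluation _ _).obj (op W)).map ((sheafToPresheaf _ _).map (EtCoh.muι S n))) :=
    inferInstance
  exact (AddCommGrpCat.mono_iff_injective _).1 h3

omit [NeZero n] in
lemma nsmul_app_muι (W : S.Etale) (s : Sec (EtCoh.mu S n) W) :
    n • app (EtCoh.muι S n) W s = 0 := by
  rw [← app_powMap]
  have h : EtCoh.muι S n ≫ EtCoh.powMap S n = 0 := kernel.condition _
  have h2 := congrArg (fun k => app k W s) h
  exact h2

include hunit hζ in
theorem isIso_ψ' : IsIso (ψ' S n ζu hζn) := by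
  have hcomp : ∀ (W : S.Etale) (s : Sec (cst S (Mn n)) W),
      app (EtCoh.muι S n) W (app (ψ' S n ζu hζn) W s) = app (ψ S n ζu hζn) W s := by
    intro W s
    have h := ψ'_ι S n ζu hζn
    exact congrArg (fun k => app k W s) h
  refine (Sheaf.isLocallyBijective_iff_isIso (ψ' S n ζu hζn)).1 ⟨?_, ?_⟩
  · constructor
    intro V x y hxy
    have hxy' : app (ψ' S n ζu hζn) V.unop (x - y) = 0 := by
      rw [map_sub, sub_eq_zero]
      exact hxy
    have h1 : app (ψ S n ζu hζn) V.unop (x - y) = 0 := by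
      rw [← hcomp, hxy', map_zero]
    have h2 := ψ_injective S n ζu hζn hunit hζ V.unop (x - y) h1
    have h3 : x = y := sub_eq_zero.1 h2
    rw [mem_iff]
    intro v
    refine ⟨V.unop, 𝟙 _, v, ?_, rfl⟩
    show res (cst S (Mn n)) (𝟙 _) x = res (cst S (Mn n)) (𝟙 _) y
    rw [h3]
  · constructor
    intro V s
    rw [mem_iff]
    intro v
    obtain ⟨W, g, w, a, hw, hx⟩ := exists_local_eq S n ζu hζn hunit hζ V
      (app (EtCoh.muι S n) V s) (nsmul_app_muι S n V s) v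
    refine ⟨W, g, w, ⟨eta (Mn n) W a, ?_⟩, hw⟩
    apply muι_injective S n W
    have e1 := hcomp W (eta (Mn n) W a)
    refine e1.trans ?_
    rw [← hx]
    exact (app_res (EtCoh.muι S n) g s).symm

include hζn hunit hζ in
theorem nonempty_iso : Nonempty (EtCoh.mu S n ≅ EtCoh.const S (ZMod n)) := by
  have := isIso_ψ' S n ζu hζn hunit hζ
  exact ⟨(asIso (ψ' S n ζu hζn)).symm⟩

end Main


/-- if `n` is invertible on `S` and `Γ(S, 𝒪_S)` contains a root of the `n`-th cyclotomic polynomial,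
then `μ_n ≅ ℤ/n` on the small étale site of `S` -/
theorem nonempty_mu_iso_const (S : Scheme.{u}) (n : ℕ) (hn : 1 ≤ n)
    (hunit : IsUnit (n : Γ(S, ⊤))) (ζ : Γ(S, ⊤))
    (hζ : aeval ζ (cyclotomic n ℤ) = 0) :
    Nonempty (EtCoh.mu S n ≅ EtCoh.const S (ZMod n)) := by
  have hn0 : n ≠ 0 := by omega
  have : NeZero n := ⟨hn0⟩
  have h1 := pow_eq_one_of_aeval_cyclotomic n ζ hζ
  exact nonempty_iso S n (Units.ofPowEqOne ζ n h1 hn0) (Units.pow_ofPowEqOne h1 hn0) hunit
    (by rw [Units.val_ofPowEqOne]; exact hζ)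

end Groth.Agent.H21.MuN
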