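import Groth.Agent.H21.MuN
import Mathlib.RingTheory.Henselian
import Mathlib.FieldTheory.IsSepClosed

set_option autoImplicit false
universe u
open CategoryTheory CategoryTheory.Limits AlgebraicGeometry Opposite Polynomial

namespace Groth.Agent.H21.MuN

/-- a strictly henselian local ring in which `n` is invertible contains a root of the `n`-th
cyclotomic polynomial -/
theorem exists_cyclotomic_root (A : Type u) [CommRing A]
    (hA : EtCoh.IsStrictlyHenselianLocalRing A) (n : ℕ) (hn : 1 ≤ n) (hu : IsUnit (n : A)) :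
    ∃ ζ : A, aeval ζ (cyclotomic n ℤ) = 0 := by
  obtain ⟨hH, hS⟩ := hA
  let k := IsLocalRing.ResidueField A
  have hnk : NeZero (n : k) := ⟨by
    have := hu.map (IsLocalRing.residue A)
    rw [map_natCast] at this
    exact this.ne_zero⟩
  have hsep : (cyclotomic n k).Separable := separable_cyclotomic n k
  have hdeg : (cyclotomic n k).degree ≠ 0 := by
    rw [degree_cyclotomic]
    have : 0 < Nat.totient n := Nat.totient_pos.2 (by omega)
    exact_mod_cast this.ne'
  obtain ⟨a₀, ha₀⟩ := IsSepClosed.exists_root (cyclotomic n k) hdeg hsep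
  obtain ⟨a, rfl⟩ := IsLocalRing.residue_surjective a₀
  have hmap : (cyclotomic n A).map (IsLocalRing.residue A) = cyclotomic n k := map_cyclotomic n _
  have h1 : (cyclotomic n A).eval a ∈ IsLocalRing.maximalIdeal A := by
    rw [← IsLocalRing.residue_eq_zero_iff, ← eval₂_hom, ← eval_map, hmap]
    exact ha₀
  have h2 : IsUnit ((cyclotomic n A).derivative.eval a) := by
    rw [← IsLocalRing.residue_ne_zero_iff_isUnit, ← eval₂_hom, ← eval_map, ← derivative_map, hmap]
    have := hsep.eval₂_derivative_ne_zero (RingHom.id k) (x := IsLocalRing.residue A a)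
      (by rw [eval₂_id]; exact ha₀)
    rwa [eval₂_id] at this
  obtain ⟨ζ, hζ, -⟩ := HenselianLocalRing.is_henselian (cyclotomic n A) (cyclotomic.monic n A) a h1 h2
  refine ⟨ζ, ?_⟩
  rw [IsRoot.def, ← map_cyclotomic_int, eval_map] at hζ
  rw [aeval_def]
  have e : algebraMap ℤ A = Int.castRingHom A := Subsingleton.elim _ _
  rw [e]
  exact hζ

/-- `μ_n ≅ ℤ/n` on any scheme over a strictly henselian local ring in which `n` is invertible -/
theorem nonempty_mu_iso_const_of_strictlyHenselian (A : Type u) [CommRing A]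
    (hA : EtCoh.IsStrictlyHenselianLocalRing A) (n : ℕ) (hn : 1 ≤ n) (hu : IsUnit (n : A))
    (X : Scheme.{u}) (f : X ⟶ Spec (CommRingCat.of A)) :
    Nonempty (EtCoh.mu X n ≅ EtCoh.const X (ZMod n)) := by
  obtain ⟨ζ, hζ⟩ := exists_cyclotomic_root A hA n hn hu
  let φ : A →+* Γ(X, ⊤) := ((Scheme.ΓSpecIso (CommRingCat.of A)).inv ≫ f.appTop).hom
  apply nonempty_mu_iso_const X n hn (ζ := φ ζ)
  · have := hu.map φ
    rwa [map_natCast] at this
  · have h := congrArg φ hζ
    rw [map_zero, aeval_def, hom_eval₂] at h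
    have e : φ.comp (algebraMap ℤ A) = algebraMap ℤ Γ(X, ⊤) := Subsingleton.elim _ _
    rw [e] at h
    exact h

end Groth.Agent.H21.MuN
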