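import Mathlib.Analysis.Complex.CoveringMap
import Mathlib.Topology.Homotopy.Lifting

open Topology unitInterval

namespace Groth.Agent.H21

/-- A null-homotopic continuous map to `ℂ^×` has a continuous logarithm. -/
theorem exists_continuous_log {T : Type*} [TopologicalSpace T] (φ : C(T, {z : ℂ // z ≠ 0}))
    (z₀ : {z : ℂ // z ≠ 0}) (h : φ.Homotopic (ContinuousMap.const T z₀)) :
    ∃ ψ : T → ℂ, Continuous ψ ∧ ∀ t, Complex.exp (ψ t) = (φ t).1 := by
  obtain ⟨F⟩ := h.symm
  have cov := Complex.isCoveringMap_exp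
  let w₀ : ℂ := Complex.log z₀.1
  have hw₀ : Complex.exp w₀ = z₀.1 := Complex.exp_log z₀.2
  let H : C(I × T, {z : ℂ // z ≠ 0}) := F.toContinuousMap
  let f : C(T, ℂ) := ContinuousMap.const T w₀
  have H_0 : ∀ a, H (0, a) = (fun z : ℂ ↦ (⟨_, z.exp_ne_zero⟩ : {z : ℂ // z ≠ 0})) (f a) := by
    intro a
    apply Subtype.ext
    simp [H, f, hw₀]
  refine ⟨fun t => cov.liftHomotopy H f H_0 (1, t),
    (cov.liftHomotopy H f H_0).continuous.comp (by fun_prop), fun t => ?_⟩
  have h1 := congr_fun (cov.liftHomotopy_lifts H f H_0) (1, t)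
  have h2 : (H (1, t)) = φ t := by simp [H]
  rw [← h2, ← h1]
  rfl

end Groth.Agent.H21
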