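import Groth.Agent.H21.Kummer
import Groth.Agent.H21.DivConst
import Groth.Agent.H21.NullLog

open AlgebraicGeometry CategoryTheory TopologicalSpace Opposite An Topology Limits

set_option linter.unusedSectionVars false

namespace Groth.Agent.H21

variable {X : Scheme.{0}} [X.Over SC]

/-- On an affine scheme of finite type over `ℂ`, an infinitely divisible function is constant on
the complex points of every irreducible subset. -/
theorem exists_evTop_eq_of_divisible_of_isAffine [IsAffine X] [LocallyOfFiniteType (X ↘ SC)]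
    (u : Γ(X, ⊤)) (hdiv : ∀ k : ℕ, 0 < k → ∃ v : Γ(X, ⊤), v ^ k = u)
    {Z : Set X} (hZ : IsIrreducible Z) :
    ∃ c : ℂ, ∀ x : Pts X, x.pt ∈ Z → x.evTop u = c := by
  let 𝔭 : Ideal Γ(X, ⊤) :=
    { carrier := {f | ∀ p ∈ Z, p ∉ X.basicOpen f}
      add_mem' := by
        intro f g hf hg p hp hmem
        have := X.basicOpen_add_le (f := f) (g := g) hmem
        rcases this with h | h
        · exact hf p hp h
        · exact hg p hp h
      zero_mem' := by
        intro p _ hmem
        rw [Scheme.basicOpen_zero] at hmem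
        exact hmem
      smul_mem' := by
        intro c f hf p hp hmem
        rw [smul_eq_mul, Scheme.basicOpen_mul] at hmem
        exact hf p hp hmem.2 }
  have hmem𝔭 : ∀ f, f ∈ 𝔭 ↔ ∀ p ∈ Z, p ∉ X.basicOpen f := fun f => Iff.rfl
  have hnon : ∀ f, f ∉ 𝔭 → (Z ∩ X.basicOpen f).Nonempty := by
    intro f hf
    by_contra hne
    apply hf
    intro p hp hmem
    exact hne ⟨p, hp, hmem⟩
  have hprime : 𝔭.IsPrime := by
    constructor
    · rw [Ideal.ne_top_iff_one]
      intro h1
      obtain ⟨p, hp⟩ := hZ.nonempty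
      exact h1 p hp (by rw [Scheme.basicOpen_one]; trivial)
    · intro f g hfg
      by_contra hcon
      rw [not_or] at hcon
      obtain ⟨hf, hg⟩ := hcon
      obtain ⟨p, hp, hpf, hpg⟩ := hZ.isPreirreducible (X.basicOpen f) (X.basicOpen g)
        (X.basicOpen f).isOpen (X.basicOpen g).isOpen (hnon f hf) (hnon g hg)
      exact hfg p hp (by rw [Scheme.basicOpen_mul]; exact ⟨hpf, hpg⟩)
  let alg : Algebra ℂ Γ(X, ⊤) := (strHom X).toAlgebra
  have hft : Algebra.FiniteType ℂ Γ(X, ⊤) := strHom_finiteType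
  have hftq : Algebra.FiniteType ℂ (Γ(X, ⊤) ⧸ 𝔭) :=
    Algebra.FiniteType.of_surjective (Ideal.Quotient.mkₐ ℂ 𝔭) (Ideal.Quotient.mkₐ_surjective ℂ 𝔭)
  have hdom : IsDomain (Γ(X, ⊤) ⧸ 𝔭) := Ideal.Quotient.isDomain 𝔭
  obtain ⟨c, hc⟩ := exists_eq_algebraMap_of_divisible (Γ(X, ⊤) ⧸ 𝔭) (Ideal.Quotient.mk 𝔭 u) (by
    intro k hk
    obtain ⟨v, hv⟩ := hdiv k hk
    exact ⟨Ideal.Quotient.mk 𝔭 v, by rw [← map_pow, hv]⟩)
  have hmem : u - strHom X c ∈ 𝔭 := by
    rw [← Ideal.Quotient.eq_zero_iff_mem, map_sub, hc, sub_eq_zero]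
    rfl
  refine ⟨c, fun x hx => ?_⟩
  have h1 := (hmem𝔭 _).1 hmem x.pt hx
  rw [mem_basicOpen_iff x ⊤ (Opens.mem_top _), not_not] at h1
  rw [ev_sub, sub_eq_zero] at h1
  exact h1.trans (evTop_strHom x c)

/-- A nowhere vanishing function with a continuous logarithm is constant on the complex points of
every irreducible closed subset. -/
theorem exists_evTop_eq_of_continuous_log_of_isIrreducible [LocallyOfFiniteType (X ↘ SC)]
    (u : Γ(X, ⊤)) (ψ : Pts X → ℂ) (hψ : Continuous ψ)
    (hexp : ∀ x : Pts X, Complex.exp (ψ x) = x.evTop u)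
    {Z : Set X} (hZ : IsIrreducible Z) (hZc : IsClosed Z) :
    ∃ c : ℂ, ∀ x : Pts X, x.pt ∈ Z → x.evTop u = c := by
  obtain ⟨p, hp⟩ := hZ.nonempty
  obtain ⟨U, hU, hpU⟩ := exists_affineOpen_mem p
  have : IsAffine (U : Scheme.{0}) := hU
  have hZ' : IsIrreducible (U.ι ⁻¹' Z : Set (U : Scheme.{0})) :=
    ⟨⟨⟨p, hpU⟩, hp⟩, hZ.isPreirreducible.preimage U.ι.isOpenEmbedding⟩
  have hexp' : ∀ x' : Pts (U : Scheme.{0}),
      Complex.exp ((ψ ∘ Pts.map U.ι) x') = x'.evTop (U.ι.appTop u) := by
    intro x'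
    rw [← evTop_map]
    exact hexp _
  obtain ⟨c, hc⟩ := exists_evTop_eq_of_divisible_of_isAffine (X := (U : Scheme.{0}))
    (U.ι.appTop u) (fun k hk => exists_pow_eq_of_continuous_log (U.ι.appTop u)
      (ψ ∘ Pts.map U.ι) (hψ.comp (Pts.continuous_map U.ι)) hexp' k hk) hZ'
  refine ⟨c, ?_⟩
  -- on `Z ∩ U`
  have hT : ∀ x : Pts X, x.pt ∈ Z ∩ (U : Set X) → x.evTop u = c := by
    rintro x ⟨hxZ, hxU⟩
    have h1 := hc (liftOpens U x hxU) (by
      change U.ι (liftOpens U x hxU).pt ∈ Z
      rw [← Pts.pt_map, map_liftOpens]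
      exact hxZ)
    rw [← evTop_map, map_liftOpens] at h1
    exact h1
  have hcl : closure (Z ∩ (U : Set X)) = Z := by
    apply Set.Subset.antisymm
    · exact hZc.closure_subset_iff.2 Set.inter_subset_left
    · exact subset_closure_inter_of_isPreirreducible_of_isOpen hZ.isPreirreducible
        U.isOpen ⟨p, hp, hpU⟩
  have : IsLocallyNoetherian X := isLocallyNoetherian_of_lft
  have hTlc : IsLocallyConstructible (Z ∩ (U : Set X)) := by
    rw [Set.inter_comm]
    exact isLocallyConstructible_of_isLocallyClosed ⟨_, _, U.isOpen, hZc, rfl⟩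
  have hpre := preimage_closure_eq_closure_preimage (Z ∩ (U : Set X)) hTlc
  rw [hcl] at hpre
  have hclosed : IsClosed {x : Pts X | x.evTop u = c} :=
    isClosed_eq (continuous_evTop u) continuous_const
  intro x hx
  have hx' : x ∈ (Pts.pt ⁻¹' Z : Set (Pts X)) := hx
  rw [hpre] at hx'
  exact closure_minimal (fun y hy => hT y hy) hclosed hx'

/-- A nowhere vanishing function on a connected scheme locally of finite type over `ℂ` which has
a continuous logarithm on complex points is constant on complex points. -/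
theorem evTop_eq_of_continuous_log [LocallyOfFiniteType (X ↘ SC)] [ConnectedSpace X]
    (u : Γ(X, ⊤)) (ψ : Pts X → ℂ) (hψ : Continuous ψ)
    (hexp : ∀ x : Pts X, Complex.exp (ψ x) = x.evTop u) (x₀ y₀ : Pts X) :
    x₀.evTop u = y₀.evTop u := by
  have : IsLocallyNoetherian X := isLocallyNoetherian_of_lft
  have : JacobsonSpace X := jacobsonSpace_of_lft
  let T : Set X := {p | ∀ y : Pts X, y.pt ∈ closure ({p} : Set X) → y.evTop u = x₀.evTop u}
  have hK : ∀ p : X, ∃ c : ℂ, ∀ y : Pts X, y.pt ∈ closure ({p} : Set X) → y.evTop u = c :=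
    fun p => exists_evTop_eq_of_continuous_log_of_isIrreducible u ψ hψ hexp
      isIrreducible_singleton.closure isClosed_closure
  have hne : ∀ p : X, ∃ z : Pts X, z.pt ∈ closure ({p} : Set X) := by
    intro p
    have h1 := closure_inter_closedPoints (X := X) (Z := closure {p}) isClosed_closure
    have h2 : (closure {p} ∩ closedPoints X).Nonempty := by
      by_contra hempty
      rw [Set.not_nonempty_iff_eq_empty] at hempty
      rw [hempty, closure_empty] at h1
      exact (Set.singleton_nonempty p).closure.ne_empty h1.symm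
    obtain ⟨q, hq1, hq2⟩ := h2
    obtain ⟨z, hz⟩ := exists_pts_of_isClosed_singleton q hq2
    exact ⟨z, by rw [hz]; exact hq1⟩
  have hmono : ∀ p q : X, p ⤳ q → closure ({q} : Set X) ⊆ closure {p} := by
    intro p q hpq
    exact isClosed_closure.closure_subset_iff.2
      (Set.singleton_subset_iff.2 (specializes_iff_mem_closure.1 hpq))
  have hs : StableUnderSpecialization T := fun p q hpq hp y hy => hp y (hmono p q hpq hy)
  have hg : StableUnderGeneralization T := by
    intro q p hpq hq y hy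
    obtain ⟨c, hc⟩ := hK p
    obtain ⟨z, hz⟩ := hne q
    rw [hc y hy, ← hc z (hmono p q hpq hz)]
    exact hq z hz
  have hs' : StableUnderSpecialization Tᶜ := fun a b hab ha hb => ha (hg hab hb)
  have hg' : StableUnderGeneralization Tᶜ := fun a b hab ha hb => ha (hs hab hb)
  have hclopen : IsClopen T :=
    ⟨isOpen_compl_iff.1 (isOpen_of_stable hs' hg'), isOpen_of_stable hs hg⟩
  have hxT : x₀.pt ∈ T := by
    intro y hy
    rw [(isClosed_singleton_pt x₀).closure_eq] at hy
    have : y = x₀ := pt_injective hy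
    rw [this]
  have hTuniv : T = Set.univ := hclopen.eq_univ ⟨x₀.pt, hxT⟩
  have hyT : y₀.pt ∈ T := by rw [hTuniv]; trivial
  exact (hyT y₀ (subset_closure (Set.mem_singleton _))).symm

end Groth.Agent.H21
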