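import Groth.Agent.H21.LocConst
import Groth.Agent.H4.EtRestr
import Groth.Prelude.Def_EtCore

/-!
# Restriction to the over-site vs inverse image along an étale morphism (helper21)
-/

set_option autoImplicit false
universe u
open CategoryTheory CategoryTheory.Limits AlgebraicGeometry Opposite EtShriek

namespace Groth.Agent.H21.OverBridge

open Groth.Agent.H21.ConstSec Groth.Agent.H21.LocConst Groth.Agent.H4.EtRestr

variable {X : Scheme.{u}} (V : X.Etale)

instance etale_hom : Etale (V.hom : V.left ⟶ X) := V.prop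

/-- `W → V.left` étale gives an object of the over-category of `V` -/
noncomputable def inclObj (W : V.left.Etale) : Over V :=
  Over.mk (MorphismProperty.Over.homMk (W.hom : W.left ⟶ V.left) rfl trivial :
    (compEtale (V.hom : V.left ⟶ X)).obj W ⟶ V)

/-- functoriality of `inclObj` -/
noncomputable def inclMap {W W' : V.left.Etale} (h : W ⟶ W') : inclObj V W ⟶ inclObj V W' :=
  Over.homMk ((compEtale (V.hom : V.left ⟶ X)).map h)
    (MorphismProperty.Over.Hom.ext (MorphismProperty.Over.w h))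

variable {V} {F G H : EtCoh.Ab X}

/-- from the over-site to `V.left` -/
noncomputable def toRestr (b : F.over V ⟶ G.over V) :
    (restrAlong (V.hom : V.left ⟶ X)).obj F ⟶ (restrAlong (V.hom : V.left ⟶ X)).obj G :=
  ⟨{ app := fun W => b.hom.app (op (inclObj V W.unop))
     naturality := fun _ _ h => b.hom.naturality (inclMap V h.unop).op }⟩

lemma toRestr_id : toRestr (𝟙 (F.over V)) = 𝟙 _ := rfl

lemma toRestr_comp (b : F.over V ⟶ G.over V) (c : G.over V ⟶ H.over V) :
    toRestr (b ≫ c) = toRestr b ≫ toRestr c := rfl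

/-- isomorphisms on the over-site give isomorphisms of restrictions -/
noncomputable def toRestrIso (b : F.over V ≅ G.over V) :
    (restrAlong (V.hom : V.left ⟶ X)).obj F ≅ (restrAlong (V.hom : V.left ⟶ X)).obj G where
  hom := toRestr b.hom
  inv := toRestr b.inv
  hom_inv_id := by rw [← toRestr_comp, b.hom_inv_id, toRestr_id]
  inv_hom_id := by rw [← toRestr_comp, b.inv_hom_id, toRestr_id]

variable (V)

/-- an object of the over-category of `V`, as an étale `V.left`-scheme -/
noncomputable def projObj (W : Over V) : V.left.Etale :=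
  MorphismProperty.Over.mk ⊤ (W.hom.left : W.left.left ⟶ V.left)
    (EtCoh.etaleMP.of_postcomp (W' := EtCoh.etaleMP) W.hom.left (V.hom : V.left ⟶ X) V.prop (by
      have e : W.hom.left ≫ V.hom = W.left.hom := MorphismProperty.Over.w W.hom
      rw [e]
      exact W.left.prop))

/-- `compEtale (projObj W)` is `W.left` -/
noncomputable def projIso (W : Over V) :
    (compEtale (V.hom : V.left ⟶ X)).obj (projObj V W) ≅ W.left :=
  MorphismProperty.Over.isoMk (Iso.refl _)
    ((Category.id_comp _).trans (MorphismProperty.Over.w W.hom).symm)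

/-- functoriality of `projObj` -/
noncomputable def projMap {W W' : Over V} (h : W ⟶ W') : projObj V W ⟶ projObj V W' :=
  MorphismProperty.Over.homMk h.left.left
    (congrArg (fun k => k.left) (Over.w h)) trivial

lemma projIso_naturality {W W' : Over V} (h : W ⟶ W') :
    (compEtale (V.hom : V.left ⟶ X)).map (projMap V h) ≫ (projIso V W').hom =
      (projIso V W).hom ≫ h.left :=
  MorphismProperty.Over.Hom.ext ((Category.comp_id _).trans (Category.id_comp _).symm)

lemma projIso_inv_naturality {W W' : Over V} (h : W ⟶ W') :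
    (projIso V W).inv ≫ (compEtale (V.hom : V.left ⟶ X)).map (projMap V h) =
      h.left ≫ (projIso V W').inv := by
  rw [Iso.inv_comp_eq, ← Category.assoc, ← projIso_naturality, Category.assoc, Iso.hom_inv_id,
    Category.comp_id]

variable {V}

/-- components of a morphism of restricted sheaves, with unfolded types -/
def appAt (a : (restrAlong (V.hom : V.left ⟶ X)).obj F ⟶ (restrAlong (V.hom : V.left ⟶ X)).obj G)
    (W' : V.left.Etale) :
    F.obj.obj (op ((compEtale (V.hom : V.left ⟶ X)).obj W')) ⟶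
      G.obj.obj (op ((compEtale (V.hom : V.left ⟶ X)).obj W')) :=
  a.hom.app (op W')

lemma appAt_naturality
    (a : (restrAlong (V.hom : V.left ⟶ X)).obj F ⟶ (restrAlong (V.hom : V.left ⟶ X)).obj G)
    {W₁ W₂ : V.left.Etale} (h : W₁ ⟶ W₂) :
    F.obj.map ((compEtale (V.hom : V.left ⟶ X)).map h).op ≫ appAt a W₁ =
      appAt a W₂ ≫ G.obj.map ((compEtale (V.hom : V.left ⟶ X)).map h).op :=
  a.hom.naturality h.op

lemma appAt_id (W' : V.left.Etale) :
    appAt (𝟙 ((restrAlong (V.hom : V.left ⟶ X)).obj F)) W' = 𝟙 _ := rfl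

lemma appAt_comp
    (a : (restrAlong (V.hom : V.left ⟶ X)).obj F ⟶ (restrAlong (V.hom : V.left ⟶ X)).obj G)
    (c : (restrAlong (V.hom : V.left ⟶ X)).obj G ⟶ (restrAlong (V.hom : V.left ⟶ X)).obj H)
    (W' : V.left.Etale) : appAt (a ≫ c) W' = appAt a W' ≫ appAt c W' := rfl

lemma ofRestr_aux
    (a : (restrAlong (V.hom : V.left ⟶ X)).obj F ⟶ (restrAlong (V.hom : V.left ⟶ X)).obj G)
    {W₁ W₂ : Over V} (k : W₁ ⟶ W₂) :
    F.obj.map k.left.op ≫ F.obj.map (projIso V W₁).hom.op ≫ appAt a (projObj V W₁) ≫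
      G.obj.map (projIso V W₁).inv.op =
    (F.obj.map (projIso V W₂).hom.op ≫ appAt a (projObj V W₂) ≫
      G.obj.map (projIso V W₂).inv.op) ≫ G.obj.map k.left.op := by
  have n1 := appAt_naturality a (projMap V k)
  have n2 := projIso_naturality V k
  have n3 := projIso_inv_naturality V k
  have hF : F.obj.map k.left.op ≫ F.obj.map (projIso V W₁).hom.op =
      F.obj.map (projIso V W₂).hom.op ≫
        F.obj.map ((compEtale (V.hom : V.left ⟶ X)).map (projMap V k)).op := by
    rw [← F.obj.map_comp, ← op_comp, ← n2, op_comp, F.obj.map_comp]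
  have hG : G.obj.map ((compEtale (V.hom : V.left ⟶ X)).map (projMap V k)).op ≫
      G.obj.map (projIso V W₁).inv.op = G.obj.map (projIso V W₂).inv.op ≫ G.obj.map k.left.op := by
    rw [← G.obj.map_comp, ← op_comp, n3, op_comp, G.obj.map_comp]
  rw [reassoc_of% hF, reassoc_of% n1, hG]
  simp only [Category.assoc]

/-- from `V.left` to the over-site -/
noncomputable def ofRestr
    (a : (restrAlong (V.hom : V.left ⟶ X)).obj F ⟶ (restrAlong (V.hom : V.left ⟶ X)).obj G) :
    F.over V ⟶ G.over V :=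
  ⟨{ app := fun W => F.obj.map (projIso V W.unop).hom.op ≫ appAt a (projObj V W.unop) ≫
        G.obj.map (projIso V W.unop).inv.op
     naturality := fun _ _ h => ofRestr_aux a h.unop }⟩

lemma ofRestr_id : ofRestr (𝟙 ((restrAlong (V.hom : V.left ⟶ X)).obj F)) = 𝟙 (F.over V) := by
  apply Sheaf.hom_ext
  refine NatTrans.ext (funext fun W => ?_)
  show F.obj.map (projIso V W.unop).hom.op ≫ appAt (𝟙 _) (projObj V W.unop) ≫
        F.obj.map (projIso V W.unop).inv.op = 𝟙 _
  rw [appAt_id, Category.id_comp, ← F.obj.map_comp, ← op_comp, Iso.inv_hom_id, op_id,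
    F.obj.map_id]

lemma ofRestr_comp
    (a : (restrAlong (V.hom : V.left ⟶ X)).obj F ⟶ (restrAlong (V.hom : V.left ⟶ X)).obj G)
    (c : (restrAlong (V.hom : V.left ⟶ X)).obj G ⟶ (restrAlong (V.hom : V.left ⟶ X)).obj H) :
    ofRestr (a ≫ c) = ofRestr a ≫ ofRestr c := by
  apply Sheaf.hom_ext
  refine NatTrans.ext (funext fun W => ?_)
  show F.obj.map (projIso V W.unop).hom.op ≫ appAt (a ≫ c) (projObj V W.unop) ≫
        H.obj.map (projIso V W.unop).inv.op =
    (F.obj.map (projIso V W.unop).hom.op ≫ appAt a (projObj V W.unop) ≫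
        G.obj.map (projIso V W.unop).inv.op) ≫
    (G.obj.map (projIso V W.unop).hom.op ≫ appAt c (projObj V W.unop) ≫
        H.obj.map (projIso V W.unop).inv.op)
  have e : G.obj.map (projIso V W.unop).inv.op ≫ G.obj.map (projIso V W.unop).hom.op = 𝟙 _ := by
    rw [← G.obj.map_comp, ← op_comp, Iso.hom_inv_id, op_id, G.obj.map_id]
  rw [appAt_comp]
  simp only [Category.assoc]
  rw [reassoc_of% e]

/-- isomorphisms of restrictions give isomorphisms on the over-site -/
noncomputable def ofRestrIso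
    (a : (restrAlong (V.hom : V.left ⟶ X)).obj F ≅ (restrAlong (V.hom : V.left ⟶ X)).obj G) :
    F.over V ≅ G.over V where
  hom := ofRestr a.hom
  inv := ofRestr a.inv
  hom_inv_id := by rw [← ofRestr_comp, a.hom_inv_id, ofRestr_id]
  inv_hom_id := by rw [← ofRestr_comp, a.inv_hom_id, ofRestr_id]

variable (F V)

/-- `F` is trivial over `V` iff its inverse image to `V.left` is constant -/
theorem triv_iff (M : AddCommGrpCat.{u + 1}) :
    Nonempty (F.over V ≅
      (constantSheaf (X.smallEtaleTopology.over V) AddCommGrpCat.{u + 1}).obj M) ↔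
    Nonempty ((EtCoh.pull (V.hom : V.left ⟶ X)).obj F ≅ cst V.left M) := by
  constructor
  · rintro ⟨b⟩
    exact ⟨(pullRestrIso (V.hom : V.left ⟶ X)).app F ≪≫
      toRestrIso (b ≪≫ constOverIso V M) ≪≫
      ((pullRestrIso (V.hom : V.left ⟶ X)).app (cst X M)).symm ≪≫
      (EtCore.pullConstIso (V.hom : V.left ⟶ X)).app M⟩
  · rintro ⟨a⟩
    exact ⟨ofRestrIso (((pullRestrIso (V.hom : V.left ⟶ X)).app F).symm ≪≫ a ≪≫
      ((EtCore.pullConstIso (V.hom : V.left ⟶ X)).app M).symm ≪≫
      (pullRestrIso (V.hom : V.left ⟶ X)).app (cst X M)) ≪≫ (constOverIso V M).symm⟩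

/-- finite locally constant sheaves, in terms of inverse images to an étale covering -/
theorem isFLC_iff : EtCoh.IsFiniteLocallyConstant F ↔
    ∃ (ι : Type u) (U : ι → X.Etale), EtCoh.Covers U ∧ ∀ i, ∃ (M : Type) (_ : AddCommGroup M)
      (_ : Finite M), Nonempty ((EtCoh.pull ((U i).hom : (U i).left ⟶ X)).obj F ≅
        EtCoh.const (U i).left M) := by
  constructor
  · rintro ⟨ι, U, hc, h⟩
    refine ⟨ι, U, hc, fun i => ?_⟩
    obtain ⟨M, i1, i2, hM⟩ := h i
    exact ⟨M, i1, i2, (triv_iff (U i) F _).1 hM⟩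
  · rintro ⟨ι, U, hc, h⟩
    refine ⟨ι, U, hc, fun i => ?_⟩
    obtain ⟨M, i1, i2, hM⟩ := h i
    exact ⟨M, i1, i2, (triv_iff (U i) F _).2 hM⟩

variable {F} in
/-- finite local constancy is invariant under isomorphism -/
theorem isFLC_of_iso {G : EtCoh.Ab X} (e : F ≅ G) (hF : EtCoh.IsFiniteLocallyConstant F) :
    EtCoh.IsFiniteLocallyConstant G := by
  obtain ⟨ι, U, hc, h⟩ := hF
  refine ⟨ι, U, hc, fun i => ?_⟩
  obtain ⟨M, i1, i2, ⟨b⟩⟩ := h i
  exact ⟨M, i1, i2, ⟨(X.smallEtaleTopology.overPullback AddCommGrpCat.{u + 1} (U i)).mapIso e.symm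
    ≪≫ b⟩⟩

/-- the inverse image of a finite locally constant sheaf is finite locally constant -/
theorem pull_isFLC {X' : Scheme.{u}} (f : X' ⟶ X) (hF : EtCoh.IsFiniteLocallyConstant F) :
    EtCoh.IsFiniteLocallyConstant ((EtCoh.pull f).obj F) := by
  obtain ⟨ι, U, hc, h⟩ := (isFLC_iff F).1 hF
  refine (isFLC_iff _).2 ⟨ι, fun i => (EtCoh.bc f).obj (U i), ?_, fun i => ?_⟩
  · intro x'
    obtain ⟨i, y, hy⟩ := hc (f x')
    obtain ⟨z, -, hz⟩ := Scheme.Pullback.exists_preimage_pullback
      (f := ((U i).hom : (U i).left ⟶ X)) (g := f) y x' hy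
    exact ⟨i, z, hz⟩
  · obtain ⟨M, i1, i2, ⟨a⟩⟩ := h i
    refine ⟨M, i1, i2, ⟨?_⟩⟩
    let j' : pullback ((U i).hom : (U i).left ⟶ X) f ⟶ X' := pullback.snd _ _
    let fU : pullback ((U i).hom : (U i).left ⟶ X) f ⟶ (U i).left := pullback.fst _ _
    have w : j' ≫ f = fU ≫ (U i).hom := pullback.condition.symm
    exact (EtCore.pullComp j' f).symm.app F ≪≫ (EtCore.pullCongr w).app F ≪≫
      (EtCore.pullComp fU ((U i).hom : (U i).left ⟶ X)).app F ≪≫
      (EtCoh.pull fU).mapIso a ≪≫ EtCore.pullConst fU M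

end Groth.Agent.H21.OverBridge
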