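import Groth.Agent.H21.QFStrata1
import Groth.Agent.H20.NA.Absolute
import Groth.Agent.H24.DescFP7
import Groth.Agent.H24.LimitLocusEtale

/-!
# Stratifying an étale morphism of qcqs schemes into finite pieces (helper21)
-/

set_option autoImplicit false
universe u
open CategoryTheory CategoryTheory.Limits AlgebraicGeometry Opposite TopologicalSpace

namespace Groth.Agent.H21.QFStrata

variable {U X : Scheme.{u}}

/-- the Noetherian case -/
theorem strata_finite_of_isNoetherian [IsNoetherian X] (j : U ⟶ X) [Etale j] [QuasiCompact j] :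
    GStrata (fun _ g => IsFinite (pullback.snd j g)) (Set.univ : Set X) := by
  have := gstrata_of_generic (fun _ g => IsFinite (pullback.snd j g))
    (fun T g W h => isFinite_snd_comp j g W.ι h) (fun y => exists_generic_finite j y) ⊤
  simpa using this

/-- **Stratification of an étale morphism of qcqs schemes into finite pieces.** -/
theorem exists_strata_finite [CompactSpace U] [QuasiSeparatedSpace U]
    [CompactSpace X] [QuasiSeparatedSpace X] (j : U ⟶ X) [Etale j] :
    ∃ (n : ℕ) (T : Fin n → Scheme.{u}) (g : ∀ i, T i ⟶ X),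
      (∀ i, IsImmersion (g i)) ∧ (∀ i, Topology.IsConstructible (Set.range (g i))) ∧
      Pairwise (fun i i' => Disjoint (Set.range (g i)) (Set.range (g i'))) ∧
      (⋃ i, Set.range (g i)) = Set.univ ∧ ∀ i, IsFinite (pullback.snd j (g i)) := by
  obtain ⟨I, hpre, hdir, hne, D, c, hc, haff, hft, ⟨e⟩⟩ := Groth.Agent.H20.NA.exists_absolute X
  have : ∀ {a b : Iᵒᵖ} (f : a ⟶ b), IsAffineHom (D.map f) := fun f => haff _ _ f
  have : ∀ i, CompactSpace (D.obj i) := fun i => (hft i).1
  have hlft : ∀ i, LocallyOfFiniteType (specULiftZIsTerminal.from (D.obj i)) := fun i => (hft i).2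
  have hN : ∀ i, IsNoetherian (D.obj i) := fun i => Groth.Agent.H20.NA.isNoetherian_of_ft (D.obj i)
  have : ∀ i, QuasiSeparatedSpace (D.obj i) := fun i => inferInstance
  have : CompactSpace c.pt := e.symm.hom.homeomorph.compactSpace
  have : QuasiSeparatedSpace c.pt := e.hom.isOpenEmbedding.quasiSeparatedSpace
  let f : U ⟶ c.pt := j ≫ e.inv
  have hf : Etale f := inferInstance
  obtain ⟨k, Uk, fk, gU, h1, h2, h3, h4, h5⟩ :=
    Groth.Agent.H24.exists_descAt_prop D c @Etale (fun j => inferInstance)
      Groth.Agent.H24.coreDescent_etale hc f hf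
  have : Etale fk := h4
  obtain ⟨ι, hι, T, g, hg1, hg2, hg3, hg4⟩ := strata_finite_of_isNoetherian fk
  let π : X ⟶ D.obj k := e.inv ≫ c.π.app k
  obtain ⟨n, ⟨eq⟩⟩ := Finite.exists_equiv_fin ι
  -- the big square
  have hsq : IsPullback gU j fk π := by
    have hiso : IsPullback (𝟙 U) j f e.inv := IsPullback.of_horiz_isIso ⟨by simp [f]⟩
    have := hiso.paste_horiz h5
    rwa [Category.id_comp] at this
  refine ⟨n, fun i => pullback (g (eq.symm i)) π, fun i => pullback.snd (g (eq.symm i)) π,
    fun i => ?_, fun i => ?_, ?_, ?_, fun i => ?_⟩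
  · have := hg1 (eq.symm i)
    infer_instance
  · rw [Scheme.Pullback.range_snd]
    have := hg1 (eq.symm i)
    exact π.isConstructible_preimage
      (ConstrNoeth.isConstructible_of_isLocallyClosed (g (eq.symm i)).isLocallyClosed_range)
  · intro i i' hii
    dsimp only
    rw [Scheme.Pullback.range_snd, Scheme.Pullback.range_snd]
    exact (hg2 (fun h => hii (eq.symm.injective h))).preimage _
  · apply Set.eq_univ_of_forall
    intro x
    have : π x ∈ ⋃ i, Set.range (g i) := by rw [hg3]; trivial
    obtain ⟨i, hi⟩ := Set.mem_iUnion.1 this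
    refine Set.mem_iUnion.2 ⟨eq i, ?_⟩
    rw [Scheme.Pullback.range_snd, Equiv.symm_apply_apply]
    exact hi
  · set i₀ := eq.symm i
    have hb := IsPullback.of_hasPullback j (pullback.snd (g i₀) π)
    have hb2 := hb.paste_horiz hsq
    have hcond : pullback.snd (g i₀) π ≫ π = pullback.fst (g i₀) π ≫ g i₀ :=
      pullback.condition.symm
    rw [hcond] at hb2
    exact isFinite_of_isPullback_comp fk (g i₀) (pullback.fst (g i₀) π) hb2 (hg4 i₀)

end Groth.Agent.H21.QFStrata
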