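import Groth.Agent.H21.QFStrata2
import Groth.Agent.H21.FEtTau
import Groth.Agent.H21.ConstrLoc
import Groth.Agent.H4.ExtZeroBC

/-!
# Extension by zero of a finite locally constant sheaf along an étale morphism of qcqs schemes
is constructible (helper21)
-/

set_option autoImplicit false
universe u
open CategoryTheory CategoryTheory.Limits AlgebraicGeometry Opposite TopologicalSpace EtShriek

namespace Groth.Agent.H21.QFStrata

open Groth.Agent.H21.OverBridge Groth.Agent.H21.ConstrLoc Groth.Agent.H21.ConstrMain

variable {U X : Scheme.{u}}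

/-- extension by zero along a finite étale morphism preserves finite locally constant sheaves -/
theorem extZero_isFLC_of_isFinite (f : U ⟶ X) [Etale f] [IsFinite f] [JCont f] (F : EtCoh.Ab U)
    (hF : EtCoh.IsFiniteLocallyConstant F) :
    EtCoh.IsFiniteLocallyConstant ((extZero f).obj F) := by
  have := Groth.Agent.H21.FEtTau.isIso_τ f F
  exact isFLC_of_iso (asIso ((Groth.Agent.H4.ShriekStar.τ f).app F)).symm
    (Groth.Agent.H21.FEtPush.push_isFiniteLocallyConstant f F hF)

/-- **`f_!` of a finite locally constant sheaf is constructible** for `f` étale between qcqs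
schemes. -/
theorem extZero_isConstructible [CompactSpace X] [QuasiSeparatedSpace X] [CompactSpace U]
    [QuasiSeparatedSpace U] (f : U ⟶ X) [Etale f] [JCont f] (F : EtCoh.Ab U)
    (hF : EtCoh.IsFiniteLocallyConstant F) :
    EtPBC.IsConstructible ((extZero f).obj F) := by
  obtain ⟨n, T, g, h1, h2, h3, h4, h5⟩ := exists_strata_finite f
  refine (isConstructible_iff_of_qcqs _).2
    (CStrata.adaptedStrata ⟨Fin n, inferInstance, T, g, h1, h2, h3, h4, fun i => ?_⟩)
  have hpb : IsPullback (pullback.snd f (g i)) (pullback.fst f (g i)) (g i) f :=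
    (IsPullback.of_hasPullback f (g i)).flip
  have hfin : IsFinite (pullback.snd f (g i)) := h5 i
  have e := (Groth.Agent.H4.ExtZeroBC.extZeroPullIso f (g i) (pullback.snd f (g i))
    (pullback.fst f (g i)) hpb).app F
  exact isFLC_of_iso e (extZero_isFLC_of_isFinite _ _ (pull_isFLC _ _ hF))

end Groth.Agent.H21.QFStrata
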