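import Groth.Agent.H21.QFStrata3
import Groth.Agent.H21.ConstrSub

/-!
# `EtPBC.extZeroConst` versus `EtShriek.extZero`; `j_! M` is constructible (helper21)
-/

set_option autoImplicit false
universe u
open CategoryTheory CategoryTheory.Limits AlgebraicGeometry Opposite TopologicalSpace EtShriek

namespace Groth.Agent.H21.QFStrata

variable {X : Scheme.{u}} (U : X.Etale)

/-- `U` viewed over itself and then over `X` is `U` -/
noncomputable def compTopIso : (compEtale (U.hom : U.left ⟶ X)).obj (EtCoh.top U.left) ≅ U :=
  MorphismProperty.Over.isoMk (Iso.refl _) (by rfl)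

/-- sections over `U`, via the over-site -/
noncomputable abbrev secOver : EtCoh.Ab X ⥤ AddCommGrpCat.{u + 1} :=
  X.smallEtaleTopology.overPullback AddCommGrpCat.{u + 1} U ⋙
    (sheafSections (X.smallEtaleTopology.over U) AddCommGrpCat.{u + 1}).obj (op (Over.mk (𝟙 U)))

/-- sections over `U`, via the small étale site of `U` -/
noncomputable abbrev secRestr : EtCoh.Ab X ⥤ AddCommGrpCat.{u + 1} :=
  restrAlong (U.hom : U.left ⟶ X) ⋙ EtCore.gsec U.left

/-- the two descriptions of sections over `U` agree -/
noncomputable def secIso : secOver U ≅ secRestr U :=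
  NatIso.ofComponents (fun H => H.obj.mapIso (compTopIso U).op)
    (fun {H H'} a => by
      exact (a.hom.naturality (compTopIso U).hom.op).symm)

/-- the adjunction `M ↦ j_! M ⊣ H ↦ H(U)` (over-site version) -/
noncomputable def adjOver :
    constantSheaf (X.smallEtaleTopology.over U) AddCommGrpCat.{u + 1} ⋙ EtPBC.extZero U ⊣
      secOver U :=
  (constantSheafAdj (X.smallEtaleTopology.over U) AddCommGrpCat.{u + 1}
    (Over.mkIdTerminal (X := U))).comp (EtPBC.extZeroAdj U)

/-- the adjunction `M ↦ j_! M ⊣ H ↦ H(U)` (small site version) -/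
noncomputable def adjRestr :
    constantSheaf U.left.smallEtaleTopology AddCommGrpCat.{u + 1} ⋙
      extZero (U.hom : U.left ⟶ X) ⊣ secRestr U :=
  (EtCore.constAdj U.left).comp (extZeroAdj (U.hom : U.left ⟶ X))

/-- the two versions of `M ↦ j_! M` agree -/
noncomputable def extZeroConstIso :
    constantSheaf (X.smallEtaleTopology.over U) AddCommGrpCat.{u + 1} ⋙ EtPBC.extZero U ≅
    constantSheaf U.left.smallEtaleTopology AddCommGrpCat.{u + 1} ⋙
      extZero (U.hom : U.left ⟶ X) :=
  (adjOver U).leftAdjointUniq ((adjRestr U).ofNatIsoRight (secIso U).symm)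

/-- **`j_! M` is constructible** for `j : U → X` étale with `U`, `X` qcqs and `M` finite -/
theorem extZeroConst_isConstructible [CompactSpace X] [QuasiSeparatedSpace X]
    [CompactSpace U.left] [QuasiSeparatedSpace U.left]
    (M : Type) [AddCommGroup M] [Finite M] :
    EtPBC.IsConstructible (EtPBC.extZeroConst U M) := by
  have h := extZero_isConstructible (U := U.left) (X := X) (U.hom : U.left ⟶ X) (EtCoh.const U.left M)
    (Groth.Agent.H21.ConstrSub.isFLC_const U.left M)
  exact Groth.Agent.H21.ConstrSub.isConstructible_of_iso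
    ((extZeroConstIso U).app (AddCommGrpCat.of (ULift.{u + 1} M))).symm h

end Groth.Agent.H21.QFStrata
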