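import Groth.Agent.H21.SepClosedPush2
import Groth.Agent.H4.ExtAdj

set_option autoImplicit false
universe u v
open CategoryTheory CategoryTheory.Limits AlgebraicGeometry Opposite Abelian

namespace Groth.Agent.H21.SepClosedCoh

open Groth.Agent.H21.ConstSec Groth.Agent.H21.ConstUnit Groth.Agent.H21.SepClosedPush

instance projective_ulift_int : Projective (AddCommGrpCat.of (ULift.{v} ℤ)) where
  factors {E X} f e _ := by
    have he : Function.Surjective e := (AddCommGrpCat.epi_iff_surjective e).1 inferInstance
    obtain ⟨y, hy⟩ := he (f (ULift.up 1))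
    refine ⟨AddCommGrpCat.ofHom ((zmultiplesHom E y).comp AddEquiv.ulift.toAddMonoidHom), ?_⟩
    ext x
    simp only [AddCommGrpCat.hom_comp, AddCommGrpCat.hom_ofHom, AddMonoidHom.coe_comp,
      Function.comp_apply, AddEquiv.coe_toAddMonoidHom, zmultiplesHom_apply, map_zsmul, hy]
    have hx : x = (AddEquiv.ulift x) • (ULift.up 1 : ULift.{v} ℤ) := by
      apply ULift.ext
      simp
      rfl
    conv_rhs => rw [hx]
    rw [map_zsmul]

instance additive_Γ (X : Scheme.{u}) : (Γ X).Additive := by
  have := (adjΔ X).rightAdjoint_preservesLimits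
  exact Functor.additive_of_preserves_binary_products _

instance preservesFiniteLimits_Δ (X : Scheme.{u}) : PreservesFiniteLimits (Δ X) := by
  unfold Δ constantSheaf; infer_instance

section Field

variable (k : Type u) [Field k] [IsSepClosed k]

instance preservesEpimorphisms_Γ : (Γ (Spec (CommRingCat.of k))).PreservesEpimorphisms where
  preserves {F G} φ _ := by
    rw [AddCommGrpCat.epi_iff_surjective]
    exact surjective_of_epi k φ (EtCoh.top _)

instance preservesFiniteColimits_Γ : PreservesFiniteColimits (Γ (Spec (CommRingCat.of k))) := by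
  rw [Functor.preservesFiniteColimits_iff_forall_exact_map_and_epi]
  intro S hS
  have h0 : PreservesFiniteLimits (Γ (Spec (CommRingCat.of k))) := by
    have := (adjΔ (Spec (CommRingCat.of k))).rightAdjoint_preservesLimits
    infer_instance
  have h1 := (Functor.preservesFiniteLimits_iff_forall_exact_map_and_mono
    (Γ (Spec (CommRingCat.of k)))).1 h0 S hS
  have : Epi S.g := hS.epi_g
  exact ⟨h1.1, inferInstance⟩

/-- higher cohomology of the spectrum of a separably closed field vanishes -/
theorem subsingleton_H_succ (G : EtCoh.Ab (Spec (CommRingCat.of k))) (n : ℕ) :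
    Subsingleton (EtCoh.H (Spec (CommRingCat.of k)) G (n + 1)) := by
  have h0 : PreservesFiniteLimits (Γ (Spec (CommRingCat.of k))) := by
    have := (adjΔ (Spec (CommRingCat.of k))).rightAdjoint_preservesLimits
    infer_instance
  have : (Δ (Spec (CommRingCat.of k))).PreservesMonomorphisms := inferInstance
  have := Functor.preservesInjectiveObjects_of_adjunction_of_preservesMonomorphisms
    (adjΔ (Spec (CommRingCat.of k)))
  let eq := Groth.Agent.H4.ExtAdj.phiEquiv.{u + 1, u + 1} (adjΔ (Spec (CommRingCat.of k)))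
    (AddCommGrpCat.of (ULift.{u + 1} ℤ)) G (n + 1)
  have hs : Subsingleton (Ext.{u + 1} (AddCommGrpCat.of (ULift.{u + 1} ℤ))
      ((Γ (Spec (CommRingCat.of k))).obj G) (n + 1)) :=
    subsingleton_of_forall_eq 0 fun x => Ext.eq_zero_of_projective x
  exact eq.toEquiv.subsingleton

end Field

section ExtIso

universe w v' u'

variable {C : Type u'} [Category.{v'} C] [Abelian C] [HasExt.{w} C]

lemma subsingleton_ext_of_iso_left {A A' B : C} (a : A ≅ A') (n : ℕ)
    (h : Subsingleton (Ext.{w} A' B n)) : Subsingleton (Ext.{w} A B n) := by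
  refine ⟨fun x y => ?_⟩
  have hx : ∀ z : Ext.{w} A B n, z = (Ext.mk₀ a.hom).comp ((Ext.mk₀ a.inv).comp z (zero_add n))
      (zero_add n) := by
    intro z
    simp only [Ext.mk₀_comp_mk₀_assoc, Iso.hom_inv_id, Ext.mk₀_id_comp]
  rw [hx x, hx y, h.elim ((Ext.mk₀ a.inv).comp x (zero_add n)) ((Ext.mk₀ a.inv).comp y (zero_add n))]

lemma subsingleton_ext_of_iso_right {A B B' : C} (b : B ≅ B') (n : ℕ)
    (h : Subsingleton (Ext.{w} A B' n)) : Subsingleton (Ext.{w} A B n) := by
  refine ⟨fun x y => ?_⟩
  have hx : ∀ z : Ext.{w} A B n, z = (z.comp (Ext.mk₀ b.hom) (add_zero n)).comp (Ext.mk₀ b.inv)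
      (add_zero n) := by
    intro z
    simp only [Ext.comp_assoc_of_third_deg_zero, Ext.mk₀_comp_mk₀, Iso.hom_inv_id, Ext.comp_mk₀_id]
  rw [hx x, hx y, h.elim (x.comp (Ext.mk₀ b.hom) (add_zero n)) (y.comp (Ext.mk₀ b.hom) (add_zero n))]

end ExtIso

section Push

variable {k : Type u} [Field k] [IsSepClosed k] {X : Scheme.{u}}

/-- cohomology of a direct image from the spectrum of a separably closed field vanishes in
positive degrees -/
theorem subsingleton_H_push (j : Spec (CommRingCat.of k) ⟶ X)
    (G : EtCoh.Ab (Spec (CommRingCat.of k))) (n : ℕ) :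
    Subsingleton (EtCoh.H X ((EtCoh.push j).obj G) (n + 1)) := by
  have : PreservesFiniteLimits (EtCoh.pull j) := Groth.Agent.S0101.result j
  have : (EtCoh.pull j).PreservesMonomorphisms := inferInstance
  have := Functor.preservesInjectiveObjects_of_adjunction_of_preservesMonomorphisms
    (EtCoh.pullPushAdj j)
  let eq := Groth.Agent.H4.ExtAdj.phiEquiv.{u + 1, u + 1} (EtCoh.pullPushAdj j)
    ((Δ X).obj (AddCommGrpCat.of (ULift.{u + 1} ℤ))) G (n + 1)
  have h1 : Subsingleton (Ext.{u + 1} ((EtCoh.pull j).obj
      ((Δ X).obj (AddCommGrpCat.of (ULift.{u + 1} ℤ)))) G (n + 1)) :=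
    subsingleton_ext_of_iso_left ((e j).app (AddCommGrpCat.of (ULift.{u + 1} ℤ))) (n + 1)
      (subsingleton_H_succ k G n)
  exact eq.symm.toEquiv.subsingleton

end Push

section Normal

variable {Y : Scheme.{u}} [IsIntegral Y]

/-- positive-degree cohomology of a constant sheaf on a normal integral scheme with separably
closed function field vanishes -/
theorem subsingleton_H_const (hN : ∀ y : Y, IsIntegrallyClosed (Y.presheaf.stalk y))
    [IsSepClosed Y.functionField] (M : AddCommGrpCat.{u + 1}) (n : ℕ) :
    Subsingleton (EtCoh.H Y (cst Y M) (n + 1)) := by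
  obtain ⟨e⟩ := nonempty_cst_iso_push hN M
  exact subsingleton_ext_of_iso_right e (n + 1)
    (subsingleton_H_push (k := Y.functionField) (Y.fromSpecStalk (genericPoint Y)) (cst _ M) n)

/-- global sections of a constant sheaf on a connected nonempty scheme -/
theorem eta_top_bijective (X : Scheme.{u}) [PreconnectedSpace X] [Nonempty X]
    (M : AddCommGrpCat.{u + 1}) : Function.Bijective (eta M (EtCoh.top X)) := by
  constructor
  · intro m m' h
    rcases eta_injective_or M m m' h with h | h
    · exact h
    · exact ((bot_mem_iff.1 h).false (Classical.arbitrary X)).elim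
  · intro s
    have : PreconnectedSpace (EtCoh.top X).left := ‹PreconnectedSpace X›
    obtain ⟨m, hm⟩ := exists_eq_eta_of_preconnected (EtCoh.top X) s
    exact ⟨m, hm.symm⟩

theorem natCard_H_zero (X : Scheme.{u}) [PreconnectedSpace X] [Nonempty X]
    (M : AddCommGrpCat.{u + 1}) : Nat.card (EtCoh.H X (cst X M) 0) = Nat.card M := by
  have e1 := (Sheaf.H.equiv₀ (cst X M) (topIsTerminal X)).toEquiv
  have e2 := Equiv.ofBijective _ (eta_top_bijective X M)
  exact Nat.card_congr (e1.trans e2.symm)

end Normal

end Groth.Agent.H21.SepClosedCoh
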