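import Groth.Agent.H69.EtSepClosedPt
import Groth.Agent.H21.ConstUnit
import Mathlib.CategoryTheory.Sites.EpiMono
import Mathlib.Algebra.Homology.ShortComplex.ExactFunctor

set_option autoImplicit false
universe u
open CategoryTheory CategoryTheory.Limits AlgebraicGeometry Opposite

namespace Groth.Agent.H21.SepClosedPush

open Groth.Agent.H21.ConstSec Groth.Agent.H21.ConstUnit Groth.Agent.H69.EtSepClosedPt

variable (k : Type u) [Field k] [IsSepClosed k]

/-- an epimorphism of abelian sheaves on the small étale site of a separably closed field is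
surjective on sections over every object -/
theorem surjective_of_epi {F G : EtCoh.Ab (Spec (CommRingCat.of k))} (φ : F ⟶ G) [Epi φ]
    (U : (Spec (CommRingCat.of k)).Etale) : Function.Surjective (app φ U) := by
  intro s
  have hls : Sheaf.IsLocallySurjective φ :=
    (Sheaf.isLocallySurjective_iff_epi' (A := AddCommGrpCat.{u+1}) φ).2 inferInstance
  have hcov := Presheaf.imageSieve_mem (Spec (CommRingCat.of k)).smallEtaleTopology φ.hom s
  have hp : ∀ p : EtCoh.top (Spec (CommRingCat.of k)) ⟶ U, ∃ t : Sec F (EtCoh.top _),
      app φ _ t = res G p s := fun p => mem_of_covering k _ hcov p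
  choose x hx using hp
  let Ft := (sheafCompose (Spec (CommRingCat.of k)).smallEtaleTopology
    (forget AddCommGrpCat.{u+1})).obj F
  let Gt := (sheafCompose (Spec (CommRingCat.of k)).smallEtaleTopology
    (forget AddCommGrpCat.{u+1})).obj G
  obtain ⟨t, ht⟩ := glue_pts Ft U x
  refine ⟨t, ?_⟩
  apply ext_pts Gt U
  intro p
  have h1 : res G p (app φ U t) = app φ _ (res F p t) := (app_res φ p t).symm
  have h2 : res F p t = x p := ht p
  show res G p (app φ U t) = res G p s
  rw [h1, h2, hx]

variable {k} {Y : Scheme.{u}} (g : Spec (CommRingCat.of k) ⟶ Y)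

/-- direct image from the spectrum of a separably closed field preserves epimorphisms -/
theorem epi_push_map {F G : EtCoh.Ab (Spec (CommRingCat.of k))} (φ : F ⟶ G) [Epi φ] :
    Epi ((EtCoh.push g).map φ) := by
  rw [← Sheaf.isLocallySurjective_iff_epi' (A := AddCommGrpCat.{u+1})]
  constructor
  intro V s
  refine Y.smallEtaleTopology.superset_covering ?_ (Y.smallEtaleTopology.top_mem V)
  intro W h _
  obtain ⟨t, ht⟩ := surjective_of_epi k φ ((EtCoh.bc g).obj W)
    (((EtCoh.push g).obj G).obj.map h.op s)
  exact ⟨t, ht⟩

instance preservesEpimorphisms_push : (EtCoh.push g).PreservesEpimorphisms where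
  preserves φ _ := epi_push_map g φ

instance preservesFiniteLimits_push {X : Scheme.{u}} (f : X ⟶ Y) :
    PreservesFiniteLimits (EtCoh.push f) := by
  have := (EtCoh.pullPushAdj f).rightAdjoint_preservesLimits
  infer_instance

/-- direct image from the spectrum of a separably closed field is exact -/
instance preservesFiniteColimits_push : PreservesFiniteColimits (EtCoh.push g) := by
  rw [Functor.preservesFiniteColimits_iff_forall_exact_map_and_epi]
  intro S hS
  have h0 : PreservesFiniteLimits (EtCoh.push g) := inferInstance
  have h1 := (Functor.preservesFiniteLimits_iff_forall_exact_map_and_mono (EtCoh.push g)).1 h0 S hS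
  have : Epi S.g := hS.epi_g
  exact ⟨h1.1, inferInstance⟩

end Groth.Agent.H21.SepClosedPush
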