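import Groth.Agent.H21.SepClosedPush
import Groth.Agent.H21.ConstUnitGeom
import Groth.Agent.S0101
import Groth.Agent.H30.DerivedComp
import Groth.Agent.H30.ExactDerived

set_option autoImplicit false
universe u
open CategoryTheory CategoryTheory.Limits AlgebraicGeometry Opposite

namespace Groth.Agent.H21.SepClosedPush

open Groth.Agent.H21.ConstSec Groth.Agent.H21.ConstUnit

/-- direct images preserve injective objects -/
theorem injective_push_obj {X Y : Scheme.{u}} (f : X ⟶ Y) (Q : EtCoh.Ab X) (hQ : Injective Q) :
    Injective ((EtCoh.push f).obj Q) := by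
  have : PreservesFiniteLimits (EtCoh.pull f) := Groth.Agent.S0101.result f
  have : (EtCoh.pull f).PreservesMonomorphisms := inferInstance
  have := Functor.preservesInjectiveObjects_of_adjunction_of_preservesMonomorphisms
    (EtCoh.pullPushAdj f)
  exact (EtCoh.push f).injective_obj_of_injective hQ

variable {k : Type u} [Field k] [IsSepClosed k]

/-- higher direct images of a sheaf pushed forward from the spectrum of a separably closed field
vanish -/
theorem isZero_Rpush_push {X Y : Scheme.{u}} (j : Spec (CommRingCat.of k) ⟶ X) (f : X ⟶ Y)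
    (G : EtCoh.Ab (Spec (CommRingCat.of k))) (n : ℕ) :
    IsZero ((EtCoh.Rpush f (n + 1)).obj ((EtCoh.push j).obj G)) := by
  have e1 := (Groth.Agent.H30.DerivedComp.rightDerivedCompIso (EtCoh.push j)
    (fun Q hQ => injective_push_obj j Q hQ) (EtCoh.push f) (n + 1)).app G
  have : PreservesFiniteLimits (EtCoh.push j ⋙ EtCoh.push f) := inferInstance
  have : PreservesFiniteColimits (EtCoh.push j ⋙ EtCoh.push f) :=
    preservesFiniteColimits_of_natIso (EtCoh.pushComp f j).symm
  have h0 := Groth.Agent.H30.ExactDerived.isZero_rightDerived_succ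
    (EtCoh.push j ⋙ EtCoh.push f) G n
  exact IsZero.of_iso h0 e1.symm

/-- the constant sheaf on a normal integral scheme is the direct image of the constant sheaf on
the generic point -/
theorem nonempty_cst_iso_push {X : Scheme.{u}} [IsIntegral X]
    (hN : ∀ x : X, IsIntegrallyClosed (X.presheaf.stalk x)) (M : AddCommGrpCat.{u + 1}) :
    Nonempty (cst X M ≅ (EtCoh.push (X.fromSpecStalk (genericPoint X))).obj
      (cst (Spec (X.presheaf.stalk (genericPoint X))) M)) := by
  have hr : Set.range (X.fromSpecStalk (genericPoint X)) = {genericPoint X} := by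
    rw [Scheme.range_fromSpecStalk]
    ext y
    simp only [Set.mem_ofPred_eq, Set.mem_singleton_iff]
    constructor
    · intro h
      exact (h.antisymm ((genericPoint_spec X).specializes (Set.mem_univ _))).eq
    · rintro rfl
      exact specializes_rfl
  have h1 := Groth.Agent.H21.ConstUnitGeom.isIso_unit_of_isPreimmersion hN
    (X.fromSpecStalk (genericPoint X)) hr M
  rw [isIso_unit_iff] at h1
  exact ⟨asIso (u (X.fromSpecStalk (genericPoint X)) M)⟩

/-- S0628 -/
theorem isZero_Rpush_const {X Y : Scheme.{u}} (f : X ⟶ Y) [IsIntegral X]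
    (hN : ∀ x : X, IsIntegrallyClosed (X.presheaf.stalk x)) [IsSepClosed X.functionField]
    (M : AddCommGrpCat.{u + 1}) (n : ℕ) :
    IsZero ((EtCoh.Rpush f (n + 1)).obj (cst X M)) := by
  obtain ⟨e⟩ := nonempty_cst_iso_push hN M
  have h0 := isZero_Rpush_push (k := X.functionField) (X.fromSpecStalk (genericPoint X)) f
    (cst _ M) n
  exact IsZero.of_iso h0 ((EtCoh.Rpush f (n + 1)).mapIso e)

end Groth.Agent.H21.SepClosedPush
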