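import Groth.Agent.H21.ConstrGen5

/-!
# `j_!` of a constructible sheaf is constructible (helper21)
-/

set_option autoImplicit false
universe u
open CategoryTheory CategoryTheory.Limits AlgebraicGeometry Opposite TopologicalSpace EtShriek

namespace Groth.Agent.H21.ShriekConstr

open Groth.Agent.H21.OverBridge Groth.Agent.H21.Constr Groth.Agent.H21.ConstrSub
  Groth.Agent.H21.QFStrata Groth.Agent.H21.ConstrMain Groth.Agent.H21.ConstrGen
  Groth.Agent.H4.EtRestr

variable {U X : Scheme.{u}} (j : U ⟶ X) [Etale j]

/-- sections of `F|_U` over `V → U` are sections of `F` over `V → U → X` -/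
noncomputable def secCompIso (V : U.Etale) :
    secOver ((compEtale j).obj V) ≅ restrAlong j ⋙ secOver V :=
  NatIso.ofComponents (fun _ => Iso.refl _) (fun {_ _} _ => by
    rfl)

/-- `j_! (k_! M) ≅ (j ∘ k)_! M` -/
noncomputable def shriekConstIso (V : U.Etale) :
    constantSheaf (X.smallEtaleTopology.over ((compEtale j).obj V)) AddCommGrpCat.{u + 1} ⋙
        EtPBC.extZero ((compEtale j).obj V) ≅
      (constantSheaf (U.smallEtaleTopology.over V) AddCommGrpCat.{u + 1} ⋙ EtPBC.extZero V) ⋙
        extZero j :=
  (adjOver ((compEtale j).obj V)).leftAdjointUniq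
    (((adjOver V).comp (extZeroAdj j)).ofNatIsoRight (secCompIso j V).symm)

instance additive_restrAlong : (restrAlong j).Additive := { map_add := fun {F G} {a b} => rfl }

instance additive_extZero : (extZero j).Additive := (extZeroAdj j).left_adjoint_additive

instance preservesColimits_extZero : PreservesColimitsOfSize.{0, 0} (extZero j) :=
  (extZeroAdj j).leftAdjoint_preservesColimits

/-- `j_!(k_! M)` is constructible for `k : V → U` étale with `V` affine -/
theorem isConstructible_extZero_extZeroConst [CompactSpace X] [QuasiSeparatedSpace X]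
    (V : U.Etale) [IsAffine V.left] (M : Type) [AddCommGroup M] [Finite M] :
    EtPBC.IsConstructible ((extZero j).obj (EtPBC.extZeroConst V M)) := by
  have h1 : IsAffine ((compEtale j).obj V).left := ‹IsAffine V.left›
  have h : EtPBC.IsConstructible (EtPBC.extZeroConst ((compEtale j).obj V) M) :=
    extZeroConst_isConstructible _ M
  exact isConstructible_of_iso
    ((shriekConstIso j V).app (AddCommGrpCat.of (ULift.{u + 1} M))) h

/-- **extension by zero along an étale morphism of qcqs schemes preserves constructible
sheaves** -/
theorem extZero_isConstructible_of_isConstructible [CompactSpace X] [QuasiSeparatedSpace X]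
    [CompactSpace U] [QuasiSeparatedSpace U] (G : EtCoh.Ab U) (hG : EtPBC.IsConstructible G) :
    EtPBC.IsConstructible ((extZero j).obj G) := by
  obtain ⟨a, b, A, B, n, m, hA, hB, φ, ⟨e⟩⟩ := (isConstructible_iff_presentation G).1 hG
  have e1 : (extZero j).obj G ≅ cokernel ((extZero j).map φ) :=
    (extZero j).mapIso e ≪≫ PreservesCokernel.iso (extZero j) φ
  have h1 : EtPBC.IsConstructible
      ((extZero j).obj (⨁ fun k => EtPBC.extZeroConst (B k) (ZMod (m k)))) := by
    refine isConstructible_of_iso ((extZero j).mapBiproduct _).symm
      (isConstructible_biproduct _ fun k => ?_)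
    have := (hB k).2
    have : NeZero (m k) := ⟨(hB k).1.ne'⟩
    exact isConstructible_extZero_extZeroConst j (B k) (ZMod (m k))
  have h2 : EtPBC.IsConstructible
      ((extZero j).obj (⨁ fun i => EtPBC.extZeroConst (A i) (ZMod (n i)))) := by
    refine isConstructible_of_iso ((extZero j).mapBiproduct _).symm
      (isConstructible_biproduct _ fun i => ?_)
    have := (hA i).2
    have : NeZero (n i) := ⟨(hA i).1.ne'⟩
    exact isConstructible_extZero_extZeroConst j (A i) (ZMod (n i))
  exact isConstructible_of_iso e1.symm (isConstructible_kernel_cokernel _ h1 h2).2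

/-- extension by zero along a finite étale morphism preserves constructible sheaves (no
hypothesis on the base) -/
theorem extZero_isConstructible_of_isFinite {X Y : Scheme.{u}} (f : X ⟶ Y) [IsFinite f] [Etale f]
    (F : EtCoh.Ab X) (hF : EtPBC.IsConstructible F) :
    EtPBC.IsConstructible ((extZero f).obj F) := by
  refine isConstructible_of_openCover _ (fun V : Y.affineOpens => V.1)
    (iSup_affineOpens_eq_top Y) fun V => ?_
  have hVaff : IsAffine (V.1 : Scheme.{u}) := V.2
  let f' : pullback f V.1.ι ⟶ V.1 := pullback.snd f V.1.ι
  let g' : pullback f V.1.ι ⟶ X := pullback.fst f V.1.ι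
  have hpb : IsPullback f' g' V.1.ι f := (IsPullback.of_hasPullback f V.1.ι).flip
  have hfin : IsFinite f' := inferInstance
  have haff : IsAffine (pullback f V.1.ι) := isAffine_of_isAffineHom f'
  have e := (Groth.Agent.H4.ExtZeroBC.extZeroPullIso f V.1.ι f' g' hpb).app F
  exact isConstructible_of_iso e
    (extZero_isConstructible_of_isConstructible f' _ (pull_isConstructible g' F hF))

/-- **the direct image of a constructible sheaf along a finite étale morphism is constructible** -/
theorem push_isConstructible_of_isFinite_etale {X Y : Scheme.{u}} (f : X ⟶ Y) [IsFinite f]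
    [Etale f] [EtCoh.BCCont f] (F : EtCoh.Ab X) (hF : EtPBC.IsConstructible F) :
    EtPBC.IsConstructible ((EtCoh.push f).obj F) := by
  have := Groth.Agent.H21.FEtTau.isIso_τ f F
  exact isConstructible_of_iso (asIso ((Groth.Agent.H4.ShriekStar.τ f).app F))
    (extZero_isConstructible_of_isFinite f F hF)

end Groth.Agent.H21.ShriekConstr
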