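import Mathlib

/-!
# Closure of constructible sets in Noetherian quasi-sober spaces (helper21)
-/

set_option autoImplicit false
open TopologicalSpace Topology Set

namespace Groth.Agent.H21.SpecClos

variable {α : Type*} [TopologicalSpace α] [NoetherianSpace α] [QuasiSober α]

/-- in a Noetherian quasi-sober space, every point in the closure of a locally closed set
`U ∩ Z` is a specialization of a point of the set -/
theorem exists_specializes_of_mem_closure_inter {U Z : Set α} (hU : IsOpen U) (hZ : IsClosed Z)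
    {z : α} (hz : z ∈ closure (U ∩ Z)) : ∃ x ∈ U ∩ Z, x ⤳ z := by
  obtain ⟨S, hSf, hSc, hSi, hSU⟩ := NoetherianSpace.exists_finite_set_isClosed_irreducible hZ
  have h1 : U ∩ Z = ⋃ t ∈ S, U ∩ t := by
    rw [hSU, Set.sUnion_eq_biUnion, Set.inter_iUnion₂]
  rw [h1, hSf.closure_biUnion] at hz
  obtain ⟨t, htS, hzt⟩ := Set.mem_iUnion₂.1 hz
  obtain ⟨ξ, hξ⟩ := QuasiSober.sober (hSi t htS) (hSc t htS)
  have hne : (t ∩ U).Nonempty := by
    have : (closure (U ∩ t)).Nonempty := ⟨z, hzt⟩
    rw [closure_nonempty_iff] at this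
    rwa [Set.inter_comm]
  have hξU : ξ ∈ U := (hξ.mem_open_set_iff hU).2 hne
  have hξt : ξ ∈ t := hξ.mem
  refine ⟨ξ, ⟨hξU, ?_⟩, ?_⟩
  · rw [hSU]
    exact Set.mem_sUnion.2 ⟨t, htS, hξt⟩
  · rw [specializes_iff_mem_closure, hξ.def]
    exact (hSc t htS).closure_subset_iff.2 Set.inter_subset_right hzt

/-- in a Noetherian quasi-sober space, every point in the closure of a constructible set
is a specialization of a point of the set -/
theorem exists_specializes_of_mem_closure {C : Set α} (hC : IsConstructible C)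
    {z : α} (hz : z ∈ closure C) : ∃ x ∈ C, x ⤳ z := by
  induction C, hC using BooleanSubalgebra.closure_sdiff_sup_induction generalizing z with
  | isSublattice =>
    exact ⟨fun s hs t ht ↦ ⟨hs.1.union ht.1, hs.2.union ht.2⟩,
      fun s hs t ht ↦ ⟨hs.1.inter ht.1, hs.2.inter_isOpen ht.2 ht.1⟩⟩
  | bot_mem => exact ⟨isOpen_empty, .empty⟩
  | top_mem => exact ⟨isOpen_univ, .univ⟩
  | sdiff U hU V hV =>
    have h : U \ V = U ∩ Vᶜ := Set.sdiff_eq U V
    have hz' : z ∈ closure (U ∩ Vᶜ) := h ▸ hz
    obtain ⟨x, hx, hxz⟩ := exists_specializes_of_mem_closure_inter hU.1 hV.1.isClosed_compl hz'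
    exact ⟨x, hx, hxz⟩
  | sup s _ t _ hs' ht' =>
    have hz' : z ∈ closure (s ∪ t) := hz
    rw [closure_union] at hz'
    rcases hz' with h | h
    · obtain ⟨x, hx, hxz⟩ := hs' h
      exact ⟨x, Or.inl hx, hxz⟩
    · obtain ⟨x, hx, hxz⟩ := ht' h
      exact ⟨x, Or.inr hx, hxz⟩

/-- the closure of a constructible subset of a specialization-stable set stays inside it -/
theorem closure_subset_of_stableUnderSpecialization {C E : Set α} (hC : IsConstructible C)
    (hE : StableUnderSpecialization E) (hCE : C ⊆ E) : closure C ⊆ E := by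
  intro z hz
  obtain ⟨x, hx, hxz⟩ := exists_specializes_of_mem_closure hC hz
  exact hE hxz (hCE hx)

end Groth.Agent.H21.SpecClos
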