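import Mathlib.Topology.Spectral.Prespectral
import Mathlib.Topology.QuasiSeparated
import Mathlib.Topology.Separation.Regular
import Mathlib.Topology.Connected.Clopen

/-!
# Connected components of quasi-compact quasi-separated prespectral spaces

In a compact, quasi-separated prespectral space the connected component of a point is the
intersection of its clopen neighbourhoods, and the space of connected components is Hausdorff.
-/

set_option autoImplicit false

open Set Topology

namespace Groth.Agent.H21.SpectralPi0

variable {X : Type*} [TopologicalSpace X]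

/-- disjoint closed sets in a compact quasi-separated prespectral space can be enlarged to
disjoint closed sets whose union has compact complement. -/
lemma exists_closed_enlargement [CompactSpace X] [QuasiSeparatedSpace X] [PrespectralSpace X]
    {a b : Set X} (ha : IsClosed a) (hb : IsClosed b) (hab : Disjoint a b) :
    ∃ A B : Set X, IsClosed A ∧ IsClosed B ∧ a ⊆ A ∧ b ⊆ B ∧ Disjoint A B ∧
      IsCompact (A ∪ B)ᶜ := by
  obtain ⟨U, hUc, hUo, haU, hUb⟩ :=
    PrespectralSpace.exists_isCompact_and_isOpen_between ha.isCompact hb.isOpen_compl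
      (fun x hx hxb => disjoint_left.mp hab hx hxb)
  -- `B := Uᶜ`
  have hB : IsClosed Uᶜ := hUo.isClosed_compl
  have hBa : Uᶜ ⊆ aᶜ := compl_subset_compl.mpr haU
  obtain ⟨O, hOc, hOo, hBO, hOa⟩ :=
    PrespectralSpace.exists_isCompact_and_isOpen_between hB.isCompact ha.isOpen_compl hBa
  refine ⟨Oᶜ, Uᶜ, hOo.isClosed_compl, hB, subset_compl_comm.mp hOa,
    subset_compl_comm.mp hUb, ?_, ?_⟩
  · rw [disjoint_left]
    intro x hxO hxU
    exact hxO (hBO hxU)
  · rw [compl_union, compl_compl, compl_compl]
    exact hOc.inter_of_isOpen hUc hOo hUo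

/-- In a compact quasi-separated prespectral space, the connected component of a point equals the
intersection of all its clopen neighbourhoods. -/
theorem connectedComponent_eq_iInter_isClopen [CompactSpace X] [QuasiSeparatedSpace X]
    [PrespectralSpace X] (x : X) :
    connectedComponent x = ⋂ s : { s : Set X // IsClopen s ∧ x ∈ s }, s := by
  apply Subset.antisymm connectedComponent_subset_iInter_isClopen
  refine IsPreconnected.subset_connectedComponent ?_ (mem_iInter.2 fun s => s.2.2)
  have hs : @IsClosed X _ (⋂ s : { s : Set X // IsClopen s ∧ x ∈ s }, s) :=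
    isClosed_iInter fun s => s.2.1.1
  rw [isPreconnected_iff_subset_of_fully_disjoint_closed hs]
  intro a b ha hb hab ab_disj
  obtain ⟨A, B, hA, hB, haA, hbB, hAB, hK⟩ := exists_closed_enlargement ha hb ab_disj
  have hQ : (⋂ s : { s : Set X // IsClopen s ∧ x ∈ s }, (s : Set X)) ⊆ A ∪ B :=
    hab.trans (union_subset_union haA hbB)
  obtain ⟨s, hsclopen, hxs, hsAB⟩ : ∃ s : Set X, IsClopen s ∧ x ∈ s ∧ s ⊆ A ∪ B := by
    have H1 := hK.inter_iInter_nonempty
      (fun s : { s : Set X // IsClopen s ∧ x ∈ s } => s) fun s => s.2.1.1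
    rw [← not_disjoint_iff_nonempty_inter, imp_not_comm, not_forall] at H1
    obtain ⟨si, H2⟩ := H1 (disjoint_compl_left_iff_subset.2 hQ)
    refine ⟨⋂ U ∈ si, Subtype.val U, ?_, ?_, ?_⟩
    · exact isClopen_biInter_finset fun s _ => s.2.1
    · exact mem_iInter₂.2 fun s _ => s.2.2
    · rwa [← disjoint_compl_left_iff_subset, disjoint_iff_inter_eq_empty,
        ← not_nonempty_iff_eq_empty]
  -- `s ∩ A` and `s ∩ B` are clopen
  have hsA : IsClopen (s ∩ A) := by
    refine ⟨hsclopen.1.inter hA, ?_⟩
    have : s ∩ A = s ∩ Bᶜ := by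
      ext y
      simp only [mem_inter_iff, mem_compl_iff]
      constructor
      · rintro ⟨hy, hyA⟩
        exact ⟨hy, fun hyB => disjoint_left.mp hAB hyA hyB⟩
      · rintro ⟨hy, hyB⟩
        exact ⟨hy, (hsAB hy).resolve_right hyB⟩
    rw [this]
    exact hsclopen.2.inter hB.isOpen_compl
  have hsB : IsClopen (s ∩ B) := by
    refine ⟨hsclopen.1.inter hB, ?_⟩
    have : s ∩ B = s ∩ Aᶜ := by
      ext y
      simp only [mem_inter_iff, mem_compl_iff]
      constructor
      · rintro ⟨hy, hyB⟩
        exact ⟨hy, fun hyA => disjoint_left.mp hAB hyA hyB⟩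
      · rintro ⟨hy, hyA⟩
        exact ⟨hy, (hsAB hy).resolve_left hyA⟩
    rw [this]
    exact hsclopen.2.inter hA.isOpen_compl
  by_cases hxA : x ∈ A
  · left
    have hQA : (⋂ s : { s : Set X // IsClopen s ∧ x ∈ s }, (s : Set X)) ⊆ A :=
      (iInter_subset (fun s : { s : Set X // IsClopen s ∧ x ∈ s } => s.1)
        ⟨s ∩ A, hsA, mem_inter hxs hxA⟩).trans inter_subset_right
    intro y hy
    rcases hab hy with h | h
    · exact h
    · exact (disjoint_left.mp hAB (hQA hy) (hbB h)).elim
  · right
    have hxB : x ∈ B := (hsAB hxs).resolve_left hxA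
    have hQB : (⋂ s : { s : Set X // IsClopen s ∧ x ∈ s }, (s : Set X)) ⊆ B :=
      (iInter_subset (fun s : { s : Set X // IsClopen s ∧ x ∈ s } => s.1)
        ⟨s ∩ B, hsB, mem_inter hxs hxB⟩).trans inter_subset_right
    intro y hy
    rcases hab hy with h | h
    · exact (disjoint_left.mp hAB (haA h) (hQB hy)).elim
    · exact h

/-- points in different connected components are separated by a clopen set -/
theorem exists_isClopen_of_connectedComponent_ne [CompactSpace X] [QuasiSeparatedSpace X]
    [PrespectralSpace X] {x y : X} (h : connectedComponent x ≠ connectedComponent y) :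
    ∃ U : Set X, IsClopen U ∧ x ∈ U ∧ y ∉ U := by
  by_contra hcon
  push Not at hcon
  apply h
  have hy : y ∈ connectedComponent x := by
    rw [connectedComponent_eq_iInter_isClopen x]
    exact mem_iInter.2 fun s => hcon s.1 s.2.1 s.2.2
  exact (connectedComponent_eq hy)

/-- `ConnectedComponents X` is Hausdorff when `X` is a compact quasi-separated prespectral
space. -/
theorem t2Space_connectedComponents [CompactSpace X] [QuasiSeparatedSpace X]
    [PrespectralSpace X] : T2Space (ConnectedComponents X) := by
  refine ⟨ConnectedComponents.surjective_coe.forall₂.2 fun a b ne => ?_⟩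
  rw [ConnectedComponents.coe_ne_coe] at ne
  obtain ⟨U, hU, haU, hbU⟩ := exists_isClopen_of_connectedComponent_ne ne
  -- `U` is a union of connected components hence the preimage of its image
  have hpre : ((↑) : X → ConnectedComponents X) ⁻¹' (((↑) : X → ConnectedComponents X) '' U) = U :=
    (connectedComponents_preimage_image U).symm ▸ hU.biUnion_connectedComponent_eq
  have hV : IsClopen (((↑) : X → ConnectedComponents X) '' U) := by
    rw [← ConnectedComponents.isQuotientMap_coe.isClopen_preimage, hpre]
    exact hU
  refine ⟨_, _, hV.isOpen, hV.compl.isOpen, ⟨a, haU, rfl⟩, ?_, disjoint_compl_right⟩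
  intro hb
  have : b ∈ ((↑) : X → ConnectedComponents X) ⁻¹' (((↑) : X → ConnectedComponents X) '' U) := hb
  rw [hpre] at this
  exact hbU this

end Groth.Agent.H21.SpectralPi0
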