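import Groth.Agent.H4.Stalks
import Groth.Agent.H21.QFStrata1
import Groth.Agent.H21.ConstrSupp
import Mathlib.AlgebraicGeometry.Morphisms.FlatMono
import Mathlib.AlgebraicGeometry.Noetherian
import Mathlib.CategoryTheory.CofilteredSystem

/-!
# Specialization arrows between geometric points (helper21)
-/

set_option autoImplicit false
universe u
open CategoryTheory CategoryTheory.Limits AlgebraicGeometry Opposite TopologicalSpace

namespace Groth.Agent.H21.SpzArrow

open Groth.Agent.H4.Stalks

/-- sections of étale morphisms are open immersions -/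
lemma isOpenImmersion_of_section {P B : Scheme.{u}} (π : P ⟶ B) [Etale π] (σ : B ⟶ P)
    (h : σ ≫ π = 𝟙 B) : IsOpenImmersion σ := by
  have h1 : Etale (σ ≫ π) := by rw [h]; infer_instance
  have h2 : Etale σ := MorphismProperty.of_postcomp (W := @Etale) (W' := @Etale) σ π
    inferInstance h1
  have h3 : Mono σ := (SplitMono.mk π h).mono
  exact IsOpenImmersion.of_flat_of_mono σ

variable {X : Scheme.{u}} {Ω' : Type u} [Field Ω'] [IsSepClosed Ω']
  (ξ' : Spec (CommRingCat.of Ω') ⟶ X)

/-- the section of the geometric fibre attached to a lift of the geometric point -/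
noncomputable def toPullback (U : X.Etale) (u' : Fib ξ' U) :
    Spec (CommRingCat.of Ω') ⟶ pullback (U.hom : U.left ⟶ X) ξ' :=
  pullback.lift u'.left (𝟙 _) (by rw [Category.id_comp]; exact Over.w u')

@[simp] lemma toPullback_snd (U : X.Etale) (u' : Fib ξ' U) :
    toPullback ξ' U u' ≫ pullback.snd _ _ = 𝟙 _ := pullback.lift_snd _ _ _

@[simp] lemma toPullback_fst (U : X.Etale) (u' : Fib ξ' U) :
    toPullback ξ' U u' ≫ pullback.fst _ _ = u'.left := pullback.lift_fst _ _ _

lemma toPullback_injective (U : X.Etale) :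
    Function.Injective (fun u' : Fib ξ' U => (toPullback ξ' U u') default) := by
  intro a b hab
  have : Etale (U.hom : U.left ⟶ X) := U.prop
  have ha := isOpenImmersion_of_section (pullback.snd (U.hom : U.left ⟶ X) ξ') _ (toPullback_snd ξ' U a)
  have hb := isOpenImmersion_of_section (pullback.snd (U.hom : U.left ⟶ X) ξ') _ (toPullback_snd ξ' U b)
  have hr : Set.range (toPullback ξ' U a) = Set.range (toPullback ξ' U b) := by
    rw [Groth.Agent.H21.ConstrSupp.range_geom, Groth.Agent.H21.ConstrSupp.range_geom]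
    exact congrArg _ hab
  let e := IsOpenImmersion.isoOfRangeEq (toPullback ξ' U a) (toPullback ξ' U b) hr
  have he : e.hom ≫ toPullback ξ' U b = toPullback ξ' U a :=
    IsOpenImmersion.isoOfRangeEq_hom_fac _ _ hr
  have he1 : e.hom = 𝟙 _ := by
    have := congrArg (· ≫ pullback.snd (U.hom : U.left ⟶ X) ξ') he
    simpa using this
  rw [he1, Category.id_comp] at he
  have h2 : a.left = b.left := by
    rw [← toPullback_fst ξ' U a, ← toPullback_fst ξ' U b, he]
  exact Over.OverMorphism.ext h2


/-- the lifts of a geometric point to an étale scheme which specialize to a given point form a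
finite set -/
lemma finite_lifts (U : X.Etale) (p : U.left) : Finite {u' : Fib ξ' U // u'.pt ⤳ p} := by
  have hU : Etale (U.hom : U.left ⟶ X) := U.prop
  obtain ⟨A, hA, hpA, -⟩ := Groth.Agent.H21.ConstrMain.exists_affine_nbhd (⊤ : U.left.Opens) p trivial
  let pr : pullback (U.hom : U.left ⟶ X) ξ' ⟶ U.left := pullback.fst _ _
  let π : pullback (U.hom : U.left ⟶ X) ξ' ⟶ Spec (CommRingCat.of Ω') := pullback.snd _ _
  have hqc : QuasiCompact pr := inferInstance
  have hcomp : IsCompact (pr ⁻¹' (A : Set U.left)) :=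
    hqc.isCompact_preimage _ A.isOpen hA.isCompact
  have hqf : LocallyQuasiFinite π := Groth.Agent.H21.QFStrata.locallyQuasiFinite_of_etale π
  have hdisc : _root_.IsDiscrete (pr ⁻¹' (A : Set U.left)) := by
    refine (π.isDiscrete_preimage_singleton default).mono ?_
    intro z _
    exact Subsingleton.elim _ _
  have hfin : (pr ⁻¹' (A : Set U.left)).Finite := hcomp.finite hdisc
  have : Finite ↥(pr ⁻¹' (A : Set U.left)) := hfin.to_subtype
  let θ : {u' : Fib ξ' U // u'.pt ⤳ p} → ↥(pr ⁻¹' (A : Set U.left)) := fun u' =>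
    ⟨(toPullback ξ' U u'.1) default, by
      show pr ((toPullback ξ' U u'.1) default) ∈ (A : Set U.left)
      have h1 : pr ((toPullback ξ' U u'.1) default) = u'.1.pt := by
        have := congrArg (fun f => f (default : Spec (CommRingCat.of Ω'))) (toPullback_fst ξ' U u'.1)
        exact this
      rw [h1]
      exact u'.2.mem_open A.isOpen hpA⟩
  refine Finite.of_injective θ ?_
  intro a b hab
  apply Subtype.ext
  apply toPullback_injective ξ' U
  exact congrArg Subtype.val hab


variable {Ω : Type u} [Field Ω] [IsSepClosed Ω] (ξ : Spec (CommRingCat.of Ω) ⟶ X)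

/-- the cofiltered system of lifts of `ξ'` to the étale neighbourhoods of `ξ`, specializing to the
centre -/
noncomputable def liftSystem : (Scheme.pointSmallEtale ξ).fiber.Elements ⥤ Type u where
  obj e := {u' : Fib ξ' e.1 // u'.pt ⤳ Fib.pt (ξ := ξ) e.2}
  map {e₁ e₂} f := TypeCat.ofHom (fun u' => ⟨(Scheme.pointSmallEtale ξ').fiber.map f.1 u'.1, by
      have h1 : Fib.pt ((Scheme.pointSmallEtale ξ').fiber.map f.1 u'.1) = f.1.left u'.1.pt := rfl
      have h2 : Fib.pt (ξ := ξ) e₂.2 = f.1.left (Fib.pt (ξ := ξ) e₁.2) := by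
        rw [← Fib.pt_map, f.2]
      rw [h1, h2]
      exact u'.2.map f.1.left.continuous⟩)
  map_id e := by
    ext u'
    simp
  map_comp f g := by
    ext u'
    simp

lemma nonempty_lifts (h : ξ' default ⤳ ξ default)
    (e : (Scheme.pointSmallEtale ξ).fiber.Elements) : Nonempty ((liftSystem ξ' ξ).obj e) := by
  have hU : Etale (e.1.hom : e.1.left ⟶ X) := e.1.prop
  have hg : GeneralizingMap (e.1.hom : e.1.left ⟶ X) := Flat.generalizingMap _
  have h1 : ξ' default ⤳ (e.1.hom : e.1.left ⟶ X) (Fib.pt (ξ := ξ) e.2) := by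
    rw [Fib.hom_pt]
    exact h
  obtain ⟨p, hp, hpx⟩ := hg h1
  obtain ⟨u', hu'⟩ := Fib.exists_of_point (ξ := ξ') e.1 p hpx
  exact ⟨⟨u', hu' ▸ hp⟩⟩

/-- **Existence of specialization arrows**: if the centre of `ξ'` specializes to the centre of
`ξ`, there is a morphism of points of the étale site from `ξ'` to `ξ`. -/
theorem exists_arrow (h : ξ' default ⤳ ξ default) :
    Nonempty (Scheme.pointSmallEtale ξ' ⟶ Scheme.pointSmallEtale ξ) := by
  have h1 : ∀ e, Finite ((liftSystem ξ' ξ).obj e) := fun e => finite_lifts ξ' e.1 _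
  have h2 : ∀ e, Nonempty ((liftSystem ξ' ξ).obj e) := nonempty_lifts ξ' ξ h
  obtain ⟨s, hs⟩ := nonempty_sections_of_finite_cofiltered_system (liftSystem ξ' ξ)
  refine ⟨⟨{ app := fun U => TypeCat.ofHom (fun u =>
    (s ((Scheme.pointSmallEtale ξ).fiber.elementsMk U u)).1), naturality := ?_ }⟩⟩
  intro V U g
  ext v
  have := hs (CategoryOfElements.homMk ((Scheme.pointSmallEtale ξ).fiber.elementsMk V v)
    ((Scheme.pointSmallEtale ξ).fiber.elementsMk U ((Scheme.pointSmallEtale ξ).fiber.map g v)) g rfl)
  exact (congrArg Subtype.val this).symm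

end Groth.Agent.H21.SpzArrow
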