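import Groth.Agent.H21.CardGeneric
import Groth.Agent.H21.SpzArrow

/-!
# Constructibility from injectivity of specialization maps (helper21)
-/

set_option autoImplicit false
universe u
open CategoryTheory CategoryTheory.Limits AlgebraicGeometry Opposite TopologicalSpace

namespace Groth.Agent.H21.SpzConstr

open Groth.Agent.H21.OverBridge Groth.Agent.H21.Constr Groth.Agent.H21.ConstrMain
  Groth.Agent.H21.ConstrSupp Groth.Agent.H21.ConstSec Groth.Agent.H21.ConstrACC
  Groth.Agent.H21.ConstrStalk Groth.Agent.H21.CardLocus Groth.Agent.H21.CardGeneric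
  Groth.Agent.H21.ConstrSub
  Groth.Agent.H4.Stalks Groth.Agent.H4.StalkPull

variable {X : Scheme.{u}}

/-- if, near `x` along `closure {x}`, the stalks are no bigger than the stalk at a geometric point
over `x`, the sheaf is generically finite locally constant along `closure {x}` -/
theorem generic_of_card_le (F : EtCoh.Ab X)
    (hfin : ∀ (Ω : Type u) [Field Ω] [IsSepClosed Ω] (ξ : Spec (CommRingCat.of Ω) ⟶ X),
      Finite ((EtCoh.stalk ξ).obj F)) (x : X) (V₁ : Set X) (hV₁ : IsOpen V₁) (hxV₁ : x ∈ V₁)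
    (hle : ∀ (Ω₀ : Type u) [Field Ω₀] [IsSepClosed Ω₀] (η₀ : Spec (CommRingCat.of Ω₀) ⟶ X),
      η₀ default = x → ∀ y ∈ V₁ ∩ closure {x}, ∃ (Ω' : Type u) (_ : Field Ω') (_ : IsSepClosed Ω')
        (ξ : Spec (CommRingCat.of Ω') ⟶ X), ξ default = y ∧
          Nat.card ↑((EtCoh.stalk ξ).obj F) ≤ Nat.card ↑((EtCoh.stalk η₀).obj F)) :
    ∃ (V : X.Opens) (T : Scheme.{u}) (g : T ⟶ X), IsImmersion g ∧ x ∈ V ∧
      Set.range g = (V : Set X) ∩ closure {x} ∧
      EtCoh.IsFiniteLocallyConstant ((EtCoh.pull g).obj F) := by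
  obtain ⟨Z, c, hc, hr⟩ := Groth.Agent.H21.ConstrGlue.exists_cut (𝟙 X) (closure {x}) isClosed_closure
  have hr' : Set.range c = closure {x} := by simpa using hr
  obtain ⟨z₀, hz₀⟩ : x ∈ Set.range c := by rw [hr']; exact subset_closure rfl
  have hcl : closure {z₀} = Set.univ := by
    rw [c.isEmbedding.isInducing.closure_eq_preimage_closure_image, Set.image_singleton, hz₀]
    ext y
    simp only [Set.mem_preimage, Set.mem_univ, iff_true]
    have : c y ∈ Set.range c := ⟨y, rfl⟩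
    rw [hr'] at this
    exact this
  let G := (EtCoh.pull c).obj F
  let η := geomPt z₀
  have hη : η default = z₀ := geomPt_default z₀
  have eη : (EtCoh.stalk (η ≫ c)).obj F ≅ (EtCoh.stalk η).obj G := (stalkPullIso c η).app F
  have hfinη : Finite ↑((EtCoh.stalk η).obj G) :=
    have := hfin _ (η ≫ c)
    Finite.of_equiv _ eη.addCommGroupIsoToAddEquiv.toEquiv
  have hηx : (η ≫ c) default = x := by
    show c (η default) = x
    rw [hη, hz₀]
  have hcard : ∀ z ∈ c ⁻¹' V₁, ∃ (Ω' : Type u) (_ : Field Ω') (_ : IsSepClosed Ω')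
      (ξ : Spec (CommRingCat.of Ω') ⟶ Z), ξ default = z ∧
        Finite ↑((EtCoh.stalk ξ).obj G) ∧
        Nat.card ↑((EtCoh.stalk ξ).obj G) ≤ Nat.card ↑((EtCoh.stalk η).obj G) := by
    intro z hz
    obtain ⟨Ω', i1, i2, ξ, hd, hn⟩ := hle _ (η ≫ c) hηx (c z) ⟨hz, by rw [← hr']; exact ⟨z, rfl⟩⟩
    obtain ⟨ξ', hξ'⟩ := exists_lift_of_immersion c ξ (by rw [hd]; exact ⟨z, rfl⟩)
    subst hξ'
    have e : (EtCoh.stalk (ξ' ≫ c)).obj F ≅ (EtCoh.stalk ξ').obj G := (stalkPullIso c ξ').app F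
    have := hfin _ (ξ' ≫ c)
    refine ⟨Ω', i1, i2, ξ', c.isEmbedding.injective hd,
      Finite.of_equiv _ e.addCommGroupIsoToAddEquiv.toEquiv, ?_⟩
    rw [← Nat.card_congr e.addCommGroupIsoToAddEquiv.toEquiv,
      ← Nat.card_congr eη.addCommGroupIsoToAddEquiv.toEquiv]
    exact hn
  obtain ⟨O, hzO, hflc⟩ := generic_triv G z₀ hcl η hη (c ⁻¹' V₁) (hV₁.preimage c.continuous)
    (show c z₀ ∈ V₁ from hz₀ ▸ hxV₁) hcard
  obtain ⟨O', hO', hOO'⟩ := c.isEmbedding.isInducing.isOpen_iff.1 O.isOpen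
  refine ⟨⟨O', hO'⟩, O.toScheme, O.ι ≫ c, inferInstance, ?_, ?_, ?_⟩
  · have h1 : z₀ ∈ c ⁻¹' O' := by rw [hOO']; exact hzO
    rw [← hz₀]
    exact h1
  · rw [Scheme.Hom.comp_base, TopCat.coe_comp, Set.range_comp, Scheme.Opens.range_ι]
    show c '' (O : Set Z) = _
    rw [← hOO', Set.image_preimage_eq_inter_range, hr']
    rfl
  · exact isFLC_of_iso ((EtCore.pullComp O.ι c).app F).symm hflc

/-- a sheaf with finite stalks and injective specialization maps on a locally Noetherian scheme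
is constructible -/
theorem isConstructible_of_mono_spz [IsLocallyNoetherian X] (F : EtCoh.Ab X)
    (hfin : ∀ (Ω : Type u) [Field Ω] [IsSepClosed Ω] (ξ : Spec (CommRingCat.of Ω) ⟶ X),
      Finite ((EtCoh.stalk ξ).obj F))
    (hmono : ∀ (Ω Ω' : Type u) [Field Ω] [IsSepClosed Ω] [Field Ω'] [IsSepClosed Ω']
        (ξ : Spec (CommRingCat.of Ω) ⟶ X) (ξ' : Spec (CommRingCat.of Ω') ⟶ X)
        (φ : Scheme.pointSmallEtale ξ' ⟶ Scheme.pointSmallEtale ξ),
        Mono ((GrothendieckTopology.Point.Hom.sheafFiber (A := AddCommGrpCat.{u + 1}) φ).app F)) :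
    EtPBC.IsConstructible F := by
  apply Groth.Agent.H21.ConstrNoeth.isConstructible_of_generic F
  intro x
  refine generic_of_card_le F hfin x Set.univ isOpen_univ trivial ?_
  intro Ω₀ _ _ η₀ hη₀ y hy
  refine ⟨_, inferInstance, inferInstance, geomPt y, geomPt_default y, ?_⟩
  have hsp : η₀ default ⤳ (geomPt y) default := by
    rw [hη₀, geomPt_default, specializes_iff_mem_closure]
    exact hy.2
  obtain ⟨φ⟩ := Groth.Agent.H21.SpzArrow.exists_arrow η₀ (geomPt y) hsp
  have hm := hmono _ _ (geomPt y) η₀ φ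
  have hinj : Function.Injective
      ((GrothendieckTopology.Point.Hom.sheafFiber (A := AddCommGrpCat.{u + 1}) φ).app F) :=
    (AddCommGrpCat.mono_iff_injective _).1 hm
  have := hfin _ η₀
  exact Nat.card_le_card_of_injective _ hinj

end Groth.Agent.H21.SpzConstr
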