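import Groth.Agent.H21.SpzArrow
import Groth.Agent.H4.StalkPull

/-!
# Pushing forward arrows between geometric points along étale morphisms (helper21)
-/

set_option autoImplicit false
universe u
open CategoryTheory CategoryTheory.Limits AlgebraicGeometry Opposite TopologicalSpace

namespace Groth.Agent.H21.SpzPush

open EtCoh Groth.Agent.H4.Stalks Groth.Agent.H4.StalkPull

section Push

variable {X Y : Scheme.{u}} (f : Y ⟶ X)
  {Ω₁ Ω₂ : Type u} [Field Ω₁] [IsSepClosed Ω₁] [Field Ω₂] [IsSepClosed Ω₂]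
  (y₁ : Spec (CommRingCat.of Ω₁) ⟶ Y) (y₂ : Spec (CommRingCat.of Ω₂) ⟶ Y)

/-- push forward an arrow between geometric points -/
noncomputable def pushArrow (ψ : Scheme.pointSmallEtale y₂ ⟶ Scheme.pointSmallEtale y₁) :
    Scheme.pointSmallEtale (y₂ ≫ f) ⟶ Scheme.pointSmallEtale (y₁ ≫ f) :=
  ⟨(fiberIso f y₁).inv ≫ Functor.whiskerLeft (bc f) ψ.hom ≫ (fiberIso f y₂).hom⟩

lemma pushArrow_app (ψ : Scheme.pointSmallEtale y₂ ⟶ Scheme.pointSmallEtale y₁) (V : X.Etale)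
    (v : Fib (y₁ ≫ f) V) :
    (pushArrow f y₁ y₂ ψ).hom.app V v =
      fibPush f y₂ (ψ.hom.app ((bc f).obj V) (fibPull f y₁ v)) := rfl

end Push

section Self

variable {X : Scheme.{u}} (W : X.Etale)
  {Ω₁ Ω₂ : Type u} [Field Ω₁] [IsSepClosed Ω₁] [Field Ω₂] [IsSepClosed Ω₂]

/-- the tautological lift -/
noncomputable def taut {Ω : Type u} [Field Ω] [IsSepClosed Ω]
    (l : Spec (CommRingCat.of Ω) ⟶ W.left) : Fib (l ≫ (W.hom : W.left ⟶ X)) W :=
  Over.homMk l rfl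

/-- the diagonal, as a morphism of étale `W.left`-schemes -/
noncomputable def diag : EtCoh.top W.left ⟶ (bc (W.hom : W.left ⟶ X)).obj W :=
  MorphismProperty.Over.homMk (pullback.lift (𝟙 _) (𝟙 _) rfl) (by
    show pullback.lift (𝟙 _) (𝟙 _) rfl ≫ pullback.snd _ _ = 𝟙 _
    exact pullback.lift_snd _ _ _) trivial


variable (l₁ : Spec (CommRingCat.of Ω₁) ⟶ W.left) (l₂ : Spec (CommRingCat.of Ω₂) ⟶ W.left)

/-- the unique element of the fibre at the terminal object -/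
noncomputable def topElt {Ω : Type u} [Field Ω] [IsSepClosed Ω]
    (l : Spec (CommRingCat.of Ω) ⟶ W.left) : Fib l (EtCoh.top W.left) :=
  Over.homMk l (Category.comp_id _)

lemma eq_topElt {Ω : Type u} [Field Ω] [IsSepClosed Ω]
    (l : Spec (CommRingCat.of Ω) ⟶ W.left) (e : Fib l (EtCoh.top W.left)) : e = topElt W l := by
  apply Over.OverMorphism.ext
  have h1 := Over.w e
  dsimp at h1
  rw [Category.comp_id] at h1
  exact h1

lemma fibPull_taut {Ω : Type u} [Field Ω] [IsSepClosed Ω]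
    (l : Spec (CommRingCat.of Ω) ⟶ W.left) :
    fibPull (W.hom : W.left ⟶ X) l (taut W l) =
      (Scheme.pointSmallEtale l).fiber.map (diag W) (topElt W l) := by
  have hinj : Function.Injective (fibPush (W.hom : W.left ⟶ X) l (V := W)) := by
    intro a b hab
    have := congrArg (fibPull (W.hom : W.left ⟶ X) l) hab
    simpa using this
  apply hinj
  rw [fibPush_fibPull]
  apply Over.OverMorphism.ext
  rw [fibPush_left]
  show l = (l ≫ pullback.lift (𝟙 _) (𝟙 _) rfl) ≫ pullback.fst _ _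
  rw [Category.assoc, pullback.lift_fst, Category.comp_id]

/-- the push-forward of an arrow along `W → X` maps the tautological lift to the tautological
lift -/
theorem pushArrow_taut (ψ : Scheme.pointSmallEtale l₂ ⟶ Scheme.pointSmallEtale l₁) :
    (pushArrow (W.hom : W.left ⟶ X) l₁ l₂ ψ).hom.app W (taut W l₁) = taut W l₂ := by
  rw [pushArrow_app, fibPull_taut]
  have hnat := congrArg (fun k => k (topElt W l₁)) (ψ.hom.naturality (diag W))
  have hnat' : ψ.hom.app _ ((Scheme.pointSmallEtale l₁).fiber.map (diag W) (topElt W l₁)) =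
      (Scheme.pointSmallEtale l₂).fiber.map (diag W) (ψ.hom.app _ (topElt W l₁)) := hnat
  rw [hnat', eq_topElt W l₂ (ψ.hom.app _ (topElt W l₁)), ← fibPull_taut, fibPush_fibPull]


/-- specialization arrows along `W → X` between tautological lifts -/
theorem exists_arrow_taut (h : l₂ default ⤳ l₁ default) :
    ∃ φ : Scheme.pointSmallEtale (l₂ ≫ (W.hom : W.left ⟶ X)) ⟶
        Scheme.pointSmallEtale (l₁ ≫ (W.hom : W.left ⟶ X)),
      φ.hom.app W (taut W l₁) = taut W l₂ := by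
  obtain ⟨ψ⟩ := Groth.Agent.H21.SpzArrow.exists_arrow l₂ l₁ h
  exact ⟨pushArrow _ l₁ l₂ ψ, pushArrow_taut W l₁ l₂ ψ⟩

lemma exists_arrow_aux (ζ₁ : Spec (CommRingCat.of Ω₁) ⟶ X) (ζ₂ : Spec (CommRingCat.of Ω₂) ⟶ X)
    (h₁ : l₁ ≫ (W.hom : W.left ⟶ X) = ζ₁) (h₂ : l₂ ≫ (W.hom : W.left ⟶ X) = ζ₂)
    (h : l₂ default ⤳ l₁ default) :
    ∃ φ : Scheme.pointSmallEtale ζ₂ ⟶ Scheme.pointSmallEtale ζ₁,
      φ.hom.app W (Over.homMk l₁ h₁ : Fib ζ₁ W) = (Over.homMk l₂ h₂ : Fib ζ₂ W) := by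
  subst h₁ h₂
  exact exists_arrow_taut W l₁ l₂ h

/-- **Controlled specialization arrows**: given lifts `y₁`, `y₂` of two geometric points to an
étale `W` with `y₂.pt ⤳ y₁.pt`, there is an arrow mapping `y₁` to `y₂`. -/
theorem exists_arrow_controlled {ζ₁ : Spec (CommRingCat.of Ω₁) ⟶ X}
    {ζ₂ : Spec (CommRingCat.of Ω₂) ⟶ X} (y₁ : Fib ζ₁ W) (y₂ : Fib ζ₂ W) (h : y₂.pt ⤳ y₁.pt) :
    ∃ φ : Scheme.pointSmallEtale ζ₂ ⟶ Scheme.pointSmallEtale ζ₁, φ.hom.app W y₁ = y₂ := by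
  have e₁ : y₁ = (Over.homMk y₁.left (Over.w y₁) : Fib ζ₁ W) := by
    apply Over.OverMorphism.ext
    rfl
  have e₂ : y₂ = (Over.homMk y₂.left (Over.w y₂) : Fib ζ₂ W) := by
    apply Over.OverMorphism.ext
    rfl
  obtain ⟨φ, hφ⟩ := exists_arrow_aux W y₁.left y₂.left ζ₁ ζ₂ (Over.w y₁) (Over.w y₂) h
  refine ⟨φ, ?_⟩
  exact (congrArg (fun t => φ.hom.app W t) e₁).trans (hφ.trans e₂.symm)

end Self

section Germ

variable {X : Scheme.{u}} {Ω₁ Ω₂ : Type u} [Field Ω₁] [IsSepClosed Ω₁] [Field Ω₂] [IsSepClosed Ω₂]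
  {ζ₁ : Spec (CommRingCat.of Ω₁) ⟶ X} {ζ₂ : Spec (CommRingCat.of Ω₂) ⟶ X}

/-- the specialization map attached to an arrow, on germs -/
lemma sheafFiber_germ (φ : Scheme.pointSmallEtale ζ₂ ⟶ Scheme.pointSmallEtale ζ₁) (F : EtCoh.Ab X)
    {U : X.Etale} (y : Fib ζ₁ U) (s : F.obj.obj (op U)) :
    (GrothendieckTopology.Point.Hom.sheafFiber (A := AddCommGrpCat.{u + 1}) φ).app F (germ F y s) =
      germ F (φ.hom.app U y) s := by
  have h := (Scheme.pointSmallEtale ζ₁).toPresheafFiber_presheafFiberDesc (A := AddCommGrpCat.{u + 1})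
    (P := F.obj) (fun X x ↦ (Scheme.pointSmallEtale ζ₂).toPresheafFiber X (φ.hom.app X x) F.obj)
    (by intro X Y f x; simp) U y
  exact ConcreteCategory.congr_hom h s

end Germ

end Groth.Agent.H21.SpzPush
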