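import Groth.Agent.H21.CardGeneric
import Groth.Agent.H21.SpzPush

/-!
# Local constancy and specialization maps (helper21)
-/

set_option autoImplicit false
universe u
open CategoryTheory CategoryTheory.Limits AlgebraicGeometry Opposite TopologicalSpace

namespace Groth.Agent.H21.SpzFLC

open Groth.Agent.H21.OverBridge Groth.Agent.H21.Constr Groth.Agent.H21.ConstrMain
  Groth.Agent.H21.ConstrSupp Groth.Agent.H21.ConstSec Groth.Agent.H21.ConstrACC
  Groth.Agent.H21.ConstrStalk Groth.Agent.H21.CardLocus Groth.Agent.H21.CardGeneric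
  Groth.Agent.H21.LocConst Groth.Agent.H21.LocConstMap Groth.Agent.H21.AbExt
  Groth.Agent.H21.ConstrSub Groth.Agent.H21.SpzPush
  Groth.Agent.H4.Stalks Groth.Agent.H4.StalkPull

section Triv

variable {X : Scheme.{u}} {F : EtCoh.Ab X} {T : X.Etale} {N : AddCommGrpCat.{u + 1}}
  (b : (cst X N).over T ≅ F.over T)
  {Ω : Type u} [Field Ω] [IsSepClosed Ω] {ζ : Spec (CommRingCat.of Ω) ⟶ X} (y : Fib ζ T)

/-- the stalk of a trivialized sheaf at a geometric point lifted to the trivializing étale scheme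
is the value group, via the germs of the constant sections -/
theorem bijective_germ_of_triv :
    Function.Bijective (fun m : ↑N => germ F y (secOfTriv b.hom m)) := by
  have hbb : ∀ {S : X.Etale} (g : S ⟶ T) (c : Sec (cst X N) S),
      secHom b.inv g (secHom b.hom g c) = c := by
    intro S g c
    rw [← secHom_comp, b.hom_inv_id, secHom_id]
  have hbb' : ∀ {S : X.Etale} (g : S ⟶ T) (s : Sec F S),
      secHom b.hom g (secHom b.inv g s) = s := by
    intro S g s
    rw [← secHom_comp, b.inv_hom_id, secHom_id]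
  constructor
  · intro m m' hmm
    have h0 : germ F y (secOfTriv b.hom (m - m')) = 0 := by
      rw [map_sub, map_sub, sub_eq_zero]
      exact hmm
    obtain ⟨V, g, v, -, hg⟩ := (germ_eq_zero_iff' F y _).1 h0
    have h1 : secHom b.hom g (eta N V (m - m')) = 0 := by
      rw [secHom_eta]
      exact hg
    have h2 : eta N V (m - m') = eta N V 0 := by
      rw [← hbb g (eta N V (m - m')), h1, map_zero, map_zero]
    rcases eta_injective_or N _ _ h2 with h | h
    · exact sub_eq_zero.1 h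
    · exact ((bot_mem_iff.1 h).false v).elim
  · intro τ
    obtain ⟨V', y', s, rfl⟩ := germ_surjective F τ
    let e₁ : (Scheme.pointSmallEtale ζ).fiber.Elements := ⟨V', y'⟩
    let e₂ : (Scheme.pointSmallEtale ζ).fiber.Elements := ⟨T, y⟩
    let P := IsCofiltered.min e₁ e₂
    let pl : P ⟶ e₁ := IsCofiltered.minToLeft e₁ e₂
    let pr : P ⟶ e₂ := IsCofiltered.minToRight e₁ e₂
    have hpl : (Scheme.pointSmallEtale ζ).fiber.map pl.1 P.2 = y' := pl.2
    have hpr : (Scheme.pointSmallEtale ζ).fiber.map pr.1 P.2 = y := pr.2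
    let sP : Sec F P.1 := res F pl.1 s
    let c : Sec (cst X N) P.1 := secHom b.inv pr.1 sP
    obtain ⟨m, V'', g, v'', hv'', hres⟩ := exists_isVal c (Fib.pt (ξ := ζ) P.2)
    obtain ⟨y'', hy'', -⟩ := Fib.exists_lift g P.2 v'' hv''
    have hc : res (cst X N) g c = eta N V'' m := hres
    have h1 : res F g sP = res F (g ≫ pr.1) (secOfTriv b.hom m) := by
      rw [← secHom_eta, ← hc, secHom_res, hbb']
    refine ⟨m, ?_⟩
    show germ F y (secOfTriv b.hom m) = germ F y' s
    have h2 : germ F y'' (res F g sP) = germ F y' s := by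
      have a1 := germ_res F g y'' sP
      rw [hy''] at a1
      have a2 := germ_res F pl.1 P.2 s
      rw [hpl] at a2
      exact a1.trans a2
    have h3 : germ F y'' (res F (g ≫ pr.1) (secOfTriv b.hom m)) =
        germ F y (secOfTriv b.hom m) := by
      have a1 := germ_res F (g ≫ pr.1) y'' (secOfTriv b.hom m)
      rw [Functor.map_comp_apply, hy'', hpr] at a1
      exact a1
    rw [← h3, ← h1, h2]

end Triv


section Forward

variable {X : Scheme.{u}}

/-- the specialization maps of a finite locally constant sheaf are isomorphisms -/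
theorem isIso_of_isFLC (F : EtCoh.Ab X) (hF : EtCoh.IsFiniteLocallyConstant F)
    {Ω Ω' : Type u} [Field Ω] [IsSepClosed Ω] [Field Ω'] [IsSepClosed Ω']
    {ξ : Spec (CommRingCat.of Ω) ⟶ X} {ξ' : Spec (CommRingCat.of Ω') ⟶ X}
    (φ : Scheme.pointSmallEtale ξ' ⟶ Scheme.pointSmallEtale ξ) :
    IsIso ((GrothendieckTopology.Point.Hom.sheafFiber (A := AddCommGrpCat.{u + 1}) φ).app F) := by
  obtain ⟨ι, U, hcov, htriv⟩ := hF
  obtain ⟨i, v, hv⟩ := hcov (ξ default)
  obtain ⟨M, _, _, ⟨α⟩⟩ := htriv i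
  let b : (cst X (AddCommGrpCat.of (ULift.{u + 1} M))).over (U i) ≅ F.over (U i) :=
    (α ≪≫ constOverIso (U i) _).symm
  obtain ⟨y, -⟩ := Fib.exists_of_point (ξ := ξ) (U i) v hv
  have h1 := bijective_germ_of_triv b y
  have h2 := bijective_germ_of_triv b (φ.hom.app (U i) y)
  have hcomp : ∀ m, (GrothendieckTopology.Point.Hom.sheafFiber (A := AddCommGrpCat.{u + 1}) φ).app F
      (germ F y (secOfTriv b.hom m)) = germ F (φ.hom.app (U i) y) (secOfTriv b.hom m) :=
    fun m => sheafFiber_germ φ F y _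
  rw [ConcreteCategory.isIso_iff_bijective]
  constructor
  · intro a a' haa
    obtain ⟨m, rfl⟩ := h1.2 a
    obtain ⟨m', rfl⟩ := h1.2 a'
    dsimp only at haa ⊢
    rw [hcomp, hcomp] at haa
    rw [h2.1 haa]
  · intro τ
    obtain ⟨m, rfl⟩ := h2.2 τ
    exact ⟨_, hcomp m⟩

end Forward


section Local

variable {X : Scheme.{u}}

/-- finite local constancy is local for the Zariski topology -/
theorem isFLC_of_local (F : EtCoh.Ab X)
    (h : ∀ x : X, ∃ O : X.Opens, x ∈ O ∧
      EtCoh.IsFiniteLocallyConstant ((EtCoh.pull O.ι).obj F)) :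
    EtCoh.IsFiniteLocallyConstant F := by
  choose O hxO hO using h
  have h' := fun x => (isFLC_iff _).1 (hO x)
  choose ι U hcov htriv using h'
  refine (isFLC_iff F).2 ⟨Σ x, ι x,
    fun p => Scheme.Etale.mk (((U p.1 p.2).hom : (U p.1 p.2).left ⟶ ↑(O p.1)) ≫ (O p.1).ι), ?_,
    fun p => ?_⟩
  · intro x
    obtain ⟨i, y, hy⟩ := hcov x ⟨x, hxO x⟩
    refine ⟨⟨x, i⟩, y, ?_⟩
    show (O x).ι (((U x i).hom : (U x i).left ⟶ ↑(O x)) y) = x
    rw [hy]
    rfl
  · obtain ⟨M, i1, i2, ⟨a⟩⟩ := htriv p.1 p.2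
    exact ⟨M, i1, i2, ⟨(EtCore.pullComp ((U p.1 p.2).hom : (U p.1 p.2).left ⟶ ↑(O p.1))
      (O p.1).ι).app F ≪≫ a⟩⟩

/-- a subset of a Noetherian quasi-sober space stable under generization and specialization
is a neighbourhood of each of its points -/
theorem exists_open_subset_of_stable {T : Type*} [TopologicalSpace T] [NoetherianSpace T]
    [QuasiSober T] (L : Set T) (hgen : ∀ p ∈ L, ∀ q, q ⤳ p → q ∈ L)
    (hspec : ∀ p ∈ L, ∀ q, p ⤳ q → q ∈ L) {p₀ : T} (hp₀ : p₀ ∈ L) :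
    ∃ N : Set T, IsOpen N ∧ p₀ ∈ N ∧ N ⊆ L := by
  let B : Set (Set T) := {C | C ∈ irreducibleComponents T ∧ p₀ ∉ C}
  have hBfin : B.Finite := NoetherianSpace.finite_irreducibleComponents.subset (fun C hC => hC.1)
  have hclosed : IsClosed (⋃₀ B) := by
    rw [Set.sUnion_eq_biUnion]
    exact hBfin.isClosed_biUnion (fun C hC => isClosed_of_mem_irreducibleComponents C hC.1)
  refine ⟨(⋃₀ B)ᶜ, hclosed.isOpen_compl, ?_, ?_⟩
  · rintro ⟨C, hC, hp⟩
    exact hC.2 hp
  · intro q hq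
    let C := irreducibleComponent q
    have hCmem : C ∈ irreducibleComponents T := irreducibleComponent_mem_irreducibleComponents q
    have hqC : q ∈ C := mem_irreducibleComponent
    have hpC : p₀ ∈ C := by
      by_contra hpC
      exact hq ⟨C, ⟨hCmem, hpC⟩, hqC⟩
    obtain ⟨g, hg⟩ := QuasiSober.sober (isIrreducible_irreducibleComponent (x := q))
      (isClosed_irreducibleComponent (x := q))
    have hgp : g ⤳ p₀ := by
      rw [specializes_iff_mem_closure, hg.def]
      exact hpC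
    have hgq : g ⤳ q := by
      rw [specializes_iff_mem_closure, hg.def]
      exact hqC
    exact hspec g (hgen p₀ hp₀ g hgp) q hgq

end Local


section Backward

variable {X : Scheme.{u}}

/-- bijectivity of the germ map of a family of sections is invariant under specialization, when
specialization maps are isomorphisms -/
lemma bijective_iff_of_specializes (F : EtCoh.Ab X)
    (hiso : ∀ (Ω Ω' : Type u) [Field Ω] [IsSepClosed Ω] [Field Ω'] [IsSepClosed Ω']
        (ξ : Spec (CommRingCat.of Ω) ⟶ X) (ξ' : Spec (CommRingCat.of Ω') ⟶ X)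
        (φ : Scheme.pointSmallEtale ξ' ⟶ Scheme.pointSmallEtale ξ),
        IsIso ((GrothendieckTopology.Point.Hom.sheafFiber (A := AddCommGrpCat.{u + 1}) φ).app F))
    {W : X.Etale} {M₀ : Type*} (ε : M₀ → Sec F W)
    {Ω₁ Ω₂ : Type u} [Field Ω₁] [IsSepClosed Ω₁] [Field Ω₂] [IsSepClosed Ω₂]
    {ζ₁ : Spec (CommRingCat.of Ω₁) ⟶ X} {ζ₂ : Spec (CommRingCat.of Ω₂) ⟶ X}
    (y₁ : Fib ζ₁ W) (y₂ : Fib ζ₂ W) (h : y₂.pt ⤳ y₁.pt) :
    Function.Bijective (fun m => germ F y₁ (ε m)) ↔
      Function.Bijective (fun m => germ F y₂ (ε m)) := by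
  obtain ⟨φ, hφ⟩ := exists_arrow_controlled W y₁ y₂ h
  have hσ := hiso _ _ ζ₁ ζ₂ φ
  have hσb : Function.Bijective
      ((GrothendieckTopology.Point.Hom.sheafFiber (A := AddCommGrpCat.{u + 1}) φ).app F) :=
    (ConcreteCategory.isIso_iff_bijective _).1 hσ
  have hcomp : (fun m => germ F y₂ (ε m)) =
      ((GrothendieckTopology.Point.Hom.sheafFiber (A := AddCommGrpCat.{u + 1}) φ).app F) ∘
        (fun m => germ F y₁ (ε m)) := by
    funext m
    show _ = (GrothendieckTopology.Point.Hom.sheafFiber (A := AddCommGrpCat.{u + 1}) φ).app F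
      (germ F y₁ (ε m))
    rw [sheafFiber_germ, hφ]
  rw [hcomp]
  exact (Function.Bijective.of_comp_iff' hσb _).symm

/-- the locus of an étale scheme where a family of sections computes the stalks -/
def goodLocus (F : EtCoh.Ab X) {W : X.Etale} {M₀ : Type*} (ε : M₀ → Sec F W) : Set W.left :=
  {p | ∃ (Ω : Type u) (_ : Field Ω) (_ : IsSepClosed Ω) (ζ : Spec (CommRingCat.of Ω) ⟶ X)
    (y : Fib ζ W), y.pt = p ∧ Function.Bijective (fun m => germ F y (ε m))}

lemma goodLocus_of_specializes (F : EtCoh.Ab X)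
    (hiso : ∀ (Ω Ω' : Type u) [Field Ω] [IsSepClosed Ω] [Field Ω'] [IsSepClosed Ω']
        (ξ : Spec (CommRingCat.of Ω) ⟶ X) (ξ' : Spec (CommRingCat.of Ω') ⟶ X)
        (φ : Scheme.pointSmallEtale ξ' ⟶ Scheme.pointSmallEtale ξ),
        IsIso ((GrothendieckTopology.Point.Hom.sheafFiber (A := AddCommGrpCat.{u + 1}) φ).app F))
    {W : X.Etale} {M₀ : Type*} (ε : M₀ → Sec F W) {p q : W.left} (hp : p ∈ goodLocus F ε)
    (h : q ⤳ p ∨ p ⤳ q) : q ∈ goodLocus F ε := by
  obtain ⟨Ω, _, _, ζ, y, rfl, hb⟩ := hp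
  obtain ⟨y', hy'⟩ := Fib.exists_of_point (ξ := geomPt ((W.hom : W.left ⟶ X) q)) W q
    (geomPt_default _).symm
  refine ⟨_, inferInstance, inferInstance, geomPt ((W.hom : W.left ⟶ X) q), y', hy', ?_⟩
  rcases h with h | h
  · exact (bijective_iff_of_specializes F hiso ε y y' (by rw [hy']; exact h)).1 hb
  · exact (bijective_iff_of_specializes F hiso ε y' y (by rw [hy']; exact h)).2 hb

/-- a sheaf with finite stalks on a locally Noetherian scheme all of whose specialization maps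
are isomorphisms is finite locally constant -/
theorem isFLC_of_isIso_spz [IsLocallyNoetherian X] (F : EtCoh.Ab X)
    (hfin : ∀ (Ω : Type u) [Field Ω] [IsSepClosed Ω] (ξ : Spec (CommRingCat.of Ω) ⟶ X),
      Finite ((EtCoh.stalk ξ).obj F))
    (hiso : ∀ (Ω Ω' : Type u) [Field Ω] [IsSepClosed Ω] [Field Ω'] [IsSepClosed Ω']
        (ξ : Spec (CommRingCat.of Ω) ⟶ X) (ξ' : Spec (CommRingCat.of Ω') ⟶ X)
        (φ : Scheme.pointSmallEtale ξ' ⟶ Scheme.pointSmallEtale ξ),
        IsIso ((GrothendieckTopology.Point.Hom.sheafFiber (A := AddCommGrpCat.{u + 1}) φ).app F)) :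
    EtCoh.IsFiniteLocallyConstant F := by
  apply isFLC_of_local
  intro x
  let ξ := geomPt x
  have hξ : ξ default = x := geomPt_default x
  have hfinξ : Finite ↑((EtCoh.stalk ξ).obj F) := hfin _ ξ
  obtain ⟨W, w, ε, hε⟩ := exists_sections F ξ
  let L : Set W.left := goodLocus F (fun m => ε m)
  have hwL : w.pt ∈ L := by
    refine ⟨_, inferInstance, inferInstance, ξ, w, rfl, ?_⟩
    have : (fun m => germ F w (ε m)) = id := funext hε
    rw [this]
    exact Function.bijective_id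
  let fW : W.left ⟶ X := W.hom
  have hWN : IsLocallyNoetherian W.left := LocallyOfFiniteType.isLocallyNoetherian fW
  obtain ⟨A, hA, hwA, -⟩ := exists_affine_nbhd (⊤ : W.left.Opens) w.pt trivial
  have hN : IsNoetherianRing Γ(W.left, A) := IsLocallyNoetherian.component_noetherian ⟨A, hA⟩
  have hNS : NoetherianSpace ↥(A : Scheme.{u}) := noetherianSpace_of_isAffineOpen A hA
  have hQS : QuasiSober ↥(A : Scheme.{u}) := inferInstance
  obtain ⟨N, hNo, hwN, hNL⟩ := exists_open_subset_of_stable (T := ↥(A : Scheme.{u}))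
    ((A.ι : (A : Scheme.{u}) ⟶ W.left) ⁻¹' L)
    (fun p hp q hqp => goodLocus_of_specializes F hiso _ hp (Or.inl (hqp.map A.ι.continuous)))
    (fun p hp q hpq => goodLocus_of_specializes F hiso _ hp (Or.inr (hpq.map A.ι.continuous)))
    (p₀ := ⟨w.pt, hwA⟩) hwL
  let P : W.left.Opens := ⟨A.ι '' N, A.ι.isOpenEmbedding.isOpenMap _ hNo⟩
  have hPL : ∀ p ∈ P, p ∈ L := by
    rintro _ ⟨a, ha, rfl⟩
    exact hNL ha
  have hwP : w.pt ∈ P := ⟨⟨w.pt, hwA⟩, hwN, rfl⟩
  let W' : X.Etale := Scheme.Etale.mk (P.ι ≫ (W.hom : W.left ⟶ X))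
  let q₁ : W' ⟶ W := MorphismProperty.Over.homMk P.ι rfl trivial
  let ε' : ↑((EtCoh.stalk ξ).obj F) →+ Sec F W' := (res F q₁).comp ε
  have hinj : ∀ (V : X.Etale) (q : V ⟶ W') (m : ↑((EtCoh.stalk ξ).obj F)), Nonempty V.left →
      res F q (ε' m) = 0 → m = 0 := by
    rintro V q m ⟨v⟩ h0
    have hpL : (q ≫ q₁).left v ∈ L := hPL _ (q.left v).2
    obtain ⟨Ω, _, _, ζ, y, hy, hb⟩ := hpL
    obtain ⟨yV, hyV, -⟩ := Fib.exists_lift (q ≫ q₁) y v hy.symm
    apply hb.1
    show germ F y (ε m) = germ F y (ε 0)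
    have h1 := germ_res F (q ≫ q₁) yV (ε m)
    rw [hyV] at h1
    rw [← h1, map_zero, map_zero]
    have h2 : F.obj.map (q ≫ q₁).op (ε m) = res F q (ε' m) := (res_res F q₁ q (ε m)).symm
    rw [h2, h0, map_zero]
  have hcard : ∀ p' : W'.left, ∃ (Ω' : Type u) (_ : Field Ω') (_ : IsSepClosed Ω')
      (ζ : Spec (CommRingCat.of Ω') ⟶ X), ζ default = (W'.hom : W'.left ⟶ X) p' ∧
        Finite ↑((EtCoh.stalk ζ).obj F) ∧
        Nat.card ↑((EtCoh.stalk ζ).obj F) ≤ Nat.card ↑((EtCoh.stalk ξ).obj F) := by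
    intro p'
    obtain ⟨Ω, _, _, ζ, y, hy, hb⟩ := hPL _ p'.2
    refine ⟨Ω, inferInstance, inferInstance, ζ, ?_, hfin _ ζ, le_of_eq ?_⟩
    · have h1 := Fib.hom_pt y
      rw [hy] at h1
      exact h1.symm
    · exact (Nat.card_congr (Equiv.ofBijective _ hb)).symm
  obtain ⟨E, _, _, ⟨e⟩⟩ := triv_of_sections F W' _ ε' hinj hcard
  have hflc : EtCoh.IsFiniteLocallyConstant ((EtCoh.pull (W'.hom : W'.left ⟶ X)).obj F) :=
    isFLC_of_iso e.symm (isFLC_const _ E)
  let O : X.Opens := ⟨Set.range (W'.hom : W'.left ⟶ X),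
    (W'.hom : W'.left ⟶ X).isOpenMap.isOpen_range⟩
  refine ⟨O, ⟨⟨w.pt, hwP⟩, ?_⟩, isFLC_on_range (W'.hom : W'.left ⟶ X) F O rfl hflc⟩
  exact (Fib.hom_pt w).trans hξ

end Backward

end Groth.Agent.H21.SpzFLC
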