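import Groth.Agent.H21.SpzFLC
import Groth.Agent.H21.ConstrLoc
import Groth.Agent.H21.ConstrGen

/-!
# Local constancy of a constructible sheaf near a point and specialization maps (helper21)
-/

set_option autoImplicit false
universe u
open CategoryTheory CategoryTheory.Limits AlgebraicGeometry Opposite TopologicalSpace

namespace Groth.Agent.H21.SpzLocal

open Groth.Agent.H21.OverBridge Groth.Agent.H21.Constr Groth.Agent.H21.ConstrMain
  Groth.Agent.H21.ConstrSupp Groth.Agent.H21.ConstSec Groth.Agent.H21.ConstrACC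
  Groth.Agent.H21.ConstrStalk Groth.Agent.H21.CardLocus Groth.Agent.H21.CardGeneric
  Groth.Agent.H21.LocConst Groth.Agent.H21.LocConstMap Groth.Agent.H21.AbExt
  Groth.Agent.H21.ConstrSub Groth.Agent.H21.SpzPush Groth.Agent.H21.SpzFLC
  Groth.Agent.H4.Stalks Groth.Agent.H4.StalkPull

section Cst

variable {Y : Scheme.{u}} {Ω : Type u} [Field Ω] [IsSepClosed Ω]

/-- the stalk of a constant sheaf is the value group, via the germs of the constant sections -/
theorem bijective_germ_cst (l : Spec (CommRingCat.of Ω) ⟶ Y) (M : AddCommGrpCat.{u + 1})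
    (x₀ : Fib l (EtCoh.top Y)) :
    Function.Bijective (fun m : ↑M => germ (cst Y M) x₀ (eta M (EtCoh.top Y) m)) := by
  have hsub : ∀ x : Fib l (EtCoh.top Y), x = x₀ := by
    intro x
    apply Over.OverMorphism.ext
    have h1 := Over.w x
    have h2 := Over.w x₀
    dsimp at h1 h2
    rw [Category.comp_id] at h1 h2
    rw [h1, h2]
  constructor
  · intro m m' hmm
    have h0 : germ (cst Y M) x₀ (eta M (EtCoh.top Y) (m - m')) = 0 := by
      rw [map_sub, map_sub, sub_eq_zero]
      exact hmm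
    obtain ⟨V, g, v, -, hs⟩ := (germ_eq_zero_iff' (cst Y M) x₀ _).1 h0
    have h1 : eta M V (m - m') = eta M V 0 := by
      rw [map_zero, ← hs]
      exact (res_eta M g (m - m')).symm
    rcases eta_injective_or M _ _ h1 with h | h
    · exact sub_eq_zero.1 h
    · exact ((bot_mem_iff.1 h).false v).elim
  · intro τ
    obtain ⟨U, y, r, rfl⟩ := germ_surjective (cst Y M) τ
    obtain ⟨m, V'', g, v'', hv'', hres⟩ := exists_isVal r y.pt
    obtain ⟨y', hy', -⟩ := Fib.exists_lift g y v'' hv''
    refine ⟨m, ?_⟩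
    have h1 := germ_res (cst Y M) g y' r
    rw [hy'] at h1
    show germ (cst Y M) x₀ (eta M (EtCoh.top Y) m) = germ (cst Y M) y r
    rw [← h1]
    have h2 : (cst Y M).obj.map g.op r = eta M V'' m := hres
    rw [h2]
    let t : V'' ⟶ EtCoh.top Y := (EtCore.topIsTerminal Y).from V''
    have h3 : eta M V'' m = (cst Y M).obj.map t.op (eta M (EtCoh.top Y) m) :=
      (res_eta M t m).symm
    rw [h3, germ_res, hsub ((Scheme.pointSmallEtale l).fiber.map t y')]

variable {M : AddCommGrpCat.{u + 1}} (G : EtCoh.Ab Y)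

/-- the presheaf map attached to a family of global sections -/
noncomputable def liftPre₀ (ε : ↑M →+ Sec G (EtCoh.top Y)) :
    (Functor.const Y.Etaleᵒᵖ).obj M ⟶ G.obj where
  app V := AddCommGrpCat.ofHom ((res G ((EtCore.topIsTerminal Y).from V.unop)).comp ε)
  naturality := by
    intro V V' k
    ext e
    simp only [Functor.const_obj_obj, Functor.const_obj_map, Category.id_comp]
    show res G ((EtCore.topIsTerminal Y).from V'.unop) (ε e) =
      res G k.unop (res G ((EtCore.topIsTerminal Y).from V.unop) (ε e))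
    rw [res_res, (EtCore.topIsTerminal Y).hom_ext (k.unop ≫ (EtCore.topIsTerminal Y).from V.unop)
      ((EtCore.topIsTerminal Y).from V'.unop)]

/-- the morphism from a constant sheaf attached to a family of global sections -/
noncomputable def cstLift₀ (ε : ↑M →+ Sec G (EtCoh.top Y)) : cst Y M ⟶ G :=
  ⟨sheafifyLift Y.smallEtaleTopology (liftPre₀ G ε) G.property⟩

lemma app_cstLift₀ (ε : ↑M →+ Sec G (EtCoh.top Y)) (V : Y.Etale) (m : ↑M) :
    app (cstLift₀ G ε) V (eta M V m) = res G ((EtCore.topIsTerminal Y).from V) (ε m) := by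
  have h2 := toSheafify_sheafifyLift Y.smallEtaleTopology (liftPre₀ G ε) G.property
  exact congrArg (fun k => (k.app (op V)).hom m) h2

end Cst


section Global

variable {X : Scheme.{u}} (F : EtCoh.Ab X) (W : X.Etale)

/-- transport of sections over `W` to global sections of the inverse image on `W.left` -/
noncomputable def toGlobal :
    Sec F W →+ Sec ((EtCoh.pull (W.hom : W.left ⟶ X)).obj F) (EtCoh.top W.left) :=
  (res ((EtCoh.pull (W.hom : W.left ⟶ X)).obj F) (diag W)).comp
    (((EtCoh.pullPushAdj (W.hom : W.left ⟶ X)).unit.app F).hom.app (op W)).hom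

lemma germ_toGlobal {Ω : Type u} [Field Ω] [IsSepClosed Ω]
    (l : Spec (CommRingCat.of Ω) ⟶ W.left) (σ : Sec F W) :
    (stalkPullIso (W.hom : W.left ⟶ X) l).hom.app F (germ F (taut W l) σ) =
      germ ((EtCoh.pull (W.hom : W.left ⟶ X)).obj F) (topElt W l) (toGlobal F W σ) := by
  have h1 := stalkPullIso_germ_apply (W.hom : W.left ⟶ X) l F (taut W l) σ
  rw [fibPull_taut] at h1
  rw [h1]
  exact (germ_res ((EtCoh.pull (W.hom : W.left ⟶ X)).obj F) (diag W) (topElt W l) _).symm

end Global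

section IsoLocus

variable {Y : Scheme.{u}} {A G : EtCoh.Ab Y} (φ : A ⟶ G)

/-- the locus where a map of sheaves is an isomorphism on all geometric stalks -/
def isoLocus : Set Y := (EtPBC.supp (kernel φ) ∪ EtPBC.supp (cokernel φ))ᶜ

lemma bijective_iff_isZero {Ω : Type u} [Field Ω] [IsSepClosed Ω]
    (l : Spec (CommRingCat.of Ω) ⟶ Y) :
    Function.Bijective ((EtCoh.stalk l).map φ) ↔
      IsZero ((EtCoh.stalk l).obj (kernel φ)) ∧ IsZero ((EtCoh.stalk l).obj (cokernel φ)) := by
  have hk : Function.Injective ((EtCoh.stalk l).map φ) ↔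
      IsZero ((EtCoh.stalk l).obj (kernel φ)) := by
    rw [← AddCommGrpCat.mono_iff_injective,
      (PreservesKernel.iso (EtCoh.stalk l) φ).isZero_iff]
    constructor
    · intro h
      exact isZero_kernel_of_mono _
    · intro h
      exact Preadditive.mono_of_isZero_kernel _ h
  have hc : Function.Surjective ((EtCoh.stalk l).map φ) ↔
      IsZero ((EtCoh.stalk l).obj (cokernel φ)) := by
    rw [← AddCommGrpCat.epi_iff_surjective,
      (PreservesCokernel.iso (EtCoh.stalk l) φ).isZero_iff]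
    constructor
    · intro h
      exact isZero_cokernel_of_epi _
    · intro h
      exact Preadditive.epi_of_isZero_cokernel _ h
  rw [Function.Bijective, hk, hc]

lemma mem_isoLocus_iff (y : Y) : y ∈ isoLocus φ ↔
    ∀ (Ω : Type u) [Field Ω] [IsSepClosed Ω] (l : Spec (CommRingCat.of Ω) ⟶ Y),
      Set.range l = {y} → Function.Bijective ((EtCoh.stalk l).map φ) := by
  constructor
  · intro hy Ω _ _ l hl
    rw [bijective_iff_isZero]
    constructor
    · by_contra hnz
      exact hy (Or.inl ⟨Ω, inferInstance, inferInstance, l, hl, hnz⟩)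
    · by_contra hnz
      exact hy (Or.inr ⟨Ω, inferInstance, inferInstance, l, hl, hnz⟩)
  · intro h hy
    rcases hy with ⟨Ω, i1, i2, l, hl, hnz⟩ | ⟨Ω, i1, i2, l, hl, hnz⟩
    · exact hnz ((bijective_iff_isZero φ l).1 (h Ω l hl)).1
    · exact hnz ((bijective_iff_isZero φ l).1 (h Ω l hl)).2

lemma isLocallyConstructible_isoLocus (hA : EtPBC.IsConstructible A)
    (hG : EtPBC.IsConstructible G) : Topology.IsLocallyConstructible (isoLocus φ) := by
  have h := isConstructible_kernel_cokernel φ hA hG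
  have h2 := (isLocallyConstructible_supp _ h.1).union (isLocallyConstructible_supp _ h.2)
  intro x
  obtain ⟨U, hU, hUo, hc⟩ := h2 x
  refine ⟨U, hU, hUo, ?_⟩
  show Topology.IsConstructible (Subtype.val ⁻¹' (EtPBC.supp (kernel φ) ∪ EtPBC.supp (cokernel φ))ᶜ)
  rw [Set.preimage_compl]
  exact hc.compl

end IsoLocus

section Spectral

variable {α : Type*} [TopologicalSpace α]

/-- a constructible subset of a spectral space containing all generizations of a point is a
neighbourhood of the point -/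
theorem exists_open_of_generizations [CompactSpace α] [QuasiSober α] [PrespectralSpace α]
    [QuasiSeparatedSpace α] {E : Set α} (hE : Topology.IsConstructible E) {p : α}
    (hp : ∀ q, q ⤳ p → q ∈ E) : ∃ O : Set α, IsOpen O ∧ p ∈ O ∧ O ⊆ E := by
  classical
  have key : ∀ q : {q : α // q ∉ E}, ∃ O : Set α, IsOpen O ∧ IsCompact O ∧ p ∈ O ∧ q.1 ∉ O := by
    rintro ⟨q, hq⟩
    have h1 : ¬ q ⤳ p := fun h => hq (hp q h)
    rw [specializes_iff_forall_open] at h1
    push Not at h1
    obtain ⟨U, hU, hpU, hqU⟩ := h1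
    obtain ⟨O, ⟨hO, hOc⟩, hpO, hOU⟩ :=
      (PrespectralSpace.isTopologicalBasis (X := α)).exists_subset_of_mem_open hpU hU
    exact ⟨O, hO, hOc, hpO, fun h => hqU (hOU h)⟩
  choose O hO hOc hpO hqO using key
  let R : Option {q : α // q ∉ E} → Set α := fun i =>
    match i with
    | none => E
    | some q => (O q)ᶜ
  have hR : ∀ i, Topology.IsConstructible (R i) := by
    intro i
    cases i with
    | none => exact hE
    | some q => exact ((hOc q).isConstructible (hO q)).compl
  have hcov : (⋃ i, R i) = Set.univ := by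
    apply Set.eq_univ_of_forall
    intro z
    by_cases hz : z ∈ E
    · exact Set.mem_iUnion.2 ⟨none, hz⟩
    · exact Set.mem_iUnion.2 ⟨some ⟨z, hz⟩, hqO ⟨z, hz⟩⟩
  obtain ⟨t, ht⟩ := Groth.Agent.H21.ConstrLoc.exists_finite_subcover_of_isConstructible R hR hcov
  refine ⟨⋂ q ∈ {q : {q : α // q ∉ E} | some q ∈ t}, O q, ?_, ?_, ?_⟩
  · apply Set.Finite.isOpen_biInter
    · exact Set.Finite.preimage (Option.some_injective _).injOn t.finite_toSet
    · intro q _
      exact hO q
  · exact Set.mem_iInter₂.2 (fun q _ => hpO q)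
  · intro z hz
    have hzc : z ∈ ⋃ i ∈ t, R i := by rw [ht]; trivial
    obtain ⟨i, hi, hzi⟩ := Set.mem_iUnion₂.1 hzc
    cases i with
    | none => exact hzi
    | some q => exact (hzi (Set.mem_iInter₂.1 hz q hi)).elim

end Spectral


section Main

variable {X : Scheme.{u}}

/-- a sheaf is finite locally constant on the image of an open part of an étale scheme on which
a finite family of sections computes all stalks -/
theorem flc_of_goodLocus (F : EtCoh.Ab X)
    (hfin : ∀ (Ω : Type u) [Field Ω] [IsSepClosed Ω] (ξ : Spec (CommRingCat.of Ω) ⟶ X),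
      Finite ((EtCoh.stalk ξ).obj F))
    {W : X.Etale} {M₀ : Type (u + 1)} [AddCommGroup M₀] [Finite M₀] (ε : M₀ →+ Sec F W)
    (P : W.left.Opens) (hPL : ∀ p ∈ P, p ∈ goodLocus F (fun m => ε m)) :
    ∃ O : X.Opens, (O : Set X) = (W.hom : W.left ⟶ X) '' (P : Set W.left) ∧
      EtCoh.IsFiniteLocallyConstant ((EtCoh.pull O.ι).obj F) := by
  let W' : X.Etale := Scheme.Etale.mk (P.ι ≫ (W.hom : W.left ⟶ X))
  let q₁ : W' ⟶ W := MorphismProperty.Over.homMk P.ι rfl trivial
  let ε' : M₀ →+ Sec F W' := (res F q₁).comp ε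
  have hinj : ∀ (V : X.Etale) (q : V ⟶ W') (m : M₀), Nonempty V.left →
      res F q (ε' m) = 0 → m = 0 := by
    rintro V q m ⟨v⟩ h0
    have hpL : (q ≫ q₁).left v ∈ goodLocus F (fun m => ε m) := hPL _ (q.left v).2
    obtain ⟨Ω, _, _, ζ, y, hy, hb⟩ := hpL
    obtain ⟨yV, hyV, -⟩ := Fib.exists_lift (q ≫ q₁) y v hy.symm
    apply hb.1
    show germ F y (ε m) = germ F y (ε 0)
    have h1 := germ_res F (q ≫ q₁) yV (ε m)
    rw [hyV] at h1
    rw [← h1, map_zero, map_zero]
    have h2 : F.obj.map (q ≫ q₁).op (ε m) = res F q (ε' m) := (res_res F q₁ q (ε m)).symm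
    rw [h2, h0, map_zero]
  have hcard : ∀ p' : W'.left, ∃ (Ω' : Type u) (_ : Field Ω') (_ : IsSepClosed Ω')
      (ζ : Spec (CommRingCat.of Ω') ⟶ X), ζ default = (W'.hom : W'.left ⟶ X) p' ∧
        Finite ↑((EtCoh.stalk ζ).obj F) ∧
        Nat.card ↑((EtCoh.stalk ζ).obj F) ≤ Nat.card M₀ := by
    intro p'
    obtain ⟨Ω, _, _, ζ, y, hy, hb⟩ := hPL _ p'.2
    refine ⟨Ω, inferInstance, inferInstance, ζ, ?_, hfin _ ζ, le_of_eq ?_⟩
    · have h1 := Fib.hom_pt y
      rw [hy] at h1
      exact h1.symm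
    · exact (Nat.card_congr (Equiv.ofBijective _ hb)).symm
  obtain ⟨E, _, _, ⟨e⟩⟩ := triv_of_sections F W' _ ε' hinj hcard
  have hflc : EtCoh.IsFiniteLocallyConstant ((EtCoh.pull (W'.hom : W'.left ⟶ X)).obj F) :=
    isFLC_of_iso e.symm (isFLC_const _ E)
  let O : X.Opens := ⟨Set.range (W'.hom : W'.left ⟶ X),
    (W'.hom : W'.left ⟶ X).isOpenMap.isOpen_range⟩
  refine ⟨O, ?_, isFLC_on_range (W'.hom : W'.left ⟶ X) F O rfl hflc⟩
  show Set.range (P.ι ≫ (W.hom : W.left ⟶ X)) = _
  rw [Scheme.Hom.comp_base, TopCat.coe_comp, Set.range_comp, Scheme.Opens.range_ι]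

/-- the specialization maps into a geometric point lying under a trivializing étale scheme are
isomorphisms -/
theorem isIso_of_triv (F : EtCoh.Ab X) {T : X.Etale} {N : AddCommGrpCat.{u + 1}}
    (b : (cst X N).over T ≅ F.over T)
    {Ω Ω' : Type u} [Field Ω] [IsSepClosed Ω] [Field Ω'] [IsSepClosed Ω']
    {ξ : Spec (CommRingCat.of Ω) ⟶ X} {ξ' : Spec (CommRingCat.of Ω') ⟶ X}
    (φ : Scheme.pointSmallEtale ξ' ⟶ Scheme.pointSmallEtale ξ) (y : Fib ξ T) :
    IsIso ((GrothendieckTopology.Point.Hom.sheafFiber (A := AddCommGrpCat.{u + 1}) φ).app F) := by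
  have h1 := bijective_germ_of_triv b y
  have h2 := bijective_germ_of_triv b (φ.hom.app T y)
  have hcomp : ∀ m, (GrothendieckTopology.Point.Hom.sheafFiber (A := AddCommGrpCat.{u + 1}) φ).app F
      (germ F y (secOfTriv b.hom m)) = germ F (φ.hom.app T y) (secOfTriv b.hom m) :=
    fun m => sheafFiber_germ φ F y _
  rw [ConcreteCategory.isIso_iff_bijective]
  constructor
  · intro a a' haa
    obtain ⟨m, rfl⟩ := h1.2 a
    obtain ⟨m', rfl⟩ := h1.2 a'
    dsimp only at haa ⊢
    rw [hcomp, hcomp] at haa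
    rw [h2.1 haa]
  · intro τ
    obtain ⟨m, rfl⟩ := h2.2 τ
    exact ⟨_, hcomp m⟩

/-- if `F` is finite locally constant near `x`, the specialization maps into a geometric point
over `x` are isomorphisms -/
theorem isIso_of_local_flc (F : EtCoh.Ab X) (x : X) {Ω Ω' : Type u} [Field Ω] [IsSepClosed Ω]
    [Field Ω'] [IsSepClosed Ω'] (ξ : Spec (CommRingCat.of Ω) ⟶ X) (hξ : Set.range ξ = {x})
    (U : X.Opens) (hxU : x ∈ U)
    (hflc : EtCoh.IsFiniteLocallyConstant ((EtCoh.pull U.ι).obj F))
    (ξ' : Spec (CommRingCat.of Ω') ⟶ X)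
    (φ : Scheme.pointSmallEtale ξ' ⟶ Scheme.pointSmallEtale ξ) :
    IsIso ((GrothendieckTopology.Point.Hom.sheafFiber (A := AddCommGrpCat.{u + 1}) φ).app F) := by
  obtain ⟨ι, V, hcov, htriv⟩ := (isFLC_iff _).1 hflc
  obtain ⟨i, v, hv⟩ := hcov ⟨x, hxU⟩
  obtain ⟨M, _, _, ⟨a⟩⟩ := htriv i
  let T : X.Etale := Scheme.Etale.mk (((V i).hom : (V i).left ⟶ ↑U) ≫ U.ι)
  have c : (EtCoh.pull (T.hom : T.left ⟶ X)).obj F ≅
      cst T.left (AddCommGrpCat.of (ULift.{u + 1} M)) :=
    (EtCore.pullComp ((V i).hom : (V i).left ⟶ ↑U) U.ι).app F ≪≫ a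
  obtain ⟨α⟩ := (triv_iff T F _).2 ⟨c⟩
  let b : (cst X (AddCommGrpCat.of (ULift.{u + 1} M))).over T ≅ F.over T :=
    (α ≪≫ constOverIso T _).symm
  have hTv : (T.hom : T.left ⟶ X) v = ξ default := by
    rw [default_of_range ξ hξ]
    show U.ι (((V i).hom : (V i).left ⟶ ↑U) v) = x
    rw [hv]
    rfl
  obtain ⟨y, -⟩ := Fib.exists_of_point (ξ := ξ) T v hTv
  exact isIso_of_triv F b φ y

/-- the stalk map of the morphism attached to a family of sections over `W`, at a geometric
point of `W.left`, is bijective iff the germs of the sections compute the stalk -/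
lemma bijective_stalk_cstLift_iff (F : EtCoh.Ab X) (W : X.Etale) {M : AddCommGrpCat.{u + 1}}
    (ε : ↑M →+ Sec F W) {Ω : Type u} [Field Ω] [IsSepClosed Ω]
    (l : Spec (CommRingCat.of Ω) ⟶ W.left) :
    Function.Bijective ((EtCoh.stalk l).map
      (cstLift₀ ((EtCoh.pull (W.hom : W.left ⟶ X)).obj F) ((toGlobal F W).comp ε))) ↔
    Function.Bijective (fun m : ↑M => germ F (taut W l) (ε m)) := by
  let G := (EtCoh.pull (W.hom : W.left ⟶ X)).obj F
  let φ := cstLift₀ G ((toGlobal F W).comp ε)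
  let c : ↑M → ↑((EtCoh.stalk l).obj (cst W.left M)) := fun m =>
    germ (cst W.left M) (topElt W l) (eta M (EtCoh.top W.left) m)
  have hc : Function.Bijective c := bijective_germ_cst l M (topElt W l)
  let β : ↑M → ↑((EtCoh.stalk (l ≫ (W.hom : W.left ⟶ X))).obj F) := fun m =>
    germ F (taut W l) (ε m)
  let θ := (stalkPullIso (W.hom : W.left ⟶ X) l).hom.app F
  have hθ : Function.Bijective θ := ConcreteCategory.bijective_of_isIso θ
  have hcomp : ((EtCoh.stalk l).map φ) ∘ c = θ ∘ β := by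
    funext m
    show (EtCoh.stalk l).map φ (germ (cst W.left M) (topElt W l) (eta M (EtCoh.top W.left) m)) =
      θ (germ F (taut W l) (ε m))
    have e1 : (EtCoh.stalk l).map φ
        (germ (cst W.left M) (topElt W l) (eta M (EtCoh.top W.left) m)) =
        germ G (topElt W l) (app φ (EtCoh.top W.left) (eta M (EtCoh.top W.left) m)) :=
      germ_map φ (topElt W l) _
    have e2 : app φ (EtCoh.top W.left) (eta M (EtCoh.top W.left) m) = toGlobal F W (ε m) := by
      have h1 := app_cstLift₀ G ((toGlobal F W).comp ε) (EtCoh.top W.left) m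
      refine h1.trans ?_
      have h3 : ∀ (k : EtCoh.top W.left ⟶ EtCoh.top W.left), k = 𝟙 _ →
          ∀ s : Sec G (EtCoh.top W.left), res G k s = s := by
        intro k hk s
        subst hk
        exact res_id G _ s
      exact h3 _ ((EtCore.topIsTerminal _).hom_ext _ _) _
    have e3 := germ_toGlobal F W l (ε m)
    exact e1.trans ((congrArg (fun t => germ G (topElt W l) t) e2).trans e3.symm)
  constructor
  · intro h
    have h1 : Function.Bijective (θ ∘ β) := by rw [← hcomp]; exact h.comp hc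
    exact (Function.Bijective.of_comp_iff' hθ β).1 h1
  · intro h
    have h1 : Function.Bijective (((EtCoh.stalk l).map φ) ∘ c) := by
      rw [hcomp]; exact hθ.comp h
    exact (Function.Bijective.of_comp_iff _ hc).1 h1

/-- a constructible sheaf all of whose specialization maps into a geometric point over `x` are
isomorphisms is finite locally constant near `x` -/
theorem local_flc_of_isIso (F : EtCoh.Ab X) (hF : EtPBC.IsConstructible F) (x : X)
    {Ω : Type u} [Field Ω] [IsSepClosed Ω] (ξ : Spec (CommRingCat.of Ω) ⟶ X)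
    (hξ : Set.range ξ = {x})
    (hiso : ∀ (Ω' : Type u) [Field Ω'] [IsSepClosed Ω'] (ξ' : Spec (CommRingCat.of Ω') ⟶ X)
        (φ : Scheme.pointSmallEtale ξ' ⟶ Scheme.pointSmallEtale ξ),
        IsIso ((GrothendieckTopology.Point.Hom.sheafFiber (A := AddCommGrpCat.{u + 1}) φ).app F)) :
    ∃ U : X.Opens, x ∈ U ∧ EtCoh.IsFiniteLocallyConstant ((EtCoh.pull U.ι).obj F) := by
  have hfin : ∀ (Ω : Type u) [Field Ω] [IsSepClosed Ω] (ζ : Spec (CommRingCat.of Ω) ⟶ X),
      Finite ((EtCoh.stalk ζ).obj F) := fun Ω _ _ ζ => finite_stalk_of_isConstructible F hF ζ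
  have hfinξ : Finite ↑((EtCoh.stalk ξ).obj F) := hfin _ ξ
  obtain ⟨W, w, ε, hε⟩ := exists_sections F ξ
  let f : W.left ⟶ X := W.hom
  let G := (EtCoh.pull f).obj F
  have hG : EtPBC.IsConstructible G := pull_isConstructible f F hF
  let M : AddCommGrpCat.{u + 1} := AddCommGrpCat.of ↑((EtCoh.stalk ξ).obj F)
  let εM : ↑M →+ Sec F W := ε
  have hA : EtPBC.IsConstructible (cst W.left M) := by
    obtain ⟨E₀, _, _, ⟨eE⟩⟩ := exists_small_model ↑((EtCoh.stalk ξ).obj F)
    have h1 : EtPBC.IsConstructible (EtCoh.const W.left E₀) :=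
      Groth.Agent.H21.ConstrGen.isConstructible_of_isFLC _ (isFLC_const _ E₀)
    exact isConstructible_of_iso
      ((constantSheaf W.left.smallEtaleTopology AddCommGrpCat.{u + 1}).mapIso
        eE.toAddCommGrpIso).symm h1
  let φ : cst W.left M ⟶ G := cstLift₀ G ((toGlobal F W).comp εM)
  have hE : Topology.IsLocallyConstructible (isoLocus φ) :=
    isLocallyConstructible_isoLocus φ hA hG
  -- generizations of the centre lie in the isomorphism locus
  have hgen : ∀ q : W.left, q ⤳ w.pt → q ∈ isoLocus φ := by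
    intro q hq
    rw [mem_isoLocus_iff]
    intro Ω' _ _ l hl
    refine (bijective_stalk_cstLift_iff F W εM l).2 ?_
    have hlq : (taut W l).pt = q := default_of_range l hl
    obtain ⟨φ', hφ'⟩ := exists_arrow_controlled W w (taut W l) (by rw [hlq]; exact hq)
    have hσ := hiso _ (l ≫ f) φ'
    have hσb : Function.Bijective
        ((GrothendieckTopology.Point.Hom.sheafFiber (A := AddCommGrpCat.{u + 1}) φ').app F) :=
      (ConcreteCategory.isIso_iff_bijective _).1 hσ
    have hcomp : (fun m : ↑M => germ F (taut W l) (εM m)) =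
        ((GrothendieckTopology.Point.Hom.sheafFiber (A := AddCommGrpCat.{u + 1}) φ').app F) := by
      funext m
      have h1 := sheafFiber_germ φ' F w (ε m)
      rw [hφ', hε] at h1
      exact h1.symm
    rw [hcomp]
    exact hσb
  -- a neighbourhood of the centre in the isomorphism locus
  obtain ⟨A, hA', hwA, -⟩ := exists_affine_nbhd (⊤ : W.left.Opens) w.pt trivial
  have hqs : QuasiSeparatedSpace ↥A := quasiSeparatedSpace_of_isAffineOpen hA'
  have hcs : CompactSpace ↥A := isCompact_iff_compactSpace.1 hA'.isCompact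
  have hPS : PrespectralSpace ↥A := inferInstanceAs (PrespectralSpace ↥(A.toScheme))
  have hQS : QuasiSober ↥A := inferInstanceAs (QuasiSober ↥(A.toScheme))
  have hEA : Topology.IsConstructible ((Subtype.val : ↥A → W.left) ⁻¹' isoLocus φ) :=
    (hE.preimage_of_isOpenEmbedding A.isOpen.isOpenEmbedding_subtypeVal).isConstructible
  obtain ⟨O, hO, hwO, hOE⟩ := exists_open_of_generizations hEA (p := ⟨w.pt, hwA⟩)
    (fun q hq => hgen q.1 (hq.map continuous_subtype_val))
  let P : W.left.Opens := ⟨Subtype.val '' O, A.isOpen.isOpenMap_subtype_val _ hO⟩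
  have hPL : ∀ p ∈ P, p ∈ goodLocus F (fun m => ε m) := by
    rintro _ ⟨a, ha, rfl⟩
    have hmem : a.1 ∈ isoLocus φ := hOE ha
    rw [mem_isoLocus_iff] at hmem
    have hl : Set.range (geomPt a.1) = {a.1} := by rw [range_geom, geomPt_default]
    have hb := (bijective_stalk_cstLift_iff F W εM (geomPt a.1)).1 (hmem _ (geomPt a.1) hl)
    exact ⟨_, inferInstance, inferInstance, geomPt a.1 ≫ f, taut W (geomPt a.1),
      geomPt_default a.1, hb⟩
  obtain ⟨U, hU, hflc⟩ := flc_of_goodLocus F hfin ε P hPL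
  refine ⟨U, ?_, hflc⟩
  show x ∈ (U : Set X)
  rw [hU]
  refine ⟨w.pt, ⟨⟨w.pt, hwA⟩, hwO, rfl⟩, ?_⟩
  exact (Fib.hom_pt w).trans (default_of_range ξ hξ)

end Main

end Groth.Agent.H21.SpzLocal
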