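import Groth.Agent.H21.ConstSec
import Groth.Prelude.Def_EtAcyc
import Mathlib.CategoryTheory.Sites.EpiMono

/-!
# Multiplication by an integer prime to the torsion is an automorphism (helper21)
-/

set_option autoImplicit false
set_option linter.unusedSectionVars false
universe u
open CategoryTheory CategoryTheory.Limits AlgebraicGeometry Opposite EtCoh
open Groth.Agent.H21.ConstSec

namespace Groth.Agent.H21.TorsMul

variable {X : Scheme.{u}} (F : EtCoh.Ab X)

lemma nsmul_id_apply (d : ℕ) (V : X.Etale) (s : Sec F V) : app (d • 𝟙 F) V s = d • s := by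
  induction d with
  | zero => simp [app]
  | succ d ih =>
    rw [succ_nsmul, succ_nsmul]
    have : app (d • 𝟙 F + 𝟙 F) V s = app (d • 𝟙 F) V s + app (𝟙 F) V s := rfl
    rw [this, ih]
    rfl

variable (L : Set ℕ) (d : ℕ) (hL : ∀ p : ℕ, p.Prime → p ∈ L → ¬ p ∣ d)
  (hF : EtAcyc.IsLTorsion L F)

include hL in
lemma bezout {m : ℕ} (hm : EtAcyc.PrimesIn L m) : ∃ a b : ℤ, a * m + b * d = 1 := by
  have hc : Nat.Coprime m d := Nat.coprime_of_dvd (fun k hk hkm hkd => hL k hk (hm.2 k hk hkm) hkd)
  exact Nat.isCoprime_iff_coprime.2 hc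

include hL hF in
/-- locally, every section is a multiple of `d` and `d`-torsion sections vanish -/
lemma local_inverse {V : X.Etale} (s : Sec F V) (x : V.left) :
    ∃ (W : X.Etale) (g : W ⟶ V) (w : W.left) (b : ℤ), g.left w = x ∧
      res F g s = d • (b • res F g s) := by
  obtain ⟨W, g, m, ⟨w, hw⟩, hm, hms⟩ := hF V s x
  obtain ⟨a, b, hab⟩ := bezout L d hL hm
  refine ⟨W, g, w, b, hw, ?_⟩
  have hms' : m • res F g s = 0 := hms
  have h1 : res F g s = (a * m + b * d) • res F g s := by rw [hab, one_smul]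
  rw [add_smul, mul_smul, mul_smul, natCast_zsmul, hms', smul_zero, zero_add, natCast_zsmul] at h1
  conv_lhs => rw [h1]
  rw [← natCast_zsmul, smul_comm, natCast_zsmul]

include hL hF in
theorem mono_nsmul : Mono (d • 𝟙 F) := by
  suffices h : ∀ V : X.Etale, Function.Injective (app (d • 𝟙 F) V) by
    have : ∀ V : (X.Etale)ᵒᵖ, Mono ((d • 𝟙 F : F ⟶ F).hom.app V) := fun V =>
      (AddCommGrpCat.mono_iff_injective _).2 (h V.unop)
    have : Mono (d • 𝟙 F : F ⟶ F).hom := NatTrans.mono_of_mono_app _
    exact Sheaf.Hom.mono_of_presheaf_mono _ _ _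
  intro V
  rw [injective_iff_map_eq_zero]
  intro s hs
  rw [nsmul_id_apply] at hs
  let S : Sieve V :=
    { arrows := fun W g => res F g s = 0
      downward_closed := by
        intro Y Z f hf g
        show res F (g ≫ f) s = 0
        rw [← res_res, hf, map_zero] }
  have hS : S ∈ X.smallEtaleTopology V := by
    rw [mem_iff]
    intro x
    obtain ⟨W, g, w, b, hw, h1⟩ := local_inverse F L d hL hF s x
    refine ⟨W, g, w, ?_, hw⟩
    show res F g s = 0
    rw [h1, smul_comm, ← map_nsmul, hs, map_zero, smul_zero]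
  exact sec_ext F S hS _ _ (fun W g hg => by rw [map_zero]; exact hg)

include hL hF in
theorem epi_nsmul : Epi (d • 𝟙 F) := by
  rw [← Sheaf.isLocallySurjective_iff_epi' (A := AddCommGrpCat.{u+1})]
  constructor
  intro V s
  rw [mem_iff]
  intro x
  obtain ⟨W, g, w, b, hw, h1⟩ := local_inverse F L d hL hF s x
  refine ⟨W, g, w, ?_, hw⟩
  refine ⟨b • res F g s, ?_⟩
  have h2 : app (d • 𝟙 F) W (b • res F g s) = d • (b • res F g s) := nsmul_id_apply F d W _
  exact h2.trans h1.symm

include hL hF in
/-- multiplication by `d` is an automorphism of an `L`-torsion sheaf when no prime of `L`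
divides `d` -/
theorem isIso_nsmul : IsIso (d • 𝟙 F) := by
  have := mono_nsmul F L d hL hF
  have := epi_nsmul F L d hL hF
  exact isIso_of_mono_of_epi _

end Groth.Agent.H21.TorsMul
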