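import Mathlib.AlgebraicGeometry.Fiber
import Mathlib.AlgebraicGeometry.Morphisms.FormallyUnramified
import Mathlib.AlgebraicGeometry.Morphisms.FiniteType
import Groth.Agent.H25.SmoothQF
import Groth.Agent.H21.UnramField

/-!
# Fibrewise criterion for unramified morphisms of schemes
-/

set_option autoImplicit false
universe u

open CategoryTheory CategoryTheory.Limits AlgebraicGeometry

namespace Groth.Agent.H21.UnramFibre

variable {X Y : Scheme.{u}} (f : X ⟶ Y)

set_option backward.isDefEq.respectTransparency false in
/-- If `f : X ⟶ Y` is locally of finite type and has formally unramified fibres, then `f` is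
formally unramified. -/
theorem formallyUnramified_of_fiberToSpecResidueField [LocallyOfFiniteType f]
    (h : ∀ y, FormallyUnramified (f.fiberToSpecResidueField y)) :
    FormallyUnramified f := by
  have i1 : IsZariskiLocalAtSource @FormallyUnramified.{u} :=
    HasRingHomProperty.instIsZariskiLocalAtSource
  have i2 : IsZariskiLocalAtTarget @FormallyUnramified.{u} :=
    HasRingHomProperty.instIsZariskiLocalAtTarget @FormallyUnramified
  wlog h : ∃ R, Y = Spec R
  · rw [IsZariskiLocalAtTarget.iff_of_openCover (P := @FormallyUnramified) Y.affineCover]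
    intro i
    dsimp [Scheme.Cover.pullbackHom]
    refine this _ (fun y ↦ ?_) i1 i2 ⟨_, rfl⟩
    apply MorphismProperty.of_isPullback
    · exact isPullback_fiberToSpecResidueField_of_isPullback (IsPullback.of_hasPullback _ _) _
    · infer_instance
  obtain ⟨R, rfl⟩ := h
  wlog h : ∃ S, X = Spec S generalizing f X
  · rw [IsZariskiLocalAtSource.iff_of_openCover (P := @FormallyUnramified) X.affineCover]
    intro i
    have _ (y) : FormallyUnramified (pullback.snd f ((Spec R).fromSpecResidueField y)) :=
      inferInstanceAs <| FormallyUnramified (f.fiberToSpecResidueField y)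
    refine this _ (fun y ↦ ?_) ⟨_, rfl⟩
    rw [Scheme.Hom.fiberToSpecResidueField, ← pullbackRightPullbackFstIso_inv_snd_snd]
    have h3 : FormallyUnramified (pullback.snd (X.affineCover.f i)
        (pullback.fst f ((Spec R).fromSpecResidueField y))) := inferInstance
    have h4 : FormallyUnramified
        (pullbackRightPullbackFstIso f ((Spec R).fromSpecResidueField y)
          (X.affineCover.f i)).inv := inferInstance
    exact MorphismProperty.comp_mem @FormallyUnramified _ _ h4
      (MorphismProperty.comp_mem @FormallyUnramified _ _ h3 inferInstance)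
  obtain ⟨S, rfl⟩ := h
  obtain ⟨φ, rfl⟩ := Spec.map_surjective f
  have hft : LocallyOfFiniteType (Spec.map φ) := inferInstance
  simp only [HasRingHomProperty.Spec_iff] at *
  algebraize [φ.hom]
  have : Algebra.FiniteType R S := RingHom.finiteType_algebraMap.mp hft
  have hφ : algebraMap R S = φ.hom := rfl
  rw [← hφ, RingHom.formallyUnramified_algebraMap]
  refine Groth.Agent.H25.formallyUnramified_of_fiber_essFiniteType fun p hp ↦ ?_
  rw [← RingHom.formallyUnramified_algebraMap]
  rw [← CommRingCat.hom_ofHom (algebraMap p.ResidueField (p.Fiber ↑S)),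
    ← HasRingHomProperty.Spec_iff (P := @FormallyUnramified),
    ← MorphismProperty.arrow_mk_iso_iff (P := @FormallyUnramified)
    (Spec.fiberToSpecResidueFieldIso R S ⟨p, hp⟩)]
  exact h ⟨p, hp⟩

end Groth.Agent.H21.UnramFibre
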