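import Mathlib.RingTheory.Unramified.LocalRing
import Mathlib.RingTheory.Localization.Away.Basic

open Localization IsLocalRing

namespace Groth.Agent.H21

section
variable {R S : Type*} [CommRing R] [CommRing S] [Algebra R S] {p : Ideal R} [p.IsPrime]
  {q : Ideal S} [q.IsPrime]

theorem localRingHom_surjective_of_primesOver_eq_singleton' [Module.Finite R S] [q.LiesOver p]
    [Algebra.IsUnramifiedAt R q] (hq : p.primesOver S = {q})
    (H : ∀ b : S, ∃ a a' : R, a' ∉ p ∧ algebraMap R S a' * b - algebraMap R S a ∈ q) :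
    Function.Surjective (localRingHom p q (algebraMap R S) (q.over_def p)) := by
  let _ := Localization.AtPrime.algebraOfLiesOver p q
  have := Localization.finite_of_primesOver_eq_singleton hq
  have hloc : algebraMap (Localization.AtPrime p) (Localization.AtPrime q) =
    localRingHom p q (algebraMap R S) (q.over_def p) := rfl
  rw [← hloc]
  change Function.Surjective (Algebra.linearMap _ _)
  rw [← LinearMap.range_eq_top, ← top_le_iff]
  apply Submodule.le_of_le_smul_of_le_jacobson_bot Module.Finite.fg_top (maximalIdeal_le_jacobson _)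
  rw [Ideal.smul_top_eq_map, Algebra.FormallyUnramified.map_maximalIdeal]
  rintro x -
  obtain ⟨b, ⟨b', hb'⟩, rfl⟩ := IsLocalization.exists_mk'_eq q.primeCompl x
  obtain ⟨a₁, a₁', ha₁', h₁⟩ := H b
  obtain ⟨a₂, a₂', ha₂', h₂⟩ := H b'
  have hb'q : b' ∉ q := hb'
  have hover : ∀ a : R, algebraMap R S a ∈ q ↔ a ∈ p := by
    intro a
    rw [q.over_def p]
    rfl
  have ha₂ : a₂ ∉ p := by
    intro h
    have h3 : algebraMap R S a₂' * b' ∈ q := by
      have := q.add_mem h₂ ((hover a₂).2 h)
      rwa [sub_add_cancel] at this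
    rcases (‹q.IsPrime›.mem_or_mem h3) with h4 | h4
    · exact ha₂' ((hover _).1 h4)
    · exact hb'q h4
  have hden : a₁' * a₂ ∈ p.primeCompl := ‹p.IsPrime›.mul_notMem ha₁' ha₂
  set a : Localization.AtPrime p := IsLocalization.mk' _ (a₁ * a₂') ⟨a₁' * a₂, hden⟩ with ha
  set x : Localization.AtPrime q := IsLocalization.mk' (Localization.AtPrime q) b ⟨b', hb'⟩ with hx
  rw [← sub_sub_self (algebraMap _ _ a) x]
  refine sub_mem (Submodule.mem_sup_left ⟨a, rfl⟩) (Submodule.mem_sup_right ?_)
  change algebraMap _ _ a - x ∈ maximalIdeal (Localization.AtPrime q)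
  -- multiply by the unit `b' * (a₁' * a₂)`
  have hu : IsUnit (algebraMap S (Localization.AtPrime q) (b' * algebraMap R S (a₁' * a₂))) := by
    apply IsLocalization.map_units (M := q.primeCompl) _ ⟨b' * algebraMap R S (a₁' * a₂), ?_⟩
    exact ‹q.IsPrime›.mul_notMem hb'q (fun h => hden ((hover _).1 h))
  have hkey : (algebraMap _ _ a - x) * algebraMap S (Localization.AtPrime q)
      (b' * algebraMap R S (a₁' * a₂)) = algebraMap S (Localization.AtPrime q)
        (algebraMap R S (a₁ * a₂') * b' - b * algebraMap R S (a₁' * a₂)) := by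
    have e1 : algebraMap (Localization.AtPrime p) (Localization.AtPrime q) a *
        algebraMap S (Localization.AtPrime q) (algebraMap R S (a₁' * a₂)) =
        algebraMap S (Localization.AtPrime q) (algebraMap R S (a₁ * a₂')) := by
      rw [hloc, ha, localRingHom_mk']
      exact IsLocalization.mk'_spec _ _ _
    have e2 : x * algebraMap S (Localization.AtPrime q) b' = algebraMap S _ b := by
      rw [hx]
      exact IsLocalization.mk'_spec _ _ _
    generalize algebraMap R S (a₁' * a₂) = D at e1 ⊢
    generalize algebraMap R S (a₁ * a₂') = N at e1 ⊢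
    rw [map_sub, map_mul, map_mul, map_mul, ← e1, ← e2]
    ring
  have hmem : algebraMap S (Localization.AtPrime q)
      (algebraMap R S (a₁ * a₂') * b' - b * algebraMap R S (a₁' * a₂)) ∈
      maximalIdeal (Localization.AtPrime q) := by
    rw [IsLocalization.AtPrime.to_map_mem_maximal_iff (Localization.AtPrime q) q]
    have h5 : algebraMap R S (a₁ * a₂') * b' - b * algebraMap R S (a₁' * a₂) =
        algebraMap R S a₁ * (algebraMap R S a₂' * b' - algebraMap R S a₂)
          - algebraMap R S a₂ * (algebraMap R S a₁' * b - algebraMap R S a₁) := by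
      simp only [map_mul]
      ring
    rw [h5]
    exact q.sub_mem (q.mul_mem_left _ h₂) (q.mul_mem_left _ h₁)
  rw [← hkey] at hmem
  exact (Ideal.mul_unit_mem_iff_mem _ hu).1 hmem

theorem exists_notMem_forall_exists_mul_eq_algebraMap [Module.Finite R S] [q.LiesOver p]
    (hq : p.primesOver S = {q})
    (H : Function.Surjective (localRingHom p q (algebraMap R S) (q.over_def p))) :
    ∃ r ∉ p, ∀ b : S, ∃ a : R, algebraMap R S r * b = algebraMap R S a := by
  classical
  obtain ⟨s, hs⟩ := Module.Finite.fg_top (R := R) (M := S)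
  have (x : S) : ∃ a, ∃ b ∉ p, algebraMap R S a = x * algebraMap R S b := by
    have := (IsLocalization.mk'_surjective p.primeCompl).exists.mp (H (algebraMap _ _ x))
    simp only [localRingHom_mk', Prod.exists, Subtype.exists, Ideal.mem_primeCompl_iff,
      IsLocalization.mk'_eq_iff_eq_mul, exists_prop, ← map_mul,
      IsLocalization.eq_iff_exists q.primeCompl] at this
    obtain ⟨a, b, hbp, c, hcq, hc⟩ := this
    obtain ⟨d, hd, e, he⟩ := Ideal.exists_notMem_dvd_algebraMap_of_primesOver_eq_singleton hq _ hcq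
    exact ⟨d * a, d * b, ‹p.IsPrime›.mul_notMem hd hbp, by grind⟩
  choose a b hbp e using this
  refine ⟨∏ i ∈ s, b i, prod_mem (S := p.primeCompl) fun _ _ ↦ hbp _, ?_⟩
  intro y
  have hy : y ∈ Submodule.span R (s : Set S) := hs ▸ Submodule.mem_top
  induction hy using Submodule.span_induction with
  | mem x hx =>
    refine ⟨(∏ i ∈ s.erase x, b i) * a x, ?_⟩
    rw [← Finset.prod_erase_mul s b hx, map_mul, map_mul, e]
    ring
  | zero => exact ⟨0, by simp⟩
  | add u v _ _ hu hv =>
    obtain ⟨au, hau⟩ := hu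
    obtain ⟨av, hav⟩ := hv
    exact ⟨au + av, by rw [mul_add, hau, hav, map_add]⟩
  | smul c u _ hu =>
    obtain ⟨au, hau⟩ := hu
    exact ⟨c * au, by rw [Algebra.smul_def, mul_left_comm, hau, map_mul]⟩

end

theorem away_map_surjective_of_forall_exists_mul_eq {A B : Type*} [CommRing A] [CommRing B]
    (φ : A →+* B) (r : A) (A' B' : Type*) [CommRing A'] [CommRing B'] [Algebra A A'] [Algebra B B']
    [IsLocalization.Away r A'] [IsLocalization.Away (φ r) B']
    (h : ∀ b : B, ∃ a : A, φ r * b = φ a) :
    Function.Surjective (IsLocalization.Away.map A' B' φ r) := by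
  intro z
  obtain ⟨b, ⟨_, n, rfl⟩, rfl⟩ := IsLocalization.exists_mk'_eq (.powers (φ r)) z
  obtain ⟨a, ha⟩ := h b
  refine ⟨IsLocalization.mk' A' a (⟨r ^ (n + 1), n + 1, rfl⟩ : Submonoid.powers r), ?_⟩
  rw [IsLocalization.Away.map, IsLocalization.map_mk', IsLocalization.mk'_eq_iff_eq]
  congr 1
  simp only [map_pow]
  rw [← ha]
  ring

end Groth.Agent.H21
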