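import Groth.Agent.H21.EtNormalSplitA
import Groth.Agent.H20.EtaleNormal

/-!
# Unramified dominant morphisms from integral schemes to normal integral schemes are étale
-/

set_option autoImplicit false
open CategoryTheory CategoryTheory.Limits AlgebraicGeometry Opposite
universe u

namespace Groth.Agent.H21.UnramNormal

set_option backward.isDefEq.respectTransparency.types false in
/-- A closed immersion with open range into a reduced scheme is an open immersion. -/
theorem isOpenImmersion_of_isClosedImmersion_of_isOpen_range {V E : Scheme.{u}} (i : V ⟶ E)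
    [IsClosedImmersion i] [IsReduced E] (h : IsOpen (Set.range i)) : IsOpenImmersion i := by
  let C : E.Opens := ⟨Set.range i, h⟩
  have hmem : ∀ v : V, v ∈ i ⁻¹ᵁ C := fun v => ⟨v, rfl⟩
  have hsurj : Surjective (i ∣_ C) := by
    refine ⟨fun c => ?_⟩
    obtain ⟨v, hv⟩ := c.2
    refine ⟨⟨v, hmem v⟩, Subtype.ext ?_⟩
    exact (morphismRestrict_base_coe i C ⟨v, hmem v⟩).trans hv
  have hiso : IsIso (i ∣_ C) := isIso_of_isClosedImmersion_of_surjective (i ∣_ C)
  have hι : IsIso (i ⁻¹ᵁ C).ι := by
    rw [isIso_iff_isOpenImmersion_and_surjective]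
    exact ⟨inferInstance, ⟨fun v => ⟨⟨v, hmem v⟩, rfl⟩⟩⟩
  have hfac : i = inv (i ⁻¹ᵁ C).ι ≫ (i ∣_ C) ≫ C.ι := by
    rw [morphismRestrict_ι, IsIso.inv_hom_id_assoc]
  rw [hfac]
  infer_instance

set_option backward.isDefEq.respectTransparency.types false in
set_option maxHeartbeats 800000 in
/-- Local form: an unramified morphism from an integral scheme to a normal integral scheme
sending generic point to generic point is étale near every point. -/
theorem exists_nhd_etale {X Y : Scheme.{u}} [IsIntegral X]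
    (hX : ∀ x : X, IsIntegrallyClosed (X.presheaf.stalk x)) [IsIntegral Y]
    (g : Y ⟶ X) [FormallyUnramified g] [LocallyOfFiniteType g]
    (hgen : g (genericPoint Y) = genericPoint X) (y : Y) :
    ∃ V : Y.Opens, y ∈ V ∧ Etale (V.ι ≫ g) := by
  obtain ⟨U, hU, hyU, -⟩ := exists_isAffineOpen_mem_and_subset (x := g y) (U := ⊤) trivial
  have hyU' : y ∈ g ⁻¹ᵁ U := hyU
  obtain ⟨W, hW, hyW, hWU⟩ := exists_isAffineOpen_mem_and_subset (x := y) (U := g ⁻¹ᵁ U) hyU'
  have hft : (g.appLE U W hWU).hom.FiniteType :=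
    HasRingHomProperty.appLE (P := @LocallyOfFiniteType) g inferInstance ⟨U, hU⟩ ⟨W, hW⟩ hWU
  have hfu : (g.appLE U W hWU).hom.FormallyUnramified :=
    HasRingHomProperty.appLE (P := @FormallyUnramified) g inferInstance ⟨U, hU⟩ ⟨W, hW⟩ hWU
  algebraize [(g.appLE U W hWU).hom]
  let q := hW.primeIdealOf ⟨y, hyW⟩
  have hq : Algebra.IsUnramifiedAt Γ(X, U) q.asIdeal :=
    Algebra.formallyUnramified_iff_forall.mp inferInstance q
  obtain ⟨f, hfq, P, φ, hφ⟩ :=
    Algebra.IsUnramifiedAt.exists_hasStandardEtaleSurjectionOn (R := Γ(X, U)) q.asIdeal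
  -- the basic open
  have hV : IsAffineOpen (Y.basicOpen f) := hW.basicOpen f
  have hle : Y.basicOpen f ≤ g ⁻¹ᵁ U := (Y.basicOpen_le f).trans hWU
  have hyV : y ∈ Y.basicOpen f := by
    have h1 : hW.fromSpec q = y := hW.fromSpec_primeIdealOf ⟨y, hyW⟩
    have h2 : q ∈ hW.fromSpec ⁻¹ᵁ Y.basicOpen f := by
      rw [hW.fromSpec_preimage_basicOpen f]
      exact hfq
    rw [← h1]
    exact h2
  let algBA : Algebra Γ(X, U) Γ(Y, Y.basicOpen f) :=
    (g.appLE U (Y.basicOpen f) hle).hom.toAlgebra
  have tower1 : IsScalarTower Γ(X, U) Γ(Y, W) Γ(Y, Y.basicOpen f) := by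
    apply IsScalarTower.of_algebraMap_eq'
    have := g.appLE_map (U := U) hWU (homOfLE (Y.basicOpen_le f)).op
    exact congrArg CommRingCat.Hom.hom this.symm
  have hloc : IsLocalization.Away f Γ(Y, Y.basicOpen f) := hW.isLocalization_basicOpen f
  let e : Localization.Away f ≃ₐ[Γ(X, U)] Γ(Y, Y.basicOpen f) :=
    (IsLocalization.algEquiv (.powers f) (Localization.Away f) Γ(Y, Y.basicOpen f)).restrictScalars
      Γ(X, U)
  let ψ : P.Ring →ₐ[Γ(X, U)] Γ(Y, Y.basicOpen f) := e.toAlgHom.comp φ
  have hψ : Function.Surjective ψ := e.surjective.comp hφ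
  -- the étale chart
  let p : Spec (CommRingCat.of P.Ring) ⟶ X :=
    Spec.map (CommRingCat.ofHom (algebraMap Γ(X, U) P.Ring)) ≫ hU.fromSpec
  have hp : Etale p := by
    have : Etale (Spec.map (CommRingCat.ofHom (algebraMap Γ(X, U) P.Ring))) := by
      rw [HasRingHomProperty.Spec_iff (P := @Etale)]
      exact RingHom.etale_algebraMap.mpr inferInstance
    infer_instance
  let i : (Y.basicOpen f : Scheme.{u}) ⟶ Spec (CommRingCat.of P.Ring) :=
    hV.isoSpec.hom ≫ Spec.map (CommRingCat.ofHom ψ.toRingHom)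
  have hicl : IsClosedImmersion i := by
    have : IsClosedImmersion (Spec.map (CommRingCat.ofHom ψ.toRingHom)) :=
      IsClosedImmersion.spec_of_surjective _ hψ
    infer_instance
  have hcomm : i ≫ p = (Y.basicOpen f).ι ≫ g := by
    simp only [i, p, Category.assoc]
    rw [← Spec.map_comp_assoc, ← CommRingCat.ofHom_comp]
    have h1 : ψ.toRingHom.comp (algebraMap Γ(X, U) P.Ring) =
        (g.appLE U (Y.basicOpen f) hle).hom := by
      ext r
      exact ψ.commutes r
    rw [h1]
    have h2 : Spec.map (CommRingCat.ofHom (g.appLE U (Y.basicOpen f) hle).hom) ≫ hU.fromSpec =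
        hV.fromSpec ≫ g := IsAffineOpen.SpecMap_appLE_fromSpec g hU hV hle
    rw [h2, ← Category.assoc, IsAffineOpen.isoSpec_hom_fromSpec]
  -- stalks of the chart are domains, so it is reduced
  have hE : ∀ z : Spec (CommRingCat.of P.Ring),
      IsDomain ((Spec (CommRingCat.of P.Ring)).presheaf.stalk z) := fun z =>
    (Groth.Agent.H20.isDomain_and_isIntegrallyClosed_stalk_of_etale p z
      ⟨inferInstance, hX _⟩).1
  have hred : IsReduced (Spec (CommRingCat.of P.Ring)) := by
    have : ∀ z : Spec (CommRingCat.of P.Ring),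
        _root_.IsReduced ((Spec (CommRingCat.of P.Ring)).presheaf.stalk z) := fun z =>
      have := hE z
      inferInstance
    exact isReduced_of_isReduced_stalk _
  -- the range of `i` is the closure of the image of the generic point
  have hne : Nonempty (Y.basicOpen f : Scheme.{u}) := ⟨⟨y, hyV⟩⟩
  let ξ : (Y.basicOpen f : Scheme.{u}) := genericPoint (Y.basicOpen f : Scheme.{u})
  have hξ : (Y.basicOpen f).ι ξ = genericPoint Y :=
    genericPoint_eq_of_isOpenImmersion (Y.basicOpen f).ι
  have hpξ : p (i ξ) = genericPoint X := by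
    rw [← Scheme.Hom.comp_apply, hcomm, Scheme.Hom.comp_apply, hξ, hgen]
  have hrange : Set.range i = closure ({i ξ} : Set (Spec (CommRingCat.of P.Ring))) := by
    apply Set.Subset.antisymm
    · rintro _ ⟨v, rfl⟩
      have hv : v ∈ closure ({ξ} : Set (Y.basicOpen f : Scheme.{u})) := by
        rw [(genericPoint_spec (Y.basicOpen f : Scheme.{u})).def]; trivial
      have := image_closure_subset_closure_image (s := ({ξ} : Set _)) i.continuous ⟨v, hv, rfl⟩
      simpa using this
    · apply closure_minimal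
      · rintro _ rfl; exact ⟨ξ, rfl⟩
      · exact i.isClosedEmbedding.isClosed_range
  have hopen : IsOpen (Set.range i) := by
    rw [hrange]
    exact Groth.Agent.H21.EtNormalSplit.isOpen_closure_singleton p hE (i ξ) hpξ
  have hi : IsOpenImmersion i := isOpenImmersion_of_isClosedImmersion_of_isOpen_range i hopen
  refine ⟨Y.basicOpen f, hyV, ?_⟩
  rw [← hcomm]
  infer_instance

set_option backward.isDefEq.respectTransparency.types false in
/-- An unramified morphism from an integral scheme to a normal integral scheme sending generic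
point to generic point is étale (EGA IV 18.10.1). -/
theorem etale_of_unramified_of_dominant {X Y : Scheme.{u}} [IsIntegral X]
    (hX : ∀ x : X, IsIntegrallyClosed (X.presheaf.stalk x)) [IsIntegral Y]
    (g : Y ⟶ X) [FormallyUnramified g] [LocallyOfFiniteType g]
    (hgen : g (genericPoint Y) = genericPoint X) : Etale g := by
  choose V hyV hV using exists_nhd_etale hX g hgen
  refine IsZariskiLocalAtSource.of_iSup_eq_top (P := @Etale) V ?_ hV
  rw [eq_top_iff]
  intro y _
  rw [TopologicalSpace.Opens.mem_iSup]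
  exact ⟨y, hyV y⟩

end Groth.Agent.H21.UnramNormal
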