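import Mathlib.AlgebraicGeometry.Morphisms.Etale
import Mathlib.AlgebraicGeometry.Morphisms.FlatMono
import Mathlib.AlgebraicGeometry.Morphisms.Separated
import Mathlib.AlgebraicGeometry.Noetherian
import Mathlib.Topology.NoetherianSpace
import Mathlib.Topology.Connected.Clopen

open AlgebraicGeometry CategoryTheory CategoryTheory.Limits TopologicalSpace

universe u

namespace Groth.Agent.H21

theorem finite_setOf_isClopen (α : Type*) [TopologicalSpace α] [NoetherianSpace α] :
    {T : Set α | IsClopen T}.Finite := by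
  have hfin := NoetherianSpace.finite_irreducibleComponents (α := α)
  have key : ∀ T : Set α, IsClopen T → T = ⋃₀ {Z ∈ irreducibleComponents α | Z ⊆ T} := by
    intro T hT
    apply Set.Subset.antisymm
    · intro x hx
      refine ⟨irreducibleComponent x, ⟨irreducibleComponent_mem_irreducibleComponents x, ?_⟩,
        mem_irreducibleComponent⟩
      exact (isIrreducible_irreducibleComponent (x := x)).isPreirreducible.isPreconnected.subset_isClopen hT
        ⟨x, mem_irreducibleComponent, hx⟩
    · rintro x ⟨Z, ⟨-, hZT⟩, hxZ⟩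
      exact hZT hxZ
  apply Set.Finite.of_finite_image (f := fun T => {Z ∈ irreducibleComponents α | Z ⊆ T})
  · exact (hfin.finite_subsets).subset (by rintro _ ⟨T, _, rfl⟩; exact fun Z hZ => hZ.1)
  · intro T hT T' hT' heq
    rw [key T hT, key T' hT']
    exact congrArg _ heq

theorem finite_setOf_comp_eq_of_unramified {X S Y : Scheme.{u}} [IsNoetherian S] [IsNoetherian Y]
    (π : X ⟶ S) [FormallyUnramified π] [LocallyOfFiniteType π] [QuasiCompact π] [IsSeparated π]
    (h : Y ⟶ S) : Set.Finite {f : Y ⟶ X | f ≫ π = h} := by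
  have hP : IsLocallyNoetherian (pullback h π) := inferInstance
  have hc : CompactSpace ↥(pullback h π) :=
    QuasiCompact.compactSpace_of_compactSpace (pullback.fst h π)
  have hN : IsNoetherian (pullback h π) := { }
  have hNS : NoetherianSpace ↥(pullback h π) := inferInstance
  -- graphs
  have hgraph : ∀ f : Y ⟶ X, f ≫ π = h → ∃ γ : Y ⟶ pullback h π,
      γ ≫ pullback.fst h π = 𝟙 Y ∧ γ ≫ pullback.snd h π = f ∧ IsOpenImmersion γ ∧
        IsClosed (Set.range γ) := by
    intro f hf
    set γ : Y ⟶ pullback h π := pullback.lift (𝟙 Y) f (by rw [Category.id_comp, hf]) with hγ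
    have h1 : γ ≫ pullback.fst h π = 𝟙 Y := pullback.lift_fst _ _ _
    have hmono : Mono γ := mono_of_mono_fac h1
    have het : Etale (γ ≫ pullback.fst h π) := by rw [h1]; infer_instance
    have hcl : IsClosedImmersion (γ ≫ pullback.fst h π) := by rw [h1]; infer_instance
    have hunr : FormallyUnramified (pullback.fst h π) :=
      MorphismProperty.of_isPullback (P := @FormallyUnramified)
        (IsPullback.of_hasPullback h π).flip inferInstance
    have hetγ : Etale γ := Etale.of_comp γ (pullback.fst h π)
    have hclγ : IsClosedImmersion γ := IsClosedImmersion.of_comp γ (pullback.fst h π)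
    refine ⟨γ, h1, pullback.lift_snd _ _ _, IsOpenImmersion.of_flat_of_mono γ,
      γ.isClosedEmbedding.isClosed_range⟩
  have hfinT : Finite {T : Set ↥(pullback h π) // IsClopen T} :=
    Set.finite_coe_iff.2 (finite_setOf_isClopen ↥(pullback h π))
  rw [← Set.finite_coe_iff]
  choose γ hγ1 hγ2 hγo hγc using fun f : {f : Y ⟶ X | f ≫ π = h} => hgraph f.1 f.2
  let Φ : {f : Y ⟶ X | f ≫ π = h} → {T : Set ↥(pullback h π) // IsClopen T} := fun f =>
    ⟨Set.range (γ f), hγc f, by have := hγo f; exact (γ f).isOpenEmbedding.isOpen_range⟩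
  apply Finite.of_injective Φ
  intro f g hfg
  have hfg' : Set.range (γ f) = Set.range (γ g) := congrArg Subtype.val hfg
  have := hγo f
  have := hγo g
  have hrange : Set.range (γ f) ⊆ Set.range (γ g) := by rw [hfg']
  let e : Y ⟶ Y := IsOpenImmersion.lift (γ g) (γ f) hrange
  have he : e ≫ γ g = γ f := IsOpenImmersion.lift_fac _ _ _
  have he1 : e = 𝟙 Y := by
    calc e = e ≫ (γ g ≫ pullback.fst h π) := by rw [hγ1 g, Category.comp_id]
      _ = (e ≫ γ g) ≫ pullback.fst h π := (Category.assoc _ _ _).symm
      _ = 𝟙 Y := by rw [he, hγ1 f]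
  rw [he1, Category.id_comp] at he
  apply Subtype.ext
  rw [← hγ2 f, ← hγ2 g, he]

end Groth.Agent.H21
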